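import Groth.Agent.AlgSpDec.Factor
import Groth.Agent.Hensel.EtaleReduced
import Groth.Agent.FBaseLib.Basic
import Groth.Agent.AlgSpLib.Descent2
import Groth.Prelude.Def_AlgSp4
import Mathlib.RingTheory.RegularLocalRing.Defs

/-!
# Reduced one-point spaces and flat surjections from fields
-/

set_option backward.isDefEq.respectTransparency false
set_option backward.isDefEq.respectTransparency.types false

open CategoryTheory Limits Opposite AlgebraicGeometry MorphismProperty AlgSp Groth.Agent.AlgSpLib
  Groth.Agent.AlgSpPts Topology Order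

namespace Groth.Agent.AlgSpDec

universe u

variable {S : Scheme.{u}} {Z : Sp S}

/-- A scheme etale over a reduced scheme is reduced. -/
theorem isReduced_of_etaleMor {X Y : Scheme.{u}} (f : X ⟶ Y) [Etale f] [IsReduced Y] : IsReduced X := by
  have key : ∀ x : ↥X, ∃ W : X.Opens, x ∈ W ∧ IsReduced W.toScheme := by
    intro x
    obtain ⟨U, hU, hxU, -⟩ := exists_isAffineOpen_mem_and_subset (U := (⊤ : Y.Opens)) (x := f x) trivial
    obtain ⟨V, hV, hxV, hVU⟩ := exists_isAffineOpen_mem_and_subset (U := f ⁻¹ᵁ U) (x := x) hxU
    have : IsAffine U.toScheme := hU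
    have : IsAffine V.toScheme := hV
    let g : V.toScheme ⟶ U.toScheme := f.resLE U V hVU
    have : Etale g := by
      have h4 : Etale (g ≫ U.ι) := by rw [Scheme.Hom.resLE_comp_ι]; infer_instance
      exact MorphismProperty.of_postcomp (W := @Etale) (W' := @Etale) g U.ι inferInstance h4
    have : IsReduced U.toScheme := isReduced_of_isOpenImmersion U.ι
    let _ := g.appTop.hom.toAlgebra
    have h : g.appTop.hom.Etale := (HasRingHomProperty.iff_of_isAffine (P := @Etale)).1 ‹Etale g›
    have : Algebra.Etale Γ(U.toScheme, ⊤) Γ(V.toScheme, ⊤) := h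
    have : _root_.IsReduced Γ(V.toScheme, ⊤) := Hensel.isReduced_of_etale Γ(U.toScheme, ⊤) _
    exact ⟨V, hxV, isReduced_of_isOpenImmersion V.toScheme.isoSpec.hom⟩
  choose W hxW hW using key
  exact @IsReduced.of_openCover _ (X.openCoverOfIsOpenCover W
    (.mk (top_unique fun x _ => TopologicalSpace.Opens.mem_iSup.mpr ⟨x, hxW x⟩))) hW

theorem isReduced_chart (hr : EtaleLocally (fun U => IsReduced U) Z) {U : Over S}
    {a : (yon S).obj U ⟶ Z} (ha : RepWith @Etale a) : IsReduced U.left := by
  obtain ⟨V, b, hb, hb', hV⟩ := hr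
  have : Etale (hb.rep.snd a).left := hb.property_snd a
  have : Surjective (hb.rep.snd a).left := hb'.property _ _ _ (hb.rep.isPullback a)
  have : Etale (hb.rep.fst' a).left := ha.property _ _ _ (hb.rep.isPullback' a).flip
  have : IsReduced (hb.rep.pullback a).left := isReduced_of_etaleMor (hb.rep.fst' a).left
  exact FBaseLib.isReduced_of_flat_surjective (hb.rep.snd a).left

variable [Subsingleton (Points Z)]

attribute [local instance] specializationOrder

theorem coheight_eq_zero_of_subsingleton {U : Over S} {a : (yon S).obj U ⟶ Z} (ha : RepWith @Etale a)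
    (u : ↥U.left) : coheight u = 0 := by
  let T := irreducibleComponent u
  have hirr : IsIrreducible T := isIrreducible_irreducibleComponent
  have hmax : IsMax hirr.genericPoint := fun w hw => by
    have hgen := hirr.isGenericPoint_genericPoint isClosed_irreducibleComponent
    have h1 : T ⊆ closure {w} :=
      hgen.def.ge.trans (specializes_iff_closure_subset.1 (hw : w ⤳ hirr.genericPoint))
    have h2 : closure {w} ⊆ T :=
      (eq_irreducibleComponent isIrreducible_singleton.closure.isPreirreducible h1).le
    exact hgen.specializes (h2 (subset_closure rfl))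
  rw [coheight_eq_of_charts ha ha (Subsingleton.elim (Points.ofPt a u) (Points.ofPt a hirr.genericPoint))]
  exact coheight_eq_zero.2 hmax

theorem eq_of_specializes_of_subsingleton {U : Over S} {a : (yon S).obj U ⟶ Z} (ha : RepWith @Etale a)
    {v w : ↥U.left} (h : v ⤳ w) : v = w :=
  (le_antisymm (α := ↥U.left) h (coheight_eq_zero.1 (coheight_eq_zero_of_subsingleton ha w) h)).symm

theorem isField_stalk (hr : EtaleLocally (fun U => IsReduced U) Z) {U : Over S} {a : (yon S).obj U ⟶ Z}
    (ha : RepWith @Etale a) (u : ↥U.left) : IsField ↥(U.left.presheaf.stalk u) := by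
  have := isReduced_chart hr ha
  have : Ring.KrullDimLE 0 ↥(U.left.presheaf.stalk u) :=
    krullDimLE_of_coheight_le (n := 0) (coheight_eq_zero_of_subsingleton ha u).le
  exact Ring.KrullDimLE.isField_of_isReduced

theorem flat_of_chart (hr : EtaleLocally (fun U => IsReduced U) Z) {U : Over S} {a : (yon S).obj U ⟶ Z}
    (ha : RepWith @Etale a) {W : Scheme.{u}} (g : W ⟶ U.left) : Flat g :=
  (Flat.iff_flat_stalkMap g).2 fun w => .of_isField (isField_stalk hr ha (g w)) _

theorem locP_flat_surjective (hA : IsAlgSpace Z) (hr : EtaleLocally (fun U => IsReduced U) Z) {k : Type u}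
    [Field k] {str : Spec (CommRingCat.of k) ⟶ S} (q : (yon S).obj (Over.mk str) ⟶ Z) :
    LocP @Flat q ∧ IsSurjectiveMor q := by
  refine ⟨locP_of_repWith ?_, fun z => ⟨Points.ofScheme _ (IsLocalRing.closedPoint k), Subsingleton.elim _ _⟩⟩
  obtain ⟨U, a, ha, ha', -⟩ := id hr
  have : MorphismProperty.IsLocalAtTarget (@Flat : MorphismProperty Scheme.{u}) Scheme.fppfPrecoverage :=
    isLocalAtTarget_fppf _
  have := isLocallySurjective_of_etale_surjective ha ha'
  have hq : Representable q := representable_from_yon' hA q
  exact repWith_of_locallySurjective hq a (hq.isPullback a) _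
    ((repWith_yon_map_iff _ _).2 (flat_of_chart hr ha _))

omit [Subsingleton (Points Z)] in
/-- A flat surjection from a field: one point and reduced. -/
theorem reduced_subsingleton_of_flat (hA : IsAlgSpace Z) {k : Type u} [Field k]
    {str : Spec (CommRingCat.of k) ⟶ S} (p : (yon S).obj (Over.mk str) ⟶ Z) (hf : LocP @Flat p)
    (hs : IsSurjectiveMor p) :
    EtaleLocally (fun U => IsReduced U) Z ∧ Nonempty (Points Z) ∧ Subsingleton (Points Z) := by
  have : Subsingleton ↥(Over.mk str).left := inferInstanceAs (Subsingleton (PrimeSpectrum k))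
  have : Subsingleton (Points ((yon S).obj (Over.mk str))) :=
    (Points.schemeHomeo (Over.mk str)).toEquiv.subsingleton_congr.1 inferInstance
  refine ⟨?_, ⟨Points.map p (Points.ofScheme _ (IsLocalRing.closedPoint k))⟩, Function.Surjective.subsingleton hs⟩
  obtain ⟨U, a, ha, ha'⟩ := hA.atlas
  have hp : Representable p := representable_from_yon' hA p
  let w := hp.snd a
  let wk := hp.fst' a
  have sq : IsPullback ((yon S).map wk) ((yon S).map w) p a := hp.isPullback' a
  have : Etale wk.left := ha.property _ _ _ sq.flip
  have : IsReduced (Over.mk str).left := inferInstanceAs (IsReduced (Spec (CommRingCat.of k)))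
  have : IsReduced (hp.pullback a).left := isReduced_of_etaleMor wk.left
  have hwk : RepWith @Etale ((yon S).map wk) := (repWith_yon_map_iff _ _).2 ‹Etale wk.left›
  have : Flat w.left := hf _ a w hwk ha sq.w
  have : Surjective w.left := ⟨fun u => by
    obtain ⟨z, hz⟩ := hs (Points.ofPt a u)
    obtain ⟨t, rfl⟩ : ∃ t, Points.ofScheme (Over.mk str) t = z := ⟨Points.toScheme _ z, Points.ofScheme_toScheme _ z⟩
    rw [Points.map_ofPt, Category.id_comp] at hz
    obtain ⟨r, -, hr⟩ := exists_ofPt_of_eq sq hz
    exact ⟨r, hr⟩⟩
  exact ⟨U, a, ha, ha', FBaseLib.isReduced_of_flat_surjective w.left⟩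

/-- The residue field of a chart at a point, mapped to the space. -/
theorem exists_lft_rep (hA : IsAlgSpace Z) (hr : EtaleLocally (fun U => IsReduced U) Z) [Nonempty (Points Z)] :
    ∃ (k : Type u) (_ : Field k) (str : Spec (CommRingCat.of k) ⟶ S) (q : (yon S).obj (Over.mk str) ⟶ Z),
      LocP @LocallyOfFiniteType q ∧ LocP @Flat q ∧ IsSurjectiveMor q ∧
      (IsLocNoethSp Z → RepWith @Etale q) := by
  obtain ⟨U, a, u, hU, ha, -⟩ := exists_affine_chart_at hA (Classical.arbitrary (Points Z))
  let φ : Over.mk (U.left.fromSpecResidueField u ≫ U.hom) ⟶ U := Over.homMk (U.left.fromSpecResidueField u) rfl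
  have hclosed : IsClosed ({u} : Set ↥U.left) := closure_eq_iff_isClosed.1 <|
    Set.Subset.antisymm (fun v hv => (eq_of_specializes_of_subsingleton ha (specializes_iff_mem_closure.2 hv)).symm)
      subset_closure
  have hci : IsClosedImmersion φ.left := .of_isPreimmersion (U.left.fromSpecResidueField u)
    (by rwa [Scheme.range_fromSpecResidueField])
  refine ⟨_, inferInstance, _, (yon S).map φ ≫ a, locP_of_repWith ?_,
    (locP_flat_surjective hA hr _).1, (locP_flat_surjective hA hr _).2, fun hN => ?_⟩
  · exact repWith_comp ((repWith_yon_map_iff _ φ).2 (inferInstance : LocallyOfFiniteType φ.left))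
      (repWith_mono (fun _ _ g (_ : Etale g) => (inferInstance : LocallyOfFiniteType g)) _ ha)
  · have := isLocallyNoetherian_chart ha hN
    have := isReduced_chart hr ha
    have : IsNoetherian U.left := { }
    have : T1Space ↥U.left := t1Space_iff_specializes_imp_eq.2 fun v w h => eq_of_specializes_of_subsingleton ha h
    have hfin : Finite ↥U.left := by
      refine Set.finite_univ_iff.1 (Set.Finite.subset (TopologicalSpace.NoetherianSpace.finite_irreducibleComponents.biUnion
        fun T hT => Set.Subsingleton.finite (s := T) ?_) fun v _ => Set.mem_iUnion₂.2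
          ⟨irreducibleComponent v, irreducibleComponent_mem_irreducibleComponents v, mem_irreducibleComponent⟩)
      have hg := hT.1.isGenericPoint_genericPoint (isClosed_of_mem_irreducibleComponents T hT)
      intro x hx y hy
      rw [← eq_of_specializes_of_subsingleton ha (hg.specializes hx),
        ← eq_of_specializes_of_subsingleton ha (hg.specializes hy)]
    have : IsOpenImmersion φ.left := by
      refine IsOpenImmersion.iff_isIso_stalkMap.2 ⟨⟨φ.left.isEmbedding, ?_⟩, fun x => ?_⟩
      · exact isOpen_discrete _
      · refine (ConcreteCategory.isIso_iff_bijective _).2 ⟨?_, φ.left.stalkMap_surjective x⟩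
        let _ := (isField_stalk hr ha (φ.left x)).toField
        exact (φ.left.stalkMap x).hom.injective
    exact repWith_comp ((repWith_yon_map_iff _ φ).2 (inferInstance : Etale φ.left)) ha

end Groth.Agent.AlgSpDec
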