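import Mathlib.AlgebraicGeometry.Limits
import Mathlib.AlgebraicGeometry.Sites.Fpqc
import Groth.Agent.AlgSpPts.Sep
import Groth.Agent.AlgSpLib.Sheaf
import Groth.Agent.AlgSpLib.FpqcDescent
import Groth.Agent.AlgSpLib.Points

/-!
# Gluing along open covers and disjoint unions
-/

set_option backward.isDefEq.respectTransparency false
set_option backward.isDefEq.respectTransparency.types false

universe u

open CategoryTheory Limits Opposite AlgebraicGeometry AlgSp Groth.Agent.AlgSpLib Groth.Agent.AlgSpPts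

namespace Groth.Agent.AlgSpDec

variable {S : Scheme.{u}}

/-- A sieve on `T` containing the members of an open cover is covering. -/
theorem mem_J_of_openCover {T : Over S} (𝒰 : T.left.OpenCover) (R : Sieve T)
    (h : ∀ i, R (CategoryTheory.Over.homMk (U := Over.mk (𝒰.f i ≫ T.hom)) (𝒰.f i) rfl)) : R ∈ J S T := by
  rw [GrothendieckTopology.mem_over_iff]
  refine GrothendieckTopology.superset_covering _ ?_
    (Precoverage.generate_mem_toGrothendieck
      (Scheme.zariskiPrecoverage_le_fppfPrecoverage _ 𝒰.mem₀))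
  rw [Sieve.generate_le_iff]
  rintro _ _ ⟨i⟩
  rw [Sieve.overEquiv_iff]
  exact h i

/-- Maps out of a scheme which agree on an open cover are equal. -/
theorem hom_ext_of_openCover {F : Sp S} {T : Over S} (𝒰 : T.left.OpenCover) (a b : (yon S).obj T ⟶ F)
    (h : ∀ i, (yon S).map (CategoryTheory.Over.homMk (U := Over.mk (𝒰.f i ≫ T.hom)) (𝒰.f i) rfl) ≫ a =
      (yon S).map (CategoryTheory.Over.homMk (U := Over.mk (𝒰.f i ≫ T.hom)) (𝒰.f i) rfl) ≫ b) : a = b := by
  refine hom_ext_of_covering a b (R := Sieve.ofArrows _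
    fun i => CategoryTheory.Over.homMk (U := Over.mk (𝒰.f i ≫ T.hom)) (𝒰.f i) rfl)
    (mem_J_of_openCover 𝒰 _ fun i => Sieve.ofArrows_mk _ _ i) ?_
  intro T' φ hφ
  obtain ⟨i, k, rfl⟩ := (Sieve.mem_ofArrows_iff _ _ φ).1 hφ
  rw [Functor.map_comp, Category.assoc, Category.assoc, h i]

/-- Maps out of an empty scheme are equal. -/
theorem hom_ext_of_isEmpty {F : Sp S} {T : Over S} [IsEmpty ↥T.left] (a b : (yon S).obj T ⟶ F) : a = b := by
  let 𝒰 : T.left.OpenCover := Scheme.openCoverOfIsOpenCover T.left (fun i : PEmpty.{u + 1} => i.elim)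
    (TopologicalSpace.Opens.ext (Set.eq_univ_of_forall fun x => isEmptyElim x).symm |>.symm)
  exact hom_ext_of_openCover 𝒰 a b fun i => i.elim

section Sigma

variable {ι : Type u} (T : ι → Over S)

/-- The disjoint union of schemes over `S`. -/
noncomputable def sigmaOver : Over S := Over.mk (Sigma.desc fun i => (T i).hom)

/-- The inclusion of a summand. -/
noncomputable def sigmaι (i : ι) : T i ⟶ sigmaOver T :=
  CategoryTheory.Over.homMk (Sigma.ι (fun i => (T i).left) i) (Sigma.ι_desc _ _)

theorem exists_sigmaι (w : ↥(sigmaOver T).left) : ∃ i v, (sigmaι T i).left v = w := by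
  obtain ⟨⟨i, v⟩, rfl⟩ := (sigmaMk fun i => (T i).left).surjective w
  exact ⟨i, v, (sigmaMk_mk (fun i => (T i).left) i v).symm⟩

theorem sigmaι_injective {i j : ι} {v : ↥(T i).left} {w : ↥(T j).left}
    (h : (sigmaι T i).left v = (sigmaι T j).left w) : i = j := by
  have := (sigmaMk fun i => (T i).left).injective
    (a₁ := ⟨i, v⟩) (a₂ := ⟨j, w⟩) (by rw [sigmaMk_mk, sigmaMk_mk]; exact h)
  exact congrArg Sigma.fst this

instance (i : ι) : IsOpenImmersion (sigmaι T i).left :=
  inferInstanceAs (IsOpenImmersion (Sigma.ι (fun i => (T i).left) i))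

theorem hom_ext_sigma {F : Sp S} {a b : (yon S).obj (sigmaOver T) ⟶ F}
    (h : ∀ i, (yon S).map (sigmaι T i) ≫ a = (yon S).map (sigmaι T i) ≫ b) : a = b := by
  refine hom_ext_of_covering a b (R := Sieve.ofArrows _ (sigmaι T)) (mem_J_of_openCover
    (sigmaOpenCover fun i => (T i).left) _ fun i => ?_) ?_
  · let e : Over.mk ((sigmaOpenCover fun i => (T i).left).f i ≫ (sigmaOver T).hom) ⟶ T i :=
      CategoryTheory.Over.homMk (𝟙 (T i).left) (by
        change 𝟙 _ ≫ (T i).hom = Sigma.ι (fun i => (T i).left) i ≫ Sigma.desc _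
        rw [Sigma.ι_desc, Category.id_comp])
    convert (Sieve.ofArrows _ (sigmaι T)).downward_closed (Sieve.ofArrows_mk _ _ i) e using 1
    apply Over.OverMorphism.ext
    change (sigmaOpenCover fun i => (T i).left).f i = 𝟙 _ ≫ Sigma.ι (fun i => (T i).left) i
    rw [Category.id_comp]
    rfl
  · intro T' φ hφ
    obtain ⟨i, k, rfl⟩ := (Sieve.mem_ofArrows_iff _ _ φ).1 hφ
    rw [Functor.map_comp, Category.assoc, Category.assoc, h i]

theorem exists_hom_sigma {F : Sp S} (g : ∀ i, (yon S).obj (T i) ⟶ F) :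
    ∃ G : (yon S).obj (sigmaOver T) ⟶ F, ∀ i, (yon S).map (sigmaι T i) ≫ G = g i := by
  have hR : Sieve.ofArrows _ (sigmaι T) ∈ J S (sigmaOver T) := by
    refine mem_J_of_openCover (sigmaOpenCover fun i => (T i).left) _ fun i => ?_
    let e : Over.mk ((sigmaOpenCover fun i => (T i).left).f i ≫ (sigmaOver T).hom) ⟶ T i :=
      CategoryTheory.Over.homMk (𝟙 (T i).left) (by
        change 𝟙 _ ≫ (T i).hom = Sigma.ι (fun i => (T i).left) i ≫ Sigma.desc _
        rw [Sigma.ι_desc, Category.id_comp])
    convert (Sieve.ofArrows _ (sigmaι T)).downward_closed (Sieve.ofArrows_mk _ _ i) e using 1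
    apply Over.OverMorphism.ext
    change (sigmaOpenCover fun i => (T i).left).f i = 𝟙 _ ≫ Sigma.ι (fun i => (T i).left) i
    rw [Category.id_comp]
    rfl
  have hs : Presieve.IsSheafFor F.obj (Presieve.ofArrows _ (sigmaι T)) :=
    (Presieve.isSheafFor_iff_generate _).2 (((isSheaf_iff_isSheaf_of_type _ _).1 F.property) _ hR)
  obtain ⟨t, ht, -⟩ := (Presieve.isSheafFor_arrows_iff _ _).1 hs
    (fun i => (J S).uliftYonedaEquiv (g i)) (fun i j Z a b hab => by
      rw [uliftYonedaEquiv_precomp, uliftYonedaEquiv_precomp]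
      congr 1
      by_cases h : i = j
      · subst h
        have : Mono (sigmaι T i) := (Over.forget S).mono_of_mono_map
          (inferInstanceAs (Mono (sigmaι T i).left))
        rw [(cancel_mono (sigmaι T i)).1 hab]
      · have : IsEmpty ↥Z.left := ⟨fun z => h (sigmaι_injective T (v := a.left z) (w := b.left z) (by
          rw [← Scheme.Hom.comp_apply, ← Scheme.Hom.comp_apply, ← Over.comp_left, ← Over.comp_left, hab]))⟩
        exact hom_ext_of_isEmpty _ _)
  refine ⟨(J S).uliftYonedaEquiv.symm t, fun i => (J S).uliftYonedaEquiv.injective ?_⟩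
  rw [← uliftYonedaEquiv_precomp, Equiv.apply_symm_apply, ht]

end Sigma

theorem mono_of_openImmersion {F G : Sp S} {f : F ⟶ G} (hf : RepWith @IsOpenImmersion f) : Mono f :=
  mono_of_repWith ⟨hf.rep, fun _ _ g fst snd sq =>
    have : IsOpenImmersion snd.left := hf.property g fst snd sq
    (inferInstance : Mono snd.left)⟩

theorem isRepresentable_of_iso {T : Over S} {X : Sp S} (e : (yon S).obj T ≅ X) : X.obj.IsRepresentable := by
  have h : ((yon S).obj T).obj.IsRepresentable := Functor.RepresentableBy.isRepresentable (Y := T)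
    { homEquiv := Equiv.ulift.symm
      homEquiv_comp := fun _ _ => rfl }
  obtain ⟨Z, ⟨r⟩⟩ := h.has_representation
  exact (r.ofIso ((sheafToPresheaf _ _).mapIso e)).isRepresentable

/-- A space covered by disjoint open subschemes is the scheme given by their disjoint union. -/
theorem isIso_of_disjoint_opens {X : Sp S} {ι : Type u} (T : ι → Over S)
    (j : ∀ i, (yon S).obj (T i) ⟶ X) (hj : ∀ i, RepWith @IsOpenImmersion (j i))
    (hd : ∀ i i' v w, Points.ofPt (j i) v = Points.ofPt (j i') w → i = i')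
    (hc : ∀ x, ∃ i v, Points.ofPt (j i) v = x) :
    Nonempty ((yon S).obj (sigmaOver T) ≅ X) := by
  obtain ⟨G, hG⟩ := exists_hom_sigma T j
  have hpt : ∀ i (v : ↥(T i).left), Points.ofPt G ((sigmaι T i).left v) = Points.ofPt (j i) v :=
    fun i v => by rw [← ofPt_comp, hG]
  have hmono : Mono G := by
    refine mono_of_yon_injective fun Z a b hab => ?_
    obtain ⟨a, rfl⟩ := (yon S).map_surjective a
    obtain ⟨b, rfl⟩ := (yon S).map_surjective b
    congr 1
    apply Over.OverMorphism.ext
    refine Scheme.Cover.hom_ext ((sigmaOpenCover fun i => (T i).left).pullback₁ a.left) _ _ fun i => ?_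
    let 𝒲 := (sigmaOpenCover fun i => (T i).left).pullback₁ a.left
    let W : Over S := Over.mk (𝒲.f i ≫ Z.hom)
    let w : W ⟶ Z := CategoryTheory.Over.homMk (𝒲.f i) rfl
    let a' : W ⟶ T i := CategoryTheory.Over.homMk (pullback.snd a.left (Sigma.ι (fun i => (T i).left) i)) (by
      change _ = pullback.fst a.left _ ≫ Z.hom
      rw [← Over.w a, ← Category.assoc, pullback.condition, Category.assoc]
      exact congrArg (pullback.snd _ _ ≫ ·) (Sigma.ι_desc (fun i => (T i).hom) i).symm)
    have ha' : a' ≫ sigmaι T i = w ≫ a := Over.OverMorphism.ext pullback.condition.symm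
    have hrange : Set.range (w ≫ b).left ⊆ Set.range (sigmaι T i).left := by
      rintro _ ⟨q, rfl⟩
      obtain ⟨i', v, hv⟩ := exists_sigmaι T ((w ≫ b).left q)
      have h1 : Points.ofPt ((yon S).map (w ≫ b) ≫ G) q = Points.ofPt ((yon S).map (w ≫ a) ≫ G) q := by
        rw [Functor.map_comp, Functor.map_comp, Category.assoc, Category.assoc, hab]
      rw [ofPt_comp, ofPt_comp, ← hv, ← ha', Over.comp_left, Scheme.Hom.comp_apply, hpt, hpt] at h1
      obtain rfl := hd _ _ _ _ h1
      exact ⟨v, hv⟩
    let b' : W ⟶ T i := CategoryTheory.Over.homMk (IsOpenImmersion.lift (sigmaι T i).left (w ≫ b).left hrange) (by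
      rw [← Over.w (w ≫ b), ← Over.w (sigmaι T i), IsOpenImmersion.lift_fac_assoc])
    have hb' : b' ≫ sigmaι T i = w ≫ b := Over.OverMorphism.ext (IsOpenImmersion.lift_fac _ _ _)
    have := mono_of_openImmersion (hj i)
    have key : a' = b' := (yon S).map_injective ((cancel_mono (j i)).1 (by
      rw [← hG, ← Functor.map_comp_assoc, ← Functor.map_comp_assoc, ha', hb', Functor.map_comp,
        Functor.map_comp, Category.assoc, Category.assoc, hab]))
    exact congrArg Over.Hom.left (ha'.symm.trans ((congrArg (· ≫ sigmaι T i) key).trans hb'))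
  have hls : Sheaf.IsLocallySurjective G := by
    refine isLocallySurjective_of_lifts G fun Y g => ?_
    let Y' : ι → Over S := fun i => (hj i).rep.pullback g
    let φ : sigmaOver Y' ⟶ Y := CategoryTheory.Over.homMk
      (Sigma.desc fun i => ((hj i).rep.snd g).left) (by
        apply Sigma.hom_ext
        intro i
        change Sigma.ι _ i ≫ Sigma.desc _ ≫ Y.hom = Sigma.ι _ i ≫ Sigma.desc _
        rw [Sigma.ι_desc_assoc, Sigma.ι_desc]
        exact Over.w _)
    have hφ : ∀ i, sigmaι Y' i ≫ φ = (hj i).rep.snd g := fun i =>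
      Over.OverMorphism.ext (Sigma.ι_desc _ i)
    obtain ⟨l, hl⟩ := exists_hom_sigma Y' (F := (yon S).obj (sigmaOver T))
      fun i => (hj i).rep.fst g ≫ (yon S).map (sigmaι T i)
    refine ⟨sigmaOver Y', φ, l, ?_, hom_ext_sigma Y' fun i => ?_⟩
    · have : Etale φ.left := by
        refine IsZariskiLocalAtSource.of_openCover (sigmaOpenCover fun i => (Y' i).left) fun i => ?_
        change Etale (Sigma.ι (fun i => (Y' i).left) i ≫ Sigma.desc _)
        rw [Sigma.ι_desc]
        have : IsOpenImmersion ((hj i).rep.snd g).left := (hj i).property_snd g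
        infer_instance
      have : Surjective φ.left := by
        refine ⟨fun y => ?_⟩
        obtain ⟨i, v, hv⟩ := hc (Points.ofPt g y)
        obtain ⟨q, -, hq⟩ := exists_ofPt_of_eq ((hj i).rep.isPullback' g) hv
        refine ⟨(sigmaι Y' i).left q, ?_⟩
        rw [← Scheme.Hom.comp_apply, ← Over.comp_left, hφ]
        exact hq
      exact fppf_of_etale φ.left
    · rw [← Category.assoc, hl, Category.assoc, hG, ← Functor.map_comp_assoc, hφ]
      exact (hj i).rep.w g
  have := isIso_of_mono_of_locallySurjective G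
  exact ⟨asIso G⟩

end Groth.Agent.AlgSpDec
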