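import Mathlib.AlgebraicGeometry.Gluing
import Mathlib.AlgebraicGeometry.GluingOneHypercover
import Groth.Agent.AlgSpDec.Glue

/-!
# A space covered by open subschemes is a scheme
-/

set_option backward.isDefEq.respectTransparency false
set_option backward.isDefEq.respectTransparency.types false

universe u

open CategoryTheory Limits Opposite AlgebraicGeometry AlgSp Groth.Agent.AlgSpLib Groth.Agent.AlgSpPts

namespace Groth.Agent.AlgSpDec

variable {S : Scheme.{u}} {X : Sp S} {ι : Type u} (T : ι → Over S) (j : ∀ i, (yon S).obj (T i) ⟶ X)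
  (hj : ∀ i, RepWith @IsOpenImmersion (j i))

/-- The overlap. -/
noncomputable def ovl (i k : ι) : Over S := (hj i).rep.pullback (j k)

/-- The overlap in the first chart. -/
noncomputable def ovlFst (i k : ι) : ovl T j hj i k ⟶ T i := (hj i).rep.fst' (j k)

/-- The overlap in the second chart. -/
noncomputable def ovlSnd (i k : ι) : ovl T j hj i k ⟶ T k := (hj i).rep.snd (j k)

theorem ovl_w (i k : ι) : (yon S).map (ovlFst T j hj i k) ≫ j i = (yon S).map (ovlSnd T j hj i k) ≫ j k :=
  ((hj i).rep.isPullback' (j k)).w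

theorem exists_ovl_lift {Z : Over S} {i k : ι} (a : Z ⟶ T i) (b : Z ⟶ T k)
    (h : (yon S).map a ≫ j i = (yon S).map b ≫ j k) :
    ∃ c : Z ⟶ ovl T j hj i k, c ≫ ovlFst T j hj i k = a ∧ c ≫ ovlSnd T j hj i k = b :=
  ⟨(hj i).rep.lift' a b h, (hj i).rep.lift'_fst a b h, (hj i).rep.lift'_snd a b h⟩

include hj in
theorem isOpenImmersion_ovlFst (i k : ι) : IsOpenImmersion (ovlFst T j hj i k).left :=
  (hj k).property _ _ _ ((hj i).rep.isPullback' (j k)).flip

theorem mono_ovlFst (i k : ι) : Mono (ovlFst T j hj i k) :=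
  have := isOpenImmersion_ovlFst T j hj i k
  (Over.forget S).mono_of_mono_map (inferInstanceAs (Mono (ovlFst T j hj i k).left))

theorem exists_transition (i k : ι) :
    ∃ t : ovl T j hj i k ⟶ ovl T j hj k i,
      t ≫ ovlFst T j hj k i = ovlSnd T j hj i k ∧ t ≫ ovlSnd T j hj k i = ovlFst T j hj i k :=
  exists_ovl_lift T j hj _ _ (ovl_w T j hj i k).symm

theorem exists_triple (i k m : ι) :
    ∃ t' : pullback (ovlFst T j hj i k).left (ovlFst T j hj i m).left ⟶
        pullback (ovlFst T j hj k m).left (ovlFst T j hj k i).left,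
      t' ≫ pullback.snd _ _ = pullback.fst _ _ ≫ (exists_transition T j hj i k).choose.left ∧
      t' ≫ pullback.fst _ _ ≫ (ovlFst T j hj k m).left = pullback.fst _ _ ≫ (ovlSnd T j hj i k).left ∧
      t' ≫ pullback.fst _ _ ≫ (ovlSnd T j hj k m).left = pullback.snd _ _ ≫ (ovlSnd T j hj i m).left := by
  obtain ⟨ht₁, -⟩ := (exists_transition T j hj i k).choose_spec
  let p₁ := pullback.fst (ovlFst T j hj i k).left (ovlFst T j hj i m).left
  let p₂ := pullback.snd (ovlFst T j hj i k).left (ovlFst T j hj i m).left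
  let Q : Over S := Over.mk (p₁ ≫ (ovl T j hj i k).hom)
  let q₁ : Q ⟶ ovl T j hj i k := CategoryTheory.Over.homMk p₁ rfl
  let q₂ : Q ⟶ ovl T j hj i m := CategoryTheory.Over.homMk p₂ (by
    change p₂ ≫ _ = p₁ ≫ _
    rw [← Over.w (ovlFst T j hj i k), ← Over.w (ovlFst T j hj i m), ← Category.assoc, ← Category.assoc,
      pullback.condition])
  have hq : q₁ ≫ ovlFst T j hj i k = q₂ ≫ ovlFst T j hj i m := Over.OverMorphism.ext pullback.condition
  obtain ⟨c, hc₁, hc₂⟩ := exists_ovl_lift T j hj (q₁ ≫ ovlSnd T j hj i k) (q₂ ≫ ovlSnd T j hj i m) (by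
    rw [Functor.map_comp, Category.assoc, ← ovl_w, Functor.map_comp, Category.assoc, ← ovl_w,
      ← Functor.map_comp_assoc, ← Functor.map_comp_assoc, hq])
  have h1 : c.left ≫ (ovlFst T j hj k m).left = (p₁ ≫ (exists_transition T j hj i k).choose.left) ≫
      (ovlFst T j hj k i).left := by
    rw [← Over.comp_left, hc₁, Category.assoc, ← Over.comp_left, ht₁]
    rfl
  refine ⟨pullback.lift c.left _ h1, pullback.lift_snd _ _ _, ?_, ?_⟩
  · rw [pullback.lift_fst_assoc, ← Over.comp_left, hc₁]
    rfl
  · rw [pullback.lift_fst_assoc, ← Over.comp_left, hc₂]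
    rfl

/-- The gluing data of the cover. -/
noncomputable def glueData : Scheme.GlueData.{u} where
  J := ι
  U i := (T i).left
  V p := (ovl T j hj p.1 p.2).left
  f i k := (ovlFst T j hj i k).left
  f_mono i k := have := isOpenImmersion_ovlFst T j hj i k; inferInstanceAs (Mono (ovlFst T j hj i k).left)
  f_hasPullback i k m :=
    have := isOpenImmersion_ovlFst T j hj i k
    inferInstanceAs (HasPullback (ovlFst T j hj i k).left (ovlFst T j hj i m).left)
  f_id i := by
    obtain ⟨d, hd, -⟩ := exists_ovl_lift T j hj (𝟙 (T i)) (𝟙 (T i)) rfl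
    have := mono_ovlFst T j hj i i
    have : IsIso (ovlFst T j hj i i) := ⟨d, by
      rw [← cancel_mono (ovlFst T j hj i i), Category.assoc, hd, Category.comp_id, Category.id_comp], hd⟩
    exact inferInstanceAs (IsIso ((Over.forget S).map (ovlFst T j hj i i)))
  t i k := (exists_transition T j hj i k).choose.left
  t_id i := by
    obtain ⟨h1, h2⟩ := (exists_transition T j hj i i).choose_spec
    have := mono_ovlFst T j hj i i
    have := mono_of_openImmersion (hj i)
    have h12 : ovlFst T j hj i i = ovlSnd T j hj i i :=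
      (yon S).map_injective ((cancel_mono (j i)).1 (ovl_w T j hj i i))
    have h3 : (exists_transition T j hj i i).choose = 𝟙 _ := by
      rw [← cancel_mono (ovlFst T j hj i i), h1, Category.id_comp, h12]
    exact congrArg Over.Hom.left h3
  t' i k m := (exists_triple T j hj i k m).choose
  t_fac i k m := (exists_triple T j hj i k m).choose_spec.1
  cocycle i k m := by
    obtain ⟨-, a1, -⟩ := (exists_triple T j hj m i k).choose_spec
    obtain ⟨-, -, b2⟩ := (exists_triple T j hj k m i).choose_spec
    obtain ⟨c0, -, -⟩ := (exists_triple T j hj i k m).choose_spec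
    obtain ⟨-, e2⟩ := (exists_transition T j hj i k).choose_spec
    have := isOpenImmersion_ovlFst T j hj i k
    have := isOpenImmersion_ovlFst T j hj i m
    have : Mono (pullback.fst (ovlFst T j hj i k).left (ovlFst T j hj i m).left ≫ (ovlFst T j hj i k).left) :=
      mono_comp _ _
    rw [← cancel_mono (pullback.fst (ovlFst T j hj i k).left (ovlFst T j hj i m).left ≫ (ovlFst T j hj i k).left),
      Category.id_comp, Category.assoc, Category.assoc, a1, b2, ← Category.assoc, c0, Category.assoc,
      ← Over.comp_left, e2]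
  f_open i k := isOpenImmersion_ovlFst T j hj i k

include hj in
theorem exists_iso_of_open_cover (hc : ∀ x, ∃ i v, Points.ofPt (j i) v = x) :
    ∃ Q : Over S, Nonempty ((yon S).obj Q ≅ X) ∧ ∀ i, ∃ _ι : T i ⟶ Q, IsOpenImmersion _ι.left := by
  let D := glueData T j hj
  let h₀ : D.glued ⟶ S := D.openCover.glueMorphisms (fun i => (T i).hom) fun i k => by
    let e := (D.vPullbackConeIsLimit i k).conePointUniqueUpToIso (limit.isLimit (cospan (D.ι i) (D.ι k)))
    have e₁ : e.hom ≫ pullback.fst (D.ι i) (D.ι k) = D.f i k :=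
      (D.vPullbackConeIsLimit i k).conePointUniqueUpToIso_hom_comp _ WalkingCospan.left
    have e₂ : e.hom ≫ pullback.snd (D.ι i) (D.ι k) = D.t i k ≫ D.f k i :=
      (D.vPullbackConeIsLimit i k).conePointUniqueUpToIso_hom_comp _ WalkingCospan.right
    refine (cancel_epi e.hom).1 ?_
    refine (reassoc_of% e₁) _ |>.trans (Eq.trans ?_ ((reassoc_of% e₂) _).symm)
    change (ovlFst T j hj i k).left ≫ _ = (exists_transition T j hj i k).choose.left ≫ (ovlFst T j hj k i).left ≫ _
    rw [Over.w, Over.w, Over.w]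
  let Q : Over S := Over.mk h₀
  let inc : ∀ i, T i ⟶ Q := fun i =>
    CategoryTheory.Over.homMk (D.ι i) (D.openCover.ι_glueMorphisms _ _ i)
  have hinc : ∀ i, IsOpenImmersion (inc i).left := fun i => inferInstanceAs (IsOpenImmersion (D.ι i))
  have hglue : ∀ i k, ovlFst T j hj i k ≫ inc i = ovlSnd T j hj i k ≫ inc k := fun i k =>
    Over.OverMorphism.ext (by
      obtain ⟨h1, -⟩ := (exists_transition T j hj i k).choose_spec
      rw [← h1]
      change (ovlFst T j hj i k).left ≫ D.ι i =
        ((exists_transition T j hj i k).choose.left ≫ (ovlFst T j hj k i).left) ≫ D.ι k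
      rw [Category.assoc]
      exact (D.glue_condition i k).symm)
  have hR : Sieve.ofArrows _ inc ∈ J S Q := by
    refine mem_J_of_openCover (T := Q) D.openCover _ fun i => ?_
    let e : Over.mk (D.openCover.f i ≫ Q.hom) ⟶ T i :=
      CategoryTheory.Over.homMk (𝟙 (T i).left) (by
        change 𝟙 _ ≫ (T i).hom = D.ι i ≫ h₀
        rw [Category.id_comp]
        exact (Over.w (inc i)).symm)
    convert (Sieve.ofArrows _ inc).downward_closed (Sieve.ofArrows_mk _ _ i) e using 1
    exact Over.OverMorphism.ext (Category.id_comp _).symm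
  have hfac : ∀ {Z : Over S} {i k : ι} (a : Z ⟶ T i) (b : Z ⟶ T k), a ≫ inc i = b ≫ inc k →
      ∃ c : Z ⟶ ovl T j hj i k, c ≫ ovlFst T j hj i k = a ∧ c ≫ ovlSnd T j hj i k = b := by
    intro Z i k a b hab
    obtain ⟨h1, -⟩ := (exists_transition T j hj i k).choose_spec
    obtain ⟨l, hl₁, hl₂⟩ := PullbackCone.IsLimit.lift' (D.vPullbackConeIsLimit i k) a.left b.left
      (congrArg Over.Hom.left hab)
    let c : Z ⟶ ovl T j hj i k := CategoryTheory.Over.homMk l (by
      rw [← Over.w (ovlFst T j hj i k), ← Category.assoc]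
      exact (congrArg (· ≫ (T i).hom) hl₁).trans (Over.w a))
    refine ⟨c, Over.OverMorphism.ext hl₁, Over.OverMorphism.ext ?_⟩
    rw [← h1]
    exact hl₂
  have hs : Presieve.IsSheafFor X.obj (Presieve.ofArrows _ inc) :=
    (Presieve.isSheafFor_iff_generate _).2 (((isSheaf_iff_isSheaf_of_type _ _).1 X.property) _ hR)
  obtain ⟨t, ht, -⟩ := (Presieve.isSheafFor_arrows_iff _ _).1 hs
    (fun i => (J S).uliftYonedaEquiv (j i)) (fun i k Z a b hab => by
      rw [uliftYonedaEquiv_precomp, uliftYonedaEquiv_precomp]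
      congr 1
      obtain ⟨c, rfl, rfl⟩ := hfac a b hab
      rw [Functor.map_comp, Category.assoc, ovl_w, Functor.map_comp, Category.assoc])
  let G : (yon S).obj Q ⟶ X := (J S).uliftYonedaEquiv.symm t
  have hG : ∀ i, (yon S).map (inc i) ≫ G = j i := fun i => (J S).uliftYonedaEquiv.injective (by
    rw [← uliftYonedaEquiv_precomp, Equiv.apply_symm_apply, ht])
  have hmono : Mono G := by
    refine mono_of_yon_injective fun Z a b hab => ?_
    obtain ⟨a, rfl⟩ := (yon S).map_surjective a
    obtain ⟨b, rfl⟩ := (yon S).map_surjective b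
    congr 1
    apply Over.OverMorphism.ext
    refine Scheme.Cover.hom_ext (D.openCover.pullback₁ a.left) _ _ fun i => ?_
    refine Scheme.Cover.hom_ext
      (D.openCover.pullback₁ ((D.openCover.pullback₁ a.left).f i ≫ b.left)) _ _ fun k => ?_
    let p := pullback.fst ((D.openCover.pullback₁ a.left).f i ≫ b.left) (D.openCover.f k) ≫
      (D.openCover.pullback₁ a.left).f i
    let W : Over S := Over.mk (p ≫ Z.hom)
    let w : W ⟶ Z := CategoryTheory.Over.homMk p rfl
    let a' : W ⟶ T i := CategoryTheory.Over.homMk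
      (pullback.fst ((D.openCover.pullback₁ a.left).f i ≫ b.left) (D.openCover.f k) ≫ pullback.snd a.left (D.ι i)) (by
        change _ = p ≫ Z.hom
        rw [← Over.w (inc i), ← Over.w a, Category.assoc]
        change pullback.fst _ _ ≫ pullback.snd a.left (D.ι i) ≫ D.ι i ≫ h₀ = _
        rw [← pullback.condition_assoc]
        simp [p, Q]
        rfl)
    let b' : W ⟶ T k := CategoryTheory.Over.homMk (pullback.snd _ (D.openCover.f k)) (by
      change _ = p ≫ Z.hom
      rw [← Over.w (inc k), ← Over.w b]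
      change pullback.snd _ (D.openCover.f k) ≫ D.ι k ≫ h₀ = p ≫ b.left ≫ h₀
      rw [← Category.assoc, ← Category.assoc p]
      congr 1
      exact pullback.condition.symm.trans (Category.assoc _ _ _).symm)
    have ha : a' ≫ inc i = w ≫ a := Over.OverMorphism.ext (by
      change (_ ≫ pullback.snd a.left (D.ι i)) ≫ D.ι i = p ≫ a.left
      rw [Category.assoc, ← pullback.condition, Category.assoc]
      rfl)
    have hb : b' ≫ inc k = w ≫ b := Over.OverMorphism.ext
      (pullback.condition.symm.trans (Category.assoc _ _ _).symm)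
    obtain ⟨c, hc₁, hc₂⟩ := exists_ovl_lift T j hj a' b' (by
      rw [← hG, ← hG, ← Functor.map_comp_assoc, ha, Functor.map_comp, Category.assoc, hab,
        ← Functor.map_comp_assoc, ← hb, Functor.map_comp, Category.assoc])
    have : w ≫ a = w ≫ b := by
      rw [← ha, ← hb, ← hc₁, ← hc₂, Category.assoc, Category.assoc, hglue]
    have h' := congrArg Over.Hom.left this
    exact ((Category.assoc _ _ _).symm.trans h').trans (Category.assoc _ _ _)
  have hls : Sheaf.IsLocallySurjective G := by
    refine isLocallySurjective_of_lifts G fun Y g => ?_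
    let Y' : ι → Over S := fun i => (hj i).rep.pullback g
    let φ : sigmaOver Y' ⟶ Y := CategoryTheory.Over.homMk
      (Sigma.desc fun i => ((hj i).rep.snd g).left) (by
        apply Sigma.hom_ext
        intro i
        change Sigma.ι _ i ≫ Sigma.desc _ ≫ Y.hom = Sigma.ι _ i ≫ Sigma.desc _
        rw [Sigma.ι_desc_assoc, Sigma.ι_desc]
        exact Over.w _)
    have hφ : ∀ i, sigmaι Y' i ≫ φ = (hj i).rep.snd g := fun i =>
      Over.OverMorphism.ext (Sigma.ι_desc _ i)
    obtain ⟨l, hl⟩ := exists_hom_sigma Y' (F := (yon S).obj Q)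
      fun i => (hj i).rep.fst g ≫ (yon S).map (inc i)
    refine ⟨sigmaOver Y', φ, l, ?_, hom_ext_sigma Y' fun i => ?_⟩
    · have : Etale φ.left := by
        refine IsZariskiLocalAtSource.of_openCover (sigmaOpenCover fun i => (Y' i).left) fun i => ?_
        change Etale (Sigma.ι (fun i => (Y' i).left) i ≫ Sigma.desc _)
        rw [Sigma.ι_desc]
        have : IsOpenImmersion ((hj i).rep.snd g).left := (hj i).property_snd g
        infer_instance
      have : Surjective φ.left := by
        refine ⟨fun y => ?_⟩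
        obtain ⟨i, v, hv⟩ := hc (Points.ofPt g y)
        obtain ⟨q, -, hq⟩ := exists_ofPt_of_eq ((hj i).rep.isPullback' g) hv
        refine ⟨(sigmaι Y' i).left q, ?_⟩
        rw [← Scheme.Hom.comp_apply, ← Over.comp_left, hφ]
        exact hq
      exact fppf_of_etale φ.left
    · rw [← Category.assoc, hl, Category.assoc, hG, ← Functor.map_comp_assoc, hφ]
      exact (hj i).rep.w g
  have := isIso_of_mono_of_locallySurjective G
  exact ⟨Q, ⟨asIso G⟩, fun i => ⟨inc i, hinc i⟩⟩

end Groth.Agent.AlgSpDec
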