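import Groth.Agent.AlgSpDec.LqfPiece
import Groth.Agent.AlgSpDec.OpenGlue
import Groth.Agent.AlgSpPts.OpenSub

/-!
# Separated locally quasi-finite algebraic spaces over schemes are schemes
-/

set_option backward.isDefEq.respectTransparency false
set_option backward.isDefEq.respectTransparency.types false

universe u

open CategoryTheory Limits Opposite AlgebraicGeometry AlgSp Groth.Agent.AlgSpLib Groth.Agent.AlgSpPts

namespace Groth.Agent.AlgSpDec

theorem exists_invExact {R₂ R T : Scheme.{u}} [IsAffine R] [IsAffine T] (t s : R₂ ⟶ R) (ρ : R ⟶ T)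
    (hρ : t ≫ ρ = s ≫ ρ) :
    ∃ (Y : Scheme.{u}) (π : R ⟶ Y) (π₀ : Y ⟶ T),
      IsAffine Y ∧ InvExact t s π ∧ t ≫ π = s ≫ π ∧ π ≫ π₀ = ρ := by
  let C : Subring Γ(R, ⊤) := RingHom.eqLocus t.appTop.hom s.appTop.hom
  let ι : CommRingCat.of C ⟶ Γ(R, ⊤) := CommRingCat.ofHom C.subtype
  let π : R ⟶ Spec (CommRingCat.of C) := R.isoSpec.hom ≫ Spec.map ι
  have hπ : π.appTop = (Scheme.ΓSpecIso (CommRingCat.of C)).hom ≫ ι := by
    simp [π, Scheme.isoSpec, Scheme.ΓSpecIso_naturality]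
  have happ : ∀ x, π.appTop.hom x = ((Scheme.ΓSpecIso (CommRingCat.of C)).hom.hom x : C).1 := fun x => by
    rw [hπ]; rfl
  have hex : InvExact t s π := by
    refine ⟨fun x y h => ?_, fun b hb => ⟨(Scheme.ΓSpecIso (CommRingCat.of C)).inv.hom ⟨b, hb⟩, ?_⟩⟩
    · rw [happ, happ] at h
      exact (ConcreteCategory.bijective_of_isIso (Scheme.ΓSpecIso (CommRingCat.of C)).hom).1 (Subtype.ext h)
    · rw [happ, ← CommRingCat.comp_apply, Iso.inv_hom_id]
      rfl
  have hw : t ≫ π = s ≫ π := ext_of_isAffine (by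
    rw [Scheme.Hom.comp_appTop, Scheme.Hom.comp_appTop]
    refine CommRingCat.hom_ext (RingHom.ext fun x => ?_)
    show t.appTop.hom (π.appTop.hom x) = s.appTop.hom (π.appTop.hom x)
    rw [happ]
    exact ((Scheme.ΓSpecIso (CommRingCat.of C)).hom.hom x : C).2)
  obtain ⟨π₀, hπ₀⟩ := hex.exists_desc ρ hρ
  exact ⟨_, π, π₀, inferInstance, hex, hw, hπ₀⟩

variable {S : Scheme.{u}}

/-- An affine-atlas space, separated and locally quasi-finite over an affine scheme, is a scheme. -/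
theorem exists_rep_of_lqf {P : Sp S} {T R : Over S} [IsAffine T.left] [IsAffine R.left]
    {f : P ⟶ (yon S).obj T} (hsep : IsSeparatedMor f) {a : (yon S).obj R ⟶ P} (ha : RepWith @Etale a)
    (has : RepWith @Surjective a) {ρ : R ⟶ T} (hρ : (yon S).map ρ = a ≫ f)
    [LocallyQuasiFinite ρ.left] [LocallyOfFiniteType ρ.left] :
    ∃ Q : Over S, Nonempty ((yon S).obj Q ≅ P) := by
  let t := ha.rep.fst' a
  let s := ha.rep.snd a
  have sq : IsPullback ((yon S).map t) ((yon S).map s) a a := ha.rep.isPullback' a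
  have affR₂ : IsAffine (ha.rep.pullback a).left := by
    have h : RepWith @IsAffineHom a := repWith_of_postcomp (g := f)
      ⟨hsep.rep, fun _ _ g' fst snd sq' => by
        have : IsClosedImmersion snd.left := hsep.property g' fst snd sq'
        show IsAffineHom snd.left
        infer_instance⟩
      (by rw [← hρ]; exact (repWith_yon_map_iff _ _).2 (inferInstance : IsAffineHom ρ.left))
    have : IsAffineHom s.left := h.property a ((yon S).map t) s sq
    exact isAffine_of_isAffineHom s.left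
  have hρw : t ≫ ρ = s ≫ ρ := (yon S).map_injective (by
    rw [Functor.map_comp, Functor.map_comp, hρ, ← Category.assoc, sq.w, Category.assoc])
  obtain ⟨Y', π', π₀', hY', hex, hw', hπ'⟩ := exists_invExact t.left s.left ρ.left (congrArg Over.Hom.left hρw)
  let Y : Over S := Over.mk (π₀' ≫ T.hom)
  have affY : IsAffine Y.left := hY'
  let π : R ⟶ Y := CategoryTheory.Over.homMk π' (by
    show π' ≫ π₀' ≫ T.hom = R.hom
    rw [← Category.assoc, hπ', Over.w ρ])
  let π₀ : Y ⟶ T := CategoryTheory.Over.homMk π₀' rfl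
  have hρπ : (yon S).map (π ≫ π₀) = a ≫ f := by
    rw [← hρ]; congr 1; exact Over.OverMorphism.ext hπ'
  have hw : t ≫ π = s ≫ π := Over.OverMorphism.ext hw'
  have : Epi a := epi_of_etale_surjective ha has
  have : EffectiveEpi a := by
    have := IsRegularEpiCategory.regularEpiOfEpi a
    infer_instance
  have hinv : ∀ {Z : Sp S} (g₁ g₂ : Z ⟶ (yon S).obj R), g₁ ≫ a = g₂ ≫ a →
      g₁ ≫ (yon S).map π = g₂ ≫ (yon S).map π := fun g₁ g₂ h => by
    rw [← sq.lift_fst g₁ g₂ h, Category.assoc, ← Functor.map_comp, hw, Functor.map_comp, ← Category.assoc,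
      sq.lift_snd]
  let g : P ⟶ (yon S).obj Y := EffectiveEpi.desc a ((yon S).map π) hinv
  have hg : a ≫ g = (yon S).map π := EffectiveEpi.fac a _ _
  -- the pieces
  have hsR : IsSeparated ρ.left := inferInstance
  have key : ∀ x : R.left, ∃ (O : Over S) (h : O ⟶ Y) (μ : (yon S).obj O ⟶ P), Etale h.left ∧
      μ ≫ g = (yon S).map h ∧ (∀ ⦃T' : Over S⦄ (y : (yon S).obj T' ⟶ P) (o : T' ⟶ O),
        y ≫ g = (yon S).map (o ≫ h) → y = (yon S).map o ≫ μ) ∧ π.left x ∈ Set.range h.left := by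
    intro x
    obtain ⟨U₁, ū₁, hū₁, -, V₁, W₁, v₁, hVW, hfin, hv₁⟩ :=
      exists_etale_isCompl_of_quasiFiniteAt ρ.left (x := x) rfl (ρ.left.quasiFiniteAt x)
    obtain ⟨U₀, hU₀, hu⟩ : ∃ U₀ : U₁.Opens, IsAffineOpen U₀ ∧ pullback.snd ρ.left ū₁ v₁.1 ∈ U₀ := by
      obtain ⟨_, ⟨U₀, hU₀, rfl⟩, hu, -⟩ := U₁.isBasis_affineOpens.exists_subset_of_mem_open
        (Set.mem_univ (pullback.snd ρ.left ū₁ v₁.1)) isOpen_univ
      exact ⟨U₀, hU₀, hu⟩
    let U : Over S := Over.mk (U₀.ι ≫ ū₁ ≫ T.hom)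
    let ū : U ⟶ T := CategoryTheory.Over.homMk (U₀.ι ≫ ū₁) (Category.assoc _ _ _)
    have affU : IsAffine U.left := hU₀
    have etū : Etale ū.left := inferInstanceAs (Etale (U₀.ι ≫ ū₁))
    let Ro : (pullback ρ.left ū₁).Opens := pullback.snd ρ.left ū₁ ⁻¹ᵁ U₀
    let RU : Over S := Over.mk (Ro.ι ≫ pullback.fst ρ.left ū₁ ≫ R.hom)
    let pr : RU ⟶ R := CategoryTheory.Over.homMk (Ro.ι ≫ pullback.fst ρ.left ū₁) (Category.assoc _ _ _)
    let sn : RU ⟶ U := CategoryTheory.Over.homMk (pullback.snd ρ.left ū₁ ∣_ U₀) (by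
      show (pullback.snd ρ.left ū₁ ∣_ U₀) ≫ U₀.ι ≫ ū₁ ≫ T.hom = Ro.ι ≫ pullback.fst ρ.left ū₁ ≫ R.hom
      rw [morphismRestrict_ι_assoc, ← pullback.condition_assoc, Over.w ρ])
    have sqR₀ : IsPullback pr sn (π ≫ π₀) ū := by
      refine IsPullback.of_map_of_faithful (Over.forget S) ?_
      show IsPullback (Ro.ι ≫ pullback.fst ρ.left ū₁) (pullback.snd ρ.left ū₁ ∣_ U₀) (π' ≫ π₀') (U₀.ι ≫ ū₁)
      rw [hπ']
      exact (isPullback_morphismRestrict (pullback.snd ρ.left ū₁) U₀).flip.paste_horiz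
        (IsPullback.of_hasPullback ρ.left ū₁)
    let V : RU.left.Opens := Ro.ι ⁻¹ᵁ V₁
    have hV₁c : IsClosed (V₁ : Set ↥(pullback ρ.left ū₁)) := by
      rw [show (V₁ : Set ↥(pullback ρ.left ū₁)) = (W₁ : Set ↥(pullback ρ.left ū₁))ᶜ from
        eq_compl_iff_isCompl.mpr (hVW.map TopologicalSpace.Opens.frameHom)]
      exact W₁.2.isClosed_compl
    have hVf : IsFinite (V.ι ≫ sn.left) := by
      have sqV := (isPullback_morphismRestrict (V₁.ι ≫ pullback.snd ρ.left ū₁) U₀).flip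
      have sq' : IsPullback (Ro.ι ∣_ V₁) (V.ι ≫ sn.left) (V₁.ι ≫ pullback.snd ρ.left ū₁) U₀.ι :=
        (isPullback_morphismRestrict Ro.ι V₁).paste_vert
          (isPullback_morphismRestrict (pullback.snd ρ.left ū₁) U₀).flip
      exact MorphismProperty.of_isPullback (P := @IsFinite) sq' hfin
    obtain ⟨O, h, μ, h1, h2, h3, h4⟩ := exists_piece hsep ha has sq hρπ hw hex hg ū sqR₀ V
      (hV₁c.preimage Ro.ι.continuous) hVf
    let v : RU.left := ⟨v₁.1, hu⟩
    have hv : (pr ≫ π).left v = π.left x := by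
      show π'.base ((pullback.fst ρ.left ū₁).base v₁.1) = π'.base x
      rw [hv₁]
    exact ⟨O, h, μ, h1, h2, h3, hv ▸ h4 v v₁.2⟩
  choose O h μ hEt hμ huniq hmem using key
  -- the scheme
  let Y₀ : Y.left.Opens := ⨆ x : R.left, ⟨Set.range (h x).left,
    have := hEt x; (h x).left.isOpenMap.isOpen_range⟩
  let Q : Over S := openOver Y Y₀
  let ι₀ : Q ⟶ Y := openOverι Y Y₀
  have : Mono ι₀ := (Over.forget S).mono_of_mono_map (inferInstanceAs (Mono Y₀.ι))
  have hfac : ∀ {Z : Over S} (k : Z ⟶ Y), (∀ z, k.left z ∈ Y₀) → ∃ k₀ : Z ⟶ Q, k₀ ≫ ι₀ = k := by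
    intro Z k hk
    have hsub : Set.range k.left ⊆ Set.range Y₀.ι := by
      rw [Scheme.Opens.range_ι]; rintro _ ⟨z, rfl⟩; exact hk z
    exact ⟨CategoryTheory.Over.homMk (IsOpenImmersion.lift Y₀.ι k.left hsub) (by
      show _ ≫ Y₀.ι ≫ Y.hom = _
      rw [IsOpenImmersion.lift_fac_assoc, Over.w k]), Over.OverMorphism.ext (IsOpenImmersion.lift_fac _ _ _)⟩
  obtain ⟨π₁, hπ₁⟩ := hfac π fun z => TopologicalSpace.Opens.mem_iSup.2 ⟨z, hmem z⟩
  obtain ⟨g₀, hg₀⟩ := exists_factor_of_cover ha has g (j := (yon S).map ι₀)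
    ⟨(yon S).map π₁, by rw [← Functor.map_comp, hπ₁, hg]⟩
  -- etale covers of test objects by the pieces
  have hcover : ∀ {Z : Over S} (z : Z ⟶ Q), ∃ (Z' : R.left → Over S) (φ : ∀ x, Z' x ⟶ Z) (o : ∀ x, Z' x ⟶ O x),
      (∀ x, o x ≫ h x = φ x ≫ z ≫ ι₀) ∧
      ∃ Φ : sigmaOver Z' ⟶ Z, fppf Φ.left ∧ ∀ x, sigmaι Z' x ≫ Φ = φ x := by
    intro Z z
    let k := z ≫ ι₀
    have sqx : ∀ x, IsPullback (pullback.fst k (h x)).left (pullback.snd k (h x)).left k.left (h x).left :=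
      fun x => (IsPullback.of_hasPullback k (h x)).map (Over.forget S)
    have etx : ∀ x, Etale (pullback.fst k (h x)).left := fun x =>
      MorphismProperty.of_isPullback (P := @Etale) (sqx x).flip (hEt x)
    refine ⟨fun x => pullback k (h x), fun x => pullback.fst k (h x), fun x => pullback.snd k (h x),
      fun x => pullback.condition.symm, ?_⟩
    let Φ : sigmaOver (fun x => pullback k (h x)) ⟶ Z :=
      CategoryTheory.Over.homMk (Sigma.desc fun x => (pullback.fst k (h x)).left)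
        (Sigma.hom_ext _ _ fun x => by
          show Sigma.ι _ x ≫ Sigma.desc _ ≫ Z.hom = Sigma.ι _ x ≫ Sigma.desc _
          rw [Sigma.ι_desc_assoc, Sigma.ι_desc]
          exact Over.w (pullback.fst k (h x)))
    refine ⟨Φ, ?_, fun x => Over.OverMorphism.ext (Sigma.ι_desc _ _)⟩
    have : Etale Φ.left := IsZariskiLocalAtSource.sigmaDesc etx
    have : Surjective Φ.left := ⟨fun w => by
      obtain ⟨x, hx⟩ := TopologicalSpace.Opens.mem_iSup.1 (show (k.left w) ∈ Y₀ from (z.left w).2)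
      obtain ⟨v, hv⟩ := hx
      obtain ⟨p, hp, -⟩ := Scheme.Pullback.exists_preimage_pullback w v hv.symm
      refine ⟨(Sigma.ι (fun x => (pullback k (h x)).left) x) ((sqx x).isoPullback.inv p), ?_⟩
      have e : Sigma.ι (fun x => (pullback k (h x)).left) x ≫ Φ.left = (pullback.fst k (h x)).left :=
        Sigma.ι_desc _ _
      show (Sigma.ι (fun x => (pullback k (h x)).left) x ≫ Φ.left) ((sqx x).isoPullback.inv p) = w
      rw [e, ← Scheme.Hom.comp_apply, (sqx x).isoPullback_inv_fst]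
      exact hp⟩
    exact fppf_of_etale _
  have hls : Sheaf.IsLocallySurjective g₀ := by
    refine isLocallySurjective_of_lifts g₀ fun Z z => ?_
    obtain ⟨z, rfl⟩ := (yon S).map_surjective z
    obtain ⟨Z', φ, o, ho, Φ, hΦ, hΦι⟩ := hcover z
    obtain ⟨G, hG⟩ := exists_hom_sigma Z' fun x => (yon S).map (o x) ≫ μ x
    refine ⟨_, Φ, G, hΦ, (cancel_mono ((yon S).map ι₀)).1 (hom_ext_sigma Z' fun x => ?_)⟩
    rw [Category.assoc, hg₀, reassoc_of% (hG x), hμ, ← Functor.map_comp, ho]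
    simp only [← Functor.map_comp, ← Category.assoc, hΦι]
  have hmono : Mono g₀ := mono_of_yon_injective fun Z y y' hy => by
    obtain ⟨z, hz⟩ := (yon S).map_surjective (y ≫ g₀)
    obtain ⟨Z', φ, o, ho, Φ, hΦ, hΦι⟩ := hcover z
    refine hom_ext_of_fppf Φ hΦ _ _ (hom_ext_sigma Z' fun x => ?_)
    rw [← Category.assoc, ← Category.assoc, ← Functor.map_comp, hΦι]
    have e : ∀ {w : (yon S).obj Z ⟶ P}, w ≫ g₀ = (yon S).map z →
        (yon S).map (φ x) ≫ w = (yon S).map (o x) ≫ μ x := fun {w} hw => huniq x _ _ (by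
      rw [Category.assoc, ← hg₀, reassoc_of% hw, ← Functor.map_comp, ← Functor.map_comp, ho])
    rw [e hz.symm, e (hy.symm.trans hz.symm)]
  have := isIso_of_mono_of_locallySurjective g₀
  exact ⟨Q, ⟨(asIso g₀).symm⟩⟩

/-- A chart factors through an open subspace containing its image. -/
theorem exists_factor_open {X' X : Sp S} {j : X' ⟶ X} (hj : RepWith @IsOpenImmersion j) {U : Over S}
    (a : (yon S).obj U ⟶ X) (h : ∀ u, Points.ofPt a u ∈ Set.range (Points.map j)) :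
    ∃ a', a' ≫ j = a := by
  have : IsOpenImmersion (hj.rep.snd a).left := hj.property_snd a
  have : Surjective (hj.rep.snd a).left := ⟨fun u => by
    obtain ⟨x, hx⟩ := h u
    obtain ⟨W, g, w, -, rfl⟩ := exists_ofPt_eq x
    rw [Points.map_ofPt] at hx
    obtain ⟨z', hz'⟩ := exists_point_of_isPullback (hj.rep.isPullback a)
      (x := Points.ofPt g w) (y := Points.ofScheme U u) (by
        rw [Points.map_ofPt, hx, Points.ofPt_eq_map_ofScheme])
    refine ⟨Points.toScheme _ z', ?_⟩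
    have h2 := hz'.2
    rw [← Points.ofScheme_toScheme _ z', Points.map_ofPt, Category.id_comp] at h2
    exact ((Points.toScheme_ofPt (hj.rep.snd a) _).symm.trans (congrArg (Points.toScheme U) h2)).trans
      (Points.toScheme_ofScheme U u)⟩
  have : IsIso (hj.rep.snd a).left :=
    (isIso_iff_isOpenImmersion_and_epi_base _).2 ⟨inferInstance,
      (TopCat.epi_iff_surjective _).2 (hj.rep.snd a).left.surjective⟩
  have : IsIso ((Over.forget S).map (hj.rep.snd a)) := ‹IsIso (hj.rep.snd a).left›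
  have : IsIso (hj.rep.snd a) := isIso_of_reflects_iso _ (Over.forget S)
  exact ⟨(yon S).map (inv (hj.rep.snd a)) ≫ hj.rep.fst a, by
    rw [Category.assoc, hj.rep.w a, ← Functor.map_comp_assoc, IsIso.inv_hom_id, CategoryTheory.Functor.map_id,
      Category.id_comp]⟩

theorem isSeparatedMor_of_comp_mono {F G H : Sp S} {f : F ⟶ G} {g : G ⟶ H} [Mono g]
    (h : IsSeparatedMor (f ≫ g)) : IsSeparatedMor f := by
  have : IsIso (pullback.map f f (f ≫ g) (f ≫ g) (𝟙 F) (𝟙 F) g (by simp) (by simp)) :=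
    ⟨pullback.lift (pullback.fst _ _) (pullback.snd _ _) ((cancel_mono g).1 (by
      rw [Category.assoc, Category.assoc]; exact pullback.condition)), by
      constructor <;> apply pullback.hom_ext <;> simp⟩
  refine ((RepWith @IsClosedImmersion).cancel_right_of_respectsIso (pullback.diagonal f)
    (pullback.map f f (f ≫ g) (f ≫ g) (𝟙 F) (𝟙 F) g _ _)).1 ?_
  rw [show pullback.diagonal f ≫ pullback.map f f (f ≫ g) (f ≫ g) (𝟙 F) (𝟙 F) g (by simp) (by simp) =
    pullback.diagonal (f ≫ g) from pullback.hom_ext (by simp) (by simp)]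
  exact h

theorem isIso_diagonal_of_mono {F G : Sp S} (j : F ⟶ G) [Mono j] : IsIso (pullback.diagonal j) :=
  ⟨pullback.fst j j, pullback.diagonal_fst _,
    pullback.hom_ext (by simp) ((cancel_mono j).1 (by simp [pullback.condition]))⟩

theorem isSeparatedMor_of_mono {F G : Sp S} (j : F ⟶ G) [Mono j] : IsSeparatedMor j :=
  have := isIso_diagonal_of_mono j
  repWith_of_isIso _ _

/-- The open image of a chart, as a space with a surjective chart. -/
theorem exists_image_chart {X : Sp S} (hX : IsAlgSpace X) {R : Over S} {a₀ : (yon S).obj R ⟶ X}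
    (ha₀ : RepWith @Etale a₀) :
    ∃ (P : Sp S) (j : P ⟶ X) (a' : (yon S).obj R ⟶ P), RepWith @IsOpenImmersion j ∧ a' ≫ j = a₀ ∧
      RepWith @Etale a' ∧ RepWith @Surjective a' := by
  obtain ⟨P, j, hP, hj, hrange⟩ := exists_open_subspace hX
    (W := Set.range (Points.ofPt a₀)) ((isOpenMap_ofPt ha₀).isOpen_range)
  obtain ⟨a', ha'⟩ := exists_factor_open hj a₀ (fun r => by rw [hrange]; exact ⟨r, rfl⟩)
  have : Mono j := mono_of_openImmersion hj
  have := isIso_diagonal_of_mono j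
  have ha'e : RepWith @Etale a' := repWith_of_postcomp (repWith_of_isIso _ _) (by rw [ha']; exact ha₀)
  have hinj : Function.Injective (Points.map j) := injective_map
    ⟨hj.rep, fun _ _ g fst snd sq => by
      have : IsOpenImmersion snd.left := hj.property g fst snd sq
      exact snd.left.isOpenEmbedding.injective⟩
  refine ⟨P, j, a', hj, ha', ha'e, repWith_surjective_of_surjective ha'e.rep fun p => ?_⟩
  obtain ⟨r, hr⟩ : Points.map j p ∈ Set.range (Points.ofPt a₀) := by rw [← hrange]; exact ⟨p, rfl⟩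
  refine ⟨Points.ofScheme R r, hinj ?_⟩
  rw [← Points.map_comp, ha', ← hr, Points.ofPt_eq_map_ofScheme]

/-- The open image of an affine chart lying over an affine open of the base is a scheme. -/
theorem exists_rep_chart {X : Sp S} (hX : IsAlgSpace X) {T₀ T R : Over S} [IsAffine T₀.left] [IsAffine R.left]
    (f : X ⟶ (yon S).obj T) (hqf : LocP (@LocallyQuasiFinite ⊓ @LocallyOfFiniteType) f) (hsep : IsSeparatedMor f)
    (ι : T₀ ⟶ T) [IsOpenImmersion ι.left] {a₀ : (yon S).obj R ⟶ X} (ha₀ : RepWith @Etale a₀) (ρ₀ : R ⟶ T₀)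
    (hρ₀ : (yon S).map (ρ₀ ≫ ι) = a₀ ≫ f) :
    ∃ (Q : Over S) (j : (yon S).obj Q ⟶ X) (k : R ⟶ Q), RepWith @IsOpenImmersion j ∧ (yon S).map k ≫ j = a₀ := by
  obtain ⟨P, j, a', hj, ha', ha'e, ha's⟩ := exists_image_chart hX ha₀
  have : Mono j := mono_of_openImmersion hj
  have : Mono ((yon S).map ι) :=
    mono_of_openImmersion ((repWith_yon_map_iff _ _).2 (inferInstanceAs (IsOpenImmersion ι.left)))
  obtain ⟨f₀, hf₀⟩ := exists_factor_of_cover ha'e ha's (j ≫ f) (j := (yon S).map ι)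
    ⟨(yon S).map ρ₀, by rw [← Functor.map_comp, hρ₀, reassoc_of% ha']⟩
  have hρa : (yon S).map ρ₀ = a' ≫ f₀ := (cancel_mono ((yon S).map ι)).1 (by
    rw [← Functor.map_comp, hρ₀, Category.assoc, hf₀, reassoc_of% ha'])
  have hsep₀ : IsSeparatedMor f₀ := isSeparatedMor_of_comp_mono (g := (yon S).map ι) (by
    rw [hf₀]; exact isSeparatedMor_comp (isSeparatedMor_of_mono j) hsep)
  obtain ⟨hq, hl⟩ := hqf a₀ (𝟙 _) (ρ₀ ≫ ι) ha₀ (repWith_id _ T) (by rw [Category.comp_id, hρ₀])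
  rw [Over.comp_left] at hq hl
  have : LocallyOfFiniteType ρ₀.left := locallyOfFiniteType_of_comp ρ₀.left ι.left
  have : LocallyQuasiFinite ρ₀.left := LocallyQuasiFinite.of_comp ρ₀.left ι.left
  obtain ⟨Q, ⟨e⟩⟩ := exists_rep_of_lqf hsep₀ ha'e ha's hρa
  obtain ⟨k, hk⟩ := (yon S).map_surjective (a' ≫ e.inv)
  have h1 : RepWith @IsOpenImmersion e.hom := repWith_of_isIso @IsOpenImmersion e.hom
  have h2 : RepWith @IsOpenImmersion (e.hom ≫ j) := repWith_comp h1 hj
  refine ⟨Q, e.hom ≫ j, k, h2, ?_⟩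
  rw [hk, Category.assoc, Iso.inv_hom_id_assoc, ha']

theorem exists_rep_of_points {X : Sp S} (hX : IsAlgSpace X) (key : ∀ x : Points X, ∃ (Q : Over S) (j : (yon S).obj Q ⟶ X)
    (q : ↥Q.left), RepWith @IsOpenImmersion j ∧ Points.ofPt j q = x) :
    ∃ Q : Over S, Nonempty ((yon S).obj Q ≅ X) := by
  obtain ⟨U, p, -, hps⟩ := hX.atlas
  choose Q j q hj hq using fun u : U.left => key (Points.ofPt p u)
  have hc : ∀ x, ∃ i v, Points.ofPt (j i) v = x := fun x => by
    obtain ⟨u, rfl⟩ := surjective_ofPt hps x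
    exact ⟨u, q u, hq u⟩
  obtain ⟨Q', h, -⟩ := exists_iso_of_open_cover Q j hj hc
  exact ⟨Q', h⟩

/-- Separated locally quasi-finite algebraic spaces over schemes are schemes. -/
theorem exists_iso_of_lqf_separated {X : Sp S} (hX : IsAlgSpace X) {T : Over S} (f : X ⟶ (yon S).obj T)
    (hqf : LocP (@LocallyQuasiFinite ⊓ @LocallyOfFiniteType) f) (hsep : IsSeparatedMor f) :
    ∃ Q : Over S, Nonempty ((yon S).obj Q ≅ X) := by
  have key : ∀ x : Points X, ∃ (Q : Over S) (j : (yon S).obj Q ⟶ X) (q : ↥Q.left),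
      RepWith @IsOpenImmersion j ∧ Points.ofPt j q = x := by
    intro x
    obtain ⟨U, a, u, -, ha, rfl⟩ := exists_affine_chart_at hX x
    obtain ⟨ρ, hρ⟩ := (yon S).map_surjective (a ≫ f)
    obtain ⟨T₀, hT₀, hu⟩ : ∃ T₀ : T.left.Opens, IsAffineOpen T₀ ∧ ρ.left u ∈ T₀ := by
      obtain ⟨_, ⟨T₀, hT₀, rfl⟩, hu, -⟩ := T.left.isBasis_affineOpens.exists_subset_of_mem_open
        (Set.mem_univ (ρ.left u)) isOpen_univ
      exact ⟨T₀, hT₀, hu⟩
    obtain ⟨R₀, hR₀, hu₀, hle⟩ : ∃ R₀ : U.left.Opens, IsAffineOpen R₀ ∧ u ∈ R₀ ∧ R₀ ≤ ρ.left ⁻¹ᵁ T₀ := by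
      obtain ⟨_, ⟨R₀, hR₀, rfl⟩, hu₀, hle⟩ := U.left.isBasis_affineOpens.exists_subset_of_mem_open
        (show u ∈ (ρ.left ⁻¹ᵁ T₀ : U.left.Opens) from hu) (ρ.left ⁻¹ᵁ T₀).2
      exact ⟨R₀, hR₀, hu₀, hle⟩
    let ρ₀ : openOver U R₀ ⟶ openOver T T₀ := CategoryTheory.Over.homMk (ρ.left.resLE T₀ R₀ hle) (by
      show _ ≫ T₀.ι ≫ T.hom = R₀.ι ≫ U.hom
      rw [Scheme.Hom.resLE_comp_ι_assoc, Over.w ρ])
    have hρ₀ : ρ₀ ≫ openOverι T T₀ = openOverι U R₀ ≫ ρ :=
      Over.OverMorphism.ext (Scheme.Hom.resLE_comp_ι _ _)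
    have : IsAffine (openOver U R₀).left := hR₀
    have : IsAffine (openOver T T₀).left := hT₀
    have : IsOpenImmersion (openOverι T T₀).left := inferInstanceAs (IsOpenImmersion T₀.ι)
    obtain ⟨Q, j, k, hj, hk⟩ := exists_rep_chart hX f hqf hsep (openOverι T T₀)
      (repWith_comp ((repWith_yon_map_iff _ (openOverι U R₀)).2 (inferInstanceAs (Etale R₀.ι))) ha) ρ₀
      (by rw [hρ₀, Functor.map_comp, hρ, Category.assoc])
    refine ⟨Q, j, k.left ⟨u, hu₀⟩, hj, ?_⟩
    rw [← ofPt_comp, hk, ofPt_comp]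
    rfl
  exact exists_rep_of_points hX key

end Groth.Agent.AlgSpDec

namespace Groth.Agent.AlgSpDec

variable {S : Scheme.{u}}

/-- Separated locally quasi-finite morphisms of algebraic spaces are representable by schemes. -/
theorem representable_of_lqf_separated {X Y : Sp S} (hX : IsAlgSpace X) (hY : IsAlgSpace Y) (f : X ⟶ Y)
    (hqf : LocP (@LocallyQuasiFinite ⊓ @LocallyOfFiniteType) f) (hsep : IsSeparatedMor f) : Representable f :=
  fun U g => by
    have sq := IsPullback.of_hasPullback f g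
    obtain ⟨Q, ⟨e⟩⟩ := exists_iso_of_lqf_separated (isAlgSpace_of_isPullback sq hX (IsAlgSpace.yon_obj U) hY)
      (pullback.snd f g) (locP_of_isPullback sq hX hY (IsAlgSpace.yon_obj U) hqf)
      (isSeparatedMor_of_isPullback sq hsep)
    obtain ⟨k, hk⟩ := (yon S).map_surjective (e.hom ≫ pullback.snd f g)
    exact ⟨Q, k, e.hom ≫ pullback.fst f g,
      sq.of_iso e.symm (Iso.refl _) (Iso.refl _) (Iso.refl _) (by simp) (by simp [hk]) (by simp) (by simp)⟩

end Groth.Agent.AlgSpDec
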