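import Groth.Agent.AlgSpDec.FppfDescent
import Groth.Agent.AlgSpDec.LqfScheme
import Groth.Agent.AlgSpLib.Descends
import Groth.Agent.AlgSpLib.Descends2
import Groth.Agent.AlgStLib.RepDiag
import Groth.Agent.AlgSpPts.Diag
import Groth.Prelude.Def_AlgSpRep
import Mathlib.AlgebraicGeometry.Morphisms.LocalFlatDescent

/-!
# Descent of separated locally quasi-finite morphisms along flat covers by algebraic spaces
-/

set_option backward.isDefEq.respectTransparency false
set_option backward.isDefEq.respectTransparency.types false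

universe u

open CategoryTheory Limits Opposite AlgebraicGeometry AlgSp Groth.Agent.AlgSpLib Groth.Agent.AlgSpPts

namespace Groth.Agent.AlgSpDec

variable {S : Scheme.{u}}

instance : MorphismProperty.DescendsAlong (@IsSeparated : MorphismProperty Scheme.{u}) fppf := by
  unfold fppf
  rw [IsSeparated.isSeparated_eq_diagonal_isClosedImmersion]
  infer_instance

instance : MorphismProperty.DescendsAlong (@LocallyQuasiFinite : MorphismProperty Scheme.{u}) fppf := by
  unfold fppf; infer_instance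

instance : MorphismProperty.DescendsAlong (@LocallyOfFiniteType : MorphismProperty Scheme.{u}) fppf := by
  unfold fppf; infer_instance

/-- A monomorphism of algebraic spaces locally of finite type is locally quasi-finite. -/
theorem locP_lqf_of_mono {K W : Sp S} (m : K ⟶ W) [Mono m] (hl : LocP @LocallyOfFiniteType m) :
    LocP (@LocallyQuasiFinite ⊓ @LocallyOfFiniteType) m := by
  intro U V a b h ha hb w
  have : LocallyOfFiniteType h.left := hl a b h ha hb w
  let X := pullback h h
  have hX : (yon S).map (pullback.fst h h) ≫ a = (yon S).map (pullback.snd h h) ≫ a := (cancel_mono m).1 (by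
    rw [Category.assoc, Category.assoc, w, ← Functor.map_comp_assoc, ← Functor.map_comp_assoc, pullback.condition])
  have sqK := ha.rep.isPullback' a
  let ψ : X ⟶ ha.rep.pullback a := (yon S).preimage (sqK.lift _ _ hX)
  have hψ₁ : ψ ≫ ha.rep.fst' a = pullback.fst h h := (yon S).map_injective (by
    rw [Functor.map_comp, Functor.map_preimage, sqK.lift_fst])
  have hψ₂ : ψ ≫ ha.rep.snd a = pullback.snd h h := (yon S).map_injective (by
    rw [Functor.map_comp, Functor.map_preimage, sqK.lift_snd])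
  have : Mono ψ := ⟨fun c d e => pullback.hom_ext
    (by rw [← hψ₁, reassoc_of% e]) (by rw [← hψ₂, reassoc_of% e])⟩
  let δ : U ⟶ X := pullback.lift (𝟙 U) (𝟙 U) rfl
  have het : Etale (δ ≫ ψ).left := by
    have : Etale (ha.rep.snd a).left := ha.property_snd a
    have e : (δ ≫ ψ).left ≫ (ha.rep.snd a).left = 𝟙 U.left := by
      rw [← Over.comp_left, Category.assoc, hψ₂, pullback.lift_snd]; rfl
    have : Etale ((δ ≫ ψ).left ≫ (ha.rep.snd a).left) := by rw [e]; infer_instance
    exact Etale.of_comp _ (ha.rep.snd a).left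
  have sqδ : IsPullback (𝟙 U) δ (δ ≫ ψ) ψ :=
    ⟨⟨by simp⟩, ⟨PullbackCone.IsLimit.mk _ (fun c => c.fst) (fun c => Category.comp_id _)
      (fun c => by rw [← cancel_mono ψ, Category.assoc]; exact c.condition)
      (fun c n h₁ _ => by simpa using h₁)⟩⟩
  have hδe : Etale δ.left := MorphismProperty.of_isPullback (P := @Etale) (sqδ.map (Over.forget S)) het
  have sqX : IsPullback (pullback.fst h h).left (pullback.snd h h).left h.left h.left :=
    (IsPullback.of_hasPullback h h).map (Over.forget S)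
  have hd : pullback.diagonal h.left = δ.left ≫ sqX.isoPullback.hom := by
    refine pullback.hom_ext ?_ ?_
    · rw [pullback.diagonal_fst, Category.assoc, sqX.isoPullback_hom_fst, ← Over.comp_left, pullback.lift_fst]; rfl
    · rw [pullback.diagonal_snd, Category.assoc, sqX.isoPullback_hom_snd, ← Over.comp_left, pullback.lift_snd]; rfl
  have : Etale (pullback.diagonal h.left) := by rw [hd]; infer_instance
  have : IsOpenImmersion (pullback.diagonal h.left) := IsOpenImmersion.of_flat_of_mono _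
  exact ⟨Groth.Agent.AlgStLib.locallyQuasiFinite_of_unr h.left, inferInstance⟩

/-- A surjective flat lfp map from an algebraic space to a scheme has fppf quasi-sections. -/
theorem exists_fppf_chart {P : Sp S} (hP : IsAlgSpace P) {U : Over S} (r : P ⟶ (yon S).obj U)
    (hs : IsSurjectiveMor r) (hf : LocP @Flat r) (hl : LocP @LocallyOfFinitePresentation r) :
    ∃ (V : Over S) (c : (yon S).obj V ⟶ P) (k : V ⟶ U), fppf k.left ∧ c ≫ r = (yon S).map k := by
  obtain ⟨V, c, hc, hcs⟩ := hP.atlas
  obtain ⟨k, hk⟩ := (yon S).map_surjective (c ≫ r)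
  have w : c ≫ r = (yon S).map k ≫ 𝟙 _ := by rw [Category.comp_id, hk]
  have : Flat k.left := hf c (𝟙 _) k hc (repWith_id _ U) w
  have : LocallyOfFinitePresentation k.left := hl c (𝟙 _) k hc (repWith_id _ U) w
  have : Surjective k.left := ⟨fun t => by
    obtain ⟨p, hp⟩ := hs (Points.ofScheme U t)
    obtain ⟨v, rfl⟩ := surjective_ofPt hcs p
    rw [Points.ofPt_eq_map_ofScheme, ← Points.map_comp, ← hk] at hp
    exact ⟨v, (Points.schemeHomeo U).injective ((Points.map_yon_map_apply k v).symm.trans hp)⟩⟩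
  exact ⟨V, c, k, fppf_of k.left, hk.symm⟩

/-- Maps into the target of a flat lfp surjective map representable by spaces lift fppf locally. -/
theorem exists_fppf_lift {F G : Sp S} {g : F ⟶ G}
    (hg : RepBySpWith (IsSurjectiveMor ⊓ LocP @Flat ⊓ LocP @LocallyOfFinitePresentation) g.hom)
    {T : Over S} (ξ : (yon S).obj T ⟶ G) :
    ∃ (V : Over S) (k : V ⟶ T) (x : (yon S).obj V ⟶ F), fppf k.left ∧ x ≫ g = (yon S).map k ≫ ξ := by
  obtain ⟨h', hA, ⟨hs, hf⟩, hl⟩ := hg ξ.hom (pullback.fst g ξ).hom (pullback.snd g ξ).hom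
    ((IsPullback.of_hasPullback g ξ).map (sheafToPresheaf (J S) (Type (u + 1))))
  obtain ⟨V, c, k, hk, hck⟩ := exists_fppf_chart (P := pullback g ξ) hA (pullback.snd g ξ) hs hf hl
  exact ⟨V, k, c ≫ pullback.fst g ξ, hk, by rw [Category.assoc, pullback.condition, reassoc_of% hck]⟩

/-- Being separated and locally quasi-finite descends along flat covers. -/
theorem repWith_of_fppf_space_cover {E F G H : Sp S} {a : E ⟶ F} {f : E ⟶ H} {g : F ⟶ G} {b : H ⟶ G}
    (sq : IsPullback a f g b)
    (hg : RepBySpWith (IsSurjectiveMor ⊓ LocP @Flat ⊓ LocP @LocallyOfFinitePresentation) g.hom)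
    (ha : RepBySpWith (IsSeparatedMor ⊓ LocP (@LocallyQuasiFinite ⊓ @LocallyOfFiniteType)) a.hom) :
    RepWith (@IsSeparated ⊓ (@LocallyQuasiFinite ⊓ @LocallyOfFiniteType)) b := by
  refine repWith_of_squares fun T ξ => ?_
  obtain ⟨V, k, x, hk, hx⟩ := exists_fppf_lift hg ξ
  obtain ⟨h', hA, hsep, hqf⟩ := ha x.hom (pullback.fst a x).hom (pullback.snd a x).hom
    ((IsPullback.of_hasPullback a x).map (sheafToPresheaf (J S) (Type (u + 1))))
  have hsep : IsSeparatedMor (pullback.snd a x) := hsep
  have hqf : LocP (@LocallyQuasiFinite ⊓ @LocallyOfFiniteType) (pullback.snd a x) := hqf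
  obtain ⟨W, ⟨e⟩⟩ := exists_iso_of_lqf_separated (X := pullback a x) hA (pullback.snd a x) hqf hsep
  obtain ⟨i, hi⟩ := (yon S).map_surjective (e.hom ≫ pullback.snd a x)
  have sqE : IsPullback (e.hom ≫ pullback.fst a x) ((yon S).map i) a x :=
    (IsPullback.of_hasPullback a x).of_iso e.symm (Iso.refl _) (Iso.refl _) (Iso.refl _) (by simp) (by simp [hi])
      (by simp) (by simp)
  obtain ⟨hsi, hqi, hli⟩ : IsSeparated i.left ∧ LocallyQuasiFinite i.left ∧ LocallyOfFiniteType i.left := by
    obtain ⟨hq, hl⟩ := hqf e.hom (𝟙 _) i (repWith_of_isIso _ e.hom) (repWith_id _ V) (by rw [Category.comp_id, hi])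
    refine ⟨(isSeparatedMor_yon_map_iff i).1 ?_, hq, hl⟩
    rw [hi]
    exact isSeparatedMor_comp (isSeparatedMor_of_mono e.hom) hsep
  have sq₁ : IsPullback ((e.hom ≫ pullback.fst a x) ≫ f) ((yon S).map i) b ((yon S).map k ≫ ξ) := by
    have := sqE.paste_horiz sq.flip
    rwa [hx] at this
  have hw : ((e.hom ≫ pullback.fst a x) ≫ f) ≫ b = ((yon S).map i ≫ (yon S).map k) ≫ ξ := by
    rw [sq₁.w, Category.assoc]
  let w : (yon S).obj W ⟶ pullback b ξ := pullback.lift _ _ hw
  have sqw : IsPullback w ((yon S).map i) (pullback.snd b ξ) ((yon S).map k) := by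
    refine IsPullback.of_right ?_ (pullback.lift_snd _ _ _) (IsPullback.of_hasPullback b ξ)
    rw [pullback.lift_fst]
    exact sq₁
  obtain ⟨⟨hk₁, hk₂⟩, hk₃⟩ := hk
  obtain ⟨Q, ⟨φ⟩⟩ := Fppf.exists_rep_of_lqf_cover k sqw
  obtain ⟨j, hj⟩ := (yon S).map_surjective (φ.hom ≫ pullback.snd b ξ)
  have sqQ : IsPullback (φ.hom ≫ pullback.fst b ξ) ((yon S).map j) b ξ :=
    (IsPullback.of_hasPullback b ξ).of_iso φ.symm (Iso.refl _) (Iso.refl _) (Iso.refl _) (by simp) (by simp [hj])
      (by simp) (by simp)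
  have sqd : IsPullback (w ≫ φ.inv) ((yon S).map i) ((yon S).map j) ((yon S).map k) :=
    sqw.of_iso (Iso.refl _) φ.symm (Iso.refl _) (Iso.refl _) (by simp) (by simp) (by simp [hj]) (by simp)
  obtain ⟨l, hl⟩ := (yon S).map_surjective (w ≫ φ.inv)
  rw [← hl] at sqd
  have sqs := ((IsPullback.of_map_of_faithful (yon S) sqd).map (Over.forget S)).flip
  have hk' : fppf ((Over.forget S).map k) := ⟨⟨hk₁, hk₂⟩, hk₃⟩
  exact ⟨Q, _, j, sqQ, MorphismProperty.of_isPullback_of_descendsAlong (P := @IsSeparated) sqs hk' hsi,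
    MorphismProperty.of_isPullback_of_descendsAlong (P := @LocallyQuasiFinite) sqs hk' hqi,
    MorphismProperty.of_isPullback_of_descendsAlong (P := @LocallyOfFiniteType) sqs hk' hli⟩

/-- The target of a flat lfp surjection from an algebraic space has representable diagonal. -/
theorem representable_diag_of_fppf_space_cover {F X : Sp S} (hX : IsAlgSpace X) {p : X ⟶ F}
    (hp : RepBySpWith (IsSurjectiveMor ⊓ LocP @Flat ⊓ LocP @LocallyOfFinitePresentation) p.hom) :
    Representable (Limits.diag F) := by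
  refine Functor.relativelyRepresentable.diag_iff.2 fun A a A' b => ?_
  obtain ⟨V, k, x, hk, hx⟩ := exists_fppf_lift hp a
  obtain ⟨V', k', x', hk', hx'⟩ := exists_fppf_lift hp b
  obtain ⟨hPb', hPb, ⟨-, -⟩, hPl⟩ := hp (x' ≫ p).hom (pullback.fst p (x' ≫ p)).hom
    (pullback.snd p (x' ≫ p)).hom ((IsPullback.of_hasPullback p (x' ≫ p)).map (sheafToPresheaf (J S) (Type (u + 1))))
  let π := pullback.fst p (x' ≫ p)
  let π₂ := pullback.snd p (x' ≫ p)
  have hPb : IsAlgSpace (pullback p (x' ≫ p)) := hPb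
  have hPl : LocP @LocallyOfFiniteType π₂ := locP_mono
    (fun _ _ g (_ : LocallyOfFinitePresentation g) => inferInstanceAs (LocallyOfFiniteType g)) hPl
  let K := pullback x π
  have hK : IsAlgSpace K := isAlgSpace_pullback (IsAlgSpace.yon_obj V) hPb hX x π
  have sqK : IsPullback (pullback.fst x π) (pullback.snd x π ≫ π₂) ((yon S).map k ≫ a) ((yon S).map k' ≫ b) := by
    rw [← hx, ← hx']
    exact (IsPullback.of_hasPullback x π).paste_vert (IsPullback.of_hasPullback p (x' ≫ p))
  -- the first factor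
  let l : K ⟶ (yon S).obj V ⨯ pullback p (x' ≫ p) := prod.lift (pullback.fst x π) (pullback.snd x π)
  have hd : RepWith @LocallyOfFiniteType (Limits.diag X) :=
    (repWith_diag_iff _ X).2 (diagonal_package hX (IsAlgSpace.yon_obj _) _).2.1
  have hl : RepWith @LocallyOfFiniteType l := repWith_of_isPullback
    (isPullback_diag (IsPullback.of_hasPullback x π) prod.fst prod.snd (fun c d h₁ h₂ => Limits.prod.hom_ext h₁ h₂) l
      (prod.lift_fst _ _) (prod.lift_snd _ _)) hd
  let n : (yon S).obj V ⨯ pullback p (x' ≫ p) ⟶ (yon S).obj V ⨯ (yon S).obj V' := prod.map (𝟙 _) π₂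
  have sqn : IsPullback prod.snd n π₂ prod.snd :=
    ⟨⟨by simp [n]⟩, ⟨PullbackCone.IsLimit.mk _ (fun s => prod.lift (s.snd ≫ prod.fst) s.fst)
      (fun s => by simp) (fun s => by apply prod.hom_ext <;> simp [n, s.condition])
      (fun s c h₁ h₂ => by
        apply prod.hom_ext
        · rw [prod.lift_fst, ← h₂]; simp [n]
        · rw [prod.lift_snd, h₁])⟩⟩
  have hyy : IsAlgSpace ((yon S).obj V ⨯ (yon S).obj V') := isAlgSpace_prod (IsAlgSpace.yon_obj V) (IsAlgSpace.yon_obj V')
  have hn : LocP @LocallyOfFiniteType n := locP_of_isPullback sqn hPb (IsAlgSpace.yon_obj V') hyy hPl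
  let c := inv (prodComparison (yon S) V V')
  let m : K ⟶ (yon S).obj (V ⨯ V') := (l ≫ n) ≫ c
  have hm : LocP @LocallyOfFiniteType m :=
    locP_comp hK hyy (IsAlgSpace.yon_obj _)
      (locP_comp hK (isAlgSpace_prod (IsAlgSpace.yon_obj V) hPb) hyy (locP_of_repWith hl) hn)
      (locP_of_repWith (repWith_of_isIso _ c))
  have hm₁ : m ≫ (yon S).map prod.fst = pullback.fst x π := by
    simp [m, c, l, n, inv_prodComparison_map_fst]
  have hm₂ : m ≫ (yon S).map prod.snd = pullback.snd x π ≫ π₂ := by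
    simp [m, c, l, n, inv_prodComparison_map_snd]
  have : Mono m := ⟨fun c d h => sqK.hom_ext (by rw [← hm₁, reassoc_of% h]) (by rw [← hm₂, reassoc_of% h])⟩
  obtain ⟨W, ⟨e⟩⟩ := exists_iso_of_lqf_separated hK m (locP_lqf_of_mono m hm) (isSeparatedMor_of_mono m)
  obtain ⟨i, hi⟩ := (yon S).map_surjective (e.hom ≫ m)
  have : LocallyOfFiniteType i.left :=
    hm e.hom (𝟙 _) i (repWith_of_isIso _ e.hom) (repWith_id _ _) (by rw [Category.comp_id, hi])
  -- descend
  let P := pullback a b
  let q : P ⟶ (yon S).obj (A ⨯ A') :=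
    prod.lift (pullback.fst a b) (pullback.snd a b) ≫ inv (prodComparison (yon S) A A')
  have hq₁ : q ≫ (yon S).map prod.fst = pullback.fst a b := by simp [q, inv_prodComparison_map_fst]
  have hq₂ : q ≫ (yon S).map prod.snd = pullback.snd a b := by simp [q, inv_prodComparison_map_snd]
  have : Mono q := ⟨fun c d h => pullback.hom_ext
    (by rw [← hq₁, reassoc_of% h]) (by rw [← hq₂, reassoc_of% h])⟩
  let E : V ⨯ V' ⟶ A ⨯ A' := prod.map k k'
  have hE : fppf E.left := fppf_prod_map hk hk'
  obtain ⟨⟨hE₁, hE₂⟩, hE₃⟩ := hE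
  let w : (yon S).obj W ⟶ P := pullback.lift (e.hom ≫ pullback.fst x π ≫ (yon S).map k)
    (e.hom ≫ (pullback.snd x π ≫ π₂) ≫ (yon S).map k') (by
      simp only [Category.assoc]
      rw [sqK.w]
      simp only [Category.assoc])
  have hwq : w ≫ q = (yon S).map i ≫ (yon S).map E := by
    refine yon_prod_ext _ _ ?_ ?_
    · rw [Category.assoc, hq₁, pullback.lift_fst, hi, ← hm₁]
      simp only [Category.assoc, ← Functor.map_comp, E, prod.map_fst]
    · rw [Category.assoc, hq₂, pullback.lift_snd, hi, ← hm₂]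
      simp only [Category.assoc, ← Functor.map_comp, E, prod.map_snd]
  have sqq : IsPullback w ((yon S).map i) q ((yon S).map E) := by
    refine ⟨⟨hwq⟩, ⟨PullbackCone.isLimitAux' _ fun s => ?_⟩⟩
    have h₁ : (s.snd ≫ (yon S).map prod.fst) ≫ (yon S).map k ≫ a =
        (s.snd ≫ (yon S).map prod.snd) ≫ (yon S).map k' ≫ b := by
      have e₁ : s.snd ≫ (yon S).map (prod.fst ≫ k) = s.fst ≫ pullback.fst a b := by
        rw [← hq₁, ← Category.assoc, s.condition, Category.assoc, ← Functor.map_comp]
        simp [E]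
      have e₂ : s.snd ≫ (yon S).map (prod.snd ≫ k') = s.fst ≫ pullback.snd a b := by
        rw [← hq₂, ← Category.assoc, s.condition, Category.assoc, ← Functor.map_comp]
        simp [E]
      simp only [Category.assoc, ← Functor.map_comp_assoc]
      rw [reassoc_of% e₁, reassoc_of% e₂, pullback.condition]
    let t : s.pt ⟶ (yon S).obj W := sqK.lift _ _ h₁ ≫ e.inv
    have hti : t ≫ (yon S).map i = s.snd := by
      rw [Category.assoc, hi, e.inv_hom_id_assoc]
      refine yon_prod_ext _ _ ?_ ?_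
      · rw [Category.assoc, hm₁, sqK.lift_fst]
      · rw [Category.assoc, hm₂, sqK.lift_snd]
    refine ⟨t, (cancel_mono q).1 (?_ : (t ≫ w) ≫ q = s.fst ≫ q), hti, fun {d} _ hd => ?_⟩
    · rw [Category.assoc, hwq, reassoc_of% hti, s.condition]
    · have : Mono ((yon S).map i) := by rw [hi]; exact mono_comp _ _
      exact (cancel_mono ((yon S).map i)).1 (hd.trans hti.symm)
  obtain ⟨Q, ⟨φ⟩⟩ := Fppf.exists_rep_of_mono E sqq
  obtain ⟨s₂, hs₂⟩ := (yon S).map_surjective (φ.hom ≫ pullback.snd a b)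
  refine ⟨Q, s₂, φ.hom ≫ pullback.fst a b, ?_⟩
  rw [hs₂]
  exact (IsPullback.of_hasPullback a b).of_iso φ.symm (Iso.refl _) (Iso.refl _) (Iso.refl _)
    (by simp) (by simp) (by simp) (by simp)
where
  fppf_prod_map {A A' V V' : Over S} {k : V ⟶ A} {k' : V' ⟶ A'} (hk : fppf k.left) (hk' : fppf k'.left) :
      fppf (prod.map k k').left := by
    have e : prod.map k k' = prod.map k (𝟙 V') ≫ prod.map (𝟙 A) k' := by
      apply Limits.prod.hom_ext <;> simp
    rw [e, Over.comp_left]
    refine MorphismProperty.comp_mem _ _ _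
      (MorphismProperty.of_isPullback ((IsPullback.of_prod_fst_with_id k V').map (Over.forget S)) hk) ?_
    have sqe : IsPullback prod.snd (prod.map (𝟙 A) k') k' prod.snd :=
      ⟨⟨by simp⟩, ⟨PullbackCone.IsLimit.mk _ (fun s => prod.lift (s.snd ≫ prod.fst) s.fst)
        (fun s => by simp) (fun s => by apply Limits.prod.hom_ext <;> simp [s.condition])
        (fun s c h₁ h₂ => by
          apply Limits.prod.hom_ext
          · rw [prod.lift_fst, ← h₂]; simp
          · rw [prod.lift_snd, h₁])⟩⟩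
    exact MorphismProperty.of_isPullback (sqe.map (Over.forget S)) hk'

end Groth.Agent.AlgSpDec
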