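import Groth.Agent.AlgSpDec.SliceCover

/-!
# The restriction of a relation to a slice
-/

set_option backward.isDefEq.respectTransparency false
set_option backward.isDefEq.respectTransparency.types false

universe u

open CategoryTheory Limits Opposite AlgebraicGeometry AlgSp Groth.Agent.AlgSpLib Groth.Agent.AlgSpPts

namespace Groth.Agent.AlgSpDec.Slice

variable {S : Scheme.{u}} {Qs : Sp S} {U R : Over S} {q : (yon S).obj U ⟶ Qs} {t s : R ⟶ U}

/-- A flat lfp lqf kernel pair presenting the same quotient. -/
theorem exists_lqf_slice (sq : IsPullback ((yon S).map t) ((yon S).map s) q q) [Sheaf.IsLocallySurjective q]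
    [Flat s.left] [Flat t.left] [LocallyOfFinitePresentation s.left] [LocallyOfFinitePresentation t.left] :
    ∃ (U' R' : Over S) (g : U' ⟶ U) (t' s' : R' ⟶ U') (r : R' ⟶ R),
      r ≫ t = t' ≫ g ∧ r ≫ s = s' ≫ g ∧
      IsPullback ((yon S).map t') ((yon S).map s') ((yon S).map g ≫ q) ((yon S).map g ≫ q) ∧
      Sheaf.IsLocallySurjective ((yon S).map g ≫ q) ∧
      Flat s'.left ∧ LocallyOfFinitePresentation s'.left ∧ LocallyQuasiFinite s'.left ∧
      Flat t'.left ∧ LocallyOfFinitePresentation t'.left ∧ LocallyQuasiFinite t'.left := by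
  obtain ⟨U', g, -, hsurj, hflat, hqf, hlfp⟩ := exists_slice_cover sq
  let hm := pullback.snd g t ≫ s
  let R' := pullback hm g
  let r₁ := pullback.fst hm g
  let s' := pullback.snd hm g
  let t' := r₁ ≫ pullback.fst g t
  let φ := (yon S).map g ≫ q
  have hP : IsPullback ((yon S).map (pullback.fst g t)) ((yon S).map hm) φ q := isPullback_hmap sq g
  have sqR : IsPullback ((yon S).map t') ((yon S).map s') φ φ := by
    rw [Functor.map_comp]
    exact ((IsPullback.of_hasPullback hm g).map (yon S)).paste_horiz hP
  have hs : IsPullback r₁.left s'.left hm.left g.left := (IsPullback.of_hasPullback hm g).map (Over.forget S)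
  have hf1 : Flat s'.left := MorphismProperty.of_isPullback (P := @Flat) hs hflat
  have hf2 : LocallyOfFinitePresentation s'.left :=
    MorphismProperty.of_isPullback (P := @LocallyOfFinitePresentation) hs hlfp
  have hf3 : LocallyQuasiFinite s'.left := MorphismProperty.of_isPullback (P := @LocallyQuasiFinite) hs hqf
  obtain ⟨σ, hσ⟩ := (yon S).map_surjective (sqR.lift ((yon S).map s') ((yon S).map t') sqR.w.symm)
  have hσt : σ ≫ t' = s' := (yon S).map_injective (by rw [Functor.map_comp, hσ]; exact sqR.lift_fst _ _ _)
  have hσs : σ ≫ s' = t' := (yon S).map_injective (by rw [Functor.map_comp, hσ]; exact sqR.lift_snd _ _ _)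
  have hσσ : σ ≫ σ = 𝟙 _ := by
    refine (yon S).map_injective (sqR.hom_ext ?_ ?_)
    · rw [← Functor.map_comp, ← Functor.map_comp, Category.assoc, hσt, hσs, Category.id_comp]
    · rw [← Functor.map_comp, ← Functor.map_comp, Category.assoc, hσs, hσt, Category.id_comp]
  have : IsIso σ.left := ⟨σ.left, by rw [← Over.comp_left, hσσ]; rfl, by rw [← Over.comp_left, hσσ]; rfl⟩
  have ht : t'.left = σ.left ≫ s'.left := by rw [← Over.comp_left, hσs]
  refine ⟨U', R', g, t', s', r₁ ≫ pullback.snd g t, ?_, ?_, sqR, ?_, hf1, hf2, hf3, ?_, ?_, ?_⟩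
  · simp only [t', Category.assoc, pullback.condition]
  · rw [Category.assoc]; exact pullback.condition
  · refine isLocallySurjective_of_lifts _ fun T ξ => ?_
    obtain ⟨V, k, x, hk, hx⟩ := exists_fppf_lift_of_locallySurjective q ξ
    obtain ⟨x, rfl⟩ := (yon S).map_surjective x
    have hb : IsPullback (pullback.fst hm x).left (pullback.snd hm x).left hm.left x.left :=
      (IsPullback.of_hasPullback hm x).map (Over.forget S)
    have : Surjective (pullback.snd hm x).left := MorphismProperty.of_isPullback (P := @Surjective) hb hsurj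
    have : Flat (pullback.snd hm x).left := MorphismProperty.of_isPullback (P := @Flat) hb hflat
    have : LocallyOfFinitePresentation (pullback.snd hm x).left :=
      MorphismProperty.of_isPullback (P := @LocallyOfFinitePresentation) hb hlfp
    obtain ⟨⟨h1, h2⟩, h3⟩ := hk
    have : Surjective k.left := h1
    have : Flat k.left := h2
    have : LocallyOfFinitePresentation k.left := h3
    refine ⟨_, pullback.snd hm x ≫ k, (yon S).map (pullback.fst hm x ≫ pullback.fst g t),
      fppf_of ((pullback.snd hm x).left ≫ k.left), ?_⟩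
    rw [Functor.map_comp, Functor.map_comp, Category.assoc, Category.assoc, hP.w,
      ← Category.assoc, ← Functor.map_comp, pullback.condition, Functor.map_comp, Category.assoc, hx]
  · rw [ht]; exact MorphismProperty.comp_mem _ _ _ (inferInstanceAs (Flat σ.left)) hf1
  · rw [ht]; exact MorphismProperty.comp_mem _ _ _ (inferInstanceAs (LocallyOfFinitePresentation σ.left)) hf2
  · rw [ht]; exact MorphismProperty.comp_mem _ _ _ (inferInstanceAs (LocallyQuasiFinite σ.left)) hf3

end Groth.Agent.AlgSpDec.Slice
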