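import Groth.Agent.AlgSpDec.LqfChart
import Groth.Agent.AlgSpDec.SliceQuot
import Groth.Agent.AlgSpDec.FppfLqf
import Groth.Agent.AlgSpDec.Glue
import Groth.Agent.AlgSpLib.RepBySp

/-!
# Quotients of flat lfp equivalence relations are algebraic spaces
-/

set_option backward.isDefEq.respectTransparency false
set_option backward.isDefEq.respectTransparency.types false

universe u

open CategoryTheory Limits Opposite AlgebraicGeometry AlgSp Groth.Agent.AlgSpLib Groth.Agent.AlgSpPts

namespace Groth.Agent.AlgSpDec

variable {S : Scheme.{u}} {F : Sp S}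

/-- A representable flat lfp surjection is the same thing for maps representable by spaces. -/
theorem repBySpWith_flat_lfp_of_repWith {U : Over S} {p : (yon S).obj U ⟶ F} (hs : RepWith @Surjective p)
    (hf : RepWith @Flat p) (hl : RepWith @LocallyOfFinitePresentation p) :
    RepBySpWith (IsSurjectiveMor ⊓ LocP @Flat ⊓ LocP @LocallyOfFinitePresentation) p.hom := by
  rw [repBySpWith_hom_iff]
  intro T ξ F' fst snd sq
  have e := (hf.rep.isPullback ξ).isoIsPullback _ _ sq
  refine ⟨(IsAlgSpace.yon_obj _).of_iso e, ⟨?_, locP_of_repWith (repWith_of_isPullback sq hf)⟩,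
    locP_of_repWith (repWith_of_isPullback sq hl)⟩
  exact (repWith_surjective_iff (repWith_of_isPullback sq hs).rep).1 (repWith_of_isPullback sq hs)

/-- A map out of a disjoint union is etale when its restrictions are. -/
theorem repWith_etale_sigma {ι : Type u} {W : ι → Over S} {m : (yon S).obj (sigmaOver W) ⟶ F} (hm : Representable m)
    (h : ∀ i, RepWith @Etale ((yon S).map (sigmaι W i) ≫ m)) : RepWith @Etale m := by
  refine ⟨hm, fun T P g fst snd sq => ?_⟩
  obtain ⟨fst, rfl⟩ := (yon S).map_surjective fst
  let Pi : ι → Over S := fun i => pullback (sigmaι W i) fst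
  have sqi : ∀ i, IsPullback (pullback.fst (sigmaι W i) fst).left (pullback.snd (sigmaι W i) fst).left
      (sigmaι W i).left fst.left := fun i => (IsPullback.of_hasPullback _ _).map (Over.forget S)
  have hoi : ∀ i, IsOpenImmersion (pullback.snd (sigmaι W i) fst).left := fun i =>
    MorphismProperty.of_isPullback (P := @IsOpenImmersion) (sqi i) inferInstance
  show Etale snd.left
  rw [IsZariskiLocalAtSource.iff_of_openCover (P := @Etale) (Scheme.Cover.mkOfCovers ι (fun i => (Pi i).left)
    (fun i => (pullback.snd (sigmaι W i) fst).left) (fun z => by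
      obtain ⟨i, w, hw⟩ := exists_sigmaι W (fst.left z)
      obtain ⟨z', -, hz'⟩ := Scheme.exists_preimage_of_isPullback (sqi i) w z hw
      exact ⟨i, z', hz'⟩) hoi)]
  intro i
  show Etale ((pullback.snd (sigmaι W i) fst).left ≫ snd.left)
  rw [← Over.comp_left]
  refine (h i).property g ((yon S).map (pullback.fst (sigmaι W i) fst)) (pullback.snd (sigmaι W i) fst ≫ snd) ?_
  rw [Functor.map_comp]
  exact ((IsPullback.of_hasPullback (sigmaι W i) fst).map (yon S)).paste_vert sq

/-- The target of a locally surjective map from a scheme with flat lfp quasi-finite kernel pair is an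
algebraic space. -/
theorem isAlgSpace_of_lqf_kernelPair {U R : Over S} {p : (yon S).obj U ⟶ F} [Sheaf.IsLocallySurjective p]
    {t s : R ⟶ U} (sq : IsPullback ((yon S).map t) ((yon S).map s) p p) [Flat s.left]
    [LocallyOfFinitePresentation s.left] [LocallyQuasiFinite s.left] : IsAlgSpace F := by
  have hr : Representable p := representable_of_kernelPair sq
  have := isLocalAtTarget_fppf (@Flat : MorphismProperty Scheme.{u})
  have := isLocalAtTarget_fppf (@LocallyOfFinitePresentation : MorphismProperty Scheme.{u})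
  have := isLocalAtTarget_fppf (@LocallyQuasiFinite : MorphismProperty Scheme.{u})
  have := isLocalAtTarget_fppf (@Surjective : MorphismProperty Scheme.{u})
  have hss : Surjective s.left := ⟨fun x => by
    obtain ⟨e, -, he⟩ := exists_rel_lift sq (𝟙 U) (𝟙 U) rfl
    exact ⟨e.left x, by rw [← Scheme.Hom.comp_apply, ← Over.comp_left, he, Over.id_left]; rfl⟩⟩
  have hf := repWith_of_locallySurjective hr _ sq @Flat ((repWith_yon_map_iff _ _).2 ‹Flat s.left›)
  have hl := repWith_of_locallySurjective hr _ sq @LocallyOfFinitePresentation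
    ((repWith_yon_map_iff _ _).2 ‹LocallyOfFinitePresentation s.left›)
  have hq := repWith_of_locallySurjective hr _ sq @LocallyQuasiFinite
    ((repWith_yon_map_iff _ _).2 ‹LocallyQuasiFinite s.left›)
  have hs := repWith_of_locallySurjective hr _ sq @Surjective ((repWith_yon_map_iff _ _).2 hss)
  have hd : Representable (Limits.diag F) := representable_diag_of_fppf_space_cover (IsAlgSpace.yon_obj U)
    (repBySpWith_flat_lfp_of_repWith hs hf hl)
  have key : ∀ v : U.left, ∃ (W : Over S) (m : (yon S).obj W ⟶ F), RepWith @Etale m ∧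
      ∃ (X : Over S) (x : X ⟶ U) (w : X ⟶ W) (ξ : X.left),
        (yon S).map x ≫ p = (yon S).map w ≫ m ∧ x.left ξ = v := by
    intro v
    obtain ⟨_, ⟨U₀, hU₀, rfl⟩, hv, -⟩ := U.left.isBasis_affineOpens.exists_subset_of_mem_open
      (Set.mem_univ v) isOpen_univ
    let ι := openOverι U U₀
    have : IsAffine (openOver U U₀).left := hU₀
    have hι : IsOpenImmersion ι.left := inferInstanceAs (IsOpenImmersion (Scheme.Opens.ι U₀))
    obtain ⟨W, m, hm, X, x, w, ξ, h1, h2⟩ := exists_etale_chart_at hd (p := (yon S).map ι ≫ p)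
      (MorphismProperty.comp_mem _ _ _ (representable_yon_map ι) hr)
      (repWith_comp ((repWith_yon_map_iff _ _).2 (inferInstanceAs (Flat (Scheme.Opens.ι U₀)))) hf)
      (repWith_comp ((repWith_yon_map_iff _ _).2 (inferInstanceAs (LocallyOfFinitePresentation (Scheme.Opens.ι U₀)))) hl)
      (repWith_comp ((repWith_yon_map_iff _ _).2 (inferInstanceAs (LocallyQuasiFinite (Scheme.Opens.ι U₀)))) hq) ⟨v, hv⟩
    refine ⟨W, m, hm, X, x ≫ ι, w, ξ, by rw [Functor.map_comp, Category.assoc, h1], ?_⟩
    rw [Over.comp_left, Scheme.Hom.comp_apply, h2]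
    rfl
  choose W m hm X x w ξ hw hξ using key
  obtain ⟨M, hM⟩ := exists_hom_sigma W m
  have hMr : Representable M := Functor.relativelyRepresentable.of_diag hd _
  refine ⟨hd, sigmaOver W, M, repWith_etale_sigma hMr (fun i => by rw [hM]; exact hm i),
    ⟨hMr, fun T P g fst snd sqg => ⟨fun τ => ?_⟩⟩⟩
  obtain ⟨fst, rfl⟩ := (yon S).map_surjective fst
  obtain ⟨T', k, y, hk, hy⟩ := exists_fppf_lift_of_locallySurjective p g
  obtain ⟨y, rfl⟩ := (yon S).map_surjective y
  have : Surjective k.left := hk.1.1
  obtain ⟨τ', rfl⟩ := k.left.surjective τ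
  let v := y.left τ'
  obtain ⟨ζ, -, hζ⟩ : ∃ ζ : (pullback (x v) y).left, (pullback.fst (x v) y).left ζ = ξ v ∧
      (pullback.snd (x v) y).left ζ = τ' := Scheme.exists_preimage_of_isPullback
    ((IsPullback.of_hasPullback (x v) y).map (Over.forget S)) (ξ v) τ' (hξ v)
  let a := pullback.fst (x v) y ≫ w v ≫ sigmaι W v
  let b := pullback.snd (x v) y ≫ k
  have hab : (yon S).map a ≫ M = (yon S).map b ≫ g := by
    simp only [a, b, Functor.map_comp, Category.assoc]
    rw [hM, ← hw, ← Functor.map_comp_assoc, pullback.condition, Functor.map_comp, Category.assoc, hy]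
  obtain ⟨l, hl'⟩ := (yon S).map_surjective (sqg.lift _ _ hab)
  have hls : l ≫ snd = b := (yon S).map_injective (by rw [Functor.map_comp, hl', sqg.lift_snd])
  refine ⟨l.left ζ, ?_⟩
  show snd.left (l.left ζ) = k.left τ'
  rw [← Scheme.Hom.comp_apply, ← Over.comp_left, hls, Over.comp_left, Scheme.Hom.comp_apply, hζ]

/-- The target of a locally surjective map from a scheme with flat lfp kernel pair is an algebraic space. -/
theorem isAlgSpace_of_flat_kernelPair {U R : Over S} {p : (yon S).obj U ⟶ F} [Sheaf.IsLocallySurjective p]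
    {t s : R ⟶ U} (sq : IsPullback ((yon S).map t) ((yon S).map s) p p) [Flat s.left] [Flat t.left]
    [LocallyOfFinitePresentation s.left] [LocallyOfFinitePresentation t.left] : IsAlgSpace F := by
  obtain ⟨U', R', g, t', s', r, -, -, sq', hls, h1, h2, h3, -, -, -⟩ := Slice.exists_lqf_slice sq
  exact isAlgSpace_of_lqf_kernelPair sq'

/-- The quotient of a flat lfp equivalence relation is an algebraic space. -/
theorem isAlgSpace_quot {U R : Over S} {s t : R ⟶ U} (h : IsEqvRel s t) [Flat s.left] [Flat t.left]
    [LocallyOfFinitePresentation s.left] [LocallyOfFinitePresentation t.left] :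
    IsAlgSpace (QuotSh.quot Scheme.fppfPrecoverage s t) := by
  have : Sheaf.IsLocallySurjective (quotMap s t) := by
    have : Epi (QuotSh.quotπ Scheme.fppfPrecoverage s t) := by
      unfold QuotSh.quotπ
      infer_instance
    exact (CategoryTheory.Sheaf.isLocallySurjective_iff_epi (quotMap s t)).2 (epi_comp _ _)
  exact isAlgSpace_of_flat_kernelPair (isPullback_quotMap h)

end Groth.Agent.AlgSpDec
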