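import Mathlib.AlgebraicGeometry.Morphisms.Affine
import Mathlib.AlgebraicGeometry.Morphisms.Finite
import Mathlib.AlgebraicGeometry.Morphisms.Integral
import Groth.Agent.AlgSpDec.OpenGlue

/-!
# Morphisms representable by affine schemes over affine schemes are representable
-/

set_option backward.isDefEq.respectTransparency false
set_option backward.isDefEq.respectTransparency.types false

universe u

open CategoryTheory Limits Opposite AlgebraicGeometry AlgSp Groth.Agent.AlgSpLib Groth.Agent.AlgSpPts

namespace Groth.Agent.AlgSpDec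

variable {S : Scheme.{u}} {F G : Sp S} {f : F ⟶ G}

theorem exists_open_piece (hf : IsAffineMor f) {T : Over S} (g : (yon S).obj T ⟶ G) {U : T.left.Opens}
    (hU : IsAffineOpen U) :
    ∃ (W : Over S) (j : (yon S).obj W ⟶ pullback f g), RepWith @IsOpenImmersion j ∧
      ∀ (x : Points (pullback f g)) (t : ↥U),
        Points.map (pullback.snd f g) x = Points.ofScheme T (U.ι t) → ∃ v, Points.ofPt j v = x := by
  let TU : Over S := Over.mk (U.ι ≫ T.hom)
  let inc : TU ⟶ T := CategoryTheory.Over.homMk U.ι rfl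
  obtain ⟨W, i, fst, sq, -⟩ := hf (Z := TU) hU ((yon S).map inc ≫ g)
  let j : (yon S).obj W ⟶ pullback f g :=
    pullback.lift fst ((yon S).map (i ≫ inc)) (by rw [sq.w, Functor.map_comp, Category.assoc])
  have sqj : IsPullback j ((yon S).map i) (pullback.snd f g) ((yon S).map inc) := by
    refine IsPullback.of_right ?_ ((pullback.lift_snd _ _ _).trans ((yon S).map_comp i inc))
      (IsPullback.of_hasPullback f g)
    rw [pullback.lift_fst]
    exact sq
  refine ⟨W, j, repWith_of_isPullback sqj.flip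
    ((repWith_yon_map_iff _ _).2 (inferInstanceAs (IsOpenImmersion U.ι))), fun x t ht => ?_⟩
  obtain ⟨z, hz, -⟩ := exists_point_of_isPullback sqj (x := x) (y := Points.ofScheme TU t)
    (ht.trans (Points.map_yon_map_apply inc _).symm)
  obtain ⟨v, rfl⟩ := (Points.schemeHomeo _).surjective z
  exact ⟨v, (Points.ofPt_eq_map_ofScheme _ v).trans hz⟩

/-- An affine morphism is representable. -/
theorem representable_of_isAffineMor (hf : IsAffineMor f) : Representable f := by
  intro T g
  choose W j hj hv using fun U : T.left.affineOpens => exists_open_piece hf g U.2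
  have hc : ∀ x, ∃ U v, Points.ofPt (j U) v = x := fun x => by
    obtain ⟨t, ht⟩ := (Points.schemeHomeo T).surjective (Points.map (pullback.snd f g) x)
    obtain ⟨V, hV, htV, -⟩ := exists_isAffineOpen_mem_and_subset (U := (⊤ : T.left.Opens)) (x := t) trivial
    exact ⟨⟨V, hV⟩, hv ⟨V, hV⟩ x ⟨t, htV⟩ ht.symm⟩
  obtain ⟨Q, ⟨e⟩, -⟩ := exists_iso_of_open_cover W j hj hc
  obtain ⟨s, hs⟩ := (yon S).map_surjective (e.hom ≫ pullback.snd f g)
  refine ⟨Q, s, e.hom ≫ pullback.fst f g, ?_⟩
  rw [hs]
  exact (IsPullback.of_hasPullback f g).of_iso e.symm (Iso.refl _) (Iso.refl _) (Iso.refl _)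
    (by simp) (by simp) (by simp) (by simp)

/-- A property local on the target is tested on affine schemes over the target. -/
theorem repWith_of_affine_test {P : MorphismProperty Scheme.{u}} [IsZariskiLocalAtTarget P]
    (hf : ∀ ⦃Z : Over S⦄, IsAffine Z.left → ∀ g : (yon S).obj Z ⟶ G,
      ∃ (W : Over S) (i : W ⟶ Z) (fst : (yon S).obj W ⟶ F),
        IsPullback fst ((yon S).map i) f g ∧ IsAffine W.left ∧ P i.left) : RepWith P f := by
  refine ⟨representable_of_isAffineMor fun Z hZ g => ?_, fun T W g fst snd sq => ?_⟩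
  · obtain ⟨W, i, fst, sq, hW, -⟩ := hf hZ g
    exact ⟨W, i, fst, sq, hW⟩
  change P snd.left
  rw [IsZariskiLocalAtTarget.iff_of_iSup_eq_top (P := P) (fun U : T.left.affineOpens => U.1)
    (iSup_affineOpens_eq_top _)]
  intro U
  let TU : Over S := Over.mk (U.1.ι ≫ T.hom)
  let inc : TU ⟶ T := CategoryTheory.Over.homMk U.1.ι rfl
  let WU : Over S := Over.mk ((snd.left ⁻¹ᵁ U.1).ι ≫ W.hom)
  let r : WU ⟶ TU := CategoryTheory.Over.homMk (snd.left ∣_ U.1) (by
    change _ ≫ U.1.ι ≫ T.hom = _ ≫ W.hom
    rw [← Category.assoc, (isPullback_morphismRestrict snd.left U.1).w, Category.assoc, Over.w snd])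
  let k : WU ⟶ W := CategoryTheory.Over.homMk (snd.left ⁻¹ᵁ U.1).ι rfl
  have hw : k ≫ snd = r ≫ inc := Over.OverMorphism.ext (isPullback_morphismRestrict snd.left U.1).w.symm
  have sqk : IsPullback k r snd inc :=
    IsPullback.of_map (Over.forget S) hw (isPullback_morphismRestrict snd.left U.1).flip
  have sq₁ : IsPullback ((yon S).map k ≫ fst) ((yon S).map r) f ((yon S).map inc ≫ g) :=
    (sqk.map (yon S)).paste_horiz sq
  obtain ⟨W', i, fst', sq₂, -, hi⟩ := hf (Z := TU) U.2 ((yon S).map inc ≫ g)
  let e := sq₁.isoIsPullback _ _ sq₂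
  let e' : WU ≅ W' := (yon S).preimageIso e
  have he : e'.hom ≫ i = r := (yon S).map_injective (by
    rw [Functor.map_comp]
    simp only [e', Functor.preimageIso_hom, Functor.map_preimage]
    exact sq₁.isoIsPullback_hom_snd _ _ sq₂)
  change P r.left
  rw [← he, Over.comp_left]
  exact (P.cancel_left_of_respectsIso e'.hom.left i.left).2 hi

theorem repWith_isAffineHom_of_isAffineMor (hf : IsAffineMor f) : RepWith @IsAffineHom f :=
  repWith_of_affine_test fun Z hZ g => by
    obtain ⟨W, i, fst, sq, hW⟩ := hf hZ g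
    have : IsAffine Z.left := hZ
    exact ⟨W, i, fst, sq, hW, inferInstance⟩

/-- Conversely, a representable morphism with an affine property passes the affine test. -/
theorem affine_test_of_repWith {P : MorphismProperty Scheme.{u}} (hP : P ≤ @IsAffineHom) (hf : RepWith P f)
    ⦃Z : Over S⦄ (hZ : IsAffine Z.left) (g : (yon S).obj Z ⟶ G) :
    ∃ (W : Over S) (i : W ⟶ Z) (fst : (yon S).obj W ⟶ F),
      IsPullback fst ((yon S).map i) f g ∧ IsAffine W.left ∧ P i.left := by
  have : IsAffineHom (hf.rep.snd g).left := hP _ (hf.property_snd g)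
  exact ⟨_, _, _, hf.rep.isPullback g, isAffine_of_isAffineHom (hf.rep.snd g).left, hf.property_snd g⟩

theorem isAffineMor_of_repWith {P : MorphismProperty Scheme.{u}} (hP : P ≤ @IsAffineHom) (hf : RepWith P f) :
    IsAffineMor f := fun Z hZ g => by
  obtain ⟨W, i, fst, sq, hW, -⟩ := affine_test_of_repWith hP hf hZ g
  exact ⟨W, i, fst, sq, hW⟩

theorem isIntegralMor_iff_repWith : IsIntegralMor f ↔ RepWith @IsIntegralHom f :=
  ⟨fun h => repWith_of_affine_test h,
    fun h _ hZ g => affine_test_of_repWith (fun _ _ e (_ : IsIntegralHom e) => inferInstanceAs (IsAffineHom e)) h hZ g⟩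

theorem isFiniteMor_iff_repWith : IsFiniteMor f ↔ RepWith @IsFinite f :=
  ⟨fun h => repWith_of_affine_test h,
    fun h _ hZ g => affine_test_of_repWith (fun _ _ e (_ : IsFinite e) => inferInstanceAs (IsAffineHom e)) h hZ g⟩

end Groth.Agent.AlgSpDec
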