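import Mathlib.AlgebraicGeometry.Morphisms.Proper
import Groth.Agent.AlgSpDec.AffineRep
import Groth.Agent.AlgSpLib.EtLocalInst
import Groth.Agent.AlgSpPts.Misc
import Groth.Agent.AlgSpPts.Univ

/-!
# Affine, integral and finite morphisms
-/

set_option backward.isDefEq.respectTransparency false
set_option backward.isDefEq.respectTransparency.types false

universe u

open CategoryTheory Limits Opposite AlgebraicGeometry AlgSp Groth.Agent.AlgSpLib Groth.Agent.AlgSpPts

namespace Groth.Agent.AlgSpDec

variable {S : Scheme.{u}} {F G H : Sp S} {f : F ⟶ G}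

theorem repWith_integral_of_finite (h : RepWith @IsFinite f) : RepWith @IsIntegralHom f :=
  repWith_mono (fun _ _ e (_ : IsFinite e) => inferInstanceAs (IsIntegralHom e)) _ h

theorem isUnivClosedMor_of_repWith_universallyClosed (h : RepWith @UniversallyClosed f) : IsUnivClosedMor f :=
  univSp_of_repWith (fun _ _ _ h => AlgSpPts.isClosedMap_map h) h

theorem repWith_universallyClosed_of_univClosed (hr : Representable f) (h : IsUnivClosedMor f) :
    RepWith @UniversallyClosed f := by
  have hu : RepWith (topologically @IsClosedMap).universally f :=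
    repWith_universally_of_univSp (Q := IsClosedMor) (fun V U g hg => by
      change IsClosedMap g.left
      rw [left_eq_conj]
      exact (Points.schemeHomeo U).symm.isClosedMap.comp (hg.comp (Points.schemeHomeo V).isClosedMap)) hr h
  exact ⟨hr, fun _ _ g fst snd sq => ⟨hu.2 g fst snd sq⟩⟩

theorem isIntegralMor_iff_affine_univClosed :
    IsIntegralMor f ↔ IsAffineMor f ∧ IsUnivClosedMor f := by
  rw [isIntegralMor_iff_repWith]
  constructor
  · exact fun h => ⟨isAffineMor_of_repWith (fun _ _ e (_ : IsIntegralHom e) => inferInstanceAs (IsAffineHom e)) h,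
      isUnivClosedMor_of_repWith_universallyClosed
        (repWith_mono (fun _ _ e (_ : IsIntegralHom e) => inferInstanceAs (UniversallyClosed e)) _ h)⟩
  · rintro ⟨ha, hu⟩
    have ha' := repWith_isAffineHom_of_isAffineMor ha
    have hu' := repWith_universallyClosed_of_univClosed ha'.rep hu
    exact ⟨ha'.rep, fun _ _ g fst snd sq =>
      IsIntegralHom.iff_universallyClosed_and_isAffineHom.2 ⟨hu'.2 g fst snd sq, ha'.2 g fst snd sq⟩⟩

theorem isFiniteMor_of_integral (hG : IsAlgSpace G) (h : IsIntegralMor f) (hl : LocP @LocallyOfFiniteType f) :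
    IsFiniteMor f := by
  rw [isFiniteMor_iff_repWith]
  have h' := isIntegralMor_iff_repWith.1 h
  have hl' := repWith_of_locP hG h'.rep hl
  refine ⟨h'.rep, fun _ _ g fst snd sq => ?_⟩
  exact (IsFinite.iff_isIntegralHom_and_locallyOfFiniteType _).2 ⟨h'.2 g fst snd sq, hl'.2 g fst snd sq⟩

theorem isFiniteMor_iff_affine_proper (hG : IsAlgSpace G) :
    IsFiniteMor f ↔ IsAffineMor f ∧ IsProperMor f := by
  constructor
  · intro h
    have h' := isFiniteMor_iff_repWith.1 h
    refine ⟨isAffineMor_of_repWith (fun _ _ e (_ : IsFinite e) => inferInstanceAs (IsAffineHom e)) h', ?_, ⟨?_, ?_⟩, ?_⟩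
    · exact repWith_diagonal h' fun e (_ : IsFinite e) => inferInstanceAs (IsClosedImmersion (pullback.diagonal e))
    · exact locP_of_repWith
        (repWith_mono (fun _ _ e (_ : IsFinite e) => inferInstanceAs (LocallyOfFiniteType e)) _ h')
    · exact isQuasiCompactMor_of_repWith
        (repWith_mono (fun _ _ e (_ : IsFinite e) => inferInstanceAs (QuasiCompact e)) _ h')
    · exact isUnivClosedMor_of_repWith_universallyClosed
        (repWith_mono (fun _ _ e (_ : IsFinite e) => inferInstanceAs (UniversallyClosed e)) _ h')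
  · rintro ⟨ha, -, ⟨hl, -⟩, hu⟩
    exact isFiniteMor_of_integral hG (isIntegralMor_iff_affine_univClosed.2 ⟨ha, hu⟩) hl

/-- Cancellation through a morphism whose diagonal has the property. -/
theorem repWith_of_postcomp {P : MorphismProperty Scheme.{u}} [P.IsStableUnderComposition]
    [P.IsStableUnderBaseChange] {g : G ⟶ H} (hd : RepWith P (pullback.diagonal g)) (h : RepWith P (f ≫ g)) :
    RepWith P f := by
  have h1 := repWith_comp (graph_property (f := f) hd)
    (repWith_of_isPullback (IsPullback.of_hasPullback (f ≫ g) g) h)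
  rwa [pullback.lift_snd] at h1

end Groth.Agent.AlgSpDec
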