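import Groth.Agent.AlgSpDec.AffineLocal
import Groth.Agent.AlgSpDec.AffineProps
import Groth.Agent.AlgSpPts.Misc

/-!
# Affineness is checked on affine schemes etale over the target
-/

set_option backward.isDefEq.respectTransparency false
set_option backward.isDefEq.respectTransparency.types false

universe u

open CategoryTheory Limits Opposite AlgebraicGeometry AlgSp Groth.Agent.AlgSpLib

namespace Groth.Agent.AlgSpDec

variable {S : Scheme.{u}} {F G : Sp S} {f : F ⟶ G}

theorem etale_sigma_desc {ι : Type u} {X : Scheme.{u}} (U : ι → X.Opens) :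
    Etale (Sigma.desc fun i => (U i).ι : (∐ fun i => (U i).toScheme) ⟶ X) := by
  refine IsZariskiLocalAtSource.of_openCover (sigmaOpenCover _) fun i => ?_
  change Etale (Sigma.ι (fun i => (U i).toScheme) i ≫ Sigma.desc fun i => (U i).ι)
  rw [Sigma.ι_desc]
  infer_instance

/-- An affine scheme over the target has an affine etale covering through an affine scheme etale over the target. -/
theorem exists_affine_chart_lift {Z V : Over S} [IsAffine Z.left] {p : (yon S).obj V ⟶ G}
    (hp : RepWith @Etale p) (hps : RepWith @Surjective p) (g : (yon S).obj Z ⟶ G) :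
    ∃ (V' : Over S) (b : (yon S).obj V' ⟶ G) (Z' : Over S) (π : Z' ⟶ Z) (v : Z' ⟶ V'),
      IsAffine V'.left ∧ RepWith @Etale b ∧ IsAffine Z'.left ∧ Etale π.left ∧ Surjective π.left ∧
      (yon S).map π ≫ g = (yon S).map v ≫ b := by
  have : Etale (hp.rep.snd g).left := hp.property_snd g
  have : Surjective (hp.rep.snd g).left := hps.2 g _ _ (hp.rep.isPullback g)
  let X := hp.rep.pullback g
  let e := (hp.rep.snd g).left
  let q := (hp.rep.fst' g).left
  have hopen : IsOpenMap e := e.isOpenMap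
  obtain ⟨t, ht⟩ := isCompact_univ.elim_finite_subcover
    (fun k : {k : X.left.affineOpens × V.left.affineOpens // k.1.1 ≤ q ⁻¹ᵁ k.2.1} => e '' (k.1.1.1 : Set ↥X.left))
    (fun k => hopen _ k.1.1.1.2) (fun y _ => by
      obtain ⟨x, rfl⟩ := e.surjective y
      obtain ⟨W, hW, hxW, -⟩ := exists_isAffineOpen_mem_and_subset (U := (⊤ : V.left.Opens)) (x := q x) trivial
      obtain ⟨U, hU, hxU, hUW⟩ := exists_isAffineOpen_mem_and_subset (U := q ⁻¹ᵁ W) (x := x) hxW
      exact Set.mem_iUnion.2 ⟨⟨(⟨U, hU⟩, ⟨W, hW⟩), hUW⟩, x, hxU, rfl⟩)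
  let U : ↥t → X.left.Opens := fun k => k.1.1.1.1
  let W : ↥t → V.left.Opens := fun k => k.1.1.2.1
  have : ∀ k, IsAffine (U k).toScheme := fun k => k.1.1.1.2
  have : ∀ k, IsAffine (W k).toScheme := fun k => k.1.1.2.2
  let jU : (∐ fun k => (U k).toScheme) ⟶ X.left := Sigma.desc fun k => (U k).ι
  let jW : (∐ fun k => (W k).toScheme) ⟶ V.left := Sigma.desc fun k => (W k).ι
  have : Etale jU := etale_sigma_desc U
  have : Etale jW := etale_sigma_desc W
  let jv : (∐ fun k => (U k).toScheme) ⟶ (∐ fun k => (W k).toScheme) :=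
    Sigma.desc fun k => q.resLE (W k) (U k) k.1.2 ≫ Sigma.ι (fun k => (W k).toScheme) k
  have hjv : jv ≫ jW = jU ≫ q := Sigma.hom_ext _ _ fun k => by
    simp only [jv, jW, jU, Sigma.ι_desc_assoc, Category.assoc, Sigma.ι_desc, Scheme.Hom.resLE_comp_ι]
  let V' : Over S := Over.mk (jW ≫ V.hom)
  let Z' : Over S := Over.mk (jU ≫ X.hom)
  let j' : Z' ⟶ X := CategoryTheory.Over.homMk jU rfl
  let w : V' ⟶ V := CategoryTheory.Over.homMk jW rfl
  let v : Z' ⟶ V' := CategoryTheory.Over.homMk jv (by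
    change jv ≫ jW ≫ V.hom = jU ≫ X.hom
    rw [reassoc_of% hjv, Over.w (hp.rep.fst' g)])
  have hv : v ≫ w = j' ≫ hp.rep.fst' g := Over.OverMorphism.ext hjv
  refine ⟨V', (yon S).map w ≫ p, Z', j' ≫ hp.rep.snd g, v, inferInstanceAs (IsAffine (∐ fun k => (W k).toScheme)),
    repWith_comp ((repWith_yon_map_iff _ _).2 (inferInstanceAs (Etale jW))) hp,
    inferInstanceAs (IsAffine (∐ fun k => (U k).toScheme)), inferInstanceAs (Etale (jU ≫ e)), ⟨fun z => ?_⟩, ?_⟩
  · obtain ⟨k, hk, x, hx, hxz⟩ := Set.mem_iUnion₂.1 (ht (Set.mem_univ z))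
    refine ⟨Sigma.ι (fun k => (U k).toScheme) ⟨k, hk⟩ ⟨x, hx⟩, ?_⟩
    change (jU ≫ e) _ = z
    rw [← Scheme.Hom.comp_apply, ← Category.assoc, Sigma.ι_desc]
    exact hxz
  · rw [← Functor.map_comp_assoc, hv, Functor.map_comp, Functor.map_comp, Category.assoc, Category.assoc,
      (hp.rep.isPullback' g).w]

theorem isAffineMor_of_affine_etale (hG : IsAlgSpace G)
    (h : ∀ (V : Over S), IsAffine V.left → ∀ (b : (yon S).obj V ⟶ G), RepWith @Etale b →
      ∀ (P : Sp S) (fst : P ⟶ F) (snd : P ⟶ (yon S).obj V), IsPullback fst snd f b →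
      ∃ (W : Over S), IsAffine W.left ∧ Nonempty ((yon S).obj W ≅ P)) :
    IsAffineMor f := fun Z hZ g => by
  have := EtFound.fpqc_isAffineHom.{u}
  have : IsAffine Z.left := hZ
  obtain ⟨V, p, hp, hps⟩ := hG.atlas
  obtain ⟨V', b, Z', π, v, hV', hb, hZ', _, _, hπ⟩ := exists_affine_chart_lift hp hps g
  obtain ⟨W, hW, ⟨e⟩⟩ := h V' hV' b hb _ _ _ (IsPullback.of_hasPullback f b)
  obtain ⟨i, hi⟩ := (yon S).map_surjective (e.hom ≫ pullback.snd f b)
  have sq : IsPullback (e.hom ≫ pullback.fst f b) ((yon S).map i) f b := by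
    rw [hi]
    exact (IsPullback.of_hasPullback f b).of_iso e.symm (Iso.refl _) (Iso.refl _) (Iso.refl _)
      (by simp) (by simp) (by simp) (by simp)
  let P := Over.mk (pullback.fst i.left v.left ≫ W.hom)
  let p₁ : P ⟶ W := CategoryTheory.Over.homMk (pullback.fst i.left v.left) rfl
  let p₂ : P ⟶ Z' := CategoryTheory.Over.homMk (pullback.snd i.left v.left) (by
    change _ ≫ Z'.hom = pullback.fst i.left v.left ≫ W.hom
    rw [← Over.w v, ← Over.w i, pullback.condition_assoc])
  have sq₂ : IsPullback p₁ p₂ i v :=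
    IsPullback.of_map (Over.forget S) (Over.OverMorphism.ext pullback.condition) (IsPullback.of_hasPullback i.left v.left)
  have : IsAffine P.left := inferInstanceAs (IsAffine (pullback i.left v.left))
  obtain ⟨W₀, i₀, fst₀, sq₀, hW₀, -⟩ := exists_affine_of_cover (P := @IsAffineHom) π g
    (sq := by rw [hπ]; exact (sq₂.map (yon S)).paste_horiz sq)
    (show IsAffineHom p₂.left from inferInstance)
  exact ⟨W₀, i₀, fst₀, sq₀, hW₀⟩

end Groth.Agent.AlgSpDec
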