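import Groth.Agent.AlgSpDec.QsDense
import Groth.Agent.AlgSpDec.AffineCheck
import Mathlib.AlgebraicGeometry.ZariskisMainTheorem

/-!
Morphisms from Artinian affine schemes to quasi-separated spaces are affine.
-/

set_option backward.isDefEq.respectTransparency false
set_option backward.isDefEq.respectTransparency.types false

universe u

open CategoryTheory CategoryTheory.Limits AlgebraicGeometry AlgSp Groth.Agent.AlgSpLib Groth.Agent.AlgSpPts

namespace Groth.Agent.AlgSpDec

variable {S : Scheme.{u}}

theorem quasiCompact_fibreProd [QuasiSeparatedSpace ↥S] {X : Sp S} (hX : IsQuasiSeparatedSp X) {U V R : Over S}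
    [CompactSpace ↥U.left] [CompactSpace ↥V.left] {a : (yon S).obj U ⟶ X} {b : (yon S).obj V ⟶ X}
    {t : R ⟶ V} {s : R ⟶ U} (h : IsPullback ((yon S).map t) ((yon S).map s) b a) : QuasiCompact s.left := by
  haveI : QuasiSeparated (terminal.from S) := (quasiSeparatedSpace_iff_quasiSeparated _).1 inferInstance
  haveI : QuasiCompact (V.hom ≫ terminal.from S) := by
    rw [terminal.comp_from]; exact (compactSpace_iff_quasiCompact _).1 inferInstance
  haveI : QuasiCompact V.hom := QuasiCompact.of_comp V.hom (terminal.from S)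
  have sqU := IsPullback.of_hasPullback V.hom U.hom
  let P : Over S := Over.mk (pullback.fst V.hom U.hom ≫ V.hom)
  let p₁ : P ⟶ V := Over.homMk (pullback.fst V.hom U.hom) rfl
  let p₂ : P ⟶ U := Over.homMk (pullback.snd V.hom U.hom) pullback.condition.symm
  let eV : V ⟶ Over.mk (𝟙 S) := Over.homMk V.hom (Category.comp_id _)
  let eU : U ⟶ Over.mk (𝟙 S) := Over.homMk U.hom (Category.comp_id _)
  have sqP : IsPullback p₁ p₂ eV eU :=
    IsPullback.of_map (Over.forget S) (Over.OverMorphism.ext pullback.condition) sqU
  let m : R ⟶ P := Over.homMk (pullback.lift t.left s.left ((Over.w t).trans (Over.w s).symm))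
    (by show pullback.lift _ _ _ ≫ pullback.fst V.hom U.hom ≫ V.hom = R.hom; rw [pullback.lift_fst_assoc]; exact Over.w _)
  have sq := isPullback_diag h ((yon S).map p₁) ((yon S).map p₂)
    (fun c d h1 h2 => (sqP.map (yon S)).hom_ext h1 h2) ((yon S).map m)
    (by rw [← Functor.map_comp]; exact congrArg (yon S).map (Over.OverMorphism.ext (pullback.lift_fst _ _ _)))
    (by rw [← Functor.map_comp]; exact congrArg (yon S).map (Over.OverMorphism.ext (pullback.lift_snd _ _ _)))
  haveI : QuasiCompact m.left := hX.property _ _ _ sq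
  rw [← pullback.lift_snd (f := V.hom) (g := U.hom) t.left s.left ((Over.w t).trans (Over.w s).symm)]
  exact inferInstanceAs (QuasiCompact (m.left ≫ pullback.snd V.hom U.hom))

theorem isAffineMor_from_artinian [QuasiSeparatedSpace ↥S] {X : Sp S} (hA : IsAlgSpace X)
    (hX : IsQuasiSeparatedSp X) {U : Over S} [IsAffine U.left] [IsLocallyArtinian U.left]
    (a : (yon S).obj U ⟶ X) : IsAffineMor a :=
  isAffineMor_of_affine_etale hA fun V hV b hb P fst snd sq => by
    haveI : IsAffine V.left := hV
    have hp := hb.rep.isPullback' a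
    have : Etale (hb.rep.snd a).left := hb.property_snd a
    haveI : QuasiCompact (hb.rep.snd a).left := quasiCompact_fibreProd hX hp
    haveI : IsFinite (hb.rep.snd a).left := IsFinite.of_locallyQuasiFinite _
    exact ⟨hb.rep.pullback a, isAffine_of_isAffineHom (hb.rep.snd a).left,
      ⟨hp.flip.isoIsPullback _ _ sq⟩⟩

end Groth.Agent.AlgSpDec
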