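import Groth.Agent.AlgSpDec.LimReduced
import Groth.Agent.AlgSpDec.ArtinAffine
import Groth.Agent.AlgSpLib.LocP
import Groth.Agent.AlgSpLib.EtLocalInst
import Groth.Agent.MorLib.Descend
import Groth.Prelude.Def_AlgSp4

/-!
# Descending properties of morphisms of spaces along limits: reduction to schemes
-/

set_option backward.isDefEq.respectTransparency false
set_option backward.isDefEq.respectTransparency.types false

universe u

open CategoryTheory Limits Opposite AlgebraicGeometry AlgSp Groth.Agent.AlgSpLib Groth.Agent.AlgSpPts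
open Groth.Agent.MorLib

namespace Groth.Agent.AlgSpDec

variable {S : Scheme.{u}}

/-- Charts of a base change. -/
theorem exists_baseChange_chart {X₀ Y₀ B T X Y : Sp S} {f₀ : X₀ ⟶ Y₀} {b₀ : Y₀ ⟶ B} {m : T ⟶ B} {f : X ⟶ Y}
    {pY : Y ⟶ Y₀} {qY : Y ⟶ T} (sqY : IsPullback pY qY b₀ m) {pX : X ⟶ X₀} (sqX : IsPullback pX f f₀ pY)
    {U V W : Over S} {v : (yon S).obj V ⟶ Y₀} {u₀ : (yon S).obj U ⟶ X₀} {h : U ⟶ V}
    (hh : u₀ ≫ f₀ = (yon S).map h ≫ v) {a : (yon S).obj W ⟶ T} {b : W ⟶ V}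
    (sqW : IsPullback a ((yon S).map b) m (v ≫ b₀)) :
    ∃ (U' : Over S) (p : U' ⟶ U) (h' : U' ⟶ W) (u₁ : (yon S).obj U' ⟶ X) (v₁ : (yon S).obj W ⟶ Y),
      IsPullback p.left h'.left h.left b.left ∧ IsPullback ((yon S).map p) ((yon S).map h') ((yon S).map h) ((yon S).map b) ∧
        IsPullback u₁ ((yon S).map p) pX u₀ ∧ IsPullback v₁ ((yon S).map b) pY v ∧
        u₁ ≫ f = (yon S).map h' ≫ v₁ := by
  let v₁ := sqY.lift ((yon S).map b ≫ v) a (by rw [Category.assoc]; exact sqW.w.symm)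
  have h₁ : v₁ ≫ pY = (yon S).map b ≫ v := sqY.lift_fst _ _ _
  have sv : IsPullback v₁ ((yon S).map b) pY v := by
    refine IsPullback.of_right ?_ h₁ sqY.flip
    rw [IsPullback.lift_snd]
    exact sqW
  let U' : Over S := Over.mk (pullback.fst h.left b.left ≫ U.hom)
  let p : U' ⟶ U := Over.homMk (pullback.fst h.left b.left) rfl
  let h' : U' ⟶ W := Over.homMk (pullback.snd h.left b.left) (by
    change _ ≫ W.hom = pullback.fst h.left b.left ≫ U.hom
    rw [← Over.w b, ← Over.w h, pullback.condition_assoc])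
  have sq' : IsPullback p.left h'.left h.left b.left := IsPullback.of_hasPullback h.left b.left
  have sqp : IsPullback ((yon S).map p) ((yon S).map h') ((yon S).map h) ((yon S).map b) :=
    (IsPullback.of_map (Over.forget S) (Over.OverMorphism.ext pullback.condition) sq' : IsPullback p h' h b).map _
  have outer : IsPullback ((yon S).map h' ≫ v₁) ((yon S).map p) pY (u₀ ≫ f₀) := hh ▸ sqp.flip.paste_horiz sv
  let u₁ := sqX.lift ((yon S).map p ≫ u₀) ((yon S).map h' ≫ v₁) (by rw [Category.assoc]; exact outer.w.symm)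
  have h₂ : u₁ ≫ f = (yon S).map h' ≫ v₁ := sqX.lift_snd _ _ _
  refine ⟨U', p, h', u₁, v₁, sq', sqp, IsPullback.of_right ?_ (sqX.lift_fst _ _ _) sqX.flip, sv, h₂⟩
  rw [h₂]
  exact outer

/-- The transferred property at the level of charts. -/
theorem exists_stage_scheme {P Q : MorphismProperty Scheme.{u}} [P.IsStableUnderBaseChange]
    [Q.IsStableUnderBaseChange] [IsZariskiLocalAtTarget P] (hcore : Desc.Core P Q)
    {J : Type u} [SmallCategory J] [IsCofiltered J] (W : J ⥤ Over S) (cW : Cone W) (hcW : IsLimit cW)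
    (hWA : ∀ j, IsAffine (W.obj j).left) (top : J) {U V : Over S} [CompactSpace ↥U.left]
    [QuasiSeparatedSpace ↥U.left] [IsAffine V.left] (h : U ⟶ V) (hQ : Q h.left)
    (b : ∀ j, W.obj j ⟶ V) (hb : ∀ {j k} (φ : j ⟶ k), W.map φ ≫ b k = b j)
    (hP : ∀ {P' : Scheme.{u}} (fst : P' ⟶ U.left) (snd : P' ⟶ cW.pt.left),
      IsPullback fst snd h.left (cW.π.app top ≫ b top).left → P snd) :
    ∃ j, ∀ {P' : Scheme.{u}} (fst : P' ⟶ U.left) (snd : P' ⟶ (W.obj j).left),
      IsPullback fst snd h.left (b j).left → P snd := by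
  have := IsCofiltered.isConnected J
  have hlim := isLimitOfPreserves (Over.forget S) hcW
  have : ∀ j, IsAffine ((W ⋙ Over.forget S).obj j) := hWA
  have : IsAffine (W.obj top).left := hWA top
  have : ∀ {j k : J} (f : j ⟶ k), IsAffineHom ((W ⋙ Over.forget S).map f) := fun f => inferInstance
  let f₁ : pullback h.left (b top).left ⟶ (W ⋙ Over.forget S).obj top := pullback.snd h.left (b top).left
  have : IsAffineHom (pullback.fst h.left (b top).left) :=
    MorphismProperty.pullback_fst _ _ (inferInstanceAs (IsAffineHom (b top).left))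
  have : CompactSpace ↥(pullback h.left (b top).left) :=
    QuasiCompact.compactSpace_of_compactSpace (pullback.fst h.left (b top).left)
  have : QuasiSeparatedSpace ↥(pullback h.left (b top).left) :=
    quasiSeparatedSpace_of_quasiSeparated (pullback.fst h.left (b top).left)
  have : CompactSpace ↥((W ⋙ Over.forget S).obj top) := inferInstanceAs (CompactSpace ↥(W.obj top).left)
  have : QuasiSeparatedSpace ↥((W ⋙ Over.forget S).obj top) :=
    inferInstanceAs (QuasiSeparatedSpace ↥(W.obj top).left)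
  have : QuasiCompact f₁ := (HasAffineProperty.iff_of_isAffine (P := @QuasiCompact) (f := f₁)).2 inferInstance
  have : QuasiSeparated f₁ := (HasAffineProperty.iff_of_isAffine (P := @QuasiSeparated) (f := f₁)).2 inferInstance
  have hP' : P (pullback.snd f₁ (((Over.forget S).mapCone cW).π.app top)) :=
    hP _ _ ((IsPullback.of_hasPullback f₁ (((Over.forget S).mapCone cW).π.app top)).paste_horiz
      (IsPullback.of_hasPullback h.left (b top).left))
  obtain ⟨j, φ, hj⟩ := Desc.descend (W ⋙ Over.forget S) ((Over.forget S).mapCone cW) hlim top hcore f₁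
    (MorphismProperty.pullback_snd _ _ hQ) hP'
  refine ⟨j, fun fst snd sq => Desc.of_two P (fst := pullback.fst f₁ ((W ⋙ Over.forget S).map φ) ≫
    pullback.fst h.left (b top).left) ?_ sq hj⟩
  rw [← hb φ]
  exact (IsPullback.of_hasPullback f₁ ((W ⋙ Over.forget S).map φ)).paste_horiz
    (IsPullback.of_hasPullback h.left (b top).left)

theorem exists_affine_atlas {X : Sp S} (hX : IsQuasiCompactSp X) :
    ∃ (U : Over S) (a : (yon S).obj U ⟶ X), IsAffine U.left ∧ RepWith @Etale a ∧ RepWith @Surjective a := by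
  obtain ⟨U, a, ha, has, hU⟩ := hX
  have : CompactSpace ↥U.left := hU
  obtain ⟨t, ht⟩ := isCompact_univ.elim_finite_subcover (fun V : U.left.affineOpens => (V.1 : Set ↥U.left))
    (fun V => V.1.2) (fun x _ => by
      obtain ⟨V, hV, hxV, -⟩ := exists_isAffineOpen_mem_and_subset (U := (⊤ : U.left.Opens)) (x := x) trivial
      exact Set.mem_iUnion.2 ⟨⟨V, hV⟩, hxV⟩)
  let V : ↥t → U.left.Opens := fun k => k.1.1
  have : ∀ k, IsAffine (V k).toScheme := fun k => k.1.2
  let jU : (∐ fun k => (V k).toScheme) ⟶ U.left := Sigma.desc fun k => (V k).ι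
  have : Etale jU := etale_sigma_desc V
  have : Surjective jU := ⟨fun x => by
    obtain ⟨k, hk, hx⟩ := Set.mem_iUnion₂.1 (ht (Set.mem_univ x))
    refine ⟨Sigma.ι (fun k => (V k).toScheme) ⟨k, hk⟩ ⟨x, hx⟩, ?_⟩
    rw [← Scheme.Hom.comp_apply, Sigma.ι_desc]
    rfl⟩
  let Z : Over S := Over.mk (jU ≫ U.hom)
  let z : Z ⟶ U := Over.homMk jU rfl
  exact ⟨Z, (yon S).map z ≫ a, inferInstanceAs (IsAffine (∐ fun k => (V k).toScheme)),
    repWith_comp ((repWith_yon_map_iff _ _).2 (inferInstanceAs (Etale jU))) ha,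
    repWith_comp ((repWith_yon_map_iff _ _).2 (inferInstanceAs (Surjective jU))) has⟩

/-- Charts: etale surjective maps with the source chart surjecting onto the fibre product. -/
def ChartRel {X Y : Sp S} (f : X ⟶ Y) {U V : Over S} (h : U ⟶ V) : Prop :=
  ∃ (u : (yon S).obj U ⟶ X) (v : (yon S).obj V ⟶ Y) (w : u ≫ f = (yon S).map h ≫ v),
    RepWith @Etale u ∧ RepWith @Surjective u ∧ RepWith @Etale v ∧ RepWith @Surjective v ∧
    Function.Surjective (Points.map (pullback.lift (f := f) (g := v) u ((yon S).map h) w))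

theorem chartRel_baseChange {X₀ Y₀ X Y : Sp S} {f₀ : X₀ ⟶ Y₀} {f : X ⟶ Y} {pX : X ⟶ X₀} {pY : Y ⟶ Y₀}
    (w : pX ≫ f₀ = f ≫ pY)
    {U V U' W : Over S} {p : U' ⟶ U} {h' : U' ⟶ W} {h : U ⟶ V} {b : W ⟶ V}
    {u₁ : (yon S).obj U' ⟶ X} {v₁ : (yon S).obj W ⟶ Y}
    {u₀ : (yon S).obj U ⟶ X₀} {v : (yon S).obj V ⟶ Y₀} (hh : u₀ ≫ f₀ = (yon S).map h ≫ v)
    (he : RepWith @Etale u₀) (hs : RepWith @Surjective u₀) (hve : RepWith @Etale v) (hvs : RepWith @Surjective v)
    (hpt : Function.Surjective (Points.map (pullback.lift (f := f₀) (g := v) u₀ ((yon S).map h) hh)))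
    (sp : IsPullback ((yon S).map p) ((yon S).map h') ((yon S).map h) ((yon S).map b))
    (su : IsPullback u₁ ((yon S).map p) pX u₀) (sv : IsPullback v₁ ((yon S).map b) pY v)
    (hw : u₁ ≫ f = (yon S).map h' ≫ v₁) : ChartRel f h' := by
  refine ⟨u₁, v₁, hw, repWith_of_isPullback su.flip he, repWith_of_isPullback su.flip hs,
    repWith_of_isPullback sv.flip hve, repWith_of_isPullback sv.flip hvs, fun q => ?_⟩
  let n : pullback f v₁ ⟶ pullback f₀ v :=
    pullback.lift (pullback.fst f v₁ ≫ pX) (pullback.snd f v₁ ≫ (yon S).map b) (by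
      rw [Category.assoc, w, pullback.condition_assoc, sv.w, Category.assoc])
  have outer : IsPullback (pullback.fst f v₁) (n ≫ pullback.snd f₀ v) (pX ≫ f₀) v := by
    rw [pullback.lift_snd, w]
    exact (IsPullback.of_hasPullback f v₁).paste_vert sv
  have s₁ : IsPullback (pullback.fst f v₁) n pX (pullback.fst f₀ v) :=
    IsPullback.of_bot outer (pullback.lift_fst _ _ _).symm (IsPullback.of_hasPullback f₀ v)
  let l := pullback.lift (f := f) (g := v₁) u₁ ((yon S).map h') hw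
  let l₀ := pullback.lift (f := f₀) (g := v) u₀ ((yon S).map h) hh
  have s₂ : IsPullback l ((yon S).map p) n l₀ := by
    refine IsPullback.of_right ?_ ?_ s₁
    · rw [pullback.lift_fst, pullback.lift_fst]
      exact su
    · ext
      · simp only [n, l, l₀, Category.assoc, pullback.lift_fst, pullback.lift_fst_assoc, su.w]
      · simp only [n, l, l₀, Category.assoc, pullback.lift_snd, pullback.lift_snd_assoc, sp.w]
  obtain ⟨z, hz⟩ := hpt (Points.map n q)
  obtain ⟨r, hr, -⟩ := exists_point_of_isPullback s₂ (x := q) (y := z) hz.symm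
  exact ⟨r, hr⟩

variable [QuasiSeparatedSpace ↥S]

/-- An affine chart downstairs and a quasi-compact quasi-separated chart upstairs. -/
theorem exists_qcqs_charts {X₀ Y₀ : Space S} (f₀ : X₀.obj ⟶ Y₀.obj) (hXqc : IsQuasiCompactSp X₀.obj)
    (hYqc : IsQuasiCompactSp Y₀.obj) (hYqs : IsQuasiSeparatedSp Y₀.obj) :
    ∃ (U V : Over S) (u₀ : (yon S).obj U ⟶ X₀.obj) (v : (yon S).obj V ⟶ Y₀.obj) (h : U ⟶ V),
      CompactSpace ↥U.left ∧ QuasiSeparatedSpace ↥U.left ∧ IsAffine V.left ∧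
      RepWith @Etale u₀ ∧ RepWith @Surjective u₀ ∧ RepWith @Etale v ∧ RepWith @Surjective v ∧
      ∃ w : u₀ ≫ f₀ = (yon S).map h ≫ v,
        Function.Surjective (Points.map (pullback.lift (f := f₀) (g := v) u₀ ((yon S).map h) w)) := by
  obtain ⟨V, v, hV, hv, hvs⟩ := exists_affine_atlas hYqc
  obtain ⟨U₀, a, hU₀, ha, has⟩ := exists_affine_atlas hXqc
  have : IsAffine V.left := hV
  have : IsAffine U₀.left := hU₀
  let t := hv.rep.snd (a ≫ f₀)
  let U := hv.rep.pullback (a ≫ f₀)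
  have sq := hv.rep.isPullback' (a ≫ f₀)
  have : Etale t.left := hv.property_snd _
  have : Surjective t.left := hvs.2 _ _ _ (hv.rep.isPullback (a ≫ f₀))
  have : QuasiCompact t.left := quasiCompact_fibreProd hYqs sq
  have : CompactSpace ↥U.left := QuasiCompact.compactSpace_of_compactSpace t.left
  have : IsSeparated (V.hom ≫ terminal.from S) := by rw [terminal.comp_from]; infer_instance
  have : IsSeparated V.hom := IsSeparated.of_comp V.hom (terminal.from S)
  have : IsSeparated t.left :=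
    (repWith_isSeparated_of_yon Y₀.property v this).2 (a ≫ f₀) _ _ (hv.rep.isPullback (a ≫ f₀))
  have : QuasiSeparatedSpace ↥U.left := quasiSeparatedSpace_of_quasiSeparated t.left
  refine ⟨U, V, (yon S).map t ≫ a, v, hv.rep.fst' (a ≫ f₀), inferInstance, inferInstance, hV,
    repWith_comp ((repWith_yon_map_iff _ _).2 (inferInstanceAs (Etale t.left))) ha,
    repWith_comp ((repWith_yon_map_iff _ _).2 (inferInstanceAs (Surjective t.left))) has, hv, hvs,
    by rw [Category.assoc]; exact sq.w.symm, fun q => ?_⟩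
  let n : pullback (a ≫ f₀) v ⟶ pullback f₀ v :=
    pullback.lift (pullback.fst _ _ ≫ a) (pullback.snd _ _) (by rw [Category.assoc]; exact pullback.condition)
  have sn : IsPullback (pullback.fst (a ≫ f₀) v) n a (pullback.fst f₀ v) := by
    refine IsPullback.of_bot ?_ (pullback.lift_fst _ _ _).symm (IsPullback.of_hasPullback f₀ v)
    rw [pullback.lift_snd]
    exact IsPullback.of_hasPullback (a ≫ f₀) v
  obtain ⟨x₀, hx₀⟩ := surjective_ofPt has (Points.map (pullback.fst f₀ v) q)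
  obtain ⟨z, -, hz⟩ := exists_point_of_isPullback sn (x := Points.ofScheme U₀ x₀) (y := q)
    (by rw [← hx₀, Points.ofPt_eq_map_ofScheme])
  let e := (hv.rep.isPullback' (a ≫ f₀)).flip.isoIsPullback _ _ (IsPullback.of_hasPullback (a ≫ f₀) v)
  refine ⟨Points.map e.inv z, ?_⟩
  rw [← hz, ← Points.map_comp]
  congr 1
  ext
  · simp [n, e, t]
  · simp [n, e]

section Main

variable {I : Type u} [SmallCategory I] [IsCofiltered I] (D : I ⥤ Sp S)
  (hDa : ∀ (i j : I) (φ : i ⟶ j), IsAffineMor (D.map φ)) (c : Cone D) (hc : IsLimit c) {i₀ : I}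
  {X₀ Y₀ : Space S} {f₀ : X₀.obj ⟶ Y₀.obj} {b₀ : Y₀.obj ⟶ D.obj i₀}
  (hXqc : IsQuasiCompactSp X₀.obj) (hYqc : IsQuasiCompactSp Y₀.obj) (hYqs : IsQuasiSeparatedSp Y₀.obj)
  {X Y : Sp S} {f : X ⟶ Y} {pY : Y ⟶ Y₀.obj} {qY : Y ⟶ c.pt}
  (hY : IsPullback pY qY b₀ (c.π.app i₀)) {pX : X ⟶ X₀.obj} (hX : IsPullback pX f f₀ pY)

include hDa hc hXqc hYqc hYqs hY hX in
/-- A property descends when it can be read off the charts. -/
theorem exists_stage_of_core {P Q : MorphismProperty Scheme.{u}} [P.IsStableUnderBaseChange]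
    [Q.IsStableUnderBaseChange] [IsZariskiLocalAtTarget P] (hcore : Desc.Core P Q)
    (hQ : ∀ ⦃U V : Over S⦄ (u : (yon S).obj U ⟶ X₀.obj) (v : (yon S).obj V ⟶ Y₀.obj) (h : U ⟶ V),
      RepWith @Etale u → RepWith @Etale v → u ≫ f₀ = (yon S).map h ≫ v → Q h.left)
    (hP : ∀ {U V : Over S} {h : U ⟶ V}, ChartRel f h → P h.left) :
    ∃ (i : I) (φ : i ⟶ i₀), ∀ (Xi Yi : Sp S) (fi : Xi ⟶ Yi) (pYi : Yi ⟶ Y₀.obj) (qYi : Yi ⟶ D.obj i)
      (_ : IsPullback pYi qYi b₀ (D.map φ)) (pXi : Xi ⟶ X₀.obj) (_ : IsPullback pXi fi f₀ pYi),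
      ∃ (U V : Over S) (h : U ⟶ V), ChartRel fi h ∧ P h.left := by
  obtain ⟨U, V, u₀, v, h, hUc, hUq, hV, he, hs, hve, hvs, hh, hpt⟩ :=
    exists_qcqs_charts f₀ hXqc hYqc hYqs
  obtain ⟨W, cW, hcW, p, fst, a, b, sqW, hwb, -, hWA, sqj, hfst, hp⟩ :=
    exists_limit_square' D hDa c hc i₀ (v ≫ b₀)
  have hbm : ∀ {j k} (φ : j ⟶ k), W.map φ ≫ b k = b j := hwb
  let top : Over i₀ := Over.mk (𝟙 i₀)
  obtain ⟨j, hj⟩ := exists_stage_scheme hcore W cW hcW hWA top h (hQ u₀ v h he hve hh) b hbm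
    (fun fst' snd' sq => by
      obtain ⟨U', p', h', u₁, v₁, sp, sp', su, sv, hw⟩ := exists_baseChange_chart hY hX hh sqW
      rw [← hp top] at sq
      exact Desc.of_two P sp sq (hP (chartRel_baseChange hX.w hh he hs hve hvs hpt sp' su sv hw)))
  refine ⟨j.left, j.hom, fun Xi Yi fi pYi qYi hYi pXi hXi => ?_⟩
  obtain ⟨U', p', h', u₁, v₁, sp, sp', su, sv, hw⟩ := exists_baseChange_chart hYi hXi hh (sqj j)
  exact ⟨U', _, h', chartRel_baseChange hXi.w hh he hs hve hvs hpt sp' su sv hw, hj p'.left h'.left sp⟩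

end Main

end Groth.Agent.AlgSpDec
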