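import Groth.Agent.AlgSpDec.LimAffine
import Groth.Agent.AlgSpDec.LimDescent
import Groth.Agent.AlgSpDec.LqfScheme
import Groth.Agent.AlgSpPts.OpenSub

/-!
# Quasi-compact opens descend along limits
-/

set_option backward.isDefEq.respectTransparency false
set_option backward.isDefEq.respectTransparency.types false

universe u

open CategoryTheory Limits Opposite AlgebraicGeometry AlgSp Groth.Agent.AlgSpLib Groth.Agent.AlgSpPts TopologicalSpace

namespace Groth.Agent.AlgSpDec

variable {S : Scheme.{u}}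

theorem injective_points_map_of_mono {F G : Sp S} (f : F ⟶ G) [Mono f] : Function.Injective (Points.map f) :=
  fun x y h => by
    obtain ⟨z, hx, hy⟩ := exists_point_of_isPullback (IsKernelPair.id_of_mono f) h
    rw [← hx, hy]

theorem map_map_ofScheme {F : Sp S} {U V : Over S} (f : U ⟶ V) (a : (yon S).obj V ⟶ F) (z : ↥U.left) :
    Points.map a (Points.map ((yon S).map f) (Points.ofScheme U z)) = Points.ofPt a (f.left z) :=
  (congrArg (Points.map a) (Points.map_yon_map_apply f z)).trans (Points.ofPt_eq_map_ofScheme _ _).symm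

theorem mono_of_openImm {F G : Sp S} {j : F ⟶ G} (hj : RepWith @IsOpenImmersion j) : Mono j :=
  mono_of_repWith (repWith_mono (fun _ _ g (_ : IsOpenImmersion g) => (inferInstance : Mono g)) _ hj)

theorem isOpen_range_openImm {F G : Sp S} (hG : IsAlgSpace G) {j : F ⟶ G} (hj : RepWith @IsOpenImmersion j) :
    IsOpen (Set.range (Points.map j)) := by
  obtain ⟨U, a, ha, has⟩ := hG.atlas
  refine (isOpen_iff_chart ha has).2 ?_
  have sq := hj.rep.isPullback a
  have : IsOpenImmersion (hj.rep.snd a).left := hj.property_snd a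
  convert (hj.rep.snd a).left.isOpenEmbedding.isOpen_range using 1
  ext x
  refine ⟨fun ⟨u, hu⟩ => ?_, ?_⟩
  · obtain ⟨z, -, hz⟩ := exists_point_of_isPullback sq (x := u) (y := Points.ofScheme _ x)
      (hu.trans (Points.ofPt_eq_map_ofScheme _ _))
    obtain ⟨z, rfl⟩ := (Points.schemeHomeo _).surjective z
    exact ⟨z, (Points.schemeHomeo U).injective ((Points.map_yon_map_apply _ _).symm.trans hz)⟩
  · rintro ⟨z, rfl⟩
    exact ⟨Points.map (hj.rep.fst a) (Points.ofScheme _ z), by
      rw [← Points.map_comp, sq.w, Points.map_comp, map_map_ofScheme]⟩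

theorem isIso_of_openImm_surjective {F G : Sp S} (hG : IsAlgSpace G) {j : F ⟶ G}
    (hj : RepWith @IsOpenImmersion j) (hs : Function.Surjective (Points.map j)) : IsIso j := by
  obtain ⟨U, a, ha, has⟩ := hG.atlas
  obtain ⟨a', ha'⟩ := exists_factor_open hj a fun u => hs _
  have := mono_of_openImm hj
  have := isLocallySurjective_of_etale_surjective ha has
  have : Epi a := (Sheaf.isLocallySurjective_iff_epi _).1 this
  have : Epi (a' ≫ j) := by rw [ha']; infer_instance
  have : Epi j := epi_of_epi a' j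
  exact isIso_of_mono_of_epi j

theorem exists_quasiCompact_open_descends [QuasiSeparatedSpace ↥S] {I : Type u} [SmallCategory I] [IsCofiltered I]
    (D : I ⥤ Sp S) (hD : ∀ i, IsAlgSpace (D.obj i)) (hDa : ∀ (i j : I) (φ : i ⟶ j), IsAffineMor (D.map φ))
    (hqs : ∀ i, IsQuasiSeparatedSp (D.obj i)) (c : Cone D) (hc : IsLimit c) (i₁ : I)
    (hqc : IsQuasiCompactSp (D.obj i₁))
    {U : Sp S} (j : U ⟶ c.pt) (hj : RepWith @IsOpenImmersion j) (hU : IsQuasiCompactSp U) :
    ∃ (i : I) (Ui : Sp S) (ji : Ui ⟶ D.obj i) (q : U ⟶ Ui),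
      RepWith @IsOpenImmersion ji ∧ IsQuasiCompactSp Ui ∧ IsPullback j q (c.π.app i) ji := by
  obtain ⟨U₀, a, hU₀, ha, has⟩ := exists_affine_atlas hqc
  have : IsAffine U₀.left := hU₀
  obtain ⟨W, cW, hcW, p, fst, aW, bW, sqW, hwb, hA, hWA, sqj, hfst, hp⟩ := exists_limit_square' D hDa c hc i₁ a
  have hC : IsAlgSpace c.pt := isAlgSpace_limit D hD hDa c hc
  have hmono := mono_of_openImm hj
  have hUA : IsAlgSpace U := isAlgSpace_of_representable hC j hj.rep
  have hfe : RepWith @Etale fst := repWith_of_isPullback sqW.flip ha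
  have hfs : RepWith @Surjective fst := repWith_of_isPullback sqW.flip has
  have hqcm : IsQuasiCompactMor fst := isQuasiCompactMor_of_isPullback sqW.flip
    (isQuasiCompactMor_of_qc_qs (IsAlgSpace.yon_obj U₀) (hD i₁) ⟨U₀, 𝟙 _, repWith_of_isIso _ _, repWith_of_isIso _ _,
      inferInstanceAs (CompactSpace ↥U₀.left)⟩ (hqs i₁) a)
  let O : cW.pt.left.Opens := ⟨Points.ofPt fst ⁻¹' Set.range (Points.map j),
    (isOpen_range_openImm hC hj).preimage (Points.continuous_ofPt fst)⟩
  have hO : IsCompact (O : Set ↥cW.pt.left) := by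
    have sqO := hj.rep.isPullback fst
    have hP : IsQuasiCompactSp ((yon S).obj (hj.rep.pullback fst)) :=
      hqcm hUA hU j ((yon S).map (hj.rep.snd fst)) (hj.rep.fst fst) sqO.flip
    have := (isQuasiCompactSp_iff (IsAlgSpace.yon_obj _)).1 hP
    have hc₁ : CompactSpace ↥(hj.rep.pullback fst).left := (Points.schemeHomeo _).symm.compactSpace
    have e : (O : Set ↥cW.pt.left) = Set.range (hj.rep.snd fst).left := by
      ext x
      refine ⟨fun ⟨u, hu⟩ => ?_, ?_⟩
      · obtain ⟨z, -, hz⟩ := exists_point_of_isPullback sqO (x := u) (y := Points.ofScheme _ x)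
          (hu.trans (Points.ofPt_eq_map_ofScheme _ _))
        obtain ⟨z, rfl⟩ := (Points.schemeHomeo _).surjective z
        exact ⟨z, (Points.schemeHomeo cW.pt).injective ((Points.map_yon_map_apply _ _).symm.trans hz)⟩
      · rintro ⟨z, rfl⟩
        exact ⟨Points.map (hj.rep.fst fst) (Points.ofScheme _ z), by
          rw [← Points.map_comp, sqO.w, Points.map_comp, map_map_ofScheme]⟩
    rw [e]
    exact isCompact_range (hj.rep.snd fst).left.continuous
  have := IsCofiltered.isConnected (Over i₁)
  have : ∀ j, IsAffine ((W ⋙ Over.forget S).obj j) := hWA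
  have : ∀ {j k} (f : j ⟶ k), IsAffineHom ((W ⋙ Over.forget S).map f) := fun f => inferInstance
  obtain ⟨k, V, hV, hVO⟩ := exists_preimage_eq (W ⋙ Over.forget S) ((Over.forget S).mapCone cW)
    (isLimitOfPreserves (Over.forget S) hcW) O hO
  have hae : RepWith @Etale (aW k) := repWith_of_isPullback (sqj k).flip ha
  obtain ⟨Ui, ji, hUi, hji, hr⟩ := exists_open_subspace (hD k.left)
    (W := Points.ofPt (aW k) '' (V.carrier : Set ↥(W.obj k).left)) (isOpenMap_ofPt hae _ V.2)
  have := mono_of_openImm hji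
  have hsk : IsPullback fst ((yon S).map (cW.π.app k)) (c.π.app k.left) (aW k) := by
    refine IsPullback.of_bot ?_ (hfst k) (sqj k)
    rw [← Functor.map_comp, ← hp k, c.w]
    exact sqW
  have hmem : ∀ x, x ∈ Set.range (Points.map j) ↔ Points.map (c.π.app k.left) x ∈ Set.range (Points.map ji) := by
    intro x
    obtain ⟨z, rfl⟩ := surjective_ofPt hfs x
    have h1 : Points.map (c.π.app k.left) (Points.ofPt fst z) = Points.ofPt (aW k) ((cW.π.app k).left z) := by
      rw [Points.map_ofPt, hfst k, Points.ofPt_eq_map_ofScheme, Points.map_comp]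
      exact map_map_ofScheme (cW.π.app k) (aW k) z
    rw [hr]
    constructor
    · intro hz
      have : z ∈ ((Over.forget S).mapCone cW).π.app k ⁻¹ᵁ V := by rw [hVO]; exact hz
      exact ⟨_, this, h1.symm⟩
    · rintro ⟨y, hy, hxy⟩
      obtain ⟨w, hw₁, hw₂⟩ := exists_point_of_isPullback hsk (x := Points.ofPt fst z) (y := Points.ofScheme _ y)
        (hxy.symm.trans (Points.ofPt_eq_map_ofScheme _ _))
      obtain ⟨w, rfl⟩ := (Points.schemeHomeo _).surjective w
      have hwy : (cW.π.app k).left w = y :=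
        (Points.schemeHomeo (W.obj k)).injective ((Points.map_yon_map_apply _ _).symm.trans hw₂)
      have hwO : w ∈ ((Over.forget S).mapCone cW).π.app k ⁻¹ᵁ V := by
        show (cW.π.app k).left w ∈ V
        rw [hwy]; exact hy
      rw [hVO] at hwO
      have : Points.ofPt fst w = Points.ofPt fst z := (Points.ofPt_eq_map_ofScheme _ _).trans hw₁
      exact this ▸ (hwO : Points.ofPt fst w ∈ Set.range (Points.map j))
  -- comparison of the two open subspaces
  have hP := IsPullback.of_hasPullback (c.π.app k.left) ji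
  have hp₁ : RepWith @IsOpenImmersion (pullback.fst (c.π.app k.left) ji) := repWith_of_isPullback hP.flip hji
  have hPA : IsAlgSpace (pullback (c.π.app k.left) ji) := isAlgSpace_pullback hC hUi (hD k.left) _ _
  have sQ := IsPullback.of_hasPullback j (pullback.fst (c.π.app k.left) ji)
  have h₁ : IsIso (pullback.fst j (pullback.fst (c.π.app k.left) ji)) :=
    isIso_of_openImm_surjective hUA (repWith_of_isPullback sQ.flip hp₁) fun u => by
      obtain ⟨y, hy⟩ := (hmem _).1 ⟨u, rfl⟩
      obtain ⟨z, hz, -⟩ := exists_point_of_isPullback hP hy.symm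
      obtain ⟨w, hw, -⟩ := exists_point_of_isPullback sQ hz.symm
      exact ⟨w, hw⟩
  have h₂ : IsIso (pullback.snd j (pullback.fst (c.π.app k.left) ji)) :=
    isIso_of_openImm_surjective hPA (repWith_of_isPullback sQ hj) fun z => by
      obtain ⟨u, hu⟩ := (hmem (Points.map (pullback.fst (c.π.app k.left) ji) z)).2
        ⟨Points.map (pullback.snd (c.π.app k.left) ji) z, by rw [← Points.map_comp, ← pullback.condition, Points.map_comp]⟩
      obtain ⟨w, -, hw⟩ := exists_point_of_isPullback sQ hu
      exact ⟨w, hw⟩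
  let e : U ≅ pullback (c.π.app k.left) ji :=
    (asIso (pullback.fst j (pullback.fst (c.π.app k.left) ji))).symm ≪≫ asIso (pullback.snd j (pullback.fst (c.π.app k.left) ji))
  have he : e.hom ≫ pullback.fst (c.π.app k.left) ji = j := by
    simp only [e, Iso.trans_hom, Iso.symm_hom, asIso_inv, asIso_hom, Category.assoc, ← pullback.condition,
      IsIso.inv_hom_id_assoc]
  refine ⟨k.left, Ui, ji, e.hom ≫ pullback.snd (c.π.app k.left) ji, hji, ?_,
    hP.of_iso e.symm (Iso.refl _) (Iso.refl _) (Iso.refl _) (by simp [← he]) (by simp) (by simp) (by simp)⟩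
  refine (isQuasiCompactSp_iff hUi).2 ⟨?_⟩
  let TV : Over S := Over.mk (V.ι ≫ (W.obj k).hom)
  let inc : TV ⟶ W.obj k := CategoryTheory.Over.homMk V.ι rfl
  have hCV : CompactSpace ↥TV.left := isCompact_iff_compactSpace.1 hV
  obtain ⟨a', ha'⟩ := exists_factor_open hji ((yon S).map inc ≫ aW k) fun v => by
    rw [hr]
    refine ⟨V.ι v, v.2, ?_⟩
    exact (((Points.ofPt_eq_map_ofScheme _ _).trans (Points.map_comp _ _ _)).trans (map_map_ofScheme inc (aW k) v)).symm
  have : Function.Surjective (Points.ofPt a') := fun x => by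
    obtain ⟨y, hy, hxy⟩ : Points.map ji x ∈ Points.ofPt (aW k) '' (V.carrier : Set ↥(W.obj k).left) := hr ▸ ⟨x, rfl⟩
    refine ⟨⟨y, hy⟩, injective_points_map_of_mono ji ?_⟩
    rw [← hxy, Points.map_ofPt, ha']
    exact ((Points.ofPt_eq_map_ofScheme _ _).trans (Points.map_comp _ _ _)).trans (map_map_ofScheme inc (aW k) ⟨y, hy⟩)
  rw [← this.range_eq]
  exact isCompact_range (Points.continuous_ofPt a')

end Groth.Agent.AlgSpDec
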