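import Groth.Agent.AlgSpDec.MonoScheme
import Groth.Agent.AlgSpPts.Sep
import Groth.Agent.AlgSpPts.Diag
import Groth.Agent.AlgSpPts.Descent

/-!
# Sheaves with an etale covering by an algebraic space
-/

set_option backward.isDefEq.respectTransparency false
set_option backward.isDefEq.respectTransparency.types false

universe u

open CategoryTheory Limits Opposite AlgebraicGeometry AlgSp Groth.Agent.AlgSpLib Groth.Agent.AlgSpPts

namespace Groth.Agent.AlgSpDec

variable {S : Scheme.{u}}

/-- A sheaf with a representable etale surjection from an algebraic space is an algebraic space. -/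
theorem isAlgSpace_of_etale_surjective {X F : Sp S} (hX : IsAlgSpace X) {f : X ⟶ F} (he : RepWith @Etale f)
    (hs : RepWith @Surjective f) : IsAlgSpace F := by
  obtain ⟨U, p, hp, hps⟩ := hX.atlas
  refine ⟨Functor.relativelyRepresentable.diag_iff.2 fun A a A' b => ?_, U, p ≫ f, repWith_comp hp he,
    repWith_comp hps hs⟩
  let V := he.rep.pullback a
  let r := he.rep.snd a
  let r' := he.rep.snd b
  have : Etale r.left := he.property_snd a
  have : Etale r'.left := he.property_snd b
  have : Surjective r'.left := hs.2 b _ _ (he.rep.isPullback b)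
  let xV := he.rep.fst a
  let xV' := he.rep.fst b
  obtain ⟨K, k₂, k₁, sqK⟩ := hX.representable_from_yon xV xV'
  obtain ⟨k₁, rfl⟩ := (yon S).map_surjective k₁
  have hd : RepWith @LocallyOfFiniteType (Limits.diag X) :=
    (repWith_diag_iff _ X).2 (diagonal_package hX (IsAlgSpace.yon_obj _) _).2.1
  have hK : LocallyOfFiniteType (prod.lift k₁ k₂).left :=
    hd.property _ _ _ (isPullback_diag sqK ((yon S).map prod.fst) ((yon S).map prod.snd) yon_prod_ext
      ((yon S).map (prod.lift k₁ k₂)) (by rw [← Functor.map_comp, prod.lift_fst])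
      (by rw [← Functor.map_comp, prod.lift_snd]))
  let m : V ⨯ he.rep.pullback b ⟶ A ⨯ he.rep.pullback b := prod.map r (𝟙 _)
  have sqm : IsPullback prod.fst m r prod.fst :=
    IsPullback.of_prod_fst_with_id r (he.rep.pullback b)
  have : Etale m.left := MorphismProperty.of_isPullback (sqm.map (Over.forget S)) ‹Etale r.left›
  have : LocallyOfFiniteType (prod.lift (k₁ ≫ r) k₂).left := by
    have e : prod.lift (k₁ ≫ r) k₂ = prod.lift k₁ k₂ ≫ m := by
      apply prod.hom_ext <;> simp [m]
    rw [e, Over.comp_left]
    infer_instance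
  let P := pullback a b
  obtain ⟨q, hq₁, hq₂⟩ : ∃ q : P ⟶ (yon S).obj (A ⨯ A'), q ≫ (yon S).map prod.fst = pullback.fst a b ∧
      q ≫ (yon S).map prod.snd = pullback.snd a b :=
    ⟨prod.lift (pullback.fst a b) (pullback.snd a b) ≫ inv (prodComparison (yon S) A A'),
      by simp [inv_prodComparison_map_fst], by simp [inv_prodComparison_map_snd]⟩
  have : Mono q := ⟨fun c d h => pullback.hom_ext
    (by rw [← hq₁, ← Category.assoc, ← Category.assoc, h]) (by rw [← hq₂, ← Category.assoc, ← Category.assoc, h])⟩
  let e : A ⨯ he.rep.pullback b ⟶ A ⨯ A' := prod.map (𝟙 A) r'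
  have sqe : IsPullback prod.snd e r' prod.snd :=
    ⟨⟨by simp [e]⟩, ⟨PullbackCone.IsLimit.mk _ (fun s => prod.lift (s.snd ≫ prod.fst) s.fst)
      (fun s => by simp) (fun s => by
        apply prod.hom_ext <;> simp [e, s.condition])
      (fun s c h₁ h₂ => by
        apply prod.hom_ext
        · rw [prod.lift_fst, ← h₂]; simp [e]
        · rw [prod.lift_snd, h₁])⟩⟩
  have : Etale e.left := MorphismProperty.of_isPullback (sqe.map (Over.forget S)) ‹Etale r'.left›
  have : Surjective e.left := MorphismProperty.of_isPullback (sqe.map (Over.forget S)) ‹Surjective r'.left›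
  -- the fibre product over the covering
  have sq₁ : IsPullback ((yon S).map k₁ ≫ (yon S).map r) ((yon S).map k₂) a ((yon S).map r' ≫ b) := by
    have h3 := sqK.paste_horiz (he.rep.isPullback a).flip
    rwa [(he.rep.isPullback b).w] at h3
  let w : (yon S).obj K ⟶ P := pullback.lift ((yon S).map k₁ ≫ (yon S).map r) ((yon S).map k₂ ≫ (yon S).map r')
    (by rw [sq₁.w, Category.assoc])
  have sqP : IsPullback w ((yon S).map k₂) (pullback.snd a b) ((yon S).map r') := by
    refine IsPullback.of_right ?_ (pullback.lift_snd _ _ _) (IsPullback.of_hasPullback a b)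
    rw [pullback.lift_fst]
    exact sq₁
  have sqq : IsPullback w ((yon S).map (prod.lift (k₁ ≫ r) k₂)) q ((yon S).map e) := by
    refine IsPullback.of_bot ?_ ?_ (sqe.map (yon S)).flip
    · rw [← Functor.map_comp, prod.lift_snd, hq₂]
      exact sqP
    · refine yon_prod_ext _ _ ?_ ?_
      · rw [Category.assoc, Category.assoc, hq₁, pullback.lift_fst, ← Functor.map_comp, ← Functor.map_comp,
          ← Functor.map_comp]
        simp [e]
      · rw [Category.assoc, Category.assoc, hq₂, pullback.lift_snd, ← Functor.map_comp, ← Functor.map_comp,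
          ← Functor.map_comp]
        simp [e]
  obtain ⟨Q, ⟨φ⟩⟩ := exists_rep_of_mono e sqq
  obtain ⟨s₂, hs₂⟩ := (yon S).map_surjective (φ.hom ≫ pullback.snd a b)
  refine ⟨Q, s₂, φ.hom ≫ pullback.fst a b, ?_⟩
  rw [hs₂]
  exact (IsPullback.of_hasPullback a b).of_iso φ.symm (Iso.refl _) (Iso.refl _) (Iso.refl _)
    (by simp) (by simp) (by simp) (by simp)

end Groth.Agent.AlgSpDec
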