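import Groth.Agent.AlgSpDec.FppfLqf
import Groth.Agent.AlgSpDec.EtaleQuot
import Groth.Agent.AlgSpPts.FppfTarget

/-!
# Locally surjective maps from schemes with nice kernel pair are representable
-/

set_option backward.isDefEq.respectTransparency false
set_option backward.isDefEq.respectTransparency.types false

universe u

open CategoryTheory Limits Opposite AlgebraicGeometry AlgSp Groth.Agent.AlgSpLib Groth.Agent.AlgSpPts

namespace Groth.Agent.AlgSpDec

variable {S : Scheme.{u}}

/-- Maps into the target of a locally surjective map lift after a single fppf morphism. -/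
theorem exists_fppf_lift_of_locallySurjective {F G : Sp S} (b : F ⟶ G) [Sheaf.IsLocallySurjective b] {T : Over S}
    (ξ : (yon S).obj T ⟶ G) :
    ∃ (V : Over S) (k : V ⟶ T) (x : (yon S).obj V ⟶ F), fppf k.left ∧ x ≫ b = (yon S).map k ≫ ξ := by
  obtain ⟨R, hR, hlift⟩ := exists_covering_lifts b ξ
  rw [GrothendieckTopology.mem_over_iff] at hR
  have : (@Flat ⊓ @LocallyOfFinitePresentation : MorphismProperty Scheme.{u}).ContainsIdentities :=
    ⟨fun X => ⟨inferInstanceAs (Flat (𝟙 X)), inferInstanceAs (LocallyOfFinitePresentation (𝟙 X))⟩⟩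
  have : Scheme.fppfPrecoverage.HasIsos := inferInstanceAs (Scheme.precoverage (@Flat ⊓ @LocallyOfFinitePresentation)).HasIsos
  have : Scheme.fppfPrecoverage.HasPullbacks := ⟨fun {X} R f hR => inferInstance⟩
  obtain ⟨Rp, hRp, hle⟩ := Precoverage.mem_toGrothendieck_iff_of_isStableUnderComposition.1 hR
  obtain ⟨hsurj, hp⟩ : (∀ x : T.left, ∃ (U : Scheme.{u}) (g : U ⟶ T.left), Rp g ∧ x ∈ Set.range g) ∧
      ∀ {U : Scheme.{u}} (g : U ⟶ T.left), Rp g → Flat g ∧ LocallyOfFinitePresentation g := by
    rw [Scheme.fppfPrecoverage] at hRp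
    refine ⟨fun x => ?_, fun {U} g hg => hRp.2 hg⟩
    obtain ⟨ι, U, g, rfl⟩ := Presieve.exists_eq_ofArrows Rp
    rw [Scheme.ofArrows_mem_precoverage_iff] at hRp
    obtain ⟨i, hi⟩ := hRp.1 x
    exact ⟨U i, g i, ⟨i⟩, hi⟩
  choose U g hg hx using hsurj
  let V : T.left → Over S := fun x => Over.mk (g x ≫ T.hom)
  let φ : ∀ x, V x ⟶ T := fun x => CategoryTheory.Over.homMk (g x) rfl
  have hφ : ∀ x, R (φ x) := fun x => (Sieve.overEquiv_iff R (g x)).1 (hle _ _ (hg x))
  choose l hl using fun x => hlift (φ x) (hφ x)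
  let k : sigmaOver V ⟶ T := CategoryTheory.Over.homMk (Sigma.desc g) (Sigma.hom_ext _ _ fun x => by
    show Sigma.ι U x ≫ Sigma.desc g ≫ T.hom = Sigma.ι U x ≫ Sigma.desc fun x => g x ≫ T.hom
    rw [Sigma.ι_desc_assoc, Sigma.ι_desc])
  obtain ⟨x, hx'⟩ := exists_hom_sigma V l
  refine ⟨sigmaOver V, k, x, ?_, hom_ext_sigma V fun i => ?_⟩
  · have : Flat (Sigma.desc g) := IsZariskiLocalAtSource.sigmaDesc fun i => (hp _ (hg i)).1
    have : LocallyOfFinitePresentation (Sigma.desc g) := IsZariskiLocalAtSource.sigmaDesc fun i => (hp _ (hg i)).2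
    have : Surjective (Sigma.desc g) := ⟨fun t => by
      obtain ⟨v, hv⟩ := hx t
      exact ⟨Sigma.ι U t v, by rw [← Scheme.Hom.comp_apply, Sigma.ι_desc]; exact hv⟩⟩
    exact fppf_of (Sigma.desc g)
  · rw [reassoc_of% (hx' i), hl, ← Category.assoc, ← Functor.map_comp]
    congr 2
    exact Over.OverMorphism.ext (Sigma.ι_desc g i).symm

/-- A locally surjective map from a scheme whose kernel pair is locally of finite type is representable. -/
theorem representable_of_kernelPair {G : Sp S} {U R : Over S} {a : (yon S).obj U ⟶ G} [Sheaf.IsLocallySurjective a]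
    {t s : R ⟶ U} (sq : IsPullback ((yon S).map t) ((yon S).map s) a a) [LocallyOfFiniteType s.left] :
    Representable a := fun T ξ => by
  obtain ⟨V, k, y, hk, hy⟩ := exists_fppf_lift_of_locallySurjective a ξ
  obtain ⟨y, rfl⟩ := (yon S).map_surjective y
  let W := pullback s y
  let w₁ : W ⟶ R := pullback.fst s y
  let w₂ : W ⟶ V := pullback.snd s y
  have sqW : IsPullback ((yon S).map w₁ ≫ (yon S).map t) ((yon S).map w₂) a ((yon S).map k ≫ ξ) := by
    have := ((IsPullback.of_hasPullback s y).map (yon S)).paste_horiz sq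
    rwa [hy] at this
  have : LocallyOfFiniteType w₂.left := MorphismProperty.of_isPullback (P := @LocallyOfFiniteType)
    ((IsPullback.of_hasPullback s y).map (Over.forget S)) ‹LocallyOfFiniteType s.left›
  let P := pullback a ξ
  let q : P ⟶ (yon S).obj (U ⨯ T) :=
    prod.lift (pullback.fst a ξ) (pullback.snd a ξ) ≫ inv (prodComparison (yon S) U T)
  have hq₁ : q ≫ (yon S).map prod.fst = pullback.fst a ξ := by simp [q, inv_prodComparison_map_fst]
  have hq₂ : q ≫ (yon S).map prod.snd = pullback.snd a ξ := by simp [q, inv_prodComparison_map_snd]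
  have : Mono q := ⟨fun c d h => pullback.hom_ext
    (by rw [← hq₁, reassoc_of% h]) (by rw [← hq₂, reassoc_of% h])⟩
  let e : U ⨯ V ⟶ U ⨯ T := prod.map (𝟙 U) k
  let i : W ⟶ U ⨯ V := prod.lift (w₁ ≫ t) w₂
  have : LocallyOfFiniteType i.left := by
    have : LocallyOfFiniteType (i.left ≫ (prod.snd : U ⨯ V ⟶ V).left) := by
      rw [← Over.comp_left, prod.lift_snd]; infer_instance
    exact locallyOfFiniteType_of_comp i.left (prod.snd : U ⨯ V ⟶ V).left
  have sqe : IsPullback prod.snd e k prod.snd :=
    ⟨⟨by simp [e]⟩, ⟨PullbackCone.IsLimit.mk _ (fun s => prod.lift (s.snd ≫ prod.fst) s.fst)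
      (fun s => by simp) (fun s => by apply Limits.prod.hom_ext <;> simp [e, s.condition])
      (fun s c h₁ h₂ => by
        apply Limits.prod.hom_ext
        · rw [prod.lift_fst, ← h₂]; simp [e]
        · rw [prod.lift_snd, h₁])⟩⟩
  obtain ⟨⟨he₁, he₂⟩, he₃⟩ : fppf e.left := MorphismProperty.of_isPullback (sqe.map (Over.forget S)) hk
  let w : (yon S).obj W ⟶ P := pullback.lift ((yon S).map w₁ ≫ (yon S).map t) ((yon S).map w₂ ≫ (yon S).map k)
    (by rw [sqW.w, Category.assoc])
  have sqP : IsPullback w ((yon S).map w₂) (pullback.snd a ξ) ((yon S).map k) := by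
    refine IsPullback.of_right ?_ (pullback.lift_snd _ _ _) (IsPullback.of_hasPullback a ξ)
    rw [pullback.lift_fst]
    exact sqW
  have sqq : IsPullback w ((yon S).map i) q ((yon S).map e) := by
    refine IsPullback.of_bot ?_ ?_ (sqe.map (yon S)).flip
    · rw [← Functor.map_comp, prod.lift_snd, hq₂]
      exact sqP
    · refine yon_prod_ext _ _ ?_ ?_
      · rw [Category.assoc w q, hq₁, Category.assoc, pullback.lift_fst, ← Functor.map_comp, ← Functor.map_comp,
          ← Functor.map_comp]
        simp [e, i]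
      · rw [Category.assoc w q, hq₂, Category.assoc, pullback.lift_snd, ← Functor.map_comp, ← Functor.map_comp,
          ← Functor.map_comp]
        simp [e, i]
  obtain ⟨Q, ⟨φ⟩⟩ := Fppf.exists_rep_of_mono e sqq
  obtain ⟨s₂, hs₂⟩ := (yon S).map_surjective (φ.hom ≫ pullback.snd a ξ)
  exact ⟨Q, s₂, φ.hom ≫ pullback.fst a ξ,
    (IsPullback.of_hasPullback a ξ).of_iso φ.symm (Iso.refl _) (Iso.refl _) (Iso.refl _)
      (by simp) (by simp [hs₂]) (by simp) (by simp)⟩

/-- The quotient of an etale equivalence relation is an algebraic space. -/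
theorem isAlgSpace_of_etale_kernelPair {G : Sp S} {U R : Over S} {a : (yon S).obj U ⟶ G}
    [Sheaf.IsLocallySurjective a] {t s : R ⟶ U} (sq : IsPullback ((yon S).map t) ((yon S).map s) a a)
    [Etale s.left] [Surjective s.left] : IsAlgSpace G := by
  have hr : Representable a := representable_of_kernelPair sq
  have := isLocalAtTarget_fppf (@Etale : MorphismProperty Scheme.{u})
  have := isLocalAtTarget_fppf (@Surjective : MorphismProperty Scheme.{u})
  exact isAlgSpace_of_etale_surjective (IsAlgSpace.yon_obj U)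
    (repWith_of_locallySurjective hr _ sq @Etale ((repWith_yon_map_iff _ _).2 ‹Etale s.left›))
    (repWith_of_locallySurjective hr _ sq @Surjective ((repWith_yon_map_iff _ _).2 ‹Surjective s.left›))

end Groth.Agent.AlgSpDec
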