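import Groth.Agent.AlgSpPts.Quot
import Groth.Agent.AlgSpDec.QuotRep
import Mathlib.CategoryTheory.Limits.FunctorCategory.EpiMono

/-!
# Sections equal in a quotient sheaf are locally related
-/

set_option backward.isDefEq.respectTransparency false
set_option backward.isDefEq.respectTransparency.types false

universe u

open CategoryTheory Limits Opposite AlgebraicGeometry AlgSp Groth.Agent.AlgSpLib Groth.Agent.AlgSpPts

namespace Groth.Agent.AlgSpDec

variable {S : Scheme.{u}} {R U : Over S} {s t : R ⟶ U}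

/-- A pre-relation inducing equivalence relations on points. -/
abbrev IsPreEqv (s t : R ⟶ U) : Prop :=
  ∀ T : Over S, Equivalence (fun a b : T ⟶ U => ∃ r : T ⟶ R, r ≫ t = a ∧ r ≫ s = b)

/-- The presheaf quotient. -/
def preQuot (h : IsPreEqv s t) : (Over S)ᵒᵖ ⥤ Type (u + 1) where
  obj T := ULift.{u + 1} (Quotient (⟨_, h T.unop⟩ : Setoid (T.unop ⟶ U)))
  map {T T'} f := ↾fun x => ⟨Quotient.map (fun a => f.unop ≫ a)
    (by rintro a b ⟨r, rfl, rfl⟩; exact ⟨f.unop ≫ r, Category.assoc _ _ _, Category.assoc _ _ _⟩) x.down⟩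
  map_id T := by
    ext ⟨x⟩
    induction x using Quotient.inductionOn with
    | h a => simp
  map_comp f g := by
    ext ⟨x⟩
    induction x using Quotient.inductionOn with
    | h a => simp

/-- The presheaf quotient map. -/
def preQuotπ (h : IsPreEqv s t) : (yoneda.obj U ⋙ uliftFunctor.{u + 1, u}) ⟶ preQuot h where
  app T := ↾fun a => ⟨Quotient.mk _ a.down⟩
  naturality T T' f := by ext a; rfl

theorem preQuotπ_w (h : IsPreEqv s t) : yonMap s ≫ preQuotπ h = yonMap t ≫ preQuotπ h := by
  ext T ⟨a⟩
  exact congrArg ULift.up (Quotient.sound ((h T.unop).symm ⟨a, rfl, rfl⟩))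

/-- The presheaf quotient is the coequalizer. -/
noncomputable def isColimitPreQuot (h : IsPreEqv s t) : IsColimit (Cofork.ofπ (preQuotπ h) (preQuotπ_w h)) :=
  Cofork.IsColimit.mk _
    (fun c =>
      { app := fun T => ↾fun x => Quotient.lift (fun a => c.π.app T (el a)) (by
          rintro _ _ ⟨r, rfl, rfl⟩
          exact (congrArg (fun q : _ ⟶ c.pt => q.app T (el r)) c.condition).symm) x.down
        naturality := fun T T' f => by
          ext ⟨x⟩
          induction x using Quotient.inductionOn with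
          | h a => exact NatTrans.naturality_apply c.π f (el a) })
    (fun c => by ext T ⟨a⟩; rfl)
    (fun c m hm => by
      ext T ⟨x⟩
      induction x using Quotient.inductionOn with
      | h a => exact congrArg (fun q : _ ⟶ c.pt => q.app T (el a)) hm)

theorem epi_preKernel (h : IsPreEqv s t) :
    Epi (pullback.lift (yonMap t) (yonMap s) (preQuotπ_w h).symm :
      _ ⟶ pullback (preQuotπ h) (preQuotπ h)) := by
  have sq := IsPullback.of_hasPullback (preQuotπ h) (preQuotπ h)
  suffices ∀ T, Epi ((pullback.lift (yonMap t) (yonMap s) (preQuotπ_w h).symm :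
      _ ⟶ pullback (preQuotπ h) (preQuotπ h)).app T) from NatTrans.epi_of_epi_app _
  intro T
  rw [CategoryTheory.epi_iff_surjective]
  intro z
  let hsq := sq.map ((evaluation _ _).obj T)
  have hz := congrArg (fun f => f.app T z) sq.w
  obtain ⟨r, h1, h2⟩ := Quotient.exact (congrArg ULift.down hz)
  refine ⟨⟨r⟩, Types.ext_of_isPullback hsq ?_ ?_⟩
  · exact (congrArg (fun f => f.app T (el r)) (pullback.lift_fst (yonMap t) (yonMap s) (preQuotπ_w h).symm)).trans
      (congrArg ULift.up h1)
  · exact (congrArg (fun f => f.app T (el r)) (pullback.lift_snd (yonMap t) (yonMap s) (preQuotπ_w h).symm)).trans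
      (congrArg ULift.up h2)

/-- Two sections with the same image in the quotient sheaf are fppf locally related. -/
theorem exists_rel_of_quotMap_eq (h : IsPreEqv s t) {T : Over S} (x y : T ⟶ U)
    (hxy : (yon S).map x ≫ quotMap s t = (yon S).map y ≫ quotMap s t) :
    ∃ (T' : Over S) (k : T' ⟶ T) (r : T' ⟶ R), fppf k.left ∧ r ≫ t = k ≫ x ∧ r ≫ s = k ≫ y := by
  let K := Scheme.fppfPrecoverage.{u}
  let A := presheafToSheaf (QuotSh.J K S) (Type (u + 1))
  have hc : IsColimit (Cofork.ofπ (f := QuotSh.repMap K s) (g := QuotSh.repMap K t) (A.map (preQuotπ h))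
      (by rw [← Functor.map_comp, preQuotπ_w, Functor.map_comp])) :=
    isColimitCoforkMapOfIsColimit A (preQuotπ_w h) (isColimitPreQuot h)
  let e : A.obj (preQuot h) ≅ QuotSh.quot K s t :=
    hc.coconePointUniqueUpToIso (colimit.isColimit (parallelPair (QuotSh.repMap K s) (QuotSh.repMap K t)))
  have he : A.map (preQuotπ h) ≫ e.hom = QuotSh.quotπ K s t :=
    hc.comp_coconePointUniqueUpToIso_hom _ WalkingParallelPair.one
  have sq₀ := (IsPullback.of_hasPullback (preQuotπ h) (preQuotπ h)).map A
  have nat : ∀ {V W : Over S} (g : V ⟶ W), (QuotSh.repIsoUliftYoneda Scheme.fppfPrecoverage V).hom ≫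
      (yon S).map g = QuotSh.repMap Scheme.fppfPrecoverage g ≫
        (QuotSh.repIsoUliftYoneda Scheme.fppfPrecoverage W).hom := fun {V W} g => by
    have e : (yon S).map g ≫ (QuotSh.repIsoUliftYoneda Scheme.fppfPrecoverage W).inv =
        (QuotSh.repIsoUliftYoneda Scheme.fppfPrecoverage V).inv ≫ QuotSh.repMap Scheme.fppfPrecoverage g :=
      ObjectProperty.hom_ext _ (toSheafify_naturality (QuotSh.J Scheme.fppfPrecoverage S) _)
    rw [← Iso.eq_inv_comp, ← Category.assoc, ← e, Category.assoc, Iso.inv_hom_id, Category.comp_id]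
  let eU := QuotSh.repIsoUliftYoneda Scheme.fppfPrecoverage U
  let eR := QuotSh.repIsoUliftYoneda Scheme.fppfPrecoverage R
  let κ₀ := A.map (pullback.lift (yonMap t) (yonMap s) (preQuotπ_w h).symm)
  have := epi_preKernel h
  have : Epi κ₀ := inferInstance
  have sq : IsPullback (A.map (pullback.fst (preQuotπ h) (preQuotπ h)) ≫ eU.hom)
      (A.map (pullback.snd (preQuotπ h) (preQuotπ h)) ≫ eU.hom) (quotMap s t) (quotMap s t) :=
    sq₀.of_iso (Iso.refl _) eU eU e (by simp) (by simp) (by simp [quotMap, eU, ← he, K, A])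
      (by simp [quotMap, eU, ← he, K, A])
  let κ := eR.inv ≫ κ₀
  have : Epi κ := epi_comp _ _
  have : Sheaf.IsLocallySurjective κ := (Sheaf.isLocallySurjective_iff_epi κ).2 inferInstance
  obtain ⟨T', k, r, hk, hr⟩ := exists_fppf_lift_of_locallySurjective κ (sq.lift _ _ hxy)
  obtain ⟨r, rfl⟩ := (yon S).map_surjective r
  have key : ∀ (g : R ⟶ U), eR.inv ≫ QuotSh.repMap K g ≫ eU.hom = (yon S).map g := fun g => by
    rw [← nat g, Iso.inv_hom_id_assoc]
  refine ⟨T', k, r, hk, (yon S).map_injective ?_, (yon S).map_injective ?_⟩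
  · have := congrArg (fun f => f ≫ A.map (pullback.fst (preQuotπ h) (preQuotπ h)) ≫ eU.hom) hr
    simp only [κ, κ₀, Category.assoc, sq.lift_fst] at this
    rw [← Functor.map_comp_assoc A, pullback.lift_fst] at this
    rw [(yon S).map_comp r t, (yon S).map_comp k x, ← this, ← key t]
  · have := congrArg (fun f => f ≫ A.map (pullback.snd (preQuotπ h) (preQuotπ h)) ≫ eU.hom) hr
    simp only [κ, κ₀, Category.assoc, sq.lift_snd] at this
    rw [← Functor.map_comp_assoc A, pullback.lift_snd] at this
    rw [(yon S).map_comp r s, (yon S).map_comp k y, ← this, ← key s]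

end Groth.Agent.AlgSpDec
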