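import Groth.Agent.AlgSpDec.QuotOpen
import Groth.Agent.AlgSpDec.QuotLocal

/-!
# Quotients of restricted relations
-/

set_option backward.isDefEq.respectTransparency false
set_option backward.isDefEq.respectTransparency.types false

universe u

open CategoryTheory Limits Opposite AlgebraicGeometry AlgSp Groth.Agent.AlgSpLib Groth.Agent.AlgSpPts

namespace Groth.Agent.AlgSpDec

variable {S : Scheme.{u}}

theorem quotMap_w {R U : Over S} (s t : R ⟶ U) :
    (yon S).map t ≫ quotMap s t = (yon S).map s ≫ quotMap s t := by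
  have nat : ∀ (g : R ⟶ U), (yon S).map g ≫ (QuotSh.repIsoUliftYoneda Scheme.fppfPrecoverage U).inv =
      (QuotSh.repIsoUliftYoneda Scheme.fppfPrecoverage R).inv ≫ QuotSh.repMap Scheme.fppfPrecoverage g := fun g =>
    ObjectProperty.hom_ext _ (toSheafify_naturality (QuotSh.J Scheme.fppfPrecoverage S) _)
  rw [quotMap, reassoc_of% (nat t), reassoc_of% (nat s), QuotSh.quot_condition]

theorem isLocallySurjective_quotMap {R U : Over S} (s t : R ⟶ U) : Sheaf.IsLocallySurjective (quotMap s t) := by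
  have : Epi (QuotSh.quotπ Scheme.fppfPrecoverage s t) := by
    unfold QuotSh.quotπ
    infer_instance
  exact (CategoryTheory.Sheaf.isLocallySurjective_iff_epi (quotMap s t)).2 (epi_comp _ _)

/-- The map of quotients of a restricted relation onto an open saturated part is an open immersion. -/
theorem repWith_openImm_quot_restrict {R U R' U' : Over S} (s t : R ⟶ U) (g : U' ⟶ U) (s' t' : R' ⟶ U') (r : R' ⟶ R)
    (hsq : IsPullback (prod.lift t' s') r (prod.map g g) (prod.lift t s)) (hE : IsPreEqv s t)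
    (φ : QuotSh.quot Scheme.fppfPrecoverage s' t' ⟶ QuotSh.quot Scheme.fppfPrecoverage s t)
    (hφ : QuotSh.quotπ Scheme.fppfPrecoverage s' t' ≫ φ =
      QuotSh.repMap Scheme.fppfPrecoverage g ≫ QuotSh.quotπ Scheme.fppfPrecoverage s t)
    (W : U.left.Opens)
    (hin : ∀ {T : Over S} (x : T ⟶ U), (∀ a, x.left a ∈ W) →
      ∃ (T' : Over S) (k : T' ⟶ T) (z : T' ⟶ pullback g t), fppf k.left ∧ z ≫ pullback.snd g t ≫ s = k ≫ x)
    (hout : ∀ a, (pullback.snd g t ≫ s).left a ∈ W) : RepWith @IsOpenImmersion φ := by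
  have := isLocallySurjective_quotMap s t
  have := isLocallySurjective_quotMap s' t'
  have hφ' : quotMap s' t' ≫ φ = (yon S).map g ≫ quotMap s t := by
    have nat : (yon S).map g ≫ (QuotSh.repIsoUliftYoneda Scheme.fppfPrecoverage U).inv =
        (QuotSh.repIsoUliftYoneda Scheme.fppfPrecoverage U').inv ≫ QuotSh.repMap Scheme.fppfPrecoverage g :=
      ObjectProperty.hom_ext _ (toSheafify_naturality (QuotSh.J Scheme.fppfPrecoverage S) _)
    rw [quotMap, quotMap, Category.assoc, hφ, ← Category.assoc _ (QuotSh.repMap _ g), ← nat, Category.assoc]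
  have hker : ∀ {T : Over S} (x y : T ⟶ U'), (yon S).map (x ≫ g) ≫ quotMap s t = (yon S).map (y ≫ g) ≫ quotMap s t →
      (yon S).map x ≫ quotMap s' t' = (yon S).map y ≫ quotMap s' t' := by
    intro T x y hxy
    obtain ⟨T', k, r₀, hk, h1, h2⟩ := exists_rel_of_quotMap_eq hE _ _ hxy
    let ρ := hsq.lift (prod.lift (k ≫ x) (k ≫ y)) r₀ (by
      apply Limits.prod.hom_ext <;> simp [h1, h2])
    have hρ : ρ ≫ prod.lift t' s' = prod.lift (k ≫ x) (k ≫ y) := hsq.lift_fst _ _ _
    have e1 : ρ ≫ t' = k ≫ x := by simpa using congrArg (· ≫ prod.fst) hρ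
    have e2 : ρ ≫ s' = k ≫ y := by simpa using congrArg (· ≫ prod.snd) hρ
    refine hom_ext_of_fppf k hk _ _ ?_
    rw [← Functor.map_comp_assoc, ← Functor.map_comp_assoc, ← e1, ← e2, Functor.map_comp, Functor.map_comp,
      Category.assoc, Category.assoc, quotMap_w]
  have : Mono φ := mono_of_restrict hφ' hker
  refine repWith_openImm_of_invariant φ (quotMap s t) W (fun x hx => ?_) (fun {T} x a ha τ => ?_)
  · obtain ⟨T', k, z, hk, hz⟩ := hin x hx
    refine ⟨T', k, (yon S).map (z ≫ pullback.fst g t) ≫ quotMap s' t', hk, ?_⟩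
    rw [Category.assoc, hφ', ← Functor.map_comp_assoc, Category.assoc, pullback.condition, ← hz,
      ← Category.assoc z, ← Category.assoc z, Functor.map_comp _ _ t, Functor.map_comp _ _ s, Category.assoc,
      Category.assoc, quotMap_w]
  · obtain ⟨T₁, k₁, y, hk₁, hy⟩ := exists_fppf_lift_of_locallySurjective (quotMap s' t') a
    obtain ⟨y, rfl⟩ := (yon S).map_surjective y
    obtain ⟨T₂, k₂, r₀, hk₂, h1, h2⟩ := exists_rel_of_quotMap_eq hE (y ≫ g) (k₁ ≫ x) (by
      rw [Functor.map_comp, Functor.map_comp, Category.assoc, Category.assoc, ← hφ', ← Category.assoc ((yon S).map y) (quotMap s' t'), hy, Category.assoc, ha])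
    let z : T₂ ⟶ pullback g t := pullback.lift (k₂ ≫ y) r₀ (by rw [Category.assoc, h1])
    have hz : z ≫ pullback.snd g t ≫ s = k₂ ≫ k₁ ≫ x := by rw [pullback.lift_snd_assoc, h2]
    have : Surjective k₁.left := hk₁.1.1
    have : Surjective k₂.left := hk₂.1.1
    obtain ⟨τ₁, rfl⟩ := k₁.left.surjective τ
    obtain ⟨τ₂, rfl⟩ := k₂.left.surjective τ₁
    have e : (z ≫ pullback.snd g t ≫ s).left τ₂ = x.left (k₁.left (k₂.left τ₂)) := by
      rw [hz]; rfl
    rw [← e]
    exact hout _

end Groth.Agent.AlgSpDec
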