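import Groth.Agent.AlgSpDec.DecentDense
import Groth.Agent.AlgSpPts.Diag
import Groth.Prelude.Def_AlgSpCov

/-!
Quasi-separated spaces: codimension zero points lie in the scheme locus.
-/

set_option backward.isDefEq.respectTransparency false
set_option backward.isDefEq.respectTransparency.types false

universe u

open CategoryTheory CategoryTheory.Limits AlgebraicGeometry AlgSp Groth.Agent.AlgSpLib Groth.Agent.AlgSpPts TopologicalSpace Order

namespace Groth.Agent.AlgSpDec

theorem isCompact_le_card (n : ℕ) : ∀ {X Y : Scheme.{u}} (f : X ⟶ Y) [Etale f] [IsSeparated f] [QuasiCompact f]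
    [CompactSpace Y], IsCompact {y : Y | (n : ℕ∞) ≤ ENat.card ↥(MoreMor.geomFiber f y)} := by
  induction n with
  | zero => intro X Y f _ _ _ _; simp [isCompact_univ]
  | succ n ih =>
    intro X Y f _ _ _ _
    rw [EtCount.setOf_succ_le]
    have : IsClosedImmersion (EtCount.offDiag f).ι := .of_isPreimmersion _ (by
      rw [Scheme.Opens.range_ι]
      exact ((pullback.diagonal f).isOpenEmbedding.isOpen_range).isClosed_compl)
    haveI : CompactSpace X := QuasiCompact.compactSpace_of_compactSpace f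
    exact (ih (EtCount.offMap f)).image f.continuous

variable {S : Scheme.{u}} {X : Sp S} {U : Over S} {a : (yon S).obj U ⟶ X}

theorem quasiCompact_snd (hqs : IsQuasiSeparatedSp X) (ha : RepWith @Etale a) [IsAffine U.left] {S₀ : S.Opens}
    (hS₀ : IsAffineOpen S₀) (hU : Set.range U.hom ⊆ (S₀ : Set S)) : QuasiCompact (ha.rep.snd a).left := by
  haveI : IsAffine S₀.toScheme := hS₀
  let g : U.left ⟶ S₀.toScheme := IsOpenImmersion.lift S₀.ι U.hom (by rwa [Scheme.Opens.range_ι])
  have hg : g ≫ S₀.ι = U.hom := IsOpenImmersion.lift_fac _ _ _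
  have sqU := IsPullback.of_hasPullback U.hom U.hom
  have sqg : IsPullback (pullback.fst U.hom U.hom) (pullback.snd U.hom U.hom) g g := by
    have w : pullback.fst U.hom U.hom ≫ g = pullback.snd U.hom U.hom ≫ g :=
      (cancel_mono S₀.ι).1 (by rw [Category.assoc, Category.assoc, hg]; exact pullback.condition)
    exact ⟨⟨w⟩, ⟨PullbackCone.IsLimit.mk _
      (fun c => sqU.lift c.fst c.snd (by rw [← hg, reassoc_of% c.condition]))
      (fun c => sqU.lift_fst _ _ _) (fun c => sqU.lift_snd _ _ _)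
      (fun c m h1 h2 => sqU.hom_ext (by rw [sqU.lift_fst, h1]) (by rw [sqU.lift_snd, h2]))⟩⟩
  haveI : QuasiCompact (pullback.snd U.hom U.hom) :=
    quasiCompact_isStableUnderBaseChange.of_isPullback sqg inferInstance
  let P : Over S := Over.mk (pullback.fst U.hom U.hom ≫ U.hom)
  let p₁ : P ⟶ U := Over.homMk (pullback.fst U.hom U.hom) rfl
  let p₂ : P ⟶ U := Over.homMk (pullback.snd U.hom U.hom) pullback.condition.symm
  let e : U ⟶ Over.mk (𝟙 S) := Over.homMk U.hom (Category.comp_id _)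
  have sqP : IsPullback p₁ p₂ e e :=
    IsPullback.of_map (Over.forget S) (Over.OverMorphism.ext pullback.condition) sqU
  let R := ha.rep.pullback a
  let m : R ⟶ P := Over.homMk (pullback.lift (ha.rep.fst' a).left (ha.rep.snd a).left
      ((Over.w (ha.rep.fst' a)).trans (Over.w (ha.rep.snd a)).symm))
    (by show pullback.lift _ _ _ ≫ pullback.fst U.hom U.hom ≫ U.hom = R.hom; rw [pullback.lift_fst_assoc]; exact Over.w _)
  have sq := isPullback_diag (ha.rep.isPullback' a) ((yon S).map p₁) ((yon S).map p₂)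
    (fun c d h1 h2 => (sqP.map (yon S)).hom_ext h1 h2) ((yon S).map m)
    (by rw [← Functor.map_comp]; exact congrArg (yon S).map (Over.OverMorphism.ext (pullback.lift_fst _ _ _)))
    (by rw [← Functor.map_comp]; exact congrArg (yon S).map (Over.OverMorphism.ext (pullback.lift_snd _ _ _)))
  haveI : QuasiCompact m.left := hqs.property _ _ _ sq
  rw [← pullback.lift_snd (f := U.hom) (g := U.hom) (ha.rep.fst' a).left (ha.rep.snd a).left
    ((Over.w (ha.rep.fst' a)).trans (Over.w (ha.rep.snd a)).symm)]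
  exact inferInstanceAs (QuasiCompact (m.left ≫ pullback.snd U.hom U.hom))

/-- In a quasi-separated space every point of codimension zero lies in an open subscheme. -/
theorem exists_open_subscheme_of_codimZero_qs (hA : IsAlgSpace X) (hqs : IsQuasiSeparatedSp X) {U₀ : Over S}
    {a₀ : (yon S).obj U₀ ⟶ X} (ha₀ : RepWith @Etale a₀) (u₀ : U₀.left) (hu₀ : coheight u₀ = 0) :
    ∃ (T : Over S) (j : (yon S).obj T ⟶ X),
      RepWith @IsOpenImmersion j ∧ Points.ofPt a₀ u₀ ∈ Set.range (Points.map j) := by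
  obtain ⟨_, ⟨⟨S₀, hS₀, rfl⟩, huS₀, -⟩⟩ :=
    S.isBasis_affineOpens.exists_subset_of_mem_open (Set.mem_univ (U₀.hom u₀)) isOpen_univ
  obtain ⟨W, hW, huW, hWS₀⟩ := exists_isAffineOpen_mem_and_subset (U := U₀.hom ⁻¹ᵁ S₀) (x := u₀) huS₀
  let U : Over S := Over.mk (W.ι ≫ U₀.hom)
  let ι : U ⟶ U₀ := Over.homMk W.ι rfl
  haveI : IsOpenImmersion ι.left := inferInstanceAs (IsOpenImmersion W.ι)
  haveI : IsAffine U.left := hW
  have hU : Set.range U.hom ⊆ (S₀ : Set S) := by
    rintro _ ⟨w, rfl⟩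
    exact hWS₀ w.2
  obtain ⟨a, hadef⟩ : ∃ a, a = (yon S).map ι ≫ a₀ := ⟨_, rfl⟩
  have ha : RepWith @Etale a := hadef ▸ repWith_comp ((repWith_yon_map_iff _ ι).2 (inferInstanceAs (Etale W.ι))) ha₀
  let u : U.left := ⟨u₀, huW⟩
  have hxu : Points.ofPt a u = Points.ofPt a₀ u₀ := by rw [hadef, ofPt_comp]; rfl
  have hu : coheight u = 0 := by rw [coheight_eq_of_etale ι.left u]; exact hu₀
  let s := (ha.rep.snd a).left
  haveI : Etale s := ha.property_snd a
  haveI : IsSeparated s := isSeparated_snd_of_isAffine ha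
  haveI : QuasiCompact s := quasiCompact_snd hqs ha hS₀ hU
  haveI := EtCount.finite_geomFiber s u
  let k := Nat.card ↥(MoreMor.geomFiber s u)
  have hk : ENat.card ↥(MoreMor.geomFiber s u) = k := ENat.card_eq_coe_natCard _
  let G : Set U.left := {w | (k : ℕ∞) ≤ ENat.card ↥(MoreMor.geomFiber s w)} ∩
    (closure {w | ((k + 1 : ℕ) : ℕ∞) ≤ ENat.card ↥(MoreMor.geomFiber s w)})ᶜ
  have hG : IsOpen G := (EtCount.isOpen_le_card k s).inter isClosed_closure.isOpen_compl
  have huG : u ∈ G := ⟨hk.ge, notMem_closure_of_isCompact (isCompact_le_card _ s) (EtCount.isOpen_le_card _ s) hu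
    (by simp [hk, ENat.add_one_le_iff])⟩
  have hGn : ∀ w ∈ G, ENat.card ↥(MoreMor.geomFiber s w) = k := fun w hw => by
    refine le_antisymm ?_ hw.1
    by_contra hlt
    refine hw.2 (subset_closure ?_)
    show ((k + 1 : ℕ) : ℕ∞) ≤ _
    rw [Nat.cast_add, Nat.cast_one]
    exact Order.add_one_le_of_lt (not_le.1 hlt)
  obtain ⟨X', j, V, b, ι', hX', hj, -, hιo, hsub, hb, hbf, hbe, hbs⟩ := exists_finite_etale_of_const hA ha hG k hGn
  obtain ⟨v, hv⟩ := hsub huG
  haveI := hιo
  haveI : QuasiSeparatedSpace V.left := .of_isOpenEmbedding ι'.left.isOpenEmbedding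
  obtain ⟨T, i, hi, z, hz⟩ := exists_open_subscheme_of_codimZero hX' b hbe hbf hbs v
    (by rw [coheight_eq_of_etale ι'.left v, hv, hu])
  refine ⟨T, i ≫ j, repWith_comp hi hj, z, ?_⟩
  rw [Points.map_comp, hz, Points.map_ofPt, hb, ofPt_comp, hv, hxu]

theorem exists_dense_open_subscheme_of_zarQs (X : Space S)
    (hX : ∃ (ι : Type u) (Xi : ι → Space S) (j : ∀ i, Xi i ⟶ X),
      IsZarCover (fun i => (Xi i).obj) (fun i => (j i).hom) ∧ ∀ i, IsQuasiSeparatedSp (Xi i).obj) :
    ∃ (X' : Space S) (j : X' ⟶ X), RepWith @IsOpenImmersion j.hom ∧ X'.obj.obj.IsRepresentable ∧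
      Dense (Set.range (Points.map j.hom)) ∧
      ∀ x : Points X.obj, HasAt (fun U u => ringKrullDim ↥(U.presheaf.stalk u) = 0) X.obj x →
        x ∈ Set.range (Points.map j.hom) := by
  obtain ⟨ι, Xi, ji, hcov, hqs⟩ := hX
  obtain ⟨X', j, hj, hr, hmax⟩ := Groth.Agent.S10197.result X
  have key : ∀ (V : Over S) (b : (yon S).obj V ⟶ X.obj) (v : V.left), RepWith @Etale b → coheight v = 0 →
      Points.ofPt b v ∈ Set.range (Points.map j.hom) := fun V b v hb hv => by
    obtain ⟨i, y, hy⟩ := hcov.2 (Points.ofPt b v)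
    have hji := hcov.1 i
    have sqi := hji.rep.isPullback b
    let k := hji.rep.snd b
    haveI : IsOpenImmersion k.left := hji.property_snd b
    obtain ⟨v', hv'⟩ : v ∈ Set.range k.left := by
      obtain ⟨z', -, hz'⟩ := exists_point_of_isPullback sqi (x := y) (y := Points.ofScheme V v)
        (by rw [hy, Points.ofPt_eq_map_ofScheme])
      obtain ⟨w, rfl⟩ := (Points.schemeHomeo _).surjective z'
      exact ⟨w, (Points.schemeHomeo V).injective ((Points.map_yon_map_apply _ _).symm.trans hz')⟩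
    have hfst : RepWith @Etale (hji.rep.fst b) := repWith_of_isPullback sqi.flip hb
    obtain ⟨T, t, ht, z, hz⟩ := exists_open_subscheme_of_codimZero_qs (Xi i).property (hqs i) hfst v'
      (by rw [coheight_eq_of_etale k.left v', hv', hv])
    refine mem_range_of_openImm j hmax (t ≫ (ji i).hom) (repWith_comp ht hji) ⟨z, ?_⟩
    rw [Points.map_comp, hz, Points.map_ofPt, sqi.w, ofPt_comp, hv']
  refine ⟨X', j, hj, hr, dense_iff_inter_open.2 fun O hO hne => ?_, ?_⟩
  · obtain ⟨U, a, ha, has⟩ := X.property.atlas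
    obtain ⟨x, hx⟩ := hne
    obtain ⟨u, rfl⟩ := surjective_ofPt has x
    obtain ⟨η, hη, hη0⟩ := exists_codimZero_mem
      ⟨Points.ofPt a ⁻¹' O, hO.preimage (Points.continuous_ofPt a)⟩ ⟨u, hx⟩
    exact ⟨_, hη, key U a η ha hη0⟩
  · rintro x ⟨V, b, v, hb, rfl, hv⟩
    refine key V b v hb ?_
    rw [ringKrullDim_stalk_eq_coheight] at hv
    exact_mod_cast hv

end Groth.Agent.AlgSpDec
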