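import Groth.Agent.FibDim.RelDim
import Groth.Agent.FibDim.LocDim
import Groth.Agent.S9798
import Groth.Agent.AlgSpLib.EtLocalInst

/-!
Fibre dimension and etale morphisms; fibre dimension zero and quasi-finiteness.
-/

set_option backward.isDefEq.respectTransparency false
set_option backward.isDefEq.respectTransparency.types false

universe u

open CategoryTheory CategoryTheory.Limits AlgebraicGeometry

namespace Groth.Agent.AlgSpDec

variable {X Y Z : Scheme.{u}}

theorem fibreDimAt_eq_zero_iff (f : X ⟶ Y) [LocallyOfFiniteType f] (x : X) :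
    FlatMor.fibreDimAt f x = 0 ↔ IsOpen ({f.asFiber x} : Set ↥(f.fiber (f x))) := by
  have : LocallyOfFiniteType (f.fiberToSpecResidueField (f x)) :=
    MorphismProperty.pullback_snd (P := @LocallyOfFiniteType) _ _ ‹_›
  haveI : IsLocallyNoetherian (f.fiber (f x)) :=
    LocallyOfFiniteType.isLocallyNoetherian (f.fiberToSpecResidueField (f x))
  exact Groth.Agent.S9798.result (f.fiber (f x)) (f.asFiber x)

theorem fibreDimAt_eq_zero_of_lqf (f : X ⟶ Y) [LocallyOfFiniteType f] [LocallyQuasiFinite f] (x : X) :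
    FlatMor.fibreDimAt f x = 0 := by
  rw [fibreDimAt_eq_zero_iff]
  haveI : DiscreteTopology ↥(f ⁻¹' {f x}) :=
    isDiscrete_iff_discreteTopology.1 (f.isDiscrete_preimage_singleton (f x))
  haveI : DiscreteTopology ↥(f.fiber (f x)) := (f.fiberHomeo (f x)).isEmbedding.discreteTopology
  exact isOpen_discrete _

theorem lqf_iff_fibreDimAt (f : X ⟶ Y) [LocallyOfFiniteType f] :
    LocallyQuasiFinite f ↔ ∀ x, FlatMor.fibreDimAt f x = 0 := by
  refine ⟨fun h x => fibreDimAt_eq_zero_of_lqf f x, fun h => ?_⟩
  refine locallyQuasiFinite_iff_isDiscrete_preimage_singleton.2 fun y => ?_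
  haveI : DiscreteTopology ↥(f ⁻¹' {y}) := discreteTopology_iff_isOpen_singleton.2 fun ⟨z, hz⟩ => by
    obtain rfl : f z = y := hz
    have := (f.fiberHomeo (f z)).isOpenMap _ ((fibreDimAt_eq_zero_iff f z).1 (h z))
    rwa [Set.image_singleton, Scheme.Hom.asFiber, Homeomorph.apply_symm_apply] at this
  exact isDiscrete_iff_discreteTopology.2 inferInstance

/-- Precomposition with an etale morphism does not change the fibre dimension. -/
theorem fibreDimAt_etale_comp (e : X ⟶ Y) (g : Y ⟶ Z) [Etale e] [LocallyOfFiniteType g] (x : X) :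
    FlatMor.fibreDimAt (e ≫ g) x = FlatMor.fibreDimAt g (e x) := by
  rw [FibDim.fibreDimAt_comp_of_flat e g x (Flat.stalkMap e x), fibreDimAt_eq_zero_of_lqf e x, zero_add]

/-- Postcomposition with an etale morphism does not change the fibre dimension. -/
theorem fibreDimAt_comp_etale (h : X ⟶ Y) (e : Y ⟶ Z) [LocallyOfFiniteType h] [Etale e] (x : X) :
    FlatMor.fibreDimAt (h ≫ e) x = FlatMor.fibreDimAt h x := by
  let γ : X ⟶ pullback (h ≫ e) e := pullback.lift (𝟙 X) h (Category.id_comp _)
  haveI : Etale γ := by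
    refine MorphismProperty.of_postcomp (W := @Etale) (W' := @Etale) γ (pullback.fst (h ≫ e) e) ?_ ?_
    · exact inferInstanceAs (Etale (pullback.fst (h ≫ e) e))
    · rw [pullback.lift_fst]; exact inferInstanceAs (Etale (𝟙 X))
  have h1 : γ ≫ pullback.snd (h ≫ e) e = h := pullback.lift_snd _ _ _
  haveI : LocallyOfFiniteType (h ≫ e) := inferInstance
  haveI : LocallyOfFiniteType (pullback.snd (h ≫ e) e) :=
    MorphismProperty.pullback_snd (P := @LocallyOfFiniteType) _ _ inferInstance
  conv_rhs => rw [← h1, fibreDimAt_etale_comp,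
    FibDim.fibreDimAt_baseChange (IsPullback.of_hasPullback (h ≫ e) e)]
  rw [← Scheme.Hom.comp_apply, pullback.lift_fst]
  rfl

end Groth.Agent.AlgSpDec
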