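import Groth.Agent.AlgSpDec.QuasiAffineDescent

/-!
# Invariant functions commute with flat base change
-/

set_option backward.isDefEq.respectTransparency false
set_option backward.isDefEq.respectTransparency.types false

universe u

open CategoryTheory Limits Opposite AlgebraicGeometry
open scoped TensorProduct

namespace Groth.Agent.AlgSpDec

/-- `C → B ⇉ B₂` is exact. -/
def RingExact {C B B₂ : CommRingCat.{u}} (π : C ⟶ B) (t s : B ⟶ B₂) : Prop :=
  Function.Injective π.hom ∧ ∀ b, t.hom b = s.hom b → b ∈ Set.range π.hom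

theorem ringExact_of_isPushout {C C' B B' B₂ B₂' : CommRingCat.{u}} {π : C ⟶ B} {t s : B ⟶ B₂}
    (hex : RingExact π t s) (w : π ≫ t = π ≫ s) (h : C ⟶ C') (hflat : h.hom.Flat) {π' : C' ⟶ B'} {pB : B ⟶ B'}
    {t' s' : B' ⟶ B₂'} {p₂ : B₂ ⟶ B₂'} (H : IsPushout π h pB π') (H₂ : IsPushout (π ≫ t) h p₂ (π' ≫ t'))
    (ht : pB ≫ t' = t ≫ p₂) (hs : pB ≫ s' = s ≫ p₂) (w' : π' ≫ t' = π' ≫ s') : RingExact π' t' s' := by
  have h₁ := H.w
  have h₂ := H₂.w
  let _ : Algebra C C' := h.hom.toAlgebra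
  let _ : Algebra C B := π.hom.toAlgebra
  let _ : Algebra C B₂ := (π ≫ t).hom.toAlgebra
  let _ : Algebra C B' := (π ≫ pB).hom.toAlgebra
  let _ : Algebra C B₂' := ((π ≫ t) ≫ p₂).hom.toAlgebra
  have : Module.Flat C C' := hflat
  have happ : ∀ {X Y T : CommRingCat.{u}} {f : X ⟶ Y} {g : Y ⟶ T} {f' : X ⟶ T}, f ≫ g = f' →
      ∀ b, g.hom (f.hom b) = f'.hom b := fun h b => by subst h; rfl
  have ewB : (π ≫ pB) ≫ t' = (π ≫ t) ≫ p₂ := by rw [Category.assoc, ht, Category.assoc]
  let pBa : B →ₐ[C] B' := { pB.hom with commutes' := fun _ => rfl }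
  let pia : C' →ₐ[C] B' := { π'.hom with commutes' := fun c => happ h₁.symm c }
  let p₂a : B₂ →ₐ[C] B₂' := { p₂.hom with commutes' := fun _ => rfl }
  let r₂a : C' →ₐ[C] B₂' := { (π' ≫ t').hom with commutes' := fun c => happ h₂.symm c }
  let κ := Algebra.TensorProduct.lift pBa pia (fun _ _ => Commute.all _ _)
  let κ₂ := Algebra.TensorProduct.lift p₂a r₂a (fun _ _ => Commute.all _ _)
  have hκ : Function.Bijective κ := bijective_lift_of_isPushout pBa pia (by exact H)
  have hκ₂ : Function.Bijective κ₂ := bijective_lift_of_isPushout p₂a r₂a (by exact H₂)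
  let tl : B →ₗ[C] B₂ := (AlgHom.toLinearMap { t.hom with commutes' := fun _ => rfl })
  let sl : B →ₗ[C] B₂ := (AlgHom.toLinearMap { s.hom with commutes' := fun c => happ w.symm c })
  let L : B →ₗ[C] B₂ := tl - sl
  let i : C →ₗ[C] B := Algebra.linearMap C B
  have hi : Function.Exact i L := fun b => by
    constructor
    · intro hb
      obtain ⟨c, rfl⟩ := hex.2 b (sub_eq_zero.1 hb)
      exact ⟨c, rfl⟩
    · rintro ⟨c, rfl⟩
      exact sub_eq_zero.2 (congr($(w).hom c))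
  have hi' := Module.Flat.rTensor_exact C' hi
  have hinj : Function.Injective (i.rTensor C') :=
    Module.Flat.rTensor_preserves_injective_linearMap (M := C') i hex.1
  have key : ∀ z, κ (i.rTensor C' z) = π'.hom (TensorProduct.lid C C' z) := by
    intro z
    induction z using TensorProduct.induction_on with
    | zero => simp
    | add x y hx hy => simp only [map_add, hx, hy]
    | tmul c a =>
      simp only [LinearMap.rTensor_tmul, κ, Algebra.TensorProduct.lift_tmul, TensorProduct.lid_tmul]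
      show pB.hom (π.hom c) * π'.hom a = π'.hom (h.hom c * a)
      rw [map_mul, happ h₁.symm c]
      rfl
  have key₂ : ∀ z, κ₂ (L.rTensor C' z) = t'.hom (κ z) - s'.hom (κ z) := by
    intro z
    induction z using TensorProduct.induction_on with
    | zero => simp
    | add x y hx hy => simp only [map_add, hx, hy]; abel
    | tmul b a =>
      simp only [LinearMap.rTensor_tmul, κ, κ₂, Algebra.TensorProduct.lift_tmul, L, LinearMap.sub_apply,
        TensorProduct.sub_tmul, map_sub, map_mul]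
      show p₂.hom (t.hom b) * t'.hom (π'.hom a) - p₂.hom (s.hom b) * t'.hom (π'.hom a) =
        t'.hom (pB.hom b) * t'.hom (π'.hom a) - s'.hom (pB.hom b) * s'.hom (π'.hom a)
      rw [happ ht b, happ hs b, happ w'.symm a]
      rfl
  refine ⟨fun a a' haa => ?_, fun b hb => ?_⟩
  · refine (TensorProduct.lid C C').symm.injective (hinj (hκ.1 ?_))
    rw [key, key, LinearEquiv.apply_symm_apply, LinearEquiv.apply_symm_apply, haa]
  · obtain ⟨z, rfl⟩ := hκ.2 b
    have : L.rTensor C' z = 0 := hκ₂.1 (by rw [key₂, hb, sub_self, map_zero])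
    obtain ⟨x, rfl⟩ := (hi' z).1 this
    exact ⟨_, (key x).symm⟩

/-- Invariant functions: `Γ(Y) → Γ(R) ⇉ Γ(R₂)` is exact. -/
def InvExact {R₂ R Y : Scheme.{u}} (t s : R₂ ⟶ R) (π : R ⟶ Y) : Prop :=
  RingExact π.appTop t.appTop s.appTop

theorem invExact_of_flat {R₂ R Y R₂' R' Y' : Scheme.{u}} [IsAffine Y] [IsAffine Y'] [IsAffine R] [IsAffine R₂]
    {t s : R₂ ⟶ R} {π : R ⟶ Y} (hex : InvExact t s π) (w : t ≫ π = s ≫ π) (h : Y' ⟶ Y) [Flat h]
    {π' : R' ⟶ Y'} {pR : R' ⟶ R} {t' s' : R₂' ⟶ R'} {p₂ : R₂' ⟶ R₂} (H : IsPullback pR π' π h)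
    (H₂ : IsPullback p₂ (t' ≫ π') (t ≫ π) h) (ht : t' ≫ pR = p₂ ≫ t) (hs : s' ≫ pR = p₂ ≫ s)
    (w' : t' ≫ π' = s' ≫ π') : InvExact t' s' π' := by
  have h1 := isPushout_appTop H
  have h2 := isPushout_appTop H₂
  refine ringExact_of_isPushout hex (by rw [← Scheme.Hom.comp_appTop, w, Scheme.Hom.comp_appTop]) h.appTop
    h.flat_appTop h1 (by rw [← Scheme.Hom.comp_appTop, ← Scheme.Hom.comp_appTop]; exact h2) ?_ ?_ ?_
  · rw [← Scheme.Hom.comp_appTop, ← Scheme.Hom.comp_appTop, ht]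
  · rw [← Scheme.Hom.comp_appTop, ← Scheme.Hom.comp_appTop, hs]
  · rw [← Scheme.Hom.comp_appTop, ← Scheme.Hom.comp_appTop, w']

/-- Maps into an affine scheme out of `Y` are detected on `R`. -/
theorem InvExact.hom_ext {R₂ R Y Z : Scheme.{u}} {t s : R₂ ⟶ R} {π : R ⟶ Y} (hex : InvExact t s π) [IsAffine Z]
    {g g' : Y ⟶ Z} (h : π ≫ g = π ≫ g') : g = g' := by
  refine ext_of_isAffine ?_
  have h' := congrArg Scheme.Hom.appTop h
  rw [Scheme.Hom.comp_appTop, Scheme.Hom.comp_appTop] at h'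
  exact CommRingCat.hom_ext (RingHom.ext fun x => hex.1 (congr($(h').hom x)))

/-- An invariant map from `R` to an affine scheme factors through `Y`. -/
theorem InvExact.exists_desc {R₂ R Y Z : Scheme.{u}} [IsAffine Y] [IsAffine Z] {t s : R₂ ⟶ R} {π : R ⟶ Y}
    (hex : InvExact t s π) (f : R ⟶ Z) (hf : t ≫ f = s ≫ f) : ∃ g : Y ⟶ Z, π ≫ g = f := by
  have hf' := congrArg Scheme.Hom.appTop hf
  rw [Scheme.Hom.comp_appTop, Scheme.Hom.comp_appTop] at hf'
  choose e he using fun x => hex.2 (f.appTop.hom x) (congr($(hf').hom x))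
  let ψ : Γ(Z, ⊤) ⟶ Γ(Y, ⊤) := CommRingCat.ofHom
    { toFun := e
      map_one' := hex.1 (by rw [he, map_one, map_one])
      map_mul' := fun x y => hex.1 (by rw [he, map_mul, map_mul, he, he])
      map_zero' := hex.1 (by rw [he, map_zero, map_zero])
      map_add' := fun x y => hex.1 (by rw [he, map_add, map_add, he, he]) }
  refine ⟨Y.isoSpec.hom ≫ Spec.map ψ ≫ Z.isoSpec.inv, ext_of_isAffine ?_⟩
  rw [Scheme.Hom.comp_appTop]
  have hψ : (Y.isoSpec.hom ≫ Spec.map ψ ≫ Z.isoSpec.inv).appTop = ψ := by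
    simp only [Scheme.Hom.comp_appTop, Category.assoc]
    simp [Scheme.isoSpec, Scheme.ΓSpecIso_naturality]
  rw [hψ]
  exact CommRingCat.hom_ext (RingHom.ext he)

end Groth.Agent.AlgSpDec
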