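import Groth.Agent.AlgSpDec.FiniteQuot
import Groth.Agent.GrpdLib.EquivRel

/-!
# The quotient of an affine scheme mapping to a sheaf with finite locally free kernel pair
-/

set_option backward.isDefEq.respectTransparency false
set_option backward.isDefEq.respectTransparency.types false

universe u

open CategoryTheory Limits Opposite AlgebraicGeometry AlgSp Groth.Agent.AlgSpLib

namespace Groth.Agent.AlgSpDec

variable {S : Scheme.{u}} {G : Sp S} {V V₂ : Over S} {a : (yon S).obj V ⟶ G} {t s : V₂ ⟶ V}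

theorem mono_j_groupoid (sq : IsPullback ((yon S).map t) ((yon S).map s) a a)
    {pU : V.left ⟶ S} {pR : V₂.left ⟶ S} {ht : t.left ≫ pU = pR} {hs : s.left ≫ pU = pR} :
    Mono (pullback.lift (f := pU) (g := pU) t.left s.left (ht.trans hs.symm)) := by
  refine ⟨fun y y' h => rel_ext sq ?_ ?_⟩
  · simpa using congrArg (· ≫ pullback.fst pU pU) h
  · simpa using congrArg (· ≫ pullback.snd pU pU) h

/-- The quotient data on the level of schemes. -/
theorem exists_affine_coequalizer (sq : IsPullback ((yon S).map t) ((yon S).map s) a a) [IsAffine V.left]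
    [IsFinite s.left] [Flat s.left] [LocallyOfFinitePresentation s.left] :
    ∃ (W : Scheme.{u}) (π : V.left ⟶ W), IsAffine W ∧ fppf π ∧ IsPullback t.left s.left π π := by
  have hRa : IsAffine V₂.left := isAffine_of_isAffineHom s.left
  obtain ⟨G', hU, hR, hs, ht⟩ := exists_groupoid sq
  obtain ⟨GU, GR, pU, pR, gs, gt, ge, gi, gc, h1, h2, h3, h4, h5, h6, h7, h8, h9, h10, h11, h12, h13⟩ := G'
  subst hU hR
  obtain rfl : gs = s.left := eq_of_heq hs
  obtain rfl : gt = t.left := eq_of_heq ht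
  let G' : Grpd.GroupoidScheme S :=
    ⟨_, _, pU, pR, _, _, ge, gi, gc, h1, h2, h3, h4, h5, h6, h7, h8, h9, h10, h11, h12, h13⟩
  have iU : IsAffine G'.U := ‹IsAffine V.left›
  have iR : IsAffine G'.R := hRa
  have iF : IsFinite G'.s := ‹IsFinite s.left›
  have iFl : Flat G'.s := ‹Flat s.left›
  have iFp : LocallyOfFinitePresentation G'.s := ‹LocallyOfFinitePresentation s.left›
  have iM : Mono G'.j := mono_j_groupoid sq (ht := G'.t_over) (hs := G'.s_over)
  obtain ⟨hfin, hflat, hfp⟩ := GrpdLib.toQuot_finLocFree G'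
  have : Surjective G'.toQuot := ⟨GrpdLib.surjective_toQuot (G := G')⟩
  exact ⟨_, G'.toQuot, inferInstanceAs (IsAffine (Spec _)), fppf_of G'.toQuot, GrpdLib.isPullback_toQuot G'⟩

/-- A map from an affine scheme to a sheaf, with finite locally free kernel pair, factors as an fppf
cover of an affine scheme followed by a monomorphism. -/
theorem exists_quot_of_finite_relation (sq : IsPullback ((yon S).map t) ((yon S).map s) a a) [IsAffine V.left]
    [IsFinite s.left] [Flat s.left] [LocallyOfFinitePresentation s.left] :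
    ∃ (W : Over S) (q : V ⟶ W) (m : (yon S).obj W ⟶ G),
      IsAffine W.left ∧ fppf q.left ∧ Mono m ∧ (yon S).map q ≫ m = a := by
  obtain ⟨W₀, π, hWa, hπ, sqπ⟩ := exists_affine_coequalizer sq
  obtain ⟨hπs, hπf, hπp⟩ : Surjective π ∧ Flat π ∧ LocallyOfFinitePresentation π := ⟨hπ.1.1, hπ.1.2, hπ.2⟩
  have : QuasiCompact π := inferInstance
  have : EffectiveEpi π := inferInstance
  have hdesc : ∀ {Z : Scheme.{u}} (g₁ g₂ : Z ⟶ V.left), g₁ ≫ π = g₂ ≫ π → g₁ ≫ V.hom = g₂ ≫ V.hom :=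
      fun g₁ g₂ h => by
    rw [← sqπ.lift_fst g₁ g₂ h, Category.assoc, Over.w t, ← Over.w s, ← Category.assoc, sqπ.lift_snd]
  let W : Over S := Over.mk (EffectiveEpi.desc π V.hom hdesc)
  let q : V ⟶ W := CategoryTheory.Over.homMk π (EffectiveEpi.fac π V.hom hdesc)
  have hq : fppf q.left := hπ
  have hlift : ∀ {T : Over S} (y z : T ⟶ V), y ≫ q = z ≫ q → ∃ r : T ⟶ V₂, r ≫ t = y ∧ r ≫ s = z := by
    intro T y z h
    let r := sqπ.lift y.left z.left (congrArg Over.Hom.left h)
    refine ⟨CategoryTheory.Over.homMk r ?_, Over.OverMorphism.ext (sqπ.lift_fst _ _ _),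
      Over.OverMorphism.ext (sqπ.lift_snd _ _ _)⟩
    rw [← Over.w t, ← Category.assoc, sqπ.lift_fst, Over.w y]
  obtain ⟨v, hv, -⟩ := Presieve.isSheafFor_singleton.1
    ((Presieve.isSheafFor_iff_generate _).2 (((isSheaf_iff_isSheaf_of_type _ _).1 G.property) _
      (mem_J_of_fppf q hq (Sieve.generate (Presieve.singleton q))
        ⟨_, 𝟙 _, q, Presieve.singleton_self q, Category.id_comp _⟩)))
    ((J S).uliftYonedaEquiv a) (fun {Z} y z h => by
      obtain ⟨r, rfl, rfl⟩ := hlift y z h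
      rw [uliftYonedaEquiv_precomp, uliftYonedaEquiv_precomp, Functor.map_comp, Functor.map_comp,
        Category.assoc, Category.assoc, sq.w])
  obtain ⟨m, rfl⟩ : ∃ m : (yon S).obj W ⟶ G, (J S).uliftYonedaEquiv m = v := ⟨_, Equiv.apply_symm_apply _ _⟩
  have hm : (yon S).map q ≫ m = a := (J S).uliftYonedaEquiv.injective (by rw [← uliftYonedaEquiv_precomp]; exact hv)
  refine ⟨W, q, m, hWa, hq, mono_of_yon_injective fun T y z hyz => ?_, hm⟩
  obtain ⟨y, rfl⟩ := (yon S).map_surjective y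
  obtain ⟨z, rfl⟩ := (yon S).map_surjective z
  have hlocal : ∀ {T : Over S} (y : T ⟶ W),
      ∃ (T' : Over S) (φ : T' ⟶ T) (y' : T' ⟶ V), fppf φ.left ∧ y' ≫ q = φ ≫ y := by
    intro T y
    have hi := representable_yon_map (S := S) q
    refine ⟨_, hi.snd ((yon S).map y), hi.fst' ((yon S).map y),
      ((repWith_yon_map_iff fppf q).2 hq).property _ _ _ (hi.isPullback ((yon S).map y)),
      (yon S).map_injective ?_⟩
    rw [Functor.map_comp, Functor.map_comp]
    exact (hi.isPullback' ((yon S).map y)).w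
  obtain ⟨T₁, φ₁, y₁, hφ₁, hy₁⟩ := hlocal y
  obtain ⟨T₂, φ₂, z', hφ₂, hz'⟩ := hlocal (φ₁ ≫ z)
  have hy' : (φ₂ ≫ y₁) ≫ q = (φ₂ ≫ φ₁) ≫ y := by rw [Category.assoc, hy₁, Category.assoc]
  have hz'' : z' ≫ q = (φ₂ ≫ φ₁) ≫ z := by rw [hz', Category.assoc]
  have hyz' : (yon S).map (φ₂ ≫ y₁) ≫ a = (yon S).map z' ≫ a := by
    rw [← hm, ← Category.assoc, ← Category.assoc, ← Functor.map_comp, ← Functor.map_comp, hy', hz'',
      Functor.map_comp _ _ y, Functor.map_comp _ _ z, Category.assoc, Category.assoc, hyz]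
  obtain ⟨r, e₁, e₂⟩ := exists_rel_lift sq _ _ hyz'
  have hrq : (φ₂ ≫ y₁) ≫ q = z' ≫ q := by
    rw [← e₁, ← e₂, Category.assoc, Category.assoc]
    exact congrArg (r ≫ ·) (Over.OverMorphism.ext sqπ.w)
  refine hom_ext_of_fppf (φ₂ ≫ φ₁) (MorphismProperty.comp_mem _ φ₂.left φ₁.left hφ₂ hφ₁) _ _ ?_
  rw [← Functor.map_comp, ← Functor.map_comp, ← hy', ← hz'', hrq]

end Groth.Agent.AlgSpDec
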