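import Groth.Agent.AlgSpDec.ClosedSub
import Groth.Agent.AlgSpPts.Sep
import Groth.Prelude.Def_AlgSpSub

/-!
# Scheme theoretic images exist
-/

set_option backward.isDefEq.respectTransparency false
set_option backward.isDefEq.respectTransparency.types false

universe u

open CategoryTheory Limits Opposite AlgebraicGeometry AlgSp Groth.Agent.AlgSpLib Groth.Agent.AlgSpPts

namespace Groth.Agent.AlgSpDec

variable {S : Scheme.{u}} {X Y : Sp S}

theorem mono_of_closedImmersion {f : X ⟶ Y} (hf : RepWith @IsClosedImmersion f) : Mono f :=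
  mono_of_repWith (repWith_mono (fun _ _ e (_ : IsClosedImmersion e) => inferInstanceAs (Mono e)) _ hf)

/-- Factoring through a monomorphism is local for etale coverings of the source. -/
theorem exists_factor_of_cover {Z W : Sp S} {b : W ⟶ X} (hb : RepWith @Etale b) (hbs : RepWith @Surjective b)
    (f : X ⟶ Y) {j : Z ⟶ Y} [Mono j] (h : ∃ g, g ≫ j = b ≫ f) : ∃ f', f' ≫ j = f := by
  obtain ⟨g, hg⟩ := h
  have : Epi b := epi_of_etale_surjective hb hbs
  have : Epi (pullback.fst f j) := epi_of_epi_fac (f := pullback.lift b g hg.symm) (pullback.lift_fst _ _ _)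
  have : IsIso (pullback.fst f j) := isIso_of_mono_of_epi _
  exact ⟨inv (pullback.fst f j) ≫ pullback.snd f j, by rw [Category.assoc, ← pullback.condition, IsIso.inv_hom_id_assoc]⟩

/-- A map to an atlas factors through a closed subscheme iff its image in the space factors through the
closed subspace. -/
theorem factor_iff_of_isPullback {T U ZU : Over S} {Z : Sp S} {a : (yon S).obj U ⟶ Y} {j : Z ⟶ Y}
    {i : ZU ⟶ U} {q : (yon S).obj ZU ⟶ Z} (sq : IsPullback q ((yon S).map i) j a) (x : T ⟶ U) :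
    (∃ l, l ≫ i = x) ↔ ∃ g, g ≫ j = (yon S).map x ≫ a := by
  constructor
  · rintro ⟨l, rfl⟩
    exact ⟨(yon S).map l ≫ q, by rw [Category.assoc, sq.w, Functor.map_comp, Category.assoc]⟩
  · rintro ⟨g, hg⟩
    refine ⟨(yon S).preimage (sq.lift g ((yon S).map x) hg), (yon S).map_injective ?_⟩
    simp

theorem factor_iff_ker_le {T U ZU : Over S} (i : ZU ⟶ U) [IsClosedImmersion i.left] (x : T ⟶ U) :
    (∃ l, l ≫ i = x) ↔ i.left.ker ≤ x.left.ker := by
  constructor
  · rintro ⟨l, rfl⟩
    exact Scheme.Hom.le_ker_comp _ _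
  · intro h
    exact ⟨CategoryTheory.Over.homMk (IsClosedImmersion.lift i.left x.left h) (by
      rw [← Over.w i, IsClosedImmersion.lift_fac_assoc, Over.w x]), Over.OverMorphism.ext
        (IsClosedImmersion.lift_fac _ _ _)⟩

/-- Scheme theoretic images exist. -/
theorem exists_schImage (hX : IsAlgSpace X) (hY : IsAlgSpace Y) (f : X ⟶ Y) :
    ∃ (Z : Space S) (j : Z.obj ⟶ Y), IsSchImage f j := by
  obtain ⟨W, U, b, a, h, hb, hbs, ha, has, hsq⟩ := exists_chart hX hY f
  -- the ideals on the atlas of the closed subspaces receiving `f`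
  let K : Set U.left.IdealSheafData := {J | ∃ (Z' : Sp S) (i' : Z' ⟶ Y) (ZU' : Over S) (i : ZU' ⟶ U)
    (q : (yon S).obj ZU' ⟶ Z'), IsClosedImmersion i.left ∧ IsPullback q ((yon S).map i) i' a ∧
      (∃ f'' : X ⟶ Z', f'' ≫ i' = f) ∧ J = i.left.ker}
  let I := sSup K
  let ZU : Over S := Over.mk (I.subschemeι ≫ U.hom)
  let i : ZU ⟶ U := CategoryTheory.Over.homMk I.subschemeι rfl
  have : IsClosedImmersion i.left := inferInstanceAs (IsClosedImmersion I.subschemeι)
  have hker : i.left.ker = I := I.ker_subschemeι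
  have hcompat : ∀ (T : Over S) (x y : T ⟶ U), (yon S).map x ≫ a = (yon S).map y ≫ a →
      (∃ l, l ≫ i = x) → ∃ l, l ≫ i = y := by
    intro T x y hxy hx
    rw [factor_iff_ker_le, hker] at hx ⊢
    refine sSup_le ?_
    rintro J ⟨Z', i', ZU', i₀, q, hi₀, sq, hf, rfl⟩
    rw [← factor_iff_ker_le, factor_iff_of_isPullback sq, ← hxy, ← factor_iff_of_isPullback sq,
      factor_iff_ker_le]
    exact le_trans (le_sSup (s := K) ⟨Z', i', ZU', i₀, q, hi₀, sq, hf, rfl⟩) hx
  obtain ⟨Z, j, q, hj, sq, hqe, hqs⟩ := exists_closed_subspace hY ha has hcompat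
  have := mono_of_closedImmersion hj
  refine ⟨Z, j, hj, exists_factor_of_cover hb hbs f ?_, fun Z' i' _ hi' hf' => ?_⟩
  · rw [hsq, ← factor_iff_of_isPullback sq, factor_iff_ker_le, hker]
    refine sSup_le ?_
    rintro J ⟨Z', i', ZU', i₀, q', hi₀, sq', ⟨f'', hf''⟩, rfl⟩
    rw [← factor_iff_ker_le, factor_iff_of_isPullback sq']
    exact ⟨b ≫ f'', by rw [Category.assoc, hf'', hsq]⟩
  · have := mono_of_closedImmersion hi'
    refine exists_factor_of_cover hqe hqs j ?_
    rw [sq.w]
    have : IsClosedImmersion (hi'.rep.snd a).left := hi'.property_snd a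
    rw [← factor_iff_of_isPullback (hi'.rep.isPullback a), factor_iff_ker_le, hker]
    exact le_sSup ⟨Z', i', _, _, _, this, hi'.rep.isPullback a, hf', rfl⟩

end Groth.Agent.AlgSpDec
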