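import Mathlib.AlgebraicGeometry.ZariskisMainTheorem
import Groth.Agent.AlgSpDec.MonoQuot
import Groth.Agent.AlgSpDec.InvFun
import Groth.Agent.AlgSpDec.AffineProps
import Groth.Agent.AlgSpDec.SchImage
import Groth.Agent.AlgSpPts.Sep

/-!
# The finite piece of a separated locally quasi-finite space over an etale neighbourhood
-/

set_option backward.isDefEq.respectTransparency false
set_option backward.isDefEq.respectTransparency.types false

universe u

open CategoryTheory Limits Opposite AlgebraicGeometry AlgSp Groth.Agent.AlgSpLib Groth.Agent.AlgSpPts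

namespace Groth.Agent.AlgSpDec

/-- An invariant clopen subset of `R` comes from an affine open of `Y`. -/
theorem InvExact.exists_affineOpen {R₂ R Y : Scheme.{u}} [IsAffine Y] [IsAffine R] [IsAffine R₂]
    {t s : R₂ ⟶ R} {π : R ⟶ Y} (hex : InvExact t s π) {C : R.Opens} (hC : IsClosed (C : Set R))
    (hinv : t ⁻¹ᵁ C = s ⁻¹ᵁ C) : ∃ O : Y.Opens, IsAffineOpen O ∧ π ⁻¹ᵁ O = C := by
  obtain ⟨e, he, hCe⟩ : ∃ e : Γ(R, ⊤), IsIdempotentElem e ∧ R.basicOpen e = C := by
    have hhom := R.isoSpec.hom.homeomorph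
    obtain ⟨e, he, hs⟩ := PrimeSpectrum.exists_idempotent_basicOpen_eq_of_isClopen
      (s := R.isoSpec.inv ⁻¹' (C : Set R))
      ⟨hC.preimage R.isoSpec.inv.continuous, C.2.preimage R.isoSpec.inv.continuous⟩
    refine ⟨e, he, ?_⟩
    rw [← R.toSpecΓ_preimage_basicOpen e]
    ext x
    have hx : R.isoSpec.inv (R.isoSpec.hom x) = x := by
      rw [← Scheme.Hom.comp_apply, Iso.hom_inv_id]; rfl
    show R.toSpecΓ x ∈ ((PrimeSpectrum.basicOpen e : TopologicalSpace.Opens (PrimeSpectrum Γ(R, ⊤))) :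
      Set (PrimeSpectrum Γ(R, ⊤))) ↔ x ∈ (C : Set R)
    rw [show (R.toSpecΓ x) = R.isoSpec.hom x from rfl, ← hs, Set.mem_preimage, hx]
  have key : t.appTop.hom e = s.appTop.hom e := by
    have hbo : R₂.basicOpen (t.appTop.hom e) = R₂.basicOpen (s.appTop.hom e) := by
      rw [← Scheme.preimage_basicOpen_top, ← Scheme.preimage_basicOpen_top, hCe, hinv]
    refine PrimeSpectrum.basicOpen_injOn_isIdempotentElem (he.map t.appTop.hom) (he.map s.appTop.hom) ?_
    rw [← R₂.toSpecΓ_preimage_basicOpen, ← R₂.toSpecΓ_preimage_basicOpen] at hbo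
    ext y
    have hy : R₂.toSpecΓ (R₂.isoSpec.inv y) = y := by
      show R₂.isoSpec.hom (R₂.isoSpec.inv y) = y
      rw [← Scheme.Hom.comp_apply, Iso.inv_hom_id]; rfl
    rw [← hy]
    exact SetLike.ext_iff.1 hbo (R₂.isoSpec.inv y)
  obtain ⟨c, hc⟩ := hex.2 e key
  exact ⟨Y.basicOpen c, (isAffineOpen_top Y).basicOpen c, by rw [Scheme.preimage_basicOpen_top, hc, hCe]⟩

variable {S : Scheme.{u}}

section Relation

variable {G : Sp S} {R R₂ : Over S} {a : (yon S).obj R ⟶ G} {t s : R₂ ⟶ R}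

theorem exists_point_comp (sq : IsPullback ((yon S).map t) ((yon S).map s) a a) (r r' : R₂.left)
    (p p' q q' : R₂ ⟶ R) (hq : (yon S).map p ≫ a = (yon S).map q ≫ a)
    (hq' : (yon S).map p' ≫ a = (yon S).map q' ≫ a) (h : p.left r = p'.left r') :
    ∃ r'', t.left r'' = q'.left r' ∧ s.left r'' = q.left r := by
  obtain ⟨z, hz, hz'⟩ := Scheme.Pullback.exists_preimage_pullback r r' h
  have sqp : IsPullback (pullback.fst p p').left (pullback.snd p p').left p.left p'.left :=
    (IsPullback.of_hasPullback p p').map (Over.forget S)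
  have hzp : ∃ z' : (pullback p p').left, (pullback.fst p p').left z' = r ∧ (pullback.snd p p').left z' = r' := by
    refine ⟨sqp.isoPullback.inv z, ?_, ?_⟩
    · rw [← Scheme.Hom.comp_apply]
      erw [sqp.isoPullback_inv_fst]
      exact hz
    · rw [← Scheme.Hom.comp_apply]
      erw [sqp.isoPullback_inv_snd]
      exact hz'
  obtain ⟨z', hz₁, hz₂⟩ := hzp
  obtain ⟨l, hl₁, hl₂⟩ := exists_rel_lift sq (pullback.snd p p' ≫ q') (pullback.fst p p' ≫ q) (by
    rw [Functor.map_comp, Functor.map_comp, Category.assoc, Category.assoc, ← hq', ← hq, ← Category.assoc,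
      ← Category.assoc, ← Functor.map_comp, ← Functor.map_comp, pullback.condition])
  refine ⟨l.left z', ?_, ?_⟩
  · rw [← Scheme.Hom.comp_apply, ← Over.comp_left, hl₁, Over.comp_left, Scheme.Hom.comp_apply, hz₂]
  · rw [← Scheme.Hom.comp_apply, ← Over.comp_left, hl₂, Over.comp_left, Scheme.Hom.comp_apply, hz₁]

/-- The saturation of a subset is invariant. -/
theorem preimage_saturation (sq : IsPullback ((yon S).map t) ((yon S).map s) a a) (D : Set R.left) :
    t.left ⁻¹' (t.left '' (s.left ⁻¹' D)) = s.left ⁻¹' (t.left '' (s.left ⁻¹' D)) := by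
  ext r'
  constructor
  · rintro ⟨r, hr, hrr⟩
    obtain ⟨r'', h1, h2⟩ := exists_point_comp sq r r' t t s s sq.w sq.w hrr
    exact ⟨r'', by rw [Set.mem_preimage, h2]; exact hr, h1⟩
  · rintro ⟨r, hr, hrr⟩
    obtain ⟨r'', h1, h2⟩ := exists_point_comp sq r r' t s s t sq.w sq.w.symm hrr
    exact ⟨r'', by rw [Set.mem_preimage, h2]; exact hr, h1⟩

theorem subset_saturation (sq : IsPullback ((yon S).map t) ((yon S).map s) a a) (D : Set R.left) :
    D ⊆ t.left '' (s.left ⁻¹' D) := fun x hx => by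
  obtain ⟨e, he₁, he₂⟩ := exists_rel_lift sq (𝟙 R) (𝟙 R) rfl
  have h1 : t.left (e.left x) = x := by rw [← Scheme.Hom.comp_apply, ← Over.comp_left, he₁]; rfl
  have h2 : s.left (e.left x) = x := by rw [← Scheme.Hom.comp_apply, ← Over.comp_left, he₂]; rfl
  exact ⟨e.left x, by rw [Set.mem_preimage, h2]; exact hx, h1⟩

end Relation

/-- An open of `X.left` as an object over `S`. -/
noncomputable abbrev openOver (X : Over S) (U : X.left.Opens) : Over S := Over.mk (U.ι ≫ X.hom)

/-- The inclusion of an open. -/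
noncomputable abbrev openOverι (X : Over S) (U : X.left.Opens) : openOver X U ⟶ X := CategoryTheory.Over.homMk U.ι rfl

/-- Restriction of a morphism over `S` to an open of the target. -/
noncomputable abbrev openOverRes {X Y : Over S} (f : X ⟶ Y) (U : Y.left.Opens) :
    openOver X (f.left ⁻¹ᵁ U) ⟶ openOver Y U :=
  CategoryTheory.Over.homMk (f.left ∣_ U) (by
    show (f.left ∣_ U) ≫ U.ι ≫ Y.hom = (f.left ⁻¹ᵁ U).ι ≫ X.hom
    rw [← Category.assoc, morphismRestrict_ι, Category.assoc, Over.w f])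

theorem isPullback_openOverRes {X Y : Over S} (f : X ⟶ Y) (U : Y.left.Opens) :
    IsPullback (openOverι X (f.left ⁻¹ᵁ U)) (openOverRes f U) f (openOverι Y U) :=
  IsPullback.of_map_of_faithful (Over.forget S) (isPullback_morphismRestrict f.left U).flip

theorem exists_res {X Y : Over S} (f : X ⟶ Y) (U : Y.left.Opens) {V : X.left.Opens} (h : f.left ⁻¹ᵁ U = V) :
    ∃ f' : openOver X V ⟶ openOver Y U,
      f' ≫ openOverι Y U = openOverι X V ≫ f ∧ IsPullback (openOverι X V) f' f (openOverι Y U) := by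
  subst h
  exact ⟨openOverRes f U, (isPullback_openOverRes f U).w.symm, isPullback_openOverRes f U⟩

/-- The base change of a kernel pair. -/
theorem isPullback_baseChange {P Q : Sp S} {f : P ⟶ Q} {U R R₂ RU R₂U : Over S} {b : (yon S).obj U ⟶ Q}
    {a : (yon S).obj R ⟶ P} {t s : R₂ ⟶ R} (sq : IsPullback ((yon S).map t) ((yon S).map s) a a)
    {pr : RU ⟶ R} {sn : RU ⟶ U} (sqR : IsPullback ((yon S).map pr) ((yon S).map sn) (a ≫ f) b)
    {p₂ : R₂U ⟶ R₂} {tU sU : R₂U ⟶ RU} (ht : tU ≫ pr = p₂ ≫ t) (hs : sU ≫ pr = p₂ ≫ s)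
    (hts : tU ≫ sn = sU ≫ sn)
    (sqR₂ : IsPullback ((yon S).map p₂) ((yon S).map (tU ≫ sn)) ((yon S).map t ≫ a ≫ f) b)
    {aU : (yon S).obj RU ⟶ pullback f b} (h₁ : aU ≫ pullback.fst f b = (yon S).map pr ≫ a)
    (h₂ : aU ≫ pullback.snd f b = (yon S).map sn) :
    IsPullback ((yon S).map tU) ((yon S).map sU) aU aU := by
  have w : (yon S).map tU ≫ aU = (yon S).map sU ≫ aU := by
    refine pullback.hom_ext ?_ ?_
    · rw [Category.assoc, Category.assoc, h₁, ← Category.assoc, ← Category.assoc, ← Functor.map_comp,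
        ← Functor.map_comp, ht, hs, Functor.map_comp, Functor.map_comp, Category.assoc, Category.assoc, sq.w]
    · rw [Category.assoc, Category.assoc, h₂, ← Functor.map_comp, ← Functor.map_comp, hts]
  have ht' : (yon S).map tU ≫ (yon S).map pr = (yon S).map p₂ ≫ (yon S).map t := by
    rw [← Functor.map_comp, ← Functor.map_comp, ht]
  have hs' : (yon S).map sU ≫ (yon S).map pr = (yon S).map p₂ ≫ (yon S).map s := by
    rw [← Functor.map_comp, ← Functor.map_comp, hs]
  have hts' : (yon S).map tU ≫ (yon S).map sn = (yon S).map sU ≫ (yon S).map sn := by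
    rw [← Functor.map_comp, ← Functor.map_comp, hts]
  refine ⟨⟨w⟩, ⟨PullbackCone.isLimitAux' _ fun c => ?_⟩⟩
  have hc : (c.fst ≫ (yon S).map pr) ≫ a = (c.snd ≫ (yon S).map pr) ≫ a := by
    rw [Category.assoc, Category.assoc, ← h₁, ← Category.assoc, ← Category.assoc, c.condition]
  have hcn : c.fst ≫ (yon S).map sn = c.snd ≫ (yon S).map sn := by
    rw [← h₂, ← Category.assoc, ← Category.assoc, c.condition]
  have hr : sq.lift _ _ hc ≫ ((yon S).map t ≫ a ≫ f) = (c.fst ≫ (yon S).map sn) ≫ b := by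
    rw [sq.lift_fst_assoc, Category.assoc, Category.assoc, sqR.w]
  refine ⟨sqR₂.lift _ _ hr, ?_, ?_, fun {m} hm₁ hm₂ => ?_⟩
  · refine sqR.hom_ext ?_ ?_
    · show (sqR₂.lift _ _ hr ≫ (yon S).map tU) ≫ (yon S).map pr = c.fst ≫ (yon S).map pr
      rw [Category.assoc, ht', sqR₂.lift_fst_assoc, sq.lift_fst]
    · show (sqR₂.lift _ _ hr ≫ (yon S).map tU) ≫ (yon S).map sn = c.fst ≫ (yon S).map sn
      rw [Category.assoc, ← Functor.map_comp, sqR₂.lift_snd]
  · refine sqR.hom_ext ?_ ?_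
    · show (sqR₂.lift _ _ hr ≫ (yon S).map sU) ≫ (yon S).map pr = c.snd ≫ (yon S).map pr
      rw [Category.assoc, hs', sqR₂.lift_fst_assoc, sq.lift_snd]
    · show (sqR₂.lift _ _ hr ≫ (yon S).map sU) ≫ (yon S).map sn = c.snd ≫ (yon S).map sn
      rw [Category.assoc, ← hts', ← Functor.map_comp, sqR₂.lift_snd, hcn]
  · change m ≫ (yon S).map tU = c.fst at hm₁
    change m ≫ (yon S).map sU = c.snd at hm₂
    refine sqR₂.hom_ext ?_ ?_
    · rw [sqR₂.lift_fst]
      refine sq.hom_ext ?_ ?_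
      · rw [sq.lift_fst, Category.assoc, ← ht', ← Category.assoc, hm₁]
      · rw [sq.lift_snd, Category.assoc, ← hs', ← Category.assoc, hm₂]
    · rw [sqR₂.lift_snd, Functor.map_comp, ← Category.assoc, hm₁]

/-- The piece of `Y` cut out by a finite clopen part of an etale neighbourhood. -/
theorem exists_piece {P : Sp S} {T R R₂ Y U RU : Over S} [IsAffine T.left] [IsAffine R.left] [IsAffine R₂.left]
    [IsAffine Y.left] [IsAffine U.left] {f : P ⟶ (yon S).obj T} (hsep : IsSeparatedMor f)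
    {a : (yon S).obj R ⟶ P} (ha : RepWith @Etale a) (has : RepWith @Surjective a)
    {t s : R₂ ⟶ R} (sq : IsPullback ((yon S).map t) ((yon S).map s) a a) {π : R ⟶ Y} {π₀ : Y ⟶ T}
    (hρ : (yon S).map (π ≫ π₀) = a ≫ f) (hw : t ≫ π = s ≫ π) (hex : InvExact t.left s.left π.left)
    {g : P ⟶ (yon S).obj Y} (hg : a ≫ g = (yon S).map π) (ū : U ⟶ T) [Etale ū.left]
    {pr : RU ⟶ R} {sn : RU ⟶ U} (sqR₀ : IsPullback pr sn (π ≫ π₀) ū)
    (V : RU.left.Opens) (hVc : IsClosed (V : Set RU.left)) (hVf : IsFinite (V.ι ≫ sn.left)) :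
    ∃ (O : Over S) (h : O ⟶ Y) (μ : (yon S).obj O ⟶ P), Etale h.left ∧ μ ≫ g = (yon S).map h ∧
      (∀ ⦃T' : Over S⦄ (y : (yon S).obj T' ⟶ P) (o : T' ⟶ O),
        y ≫ g = (yon S).map (o ≫ h) → y = (yon S).map o ≫ μ) ∧
      ∀ v ∈ V, (pr ≫ π).left v ∈ Set.range h.left := by
  -- the base change to `U`
  let sqY₀ := IsPullback.of_hasPullback π₀ ū
  let YU : Over S := pullback π₀ ū
  let prY : YU ⟶ Y := pullback.fst π₀ ū
  let snY : YU ⟶ U := pullback.snd π₀ ū
  let R₂U : Over S := pullback (t ≫ π ≫ π₀) ū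
  let p₂ : R₂U ⟶ R₂ := pullback.fst (t ≫ π ≫ π₀) ū
  let sn₂ : R₂U ⟶ U := pullback.snd (t ≫ π ≫ π₀) ū
  have w₂ : p₂ ≫ t ≫ π ≫ π₀ = sn₂ ≫ ū := pullback.condition
  let tU : R₂U ⟶ RU := sqR₀.lift (p₂ ≫ t) sn₂ (by rw [Category.assoc]; exact w₂)
  let sU : R₂U ⟶ RU := sqR₀.lift (p₂ ≫ s) sn₂ (by rw [Category.assoc, ← reassoc_of% hw]; exact w₂)
  have htU : tU ≫ pr = p₂ ≫ t := sqR₀.lift_fst ..
  have hsU : sU ≫ pr = p₂ ≫ s := sqR₀.lift_fst ..
  have htn : tU ≫ sn = sn₂ := sqR₀.lift_snd ..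
  have hsn : sU ≫ sn = sn₂ := sqR₀.lift_snd ..
  let πU : RU ⟶ YU := sqY₀.lift (pr ≫ π) sn (by rw [Category.assoc]; exact sqR₀.w)
  have hπU₁ : πU ≫ prY = pr ≫ π := sqY₀.lift_fst ..
  have hπU₂ : πU ≫ snY = sn := sqY₀.lift_snd ..
  have sqπ : IsPullback pr πU π prY := IsPullback.of_bot (by rw [hπU₂]; exact sqR₀) hπU₁.symm sqY₀
  have sqR₂₀ : IsPullback p₂ (tU ≫ sn) (t ≫ π ≫ π₀) ū := by rw [htn]; exact IsPullback.of_hasPullback _ _
  have sqR₂π : IsPullback p₂ (tU ≫ πU) (t ≫ π) prY :=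
    IsPullback.of_bot (by rw [Category.assoc, hπU₂, Category.assoc]; exact sqR₂₀)
      (by rw [Category.assoc, hπU₁, ← Category.assoc p₂, ← htU, Category.assoc]) sqY₀
  have hwU : tU ≫ πU = sU ≫ πU := sqY₀.hom_ext
    (by simp only [Category.assoc]; erw [hπU₁]; rw [← Category.assoc, ← Category.assoc, htU, hsU, Category.assoc, hw, Category.assoc])
    (by simp only [Category.assoc]; erw [hπU₂]; rw [htn, hsn])
  have etPrY : Etale prY.left :=
    MorphismProperty.of_isPullback (P := @Etale) (sqY₀.map (Over.forget S)).flip ‹Etale ū.left›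
  have etPr : Etale pr.left :=
    MorphismProperty.of_isPullback (P := @Etale) (sqR₀.map (Over.forget S)).flip ‹Etale ū.left›
  have hT : IsAffineHom π₀.left := inferInstance
  have affYU : IsAffine YU.left := by
    have : IsAffineHom snY.left :=
      MorphismProperty.of_isPullback (P := @IsAffineHom) (sqY₀.map (Over.forget S)) hT
    exact isAffine_of_isAffineHom snY.left
  have affRU : IsAffine RU.left := by
    have : IsAffineHom πU.left :=
      MorphismProperty.of_isPullback (P := @IsAffineHom) (sqπ.map (Over.forget S))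
        (inferInstance : IsAffineHom π.left)
    exact isAffine_of_isAffineHom πU.left
  have affR₂U : IsAffine R₂U.left := by
    have : IsAffineHom (tU ≫ πU).left :=
      MorphismProperty.of_isPullback (P := @IsAffineHom) (sqR₂π.map (Over.forget S))
        (inferInstance : IsAffineHom (t ≫ π).left)
    exact isAffine_of_isAffineHom (tU ≫ πU).left
  have hexU : InvExact tU.left sU.left πU.left :=
    invExact_of_flat hex (congrArg Over.Hom.left hw) prY.left (sqπ.map (Over.forget S))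
      (sqR₂π.map (Over.forget S)) (congrArg Over.Hom.left htU) (congrArg Over.Hom.left hsU)
      (congrArg Over.Hom.left hwU)
  -- the relation on `RU`
  have sqR : IsPullback ((yon S).map pr) ((yon S).map sn) (a ≫ f) ((yon S).map ū) := by
    rw [← hρ]; exact sqR₀.map (yon S)
  let aU : (yon S).obj RU ⟶ pullback f ((yon S).map ū) :=
    pullback.lift ((yon S).map pr ≫ a) ((yon S).map sn) (by rw [Category.assoc]; exact sqR.w)
  have haU₁ : aU ≫ pullback.fst f ((yon S).map ū) = (yon S).map pr ≫ a := pullback.lift_fst ..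
  have haU₂ : aU ≫ pullback.snd f ((yon S).map ū) = (yon S).map sn := pullback.lift_snd ..
  have sqU : IsPullback ((yon S).map tU) ((yon S).map sU) aU aU := by
    refine isPullback_baseChange sq sqR htU hsU (by rw [htn, hsn]) ?_ haU₁ haU₂
    rw [← hρ, ← Functor.map_comp]
    exact sqR₂₀.map (yon S)
  have etT : Etale t.left := ha.property a ((yon S).map s) t sq.flip
  have etS : Etale s.left := ha.property a ((yon S).map t) s sq
  have sqTU : IsPullback p₂ tU t pr := IsPullback.of_bot sqR₂₀ htU.symm sqR₀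
  have sqSU : IsPullback p₂ sU s pr := IsPullback.of_bot
    (by rw [hsn, ← reassoc_of% hw]; exact IsPullback.of_hasPullback _ _) hsU.symm sqR₀
  have etTU : Etale tU.left :=
    MorphismProperty.of_isPullback (P := @Etale) (sqTU.map (Over.forget S)) etT
  have etSU : Etale sU.left :=
    MorphismProperty.of_isPullback (P := @Etale) (sqSU.map (Over.forget S)) etS
  -- the finite part
  let ιV := openOverι RU V
  let aV : (yon S).obj (openOver RU V) ⟶ pullback f ((yon S).map ū) := (yon S).map ιV ≫ aU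
  have hVfin : RepWith @IsFinite aV := by
    refine repWith_of_postcomp (g := pullback.snd f ((yon S).map ū)) ?_ ?_
    · have hd : IsSeparatedMor (pullback.snd f ((yon S).map ū)) :=
        isSeparatedMor_of_isPullback (IsPullback.of_hasPullback f ((yon S).map ū)) hsep
      exact ⟨hd.rep, fun _ _ g' fst snd sq' => by
        have : IsClosedImmersion snd.left := hd.property g' fst snd sq'
        show IsFinite snd.left
        infer_instance⟩
    · rw [Category.assoc, haU₂, ← Functor.map_comp]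
      exact (repWith_yon_map_iff _ _).2 hVf
  let V₁o : R₂U.left.Opens := sU.left ⁻¹ᵁ V
  let τ : openOver R₂U V₁o ⟶ RU := openOverι R₂U V₁o ≫ tU
  let s₁ : openOver R₂U V₁o ⟶ openOver RU V := openOverRes sU V
  have sqV₁ : IsPullback ((yon S).map τ) ((yon S).map s₁) aU aV := by
    have h := ((isPullback_openOverRes sU V).map (yon S)).paste_horiz sqU
    rw [← Functor.map_comp] at h
    exact h
  have τfin : IsFinite τ.left := hVfin.property aU ((yon S).map s₁) τ sqV₁.flip
  have τet : Etale τ.left := by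
    show Etale (V₁o.ι ≫ tU.left)
    infer_instance
  let Rp : RU.left.Opens := ⟨Set.range τ.left, τ.left.isOpenMap.isOpen_range⟩
  have hRpc : IsClosed (Rp : Set RU.left) := τ.left.isClosedMap.isClosed_range
  have hRp : (Rp : Set RU.left) = tU.left '' (sU.left ⁻¹' (V : Set RU.left)) := by
    show Set.range (V₁o.ι ≫ tU.left) = _
    ext x
    constructor
    · rintro ⟨y, rfl⟩
      exact ⟨y.1, y.2, rfl⟩
    · rintro ⟨y, hy, rfl⟩
      exact ⟨⟨y, hy⟩, rfl⟩
  have hinv : tU.left ⁻¹ᵁ Rp = sU.left ⁻¹ᵁ Rp := TopologicalSpace.Opens.ext (by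
    show tU.left ⁻¹' (Rp : Set RU.left) = sU.left ⁻¹' (Rp : Set RU.left)
    rw [hRp]
    exact preimage_saturation sqU _)
  obtain ⟨Oo, hOa, hO⟩ := hexU.exists_affineOpen hRpc hinv
  -- the quotient of the finite part
  let V₂o : (openOver R₂U V₁o).left.Opens := τ.left ⁻¹ᵁ V
  let t₂ : openOver (openOver R₂U V₁o) V₂o ⟶ openOver RU V := openOverRes τ V
  let s₂ : openOver (openOver R₂U V₁o) V₂o ⟶ openOver RU V := openOverι (openOver R₂U V₁o) V₂o ≫ s₁
  have sqV₂ : IsPullback ((yon S).map t₂) ((yon S).map s₂) aV aV := by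
    have h := (((isPullback_openOverRes τ V).map (yon S)).flip).paste_vert sqV₁
    rw [← Functor.map_comp] at h
    exact h
  have s₂fin : IsFinite s₂.left := hVfin.property aV ((yon S).map t₂) s₂ sqV₂
  have s₂et : Etale s₂.left := by
    have : Etale (sU.left ∣_ V) := IsZariskiLocalAtTarget.restrict etSU V
    show Etale (V₂o.ι ≫ (sU.left ∣_ V))
    infer_instance
  have affV : IsAffine (openOver RU V).left := by
    have : IsFinite (V.ι ≫ sn.left) := hVf
    exact isAffine_of_isAffineHom (V.ι ≫ sn.left)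
  obtain ⟨W, q, m, hW, hq, hmono, hqm⟩ := exists_quot_of_finite_relation sqV₂
  -- extend the quotient map to the saturation
  let ιR := openOverι RU Rp
  let τ' : openOver R₂U V₁o ⟶ openOver RU Rp :=
    CategoryTheory.Over.homMk (IsOpenImmersion.lift Rp.ι τ.left
      (show Set.range τ.left ⊆ Set.range Rp.ι from (Scheme.Opens.range_ι Rp).symm.subset)) (by
      show _ ≫ Rp.ι ≫ RU.hom = _
      rw [IsOpenImmersion.lift_fac_assoc, Over.w τ])
  have hτ' : τ' ≫ ιR = τ := Over.OverMorphism.ext (IsOpenImmersion.lift_fac _ _ _)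
  have τ'et : Etale τ'.left := by
    have : Etale (τ'.left ≫ Rp.ι) := by
      rw [show τ'.left ≫ Rp.ι = τ.left from congrArg Over.Hom.left hτ']; exact τet
    exact Etale.of_comp τ'.left Rp.ι
  have τ'surj : Surjective τ'.left := ⟨fun x => by
    obtain ⟨y, hy⟩ := x.2
    refine ⟨y, Rp.ι.isOpenEmbedding.injective ?_⟩
    show (τ'.left ≫ Rp.ι) y = x.1
    rw [show τ'.left ≫ Rp.ι = τ.left from congrArg Over.Hom.left hτ']
    exact hy⟩
  obtain ⟨qR, hqR⟩ : ∃ qR : openOver RU Rp ⟶ W, (yon S).map qR ≫ m = (yon S).map ιR ≫ aU := by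
    obtain ⟨k, hk⟩ := exists_factor_of_cover ((repWith_yon_map_iff _ τ').2 τ'et)
      ((repWith_yon_map_iff _ τ').2 τ'surj) ((yon S).map ιR ≫ aU) (j := m)
      ⟨(yon S).map (s₁ ≫ q), by
        rw [Functor.map_comp, Category.assoc, hqm, ← Category.assoc ((yon S).map τ'), ← Functor.map_comp, hτ']
        exact sqV₁.w.symm⟩
    obtain ⟨k, rfl⟩ := (yon S).map_surjective k
    exact ⟨k, hk⟩
  obtain ⟨wW, hwW⟩ : ∃ wW : W ⟶ U, (yon S).map wW = m ≫ pullback.snd f ((yon S).map ū) :=
    (yon S).map_surjective _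
  -- the piece
  let O : Over S := openOver YU Oo
  let ιO : O ⟶ YU := openOverι YU Oo
  let h : O ⟶ Y := ιO ≫ prY
  have affO : IsAffine O.left := hOa
  obtain ⟨π', hπ', sqπ'⟩ : ∃ π' : openOver RU Rp ⟶ O, π' ≫ ιO = ιR ≫ πU ∧ IsPullback ιR π' πU ιO :=
    exists_res πU Oo hO
  have sqRO : IsPullback (ιR ≫ pr) π' π h := sqπ'.paste_horiz sqπ
  let R₂O : Over S := pullback (t ≫ π) h
  let q₂ : R₂O ⟶ R₂ := pullback.fst (t ≫ π) h
  let π₂' : R₂O ⟶ O := pullback.snd (t ≫ π) h
  have w₂' : q₂ ≫ t ≫ π = π₂' ≫ h := pullback.condition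
  let t' : R₂O ⟶ openOver RU Rp := sqRO.lift (q₂ ≫ t) π₂' (by rw [Category.assoc]; exact w₂')
  let s' : R₂O ⟶ openOver RU Rp := sqRO.lift (q₂ ≫ s) π₂' (by rw [Category.assoc, ← hw]; exact w₂')
  have ht' : t' ≫ ιR ≫ pr = q₂ ≫ t := sqRO.lift_fst ..
  have hs' : s' ≫ ιR ≫ pr = q₂ ≫ s := sqRO.lift_fst ..
  have htπ : t' ≫ π' = π₂' := sqRO.lift_snd ..
  have hsπ : s' ≫ π' = π₂' := sqRO.lift_snd ..
  have hsnR : ιR ≫ sn = π' ≫ ιO ≫ snY := by rw [reassoc_of% hπ', hπU₂]
  have eth : Etale h.left := by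
    show Etale (Oo.ι ≫ prY.left)
    infer_instance
  have hexO : InvExact t'.left s'.left π'.left := by
    refine invExact_of_flat hex (congrArg Over.Hom.left hw) h.left (sqRO.map (Over.forget S)) ?_
      (congrArg Over.Hom.left ht') (congrArg Over.Hom.left hs') (congrArg Over.Hom.left (htπ.trans hsπ.symm))
    rw [show t'.left ≫ π'.left = (π₂').left from congrArg Over.Hom.left htπ]
    exact (IsPullback.of_hasPullback (t ≫ π) h).map (Over.forget S)
  have hqinv : t' ≫ qR = s' ≫ qR := by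
    refine (yon S).map_injective ((cancel_mono m).1 ?_)
    rw [Functor.map_comp, Functor.map_comp, Category.assoc, Category.assoc, hqR]
    refine pullback.hom_ext ?_ ?_
    · simp only [Category.assoc, haU₁]
      simp only [← Functor.map_comp_assoc]
      rw [ht', hs', Functor.map_comp, Functor.map_comp, Category.assoc, Category.assoc, sq.w]
    · simp only [Category.assoc, haU₂]
      simp only [← Functor.map_comp]
      rw [hsnR, reassoc_of% htπ, reassoc_of% hsπ]
  obtain ⟨ψ₀, hψ₀⟩ := hexO.exists_desc qR.left (congrArg Over.Hom.left hqinv)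
  have hqw : qR ≫ wW = ιR ≫ sn := (yon S).map_injective (by
    rw [Functor.map_comp, hwW, ← Category.assoc, hqR, Category.assoc, haU₂, Functor.map_comp])
  have hψw : ψ₀ ≫ wW.left = (ιO ≫ snY).left := hexO.hom_ext (by
    rw [← Category.assoc, hψ₀, ← Over.comp_left, hqw, hsnR, Over.comp_left])
  let ψ : O ⟶ W := CategoryTheory.Over.homMk ψ₀ (by rw [← Over.w wW, reassoc_of% hψw, Over.w])
  have hψ : π' ≫ ψ = qR := Over.OverMorphism.ext hψ₀
  let μ : (yon S).obj O ⟶ P := (yon S).map ψ ≫ m ≫ pullback.fst f ((yon S).map ū)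
  have hμ : (yon S).map π' ≫ μ = (yon S).map (ιR ≫ pr) ≫ a := by
    simp only [μ]
    rw [← Functor.map_comp_assoc, hψ, reassoc_of% hqR, haU₁, Functor.map_comp, Category.assoc]
  have hμg : μ ≫ g = (yon S).map h := by
    obtain ⟨k, hk⟩ := (yon S).map_surjective (μ ≫ g)
    rw [← hk]
    congr 1
    refine Over.OverMorphism.ext (hexO.hom_ext ?_)
    rw [← Over.comp_left, ← Over.comp_left, ← sqRO.w]
    refine congrArg Over.Hom.left ((yon S).map_injective ?_)
    rw [Functor.map_comp, hk, ← Category.assoc, hμ, Category.assoc, hg, ← Functor.map_comp]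
  refine ⟨O, h, μ, eth, hμg, fun T' y o hyo => ?_, fun v hv => ?_⟩
  · obtain ⟨ha1, ha2⟩ : Etale (ha.rep.snd y).left ∧ Surjective (ha.rep.snd y).left :=
      ⟨ha.property_snd y, has.property _ _ _ (ha.rep.isPullback y)⟩
    have hr := ha.rep.w y
    obtain ⟨r, hr₀⟩ := (yon S).map_surjective (ha.rep.fst y)
    rw [← hr₀] at hr
    refine hom_ext_of_fppf (ha.rep.snd y) (fppf_of_etale _) _ _ ?_
    have hrπ : r ≫ π = (ha.rep.snd y ≫ o) ≫ h := (yon S).map_injective (by
      rw [Functor.map_comp, ← hg, ← Category.assoc, hr, Category.assoc, hyo, ← Functor.map_comp, Category.assoc])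
    rw [← hr, ← Functor.map_comp_assoc, ← sqRO.lift_snd r _ hrπ, Functor.map_comp, Category.assoc, hμ,
      ← Functor.map_comp_assoc, sqRO.lift_fst]
  · have hvR : v ∈ (Rp : Set RU.left) := by rw [hRp]; exact subset_saturation sqU _ hv
    refine ⟨π'.left ⟨v, hvR⟩, ?_⟩
    rw [← Scheme.Hom.comp_apply, ← Over.comp_left, ← sqRO.w]
    rfl

end Groth.Agent.AlgSpDec
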