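import Groth.Agent.FibDim.LocDim
import Groth.Agent.FibDim.RelDim
import Groth.Agent.CycLib.Flat
import Groth.Agent.FrobSmoothLib.Global
import Groth.Agent.S2768
import Groth.Agent.S10249
import Groth.Agent.AlgSpDec.FibreDimEtale
import Mathlib.AlgebraicGeometry.Morphisms.Smooth

/-!
Local dimension along a smooth morphism of schemes.
-/

set_option autoImplicit false
set_option backward.isDefEq.respectTransparency false

universe u

open CategoryTheory CategoryTheory.Limits AlgebraicGeometry

namespace Groth.Agent.AlgSpDec.SmoothLocDim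

theorem hasRelDim_of_smoothOfRelativeDimension (n : ℕ) {X Y : Scheme.{u}} (f : X ⟶ Y)
    [SmoothOfRelativeDimension n f] : Cyc.HasRelDim f n := by
  haveI : Smooth f := SmoothOfRelativeDimension.smooth n f
  refine (CycLib.hasRelDim_iff f).2 fun x hx => ?_
  have h := Groth.Agent.S2768.result n f x
  rw [FibDim.fibreDimAt_eq_rd f hx] at h
  exact_mod_cast h

theorem exists_smoothOfRelativeDimension_nhd {X Y : Scheme.{u}} (f : X ⟶ Y) [Smooth f] (x : X) :
    ∃ (V : Scheme.{u}) (j : V ⟶ X) (v : V) (n : ℕ),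
      IsOpenImmersion j ∧ j v = x ∧ SmoothOfRelativeDimension n (j ≫ f) := by
  obtain ⟨U, hU, V, hV, hx, e, h⟩ := Smooth.exists_isStandardSmooth f x
  algebraize [(f.appLE U V e).hom]
  haveI : Nonempty V := ⟨⟨x, hx⟩⟩
  obtain ⟨n, hn⟩ := Groth.Agent.FrobSmoothLib.exists_relativeDimension (A := Γ(Y, U)) (C := Γ(X, V))
  haveI : SmoothOfRelativeDimension n (Spec.map (f.appLE U V e)) :=
    (HasRingHomProperty.Spec_iff (P := @SmoothOfRelativeDimension n)).2
      (RingHom.locally_of RingHom.isStandardSmoothOfRelativeDimension_respectsIso _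
        (by rw [RingHom.IsStandardSmoothOfRelativeDimension]; exact hn))
  have hx' : x ∈ Set.range hV.fromSpec := by rw [hV.range_fromSpec]; exact hx
  obtain ⟨v, hv⟩ := hx'
  refine ⟨_, hV.fromSpec, v, n, inferInstance, hv, ?_⟩
  rw [← hU.SpecMap_appLE_fromSpec f hV e]
  exact smoothOfRelativeDimension_comp (n := n) (m := 0) _ _

theorem localDim_eq_add {X Y : Scheme.{u}} (f : X ⟶ Y) [Smooth f] [IsLocallyNoetherian X]
    [IsLocallyNoetherian Y] (x : X) :
    FlatMor.localDim ↥X x = FlatMor.localDim ↥Y (f x) + FlatMor.fibreDimAt f x := by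
  obtain ⟨V, j, v, n, hj, rfl, hn⟩ := exists_smoothOfRelativeDimension_nhd f x
  haveI : Smooth (j ≫ f) := SmoothOfRelativeDimension.smooth n _
  haveI : IsLocallyNoetherian V := isLocallyNoetherian_of_isOpenImmersion j
  have h1 := FibDim.localDim_eq_add (j ≫ f) (hasRelDim_of_smoothOfRelativeDimension n (j ≫ f)) v
  have h2 : FlatMor.fibreDimAt f (j v) = (n : WithBot ℕ∞) := by
    rw [← Groth.Agent.AlgSpDec.fibreDimAt_etale_comp j f v]
    exact Groth.Agent.S2768.result n (j ≫ f) v
  rw [← S10249.localDim_eq j v, h1, h2]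
  rfl

end Groth.Agent.AlgSpDec.SmoothLocDim
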