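import Groth.Agent.AlgSpDec.FieldBC
import Groth.Agent.GeomField.Orbit
import Groth.Agent.S7621

/-!
# Galois action and connectedness for algebraic spaces over a field
-/

set_option autoImplicit false
set_option linter.style.haveILetI false
set_option linter.unusedSectionVars false
set_option backward.isDefEq.respectTransparency false
set_option backward.isDefEq.respectTransparency.types false

universe u

open CategoryTheory CategoryTheory.Limits AlgebraicGeometry AlgSp Groth.Agent.AlgSpLib Groth.Agent.AlgSpPts Topology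

namespace Groth.Agent.AlgSpDec.FieldBC

variable {k : Type u} [Field k] {K : Type u} [Field K] [Algebra k K] {X : Sp (base k)} {U : Over (base k)}
  (a : (yon (base k)).obj U ⟶ X)

/-- The morphism given by an automorphism. -/
noncomputable def galMor (σ : K ≃ₐ[k] K) : sp k K ⟶ sp k K :=
  Over.homMk (Spec.map (CommRingCat.ofHom (σ : K →ₐ[k] K).toRingHom)) (by
    simp only [Over.mk_hom]
    rw [← Spec.map_comp, ← CommRingCat.ofHom_comp, AlgHom.toRingHom_eq_coe, AlgHom.comp_algebraMap])

theorem eq_galMor {σ : K ≃ₐ[k] K} {g : sp k K ⟶ sp k K}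
    (hg : g.left = Spec.map (CommRingCat.ofHom σ.toRingHom)) : g = galMor σ :=
  Over.OverMorphism.ext hg

/-- The morphism given by a subfield. -/
noncomputable def subMor (F : IntermediateField k K) : sp k K ⟶ sp k F :=
  Over.homMk (Spec.map (CommRingCat.ofHom (algebraMap F K))) (by
    simp only [Over.mk_hom]
    rw [← Spec.map_comp, ← CommRingCat.ofHom_comp, ← IsScalarTower.algebraMap_eq])

theorem chartMap_galMor (σ : K ≃ₐ[k] K) :
    letI : U.left.Over (base k) := ⟨U.hom⟩
    (chartMap U (galMor σ)).left = Curv2.galAct k U.left K σ := rfl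

/-- The morphism given by a tower. -/
noncomputable def towerMor (L M : Type u) [Field L] [Field M] [Algebra k L] [Algebra k M] [Algebra L M]
    [IsScalarTower k L M] : sp k M ⟶ sp k L :=
  Over.homMk (Spec.map (CommRingCat.ofHom (algebraMap L M))) (by
    simp only [Over.mk_hom]
    rw [← Spec.map_comp, ← CommRingCat.ofHom_comp, ← IsScalarTower.algebraMap_eq])

theorem chartMap_towerMor (L M : Type u) [Field L] [Field M] [Algebra k L] [Algebra k M] [Algebra L M]
    [IsScalarTower k L M] : (chartMap U (towerMor (k := k) L M)).left = FBaseLib.bcMap U.hom L M := by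
  apply pullback.hom_ext
  · exact (pullback.lift_fst _ _ _).trans ((Category.comp_id _).trans (FBaseLib.bcMap_fst U.hom L M).symm)
  · exact (pullback.lift_snd _ _ _).trans (FBaseLib.bcMap_snd U.hom L M).symm

theorem chartMap_subMor (F : IntermediateField k K) :
    (chartMap U (subMor F)).left = FBaseLib.bcMap U.hom F K := chartMap_towerMor F K

variable {a}

theorem map_fst_galMor (σ : K ≃ₐ[k] K) (z : Points (X ⨯ (yon (base k)).obj (sp k K))) :
    Points.map prod.fst (Points.map (prod.map (𝟙 X) ((yon (base k)).map (galMor σ))) z) = Points.map prod.fst z := by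
  rw [← Points.map_comp, prod.map_fst, Category.comp_id]

theorem exists_galMor_eq [Normal k K] (hX : IsAlgSpace X) (z z' : Points (X ⨯ (yon (base k)).obj (sp k K)))
    (h : Points.map prod.fst z = Points.map prod.fst z') :
    ∃ σ : K ≃ₐ[k] K, Points.map (prod.map (𝟙 X) ((yon (base k)).map (galMor σ))) z = z' := by
  obtain ⟨U, a, ha, ha'⟩ := hX.atlas
  obtain ⟨u, hu⟩ := surjective_ofPt ha' (Points.map prod.fst z)
  obtain ⟨w, hw, rfl⟩ := exists_lift a _ u z hu
  obtain ⟨w', hw', rfl⟩ := exists_lift a _ u z' (hu.trans h)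
  letI : U.left.Over (base k) := ⟨U.hom⟩
  obtain ⟨σ, hσ⟩ := GeomField.exists_galAct_eq (k := k) (X := U.left) w w' (hw.trans hw'.symm)
  refine ⟨σ, ?_⟩
  rw [map_map_ofPt]
  exact congrArg (Points.ofPt _) hσ

theorem exists_galMor_eq_over [Normal k K] (hX : IsAlgSpace X) (F : IntermediateField k K)
    (z z' : Points (X ⨯ (yon (base k)).obj (sp k K)))
    (h : Points.map (prod.map (𝟙 X) ((yon (base k)).map (subMor F))) z =
      Points.map (prod.map (𝟙 X) ((yon (base k)).map (subMor F))) z') :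
    ∃ σ : K ≃ₐ[k] K, (∀ r : F, σ r = r) ∧ Points.map (prod.map (𝟙 X) ((yon (base k)).map (galMor σ))) z = z' := by
  obtain ⟨U, a, ha, ha'⟩ := hX.atlas
  obtain ⟨y, hy⟩ := surjective_ofPt (repWith_chart a (sp k F) ha')
    (Points.map (prod.map (𝟙 X) ((yon (base k)).map (subMor F))) z)
  obtain ⟨w, hw, rfl⟩ := exists_lift_map a _ y z hy
  obtain ⟨w', hw', rfl⟩ := exists_lift_map a _ y z' (hy.trans h)
  letI : U.left.Over (base k) := ⟨U.hom⟩
  rw [chartMap_subMor] at hw hw'
  obtain ⟨σ, hσ', hσ⟩ := GeomField.exists_galAct_eq_over (k := k) (X := U.left) F w w' (hw.trans hw'.symm)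
  refine ⟨σ, hσ', ?_⟩
  rw [map_map_ofPt]
  exact congrArg (Points.ofPt _) hσ

theorem isClosedMap_fst [Algebra.IsAlgebraic k K] (hX : IsAlgSpace X) :
    IsClosedMap (Points.map (prod.fst : X ⨯ (yon (base k)).obj (sp k K) ⟶ X)) := by
  obtain ⟨U, a, ha, ha'⟩ := hX.atlas
  intro T hT
  letI : U.left.Over (base k) := ⟨U.hom⟩
  have h : Points.ofPt a ⁻¹' (Points.map (prod.fst : X ⨯ (yon (base k)).obj (sp k K) ⟶ X) '' T) =
      (prd₁ U (sp k K)).left '' (Points.ofPt (chart a (sp k K)) ⁻¹' T) := by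
    ext u
    constructor
    · rintro ⟨z, hz, hzu⟩
      obtain ⟨w, hw, rfl⟩ := exists_lift a _ u z hzu.symm
      exact ⟨w, hz, hw⟩
    · rintro ⟨w, hw, rfl⟩
      exact ⟨_, hw, map_fst_ofPt a _ w⟩
  have hc : IsClosed (Points.ofPt a ⁻¹' (Points.map (prod.fst : X ⨯ (yon (base k)).obj (sp k K) ⟶ X) '' T)) := by
    rw [h]
    exact GeomField.isClosedMap_bcFst (k := k) (X := U.left) K _ (hT.preimage (Points.continuous_ofPt _))
  exact ((isOpenMap_ofPt ha).isQuotientMap (Points.continuous_ofPt _) (surjective_ofPt ha')).isClosed_preimage.1 hc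

theorem exists_descend_closed [IsGalois k K] (hX : IsAlgSpace X) (T : Set (Points (X ⨯ (yon (base k)).obj (sp k K))))
    (hT : IsClosed T)
    (hσ : ∀ σ : K ≃ₐ[k] K, ∀ z ∈ T, Points.map (prod.map (𝟙 X) ((yon (base k)).map (galMor σ))) z ∈ T) :
    ∃ T₀ : Set (Points X), IsClosed T₀ ∧ Points.map (prod.fst : X ⨯ (yon (base k)).obj (sp k K) ⟶ X) ⁻¹' T₀ = T := by
  refine ⟨_, isClosedMap_fst hX T hT, subset_antisymm ?_ (Set.subset_preimage_image _ T)⟩
  rintro z ⟨z₀, hz₀, h⟩
  obtain ⟨σ, rfl⟩ := exists_galMor_eq hX z₀ z h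
  exact hσ σ z₀ hz₀

theorem exists_stabilizing [IsGalois k K] (hX : IsAlgSpace X) (V : Set (Points (X ⨯ (yon (base k)).obj (sp k K))))
    (hV : IsOpen V) (hVc : IsCompact V) :
    ∃ E : IntermediateField k K, FiniteDimensional k E ∧ ∀ σ : K ≃ₐ[k] K, (∀ x : K, x ∈ E → σ x = x) →
      Points.map (prod.map (𝟙 X) ((yon (base k)).map (galMor σ))) '' V = V := by
  obtain ⟨U, a, ha, ha'⟩ := hX.atlas
  have hs := surjective_ofPt (repWith_chart a (sp k K) ha')
  obtain ⟨W, hWc, hW⟩ := (isOpenMap_ofPt (repWith_chart a (sp k K) ha)).exists_opens_image_eq_of_prespectralSpace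
    (Points.continuous_ofPt _) (fun z _ => hs z) hV hVc
  letI : U.left.Over (base k) := ⟨U.hom⟩
  obtain ⟨E, hE, hEW⟩ := Groth.Agent.S7621.result k K U.left (W : Set ↥(prd U (sp k K)).left) W.isOpen hWc
  refine ⟨E, hE, fun σ hσ => ?_⟩
  conv_lhs => rw [← hW, Set.image_image]
  rw [Set.image_congr fun w _ => map_map_ofPt a (galMor σ) w]
  conv_rhs => rw [← hW, ← hEW σ hσ, Set.image_image]
  rfl

theorem isClosedMap_bcMap (F : IntermediateField k K) [Algebra.IsAlgebraic k K] (U : Over (base k)) :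
    IsClosedMap (FBaseLib.bcMap U.hom F K) := by
  haveI : Algebra.IsAlgebraic F K := Algebra.IsAlgebraic.tower_top (K := k) F
  have h1 : IsIntegralHom (Spec.map (CommRingCat.ofHom (algebraMap F K))) :=
    IsIntegralHom.SpecMap_iff.2 (algebraMap_isIntegral_iff.2 inferInstance)
  haveI : IsIntegralHom (FBase.bcπ (FBase.bcStr U.hom F) K) := MorphismProperty.pullback_fst _ _ h1
  haveI : IsIntegralHom (FBaseLib.bcMap U.hom F K) := by
    unfold FBaseLib.bcMap; infer_instance
  exact (FBaseLib.bcMap U.hom F K).isClosedMap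

theorem exists_finite_descend [IsGalois k K] (hX : IsAlgSpace X) (V : Set (Points (X ⨯ (yon (base k)).obj (sp k K))))
    (hV : IsOpen V) (hVc : IsCompact V) :
    ∃ (F : IntermediateField k K) (_ : FiniteDimensional k F) (V' : Set (Points (X ⨯ (yon (base k)).obj (sp k F)))),
      IsOpen V' ∧ IsCompact V' ∧ Points.map (prod.map (𝟙 X) ((yon (base k)).map (subMor F))) ⁻¹' V' = V := by
  obtain ⟨F, hF, hstab⟩ := exists_stabilizing hX V hV hVc
  let φ := Points.map (prod.map (𝟙 X) ((yon (base k)).map (subMor F)))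
  have hpre : φ ⁻¹' (φ '' V) = V := by
    refine subset_antisymm ?_ (Set.subset_preimage_image _ V)
    rintro z ⟨z₀, hz₀, h⟩
    obtain ⟨σ, hσ, rfl⟩ := exists_galMor_eq_over hX F z₀ z h
    rw [← hstab σ fun x hx => hσ ⟨x, hx⟩]
    exact Set.mem_image_of_mem _ hz₀
  obtain ⟨U, a, ha, ha'⟩ := hX.atlas
  refine ⟨F, hF, φ '' V, ?_, hVc.image (Points.continuous_map _), hpre⟩
  letI : U.left.Over (base k) := ⟨U.hom⟩
  have hsq : Points.ofPt (chart a (sp k F)) ⁻¹' (φ '' V) =
      ((chartMap U (subMor F)).left '' (Points.ofPt (chart a (sp k K)) ⁻¹' Vᶜ))ᶜ := by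
    ext y
    constructor
    · rintro ⟨z, hz, h⟩ ⟨w, hw, rfl⟩
      refine hw ?_
      rw [← hpre]
      exact ⟨z, hz, h.trans (map_map_ofPt a (subMor F) w).symm⟩
    · intro hy
      obtain ⟨w, rfl⟩ : ∃ w, (chartMap U (subMor F)).left w = y := by
        rw [chartMap_subMor]
        exact (FBaseLib.bcMap U.hom F K).surjective y
      refine ⟨Points.ofPt (chart a (sp k K)) w, ?_, map_map_ofPt a (subMor F) w⟩
      by_contra hw
      exact hy ⟨w, hw, rfl⟩
  have hopen : IsOpen (Points.ofPt (chart a (sp k F)) ⁻¹' (φ '' V)) := by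
    rw [hsq, isOpen_compl_iff, chartMap_subMor]
    exact isClosedMap_bcMap F U _ (hV.isClosed_compl.preimage (Points.continuous_ofPt _))
  exact ((isOpenMap_ofPt (repWith_chart a _ ha)).isQuotientMap (Points.continuous_ofPt _)
    (surjective_ofPt (repWith_chart a _ ha'))).isOpen_preimage.1 hopen

end Groth.Agent.AlgSpDec.FieldBC
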