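import Groth.Agent.AlgSpDec.FreeAction
import Groth.Agent.AlgSpDec.LqfQuot
import Groth.Agent.AlgSpPts.Diag
import Groth.Agent.AlgSpLib.Descends2

/-!
# Separation of quotients by finite free group actions
-/

set_option backward.isDefEq.respectTransparency false
set_option backward.isDefEq.respectTransparency.types false

universe u

open CategoryTheory Limits AlgebraicGeometry AlgSp Groth.Agent.AlgSpLib Groth.Agent.AlgSpPts Topology

namespace Groth.Agent.AlgSpDec.FreeAction

variable {S : Scheme.{u}} {U : Over S} {G : Type u}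

theorem injective_of_mono {X Y : Scheme.{u}} (f : X ⟶ Y) [Mono f] : Function.Injective f := fun x y h => by
  obtain ⟨p, hp₁, hp₂⟩ := Scheme.Pullback.exists_preimage_pullback (f := f) (g := f) x y h
  rw [← hp₁, ← hp₂]
  exact congrArg (fun m : pullback f f ⟶ X => m p) ((cancel_mono f).1 pullback.condition)

theorem isSeparated_prod_snd (h : IsSeparated U.hom) : IsSeparated (prod.snd : U ⨯ U ⟶ U).left := by
  haveI := h
  haveI : IsSeparated ((terminal.from U).left ≫ (⊤_ (Over S)).hom) := by rwa [Over.w]
  haveI : IsSeparated (terminal.from U).left := IsSeparated.of_comp _ (⊤_ (Over S)).hom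
  exact MorphismProperty.of_isPullback (P := @IsSeparated)
    ((IsPullback.of_hasBinaryProduct' U U).map (Over.forget S)) ‹_›

theorem quasiSeparated_prod_snd (h : QuasiSeparated U.hom) : QuasiSeparated (prod.snd : U ⨯ U ⟶ U).left := by
  haveI := h
  haveI : QuasiSeparated ((terminal.from U).left ≫ (⊤_ (Over S)).hom) := by rwa [Over.w]
  haveI : QuasiSeparated (terminal.from U).left := QuasiSeparated.of_comp _ (⊤_ (Over S)).hom
  exact MorphismProperty.of_isPullback (P := @QuasiSeparated)
    ((IsPullback.of_hasBinaryProduct' U U).map (Over.forget S)) ‹_›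

variable [Group G] {ρ : G →* Aut U}
  (hfree : ∀ (g : G) (x : U.left), g ≠ 1 →
    U.left.fromSpecResidueField x ≫ (ρ g).hom.left ≠ U.left.fromSpecResidueField x)
  {c : Cofan (fun _ : G => U)} (hc : IsColimit c) {s t : c.pt ⟶ U}
  (hs : ∀ g, c.inj g ≫ s = 𝟙 U) (ht : ∀ g, c.inj g ≫ t = (ρ g).hom)
include hfree hc hs ht

theorem inj_lift_snd (g : G) : (c.inj g ≫ prod.lift t s).left ≫ (prod.snd : U ⨯ U ⟶ U).left = 𝟙 U.left := by
  rw [← Over.comp_left, Category.assoc, prod.lift_snd, hs]; rfl

theorem quasiCompact_lift [Finite G] (h : QuasiSeparated U.hom) : QuasiCompact (prod.lift t s).left := by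
  haveI := quasiSeparated_prod_snd h
  haveI := fun g => isOpenImmersion_inj hc g
  refine (quasiCompact_iff _).2 fun V hV hV' => ?_
  have hcp : ∀ g, QuasiCompact (c.inj g ≫ prod.lift t s).left := fun g => by
    refine MorphismProperty.of_postcomp (W := @QuasiCompact) (W' := @QuasiSeparated) _
      (prod.snd : U ⨯ U ⟶ U).left ‹_› ?_
    rw [inj_lift_snd hfree hc hs ht]
    infer_instance
  have : (prod.lift t s).left ⁻¹' V = ⋃ g, (c.inj g).left '' ((c.inj g ≫ prod.lift t s).left ⁻¹' V) := by
    ext w
    constructor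
    · intro hw
      obtain ⟨g, v, rfl⟩ := exists_inj hc w
      exact Set.mem_iUnion.2 ⟨g, v, hw, rfl⟩
    · intro hw
      obtain ⟨g, v, hv, rfl⟩ := Set.mem_iUnion.1 hw
      exact hv
  rw [this]
  exact isCompact_iUnion fun g =>
    (QuasiCompact.isCompact_preimage (f := (c.inj g ≫ prod.lift t s).left) V hV hV').image (c.inj g).left.continuous

theorem isClosedImmersion_lift [Finite G] (h : IsSeparated U.hom) : IsClosedImmersion (prod.lift t s).left := by
  haveI := isSeparated_prod_snd h
  haveI := fun g => isOpenImmersion_inj hc g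
  have hcl : ∀ g, IsClosedImmersion (c.inj g ≫ prod.lift t s).left := fun g => by
    haveI : IsClosedImmersion ((c.inj g ≫ prod.lift t s).left ≫ (prod.snd : U ⨯ U ⟶ U).left) := by
      rw [inj_lift_snd hfree hc hs ht]; infer_instance
    exact IsClosedImmersion.of_comp _ (prod.snd : U ⨯ U ⟶ U).left
  haveI : Mono (prod.lift t s) := ⟨fun {T} r r' e => (isEtaleEqvRel hfree hc hs ht).injective T r r'
    (by have := congrArg (· ≫ prod.fst) e; simpa using this)
    (by have := congrArg (· ≫ prod.snd) e; simpa using this)⟩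
  haveI : Mono (prod.lift t s).left := inferInstanceAs (Mono ((Over.forget S).map (prod.lift t s)))
  have hclosed : IsClosedMap (prod.lift t s).left := fun A hA => by
    have : (prod.lift t s).left '' A = ⋃ g, (c.inj g ≫ prod.lift t s).left '' ((c.inj g).left ⁻¹' A) := by
      ext w
      constructor
      · rintro ⟨z, hz, rfl⟩
        obtain ⟨g, v, rfl⟩ := exists_inj hc z
        exact Set.mem_iUnion.2 ⟨g, v, hz, rfl⟩
      · intro hw
        obtain ⟨g, v, hv, rfl⟩ := Set.mem_iUnion.1 hw
        exact ⟨_, hv, rfl⟩
    rw [this]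
    exact isClosed_iUnion_of_finite fun g =>
      (c.inj g ≫ prod.lift t s).left.isClosedEmbedding.isClosedMap _ (hA.preimage (c.inj g).left.continuous)
  haveI : SurjectiveOnStalks (prod.lift t s).left := by
    refine (IsZariskiLocalAtSource.iff_of_iSup_eq_top (P := @SurjectiveOnStalks)
      (fun g => (c.inj g).left.opensRange) ?_).2 fun g => ?_
    · refine top_le_iff.1 fun w _ => ?_
      obtain ⟨g, v, rfl⟩ := exists_inj hc w
      exact TopologicalSpace.Opens.mem_iSup.2 ⟨g, v, rfl⟩
    · have e : (c.inj g).left.opensRange.ι ≫ (prod.lift t s).left =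
          (c.inj g).left.isoOpensRange.inv ≫ (c.inj g ≫ prod.lift t s).left := by
        rw [Over.comp_left, ← Category.assoc, Scheme.Hom.isoOpensRange_inv_comp]
      rw [e]
      haveI := hcl g
      infer_instance
  haveI : IsPreimmersion (prod.lift t s).left := ⟨(IsClosedEmbedding.of_continuous_injective_isClosedMap
    (prod.lift t s).left.continuous (injective_of_mono _) hclosed).isEmbedding⟩
  exact .of_isPreimmersion _ hclosed.isClosed_range

theorem quot_separation [Finite G] :
    (QuasiSeparated U.hom → IsQuasiSeparatedSp (QuotSh.quot Scheme.fppfPrecoverage s t)) ∧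
      (IsSeparated U.hom → IsSeparatedSp (QuotSh.quot Scheme.fppfPrecoverage s t)) := by
  have H := isEtaleEqvRel hfree hc hs ht
  haveI := H.etale_left
  haveI := H.etale_right
  haveI : Surjective s.left := ⟨fun u => ⟨(c.inj 1).left u, by rw [← Scheme.Hom.comp_apply, ← Over.comp_left, hs]; rfl⟩⟩
  haveI : Sheaf.IsLocallySurjective (quotMap s t) := by
    have : Epi (QuotSh.quotπ Scheme.fppfPrecoverage s t) := by
      unfold QuotSh.quotπ
      infer_instance
    exact (CategoryTheory.Sheaf.isLocallySurjective_iff_epi (quotMap s t)).2 (epi_comp _ _)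
  have sq := isPullback_quotMap H.toIsEqvRel
  have hr : Representable (quotMap s t) := representable_of_kernelPair sq
  have hA := isAlgSpace_of_etale_kernelPair sq
  haveI := isLocalAtTarget_fppf (@Etale : MorphismProperty Scheme.{u})
  haveI := isLocalAtTarget_fppf (@Surjective : MorphismProperty Scheme.{u})
  have he : RepWith @Etale (quotMap s t) :=
    repWith_of_locallySurjective hr _ sq @Etale ((repWith_yon_map_iff _ _).2 ‹Etale s.left›)
  have hsj : RepWith @Surjective (quotMap s t) :=
    repWith_of_locallySurjective hr _ sq @Surjective ((repWith_yon_map_iff _ _).2 ‹Surjective s.left›)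
  refine ⟨fun h => ?_, fun h => ?_⟩
  · haveI := isLocalAtTarget_fppf (@QuasiCompact : MorphismProperty Scheme.{u})
    exact repWith_diag_of_chart @QuasiCompact hA.diag _ he hsj t s sq (quasiCompact_lift hfree hc hs ht h)
  · haveI := isLocalAtTarget_fppf (@IsClosedImmersion : MorphismProperty Scheme.{u})
    exact repWith_diag_of_chart @IsClosedImmersion hA.diag _ he hsj t s sq (isClosedImmersion_lift hfree hc hs ht h)

end Groth.Agent.AlgSpDec.FreeAction
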