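import Mathlib.AlgebraicGeometry.Properties
import Mathlib.AlgebraicGeometry.Limits
import Groth.Agent.ProConsLib.Image

/-!
Points of codimension zero in quasi-separated schemes.
-/

set_option backward.isDefEq.respectTransparency false
set_option backward.isDefEq.respectTransparency.types false

universe u

open CategoryTheory AlgebraicGeometry Order TopologicalSpace

namespace Groth.Agent.AlgSpDec

variable {X : Scheme.{u}}

theorem eq_of_specializes_of_coheight {x y : X} (hx : coheight x = 0) (h : y ⤳ x) : y = x := by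
  have hm : IsMax x := coheight_eq_zero.1 hx
  have h' : x ≤ y := Scheme.le_iff_specializes.2 h
  exact (h.antisymm (Scheme.le_iff_specializes.1 (hm h'))).eq

theorem notMem_closure_of_isCompact [QuasiSeparatedSpace X] {K : Set X} (hK : IsCompact K) (hKo : IsOpen K)
    {x : X} (hx : coheight x = 0) (hxK : x ∉ K) : x ∉ closure K := fun hcl => by
  obtain ⟨z, hzK, hz⟩ := ProConsLib.exists_specializes_of_mem_closure
    (ProConsLib.isProConstructible_of_isLocallyClosed hKo.isLocallyClosed
      fun V hV => QuasiSeparatedSpace.inter_isCompact K V hKo hK V.isOpen hV.isCompact) hcl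
  exact hxK (eq_of_specializes_of_coheight hx hz ▸ hzK)

/-- Finitely many points of codimension zero of a quasi-separated scheme lie in an affine open. -/
theorem exists_affineOpen_of_codimZero [QuasiSeparatedSpace X] {T : Set X} (hT : T.Finite)
    (h : ∀ x ∈ T, coheight x = 0) : ∃ V : X.Opens, IsAffineOpen V ∧ T ⊆ V := by
  classical
  haveI := hT.to_subtype
  have h₁ : ∀ i : T, ∃ A : X.Opens, IsAffineOpen A ∧ i.1 ∈ A ∧ ∀ j : T, j ≠ i → j.1 ∉ A := fun i => by
    let O : X.Opens := ⟨(⋃ j ∈ {j : T | j ≠ i}, closure {j.1})ᶜ,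
      ((Set.toFinite _).isClosed_biUnion fun _ _ => isClosed_closure).isOpen_compl⟩
    have hiO : i.1 ∈ O := by
      rintro hmem
      obtain ⟨j, hj, hi⟩ := Set.mem_iUnion₂.1 hmem
      exact hj (Subtype.ext (eq_of_specializes_of_coheight (h _ i.2) (specializes_iff_mem_closure.2 hi)))
    obtain ⟨A, hA, hiA, hAO⟩ := exists_isAffineOpen_mem_and_subset hiO
    exact ⟨A, hA, hiA, fun j hj hjA => hAO hjA (Set.mem_iUnion₂.2 ⟨j, hj, subset_closure rfl⟩)⟩
  choose A hA hiA hjA using h₁
  have h₂ : ∀ i : T, ∃ A' : X.Opens, IsAffineOpen A' ∧ i.1 ∈ A' ∧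
      (A' : Set X) ⊆ (A i : Set X) ∧ ∀ j : T, j ≠ i → Disjoint (A' : Set X) ((A i : Set X) ∩ A j) := fun i => by
    let O : X.Opens := ⟨(A i : Set X) ∩ (⋃ j ∈ {j : T | j ≠ i}, closure ((A i : Set X) ∩ A j))ᶜ,
      (A i).isOpen.inter ((Set.toFinite _).isClosed_biUnion fun _ _ => isClosed_closure).isOpen_compl⟩
    have hiO : i.1 ∈ O := by
      refine ⟨hiA i, fun hmem => ?_⟩
      obtain ⟨j, hj, hi⟩ := Set.mem_iUnion₂.1 hmem
      exact notMem_closure_of_isCompact
        (QuasiSeparatedSpace.inter_isCompact _ _ (A i).isOpen (hA i).isCompact (A j).isOpen (hA j).isCompact)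
        ((A i).isOpen.inter (A j).isOpen) (h _ i.2) (fun hh => hjA j i (Ne.symm hj) hh.2) hi
    obtain ⟨A', hA', hiA', hAO⟩ := exists_isAffineOpen_mem_and_subset hiO
    refine ⟨A', hA', hiA', fun z hz => (hAO hz).1, fun j hj => Set.disjoint_left.2 fun z hz hz' => ?_⟩
    exact (hAO hz).2 (Set.mem_iUnion₂.2 ⟨j, hj, subset_closure hz'⟩)
  choose A' hA' hiA' hsub hdisj using h₂
  refine ⟨⨆ i, A' i, IsAffineOpen.iSup_of_disjoint hA' fun i j hij => ?_,
    fun x hx => Opens.mem_iSup.2 ⟨⟨x, hx⟩, hiA' _⟩⟩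
  rw [Function.onFun, ← Opens.coe_disjoint]
  exact Set.disjoint_left.2 fun z hi hj =>
    Set.disjoint_left.1 (hdisj i j (Ne.symm hij)) hi ⟨hsub i hi, hsub j hj⟩

/-- Every nonempty open of a scheme contains a point of codimension zero. -/
theorem exists_codimZero_mem (O : X.Opens) (hO : (O : Set X).Nonempty) :
    ∃ x ∈ O, coheight x = 0 := by
  obtain ⟨x, hx⟩ := hO
  obtain ⟨η, hη, hmax⟩ : ∃ η : X, η ⤳ x ∧ coheight η = 0 := by
    obtain ⟨Z, hZ, hxZ⟩ := exists_mem_irreducibleComponents_subset_of_isIrreducible {x} isIrreducible_singleton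
    refine ⟨hZ.1.genericPoint, ?_, ?_⟩
    · exact hZ.1.isGenericPoint_genericPoint_closure.specializes (subset_closure (hxZ rfl))
    · refine coheight_eq_zero.2 fun y hy => ?_
      have hy' : y ⤳ hZ.1.genericPoint := Scheme.le_iff_specializes.1 hy
      refine Scheme.le_iff_specializes.2 ?_
      have hc : closure Z = Z := (isClosed_of_mem_irreducibleComponents Z hZ).closure_eq
      have hsub : Z ⊆ closure {y} := by
        conv_lhs => rw [← hc, ← hZ.1.isGenericPoint_genericPoint_closure.def]
        exact closure_minimal (Set.singleton_subset_iff.2 hy'.mem_closure) isClosed_closure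
      have : closure {y} ⊆ Z := hZ.2 isIrreducible_singleton.closure hsub
      exact specializes_iff_mem_closure.2 (by
        rw [hZ.1.isGenericPoint_genericPoint_closure.def, hc]; exact this (subset_closure rfl))
  exact ⟨η, hη.mem_open O.isOpen hx, hmax⟩

end Groth.Agent.AlgSpDec
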