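import Groth.Agent.AlgSpDec.Basic
import Groth.Agent.AlgSpPts.Dim
import Groth.Agent.AlgSpLib.Descent2

/-!
# Fibres of charts over points, generalisations, dimension
-/

set_option backward.isDefEq.respectTransparency false
set_option backward.isDefEq.respectTransparency.types false

open CategoryTheory Limits Opposite AlgebraicGeometry MorphismProperty AlgSp Groth.Agent.AlgSpLib
  Groth.Agent.AlgSpPts Order Topology

namespace Groth.Agent.AlgSpDec

universe u

variable {S : Scheme.{u}} {X : Sp S}

/-- The fibre of an etale map from a quasi-compact scheme over a point with quasi-compact morphism is finite. -/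
theorem finite_fibre_of_repWith {U : Over S} [CompactSpace ↥U.left] {a : (yon S).obj U ⟶ X}
    (ha : RepWith @Etale a) (p : FieldPt X) (hp : RepWith @QuasiCompact p.toHom) :
    (Points.ofPt a ⁻¹' {Points.mk p}).Finite := by
  have sq := ha.rep.isPullback' p.toHom
  have hvU : QuasiCompact (ha.rep.fst' p.toHom).left := hp.property _ _ _ sq.flip
  have : CompactSpace ↥(ha.rep.pullback p.toHom).left :=
    QuasiCompact.compactSpace_of_compactSpace (ha.rep.fst' p.toHom).left
  have : Etale (ha.rep.snd p.toHom).left := ha.property_snd p.toHom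
  have : IsAffine p.pt.left := inferInstanceAs (IsAffine (Spec (CommRingCat.of p.K)))
  have : QuasiCompact (ha.rep.snd p.toHom).left :=
    HasAffineProperty.iff_of_isAffine.2 ‹CompactSpace ↥(ha.rep.pullback p.toHom).left›
  have hfin : (Set.univ : Set ↥(ha.rep.pullback p.toHom).left).Finite := by
    refine ((ha.rep.snd p.toHom).left.finite_preimage_singleton (IsLocalRing.closedPoint p.K)).subset ?_
    intro w _
    exact Subsingleton.elim (α := ↥p.pt.left) _ _
  refine (hfin.image (ha.rep.fst' p.toHom).left).subset fun v hv => ?_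
  obtain ⟨w, hw, -⟩ := exists_ofPt_of_eq sq
    (show Points.ofPt a v = Points.ofPt p.toHom (IsLocalRing.closedPoint p.K) by
      rw [Points.ofPt_toHom]; exact hv)
  exact ⟨w, Set.mem_univ _, hw⟩

/-- Restricting a chart to an affine open through a point. -/
theorem exists_affine_restrict {U : Over S} {a : (yon S).obj U ⟶ X} (ha : RepWith @Etale a) (u : ↥U.left) :
    ∃ (U' : Over S) (ι : U' ⟶ U) (u' : ↥U'.left), IsAffine U'.left ∧ IsOpenImmersion ι.left ∧
      ι.left u' = u ∧ RepWith @Etale ((yon S).map ι ≫ a) := by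
  obtain ⟨W, hW, huW, -⟩ := exists_isAffineOpen_mem_and_subset (U := (⊤ : U.left.Opens)) (x := u) trivial
  let ι : Over.mk (W.ι ≫ U.hom) ⟶ U := Over.homMk W.ι rfl
  refine ⟨_, ι, ⟨u, huW⟩, hW, inferInstanceAs (IsOpenImmersion W.ι), rfl,
    repWith_comp ((repWith_yon_map_iff _ ι).2 ?_) ha⟩
  change Etale W.ι
  infer_instance

/-- If the fibre over `x` of every affine chart is finite, it has no specialisations. -/
theorem eq_of_specializes (x : Points X)
    (hx : ∀ (V : Over S) (b : (yon S).obj V ⟶ X), IsAffine V.left → RepWith @Etale b →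
      (Points.ofPt b ⁻¹' {x}).Finite)
    {U : Over S} {a : (yon S).obj U ⟶ X} (ha : RepWith @Etale a) {u u' : ↥U.left}
    (hu : Points.ofPt a u = x) (hu' : Points.ofPt a u' = x) (hs : u' ⤳ u) : u = u' := by
  obtain ⟨U', ι, w, hU', hι, hw, ha'⟩ := exists_affine_restrict ha u
  obtain ⟨w', hw'⟩ : ∃ w', ι.left w' = u' := hs.mem_open ι.left.isOpenEmbedding.isOpen_range ⟨w, hw⟩
  have hws : w' ⤳ w := by
    rw [← hw, ← hw'] at hs
    exact ι.left.isOpenEmbedding.isInducing.specializes_iff.1 hs
  have hwx : Points.ofPt ((yon S).map ι ≫ a) w = x := by rw [ofPt_comp, hw, hu]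
  have hwx' : Points.ofPt ((yon S).map ι ≫ a) w' = x := by rw [ofPt_comp, hw', hu']
  suffices w = w' by rw [← hw, ← hw', this]
  clear hs hw hw'
  generalize (yon S).map ι ≫ a = b at ha' hwx hwx'
  by_contra hne
  let F : Set ↥U'.left := {v | Points.ofPt b v = x ∧ v ⤳ w ∧ v ≠ w}
  have hF : F.Finite := (hx U' b hU' ha').subset fun v hv => hv.1
  let _ : PartialOrder ↥U'.left := specializationOrder _
  obtain ⟨v, hv, hvmax⟩ := hF.exists_maximal ⟨w', hwx', hws, fun h => hne h.symm⟩
  obtain ⟨r, hr₁, hr₂⟩ := exists_ofPt_of_eq (ha'.rep.isPullback' b) (hwx.trans hv.1.symm)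
  have : Etale (ha'.rep.snd b).left := ha'.property_snd b
  have : Etale (ha'.rep.fst' b).left := ha'.property _ _ _ (ha'.rep.isPullback' b).flip
  obtain ⟨r₁, hr₁s, hr₁v⟩ := Flat.generalizingMap (ha'.rep.fst' b).left
    (show v ⤳ (ha'.rep.fst' b).left r by rw [hr₁]; exact hv.2.1)
  let v₁ := (ha'.rep.snd b).left r₁
  have hv₁v : v₁ ⤳ v := by rw [← hr₂]; exact hr₁s.map (ha'.rep.snd b).left.continuous
  have hv₁x : Points.ofPt b v₁ = x := by
    have : Points.ofPt b ((ha'.rep.fst' b).left r₁) = Points.ofPt b v₁ := by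
      rw [← ofPt_comp, ← ofPt_comp, (ha'.rep.isPullback' b).w]
    rw [← this, hr₁v, hv.1]
  have hv₁w : v₁ ⤳ w := hv₁v.trans hv.2.1
  have hv₁ne : v₁ ≠ w := fun h => hv.2.2 (hv.2.1.antisymm (h ▸ hv₁v)).eq
  have hvv : v = v₁ := le_antisymm (α := ↥U'.left) hv₁v (hvmax (show v₁ ∈ F from ⟨hv₁x, hv₁w, hv₁ne⟩) hv₁v)
  have hrr : r₁ = r := by
    have hd := ((ha'.rep.snd b).left.isDiscrete_preimage_singleton v).to_subtype
    have h1 : (⟨r₁, hvv.symm⟩ : ↥((ha'.rep.snd b).left ⁻¹' {v})) ⤳ ⟨r, hr₂⟩ :=
      (subtype_specializes_iff _ _).2 hr₁s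
    exact congrArg Subtype.val h1.eq
  exact hv.2.2 (hr₁v.symm.trans ((congrArg _ hrr).trans hr₁))

theorem eq_of_specializes_of_isDecent (hX : IsDecent X) {U : Over S} {a : (yon S).obj U ⟶ X}
    (ha : RepWith @Etale a) {u u' : ↥U.left} (he : Points.ofPt a u = Points.ofPt a u') (hs : u' ⤳ u) :
    u = u' := by
  refine eq_of_specializes (Points.ofPt a u) (fun V b hV hb => ?_) ha rfl he.symm hs
  obtain ⟨p, hp, -, hq⟩ := hX (Points.ofPt a u)
  rw [← hp]
  exact finite_fibre_of_repWith hb p hq

theorem eq_of_specializes_of_isLocallyNoetherian {U : Over S} {a : (yon S).obj U ⟶ X}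
    (ha : RepWith @Etale a) [IsLocallyNoetherian U.left] {u u' : ↥U.left}
    (he : Points.ofPt a u = Points.ofPt a u') (hs : u' ⤳ u) : u = u' := by
  by_contra hne
  let _ : PartialOrder ↥U.left := specializationOrder _
  have hlt : u < u' := lt_of_le_of_ne hs hne
  have hfin : coheight u' < ⊤ := by
    have h : ringKrullDim (U.left.presheaf.stalk u') ≠ ⊤ :=
      ringKrullDim_ne_top
    rw [ringKrullDim_stalk_eq_coheight] at h
    exact lt_top_iff_ne_top.2 fun h' => h (by rw [h']; rfl)
  exact (coheight_eq_of_charts ha ha he).le.not_gt (coheight_strictAnti hlt hfin)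

/-- Generalisations lift to etale charts when the fibre over the generalisation is finite on affines. -/
theorem exists_specializes_lift (x' : Points X)
    (hx : ∀ (V : Over S) (b : (yon S).obj V ⟶ X), IsAffine V.left → RepWith @Etale b →
      (Points.ofPt b ⁻¹' {x'}).Finite)
    {U : Over S} {a : (yon S).obj U ⟶ X} (ha : RepWith @Etale a) {u : ↥U.left}
    (h : x' ⤳ Points.ofPt a u) : ∃ u', u' ⤳ u ∧ Points.ofPt a u' = x' := by
  obtain ⟨U', ι, w, hU', hι, hw, ha'⟩ := exists_affine_restrict ha u
  obtain ⟨w', hw's, hw'x⟩ := exists_specializes_of_isOpenMap (isOpenMap_ofPt ha') (hx U' _ hU' ha') (v := w)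
    (show x' ⤳ Points.ofPt ((yon S).map ι ≫ a) w by rw [ofPt_comp, hw]; exact h)
  exact ⟨ι.left w', hw ▸ hw's.map ι.left.continuous, by rw [← ofPt_comp]; exact hw'x⟩

theorem exists_specializes_lift_of_isDecent (hX : IsDecent X) {U : Over S} {a : (yon S).obj U ⟶ X}
    (ha : RepWith @Etale a) {u : ↥U.left} {x' : Points X} (h : x' ⤳ Points.ofPt a u) :
    ∃ u', u' ⤳ u ∧ Points.ofPt a u' = x' := by
  refine exists_specializes_lift x' (fun V b _ hb => ?_) ha h
  obtain ⟨p, hp, -, hq⟩ := hX x'
  rw [← hp]
  exact finite_fibre_of_repWith hb p hq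

theorem isLocallyNoetherian_chart {U : Over S} {a : (yon S).obj U ⟶ X} (ha : RepWith @Etale a)
    (hX : IsLocNoethSp X) : IsLocallyNoetherian U.left := by
  obtain ⟨V, b, hb, hb', hV⟩ := hX
  have : Etale (hb.rep.snd a).left := hb.property_snd a
  have : Surjective (hb.rep.snd a).left := hb'.property _ _ _ (hb.rep.isPullback a)
  have : Etale (hb.rep.fst' a).left := ha.property _ _ _ (hb.rep.isPullback' a).flip
  have : IsLocallyNoetherian (hb.rep.pullback a).left := LocallyOfFiniteType.isLocallyNoetherian (hb.rep.fst' a).left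
  exact isLocallyNoetherian_of_flat (hb.rep.snd a).left

section Dim

attribute [local instance] specializationOrder

variable [T0Space (Points X)]

theorem strictMono_ofPt (hX : IsDecent X) {U : Over S} {a : (yon S).obj U ⟶ X} (ha : RepWith @Etale a) :
    StrictMono (Points.ofPt a) := fun u v huv => by
  have hs : v ⤳ u := huv.le
  refine lt_of_le_of_ne (hs.map (Points.continuous_ofPt a) : Points.ofPt a v ⤳ Points.ofPt a u) fun he => ?_
  exact huv.ne (eq_of_specializes_of_isDecent hX ha he hs)

theorem coheight_ofPt (hX : IsDecent X) {U : Over S} {a : (yon S).obj U ⟶ X} (ha : RepWith @Etale a)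
    (u : ↥U.left) : coheight (Points.ofPt a u) = coheight u := by
  refine le_antisymm ?_ (coheight_le_coheight_apply_of_strictMono _ (strictMono_ofPt hX ha) u)
  refine coheight_le_iff'.mpr fun p hp => ?_
  induction p using RelSeries.inductionOn generalizing u with
  | singleton x => simp
  | cons p x hx ih =>
    simp only [RelSeries.head_cons] at hp
    have hlt : Points.ofPt a u < p.head := hp ▸ hx
    obtain ⟨u', hu', he⟩ := exists_specializes_lift_of_isDecent hX ha (show p.head ⤳ Points.ofPt a u from hlt.le)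
    have hlt' : u < u' := lt_of_le_of_ne hu' fun e => hlt.ne (e ▸ he)
    have h1 := ih u' he.symm
    have h2 := coheight_add_one_le hlt'
    simp only [RelSeries.cons_length, Nat.cast_add, Nat.cast_one]
    exact le_trans (add_le_add h1 le_rfl) h2

theorem isMax_iff_coheight_eq_zero (x : Points X) : IsMax x ↔ coheight x = 0 := coheight_eq_zero.symm

theorem isGenericPoint_component_iff [QuasiSober (Points X)] (x : Points X) :
    (∃ T ∈ irreducibleComponents (Points X), IsGenericPoint x T) ↔ coheight x = 0 := by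
  rw [← isMax_iff_coheight_eq_zero]
  refine ⟨?_, fun h => ⟨closure {x}, ⟨isIrreducible_singleton.closure, fun T hT hle => ?_⟩, isGenericPoint_closure⟩⟩
  · rintro ⟨T, hT, hxT⟩ y (hy : y ⤳ x)
    have hle : T ≤ closure {y} := hxT.def.ge.trans (specializes_iff_closure_subset.1 hy)
    have := hT.2 isIrreducible_singleton.closure hle
    exact hxT.specializes (this (subset_closure rfl))
  · obtain ⟨η, hη⟩ := QuasiSober.sober (hT.closure) isClosed_closure
    have hηx : η ⤳ x := hη.specializes (subset_closure (hle (subset_closure rfl)))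
    exact (subset_closure.trans hη.def.ge).trans (specializes_iff_closure_subset.1 (h hηx))

theorem krullDim_points_eq_dim (hA : IsAlgSpace X) (hX : IsDecent X) [QuasiSober (Points X)] :
    topologicalKrullDim (Points X) = AlgSp.dim X := by
  rw [topologicalKrullDim, krullDim_eq_of_orderIso (irreducibleSetEquivPoints (α := Points X))]
  refine le_antisymm ?_ (dim_le_iff.2 fun U a ha u => ?_)
  · refine iSup_le fun p => ?_
    obtain ⟨U, a, u, -, ha, hu⟩ := exists_affine_chart_at hA p.head
    refine le_trans (WithBot.coe_le_coe.2 length_le_coheight_head) ?_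
    rw [← hu, coheight_ofPt hX ha]
    exact coheight_le_dim ha u
  · rw [← coheight_ofPt hX ha]
    exact coheight_le_krullDim _

end Dim

end Groth.Agent.AlgSpDec
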