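import Groth.Agent.AlgSpDec.AffineDescent
import Groth.Agent.AlgSpDec.AffineRep
import Groth.Agent.EtFound.Descent

/-!
# Affine morphisms are etale local on the target
-/

set_option backward.isDefEq.respectTransparency false
set_option backward.isDefEq.respectTransparency.types false

universe u

open CategoryTheory Limits Opposite AlgebraicGeometry AlgSp Groth.Agent.AlgSpLib Groth.Agent.AlgSpVal

namespace Groth.Agent.AlgSpDec

variable {S : Scheme.{u}} {F G : Sp S} {f : F ⟶ G}

/-- A surjective etale morphism onto an affine scheme is refined by one with affine source, through finitely many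
affine opens. -/
theorem exists_affine_refinement {X Y : Scheme.{u}} (e : X ⟶ Y) [Etale e] [Surjective e] [IsAffine Y] :
    ∃ (n : ℕ) (U : Fin n → X.Opens), (∀ i, IsAffineOpen (U i)) ∧ ∀ y, ∃ i, ∃ x ∈ U i, e x = y := by
  have hopen : IsOpenMap e := e.isOpenMap
  obtain ⟨t, ht⟩ := isCompact_univ.elim_finite_subcover (fun U : X.affineOpens => e '' (U.1 : Set ↥X))
    (fun U => hopen _ U.1.2) (fun y _ => by
      obtain ⟨x, rfl⟩ := e.surjective y
      obtain ⟨V, hV, hxV, -⟩ := exists_isAffineOpen_mem_and_subset (U := (⊤ : X.Opens)) (x := x) trivial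
      exact Set.mem_iUnion.2 ⟨⟨V, hV⟩, x, hxV, rfl⟩)
  refine ⟨t.card, fun i => (t.equivFin.symm i).1.1, fun i => (t.equivFin.symm i).1.2, fun y => ?_⟩
  obtain ⟨U, hU, hy⟩ := Set.mem_iUnion₂.1 (ht (Set.mem_univ y))
  obtain ⟨x, hx, hxy⟩ := hy
  exact ⟨t.equivFin ⟨U, hU⟩, x, by simpa using hx, hxy⟩

/-- An affine etale covering of an affine scheme through the base change of a covering of the target. -/
theorem exists_affine_cover_lift {Z V : Over S} [IsAffine Z.left] {p : (yon S).obj V ⟶ G}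
    (hp : RepWith @Etale p) (hps : RepWith @Surjective p) (g : (yon S).obj Z ⟶ G) :
    ∃ (Z' : Over S) (π : Z' ⟶ Z) (v : Z' ⟶ V), IsAffine Z'.left ∧ Etale π.left ∧ Surjective π.left ∧
      (yon S).map π ≫ g = (yon S).map v ≫ p := by
  have : Etale (hp.rep.snd g).left := hp.property_snd g
  have : Surjective (hp.rep.snd g).left := hps.2 g _ _ (hp.rep.isPullback g)
  obtain ⟨n, U, hU, hcov⟩ := exists_affine_refinement (hp.rep.snd g).left
  let X := hp.rep.pullback g
  let Uc : Scheme.{u} := ∐ fun i : ULift.{u} (Fin n) => (U i.down).toScheme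
  have : ∀ i : ULift.{u} (Fin n), IsAffine (U i.down).toScheme := fun i => hU i.down
  let j : Uc ⟶ X.left := Sigma.desc fun i => (U i.down).ι
  have hje : Etale j := by
    refine IsZariskiLocalAtSource.of_openCover (sigmaOpenCover _) fun i => ?_
    change Etale (Sigma.ι (fun i : ULift.{u} (Fin n) => (U i.down).toScheme) i ≫ j)
    rw [Sigma.ι_desc]
    infer_instance
  let Z' : Over S := Over.mk (j ≫ X.hom)
  let j' : Z' ⟶ X := CategoryTheory.Over.homMk j rfl
  refine ⟨Z', j' ≫ hp.rep.snd g, j' ≫ hp.rep.fst' g, inferInstanceAs (IsAffine Uc),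
    inferInstanceAs (Etale (j ≫ (hp.rep.snd g).left)), ⟨fun z => ?_⟩, ?_⟩
  · obtain ⟨i, x, hx, hxz⟩ := hcov z
    refine ⟨Sigma.ι (fun i : ULift.{u} (Fin n) => (U i.down).toScheme) ⟨i⟩ ⟨x, hx⟩, ?_⟩
    change (j ≫ (hp.rep.snd g).left) _ = z
    rw [← Scheme.Hom.comp_apply, ← Category.assoc, Sigma.ι_desc]
    exact hxz
  · rw [Functor.map_comp, Functor.map_comp, Category.assoc, Category.assoc, (hp.rep.isPullback' g).w]

/-- An affine morphism over an affine covering comes from an affine morphism. -/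
theorem exists_affine_of_cover {P : MorphismProperty Scheme.{u}} [P.RespectsIso]
    [P.DescendsAlong (@Surjective ⊓ @Flat ⊓ @QuasiCompact)]
    {Z Z' : Over S} [IsAffine Z.left] [IsAffine Z'.left] (π : Z' ⟶ Z) [Flat π.left] [Surjective π.left]
    [LocallyOfFinitePresentation π.left] (g : (yon S).obj Z ⟶ G) {W' : Over S} [IsAffine W'.left] {i : W' ⟶ Z'}
    {fst : (yon S).obj W' ⟶ F} (sq : IsPullback fst ((yon S).map i) f ((yon S).map π ≫ g)) (hi : P i.left) :
    ∃ (W : Over S) (i₀ : W ⟶ Z) (fst₀ : (yon S).obj W ⟶ F),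
      IsPullback fst₀ ((yon S).map i₀) f g ∧ IsAffine W.left ∧ P i₀.left := by
  let str : Spec Γ(Z.left, ⊤) ⟶ S := Z.left.isoSpec.inv ≫ Z.hom
  let eZ : Over.mk str ≅ Z := CategoryTheory.Over.isoMk Z.left.isoSpec.symm rfl
  obtain ⟨φ, hφ⟩ : ∃ φ : Γ(Z.left, ⊤) ⟶ Γ(Z'.left, ⊤),
      Spec.map φ = Z'.left.isoSpec.inv ≫ π.left ≫ Z.left.isoSpec.hom := ⟨_, Spec.map_preimage _⟩
  obtain ⟨β, hβ⟩ : ∃ β : Γ(Z'.left, ⊤) ⟶ Γ(W'.left, ⊤),
      Spec.map β = W'.left.isoSpec.inv ≫ i.left ≫ Z'.left.isoSpec.hom := ⟨_, Spec.map_preimage _⟩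
  let eZ' : Over.mk (Spec.map φ ≫ str) ≅ Z' := CategoryTheory.Over.isoMk Z'.left.isoSpec.symm (by
    change Z'.left.isoSpec.inv ≫ Z'.hom = Spec.map φ ≫ str
    rw [hφ, Category.assoc, Category.assoc, Iso.hom_inv_id_assoc, Over.w π])
  let eW : Over.mk (Spec.map (φ ≫ β) ≫ str) ≅ W' := CategoryTheory.Over.isoMk W'.left.isoSpec.symm (by
    change W'.left.isoSpec.inv ≫ W'.hom = Spec.map (φ ≫ β) ≫ str
    rw [Spec.map_comp, hφ, hβ]
    simp only [str, Category.assoc, Iso.hom_inv_id_assoc]
    rw [Over.w π, Over.w i])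
  have hπ : specToBase (str := str) φ ≫ eZ.hom = eZ'.hom ≫ π := Over.OverMorphism.ext (by
    change Spec.map φ ≫ Z.left.isoSpec.inv = Z'.left.isoSpec.inv ≫ π.left
    rw [hφ, Category.assoc, Category.assoc, Iso.hom_inv_id, Category.comp_id])
  have hib : specHom (str := str) φ β (φ ≫ β) rfl ≫ eZ'.hom = eW.hom ≫ i := Over.OverMorphism.ext (by
    change Spec.map β ≫ Z'.left.isoSpec.inv = W'.left.isoSpec.inv ≫ i.left
    rw [hβ, Category.assoc, Category.assoc, Iso.hom_inv_id, Category.comp_id])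
  let g₀ := (yon S).map eZ.hom ≫ g
  have hw : ((yon S).map eW.hom ≫ fst) ≫ f =
      ((yon S).map (specHom (str := str) φ β (φ ≫ β) rfl) ≫ (yon S).map (specToBase φ)) ≫ g₀ := by
    rw [Category.assoc, sq.w, Category.assoc, ← Functor.map_comp_assoc, ← Functor.map_comp_assoc,
      ← Functor.map_comp_assoc, ← Functor.map_comp_assoc, Category.assoc _ (specToBase φ) eZ.hom, hπ,
      ← Category.assoc _ eZ'.hom, hib]
  let w : (yon S).obj (Over.mk (Spec.map (φ ≫ β) ≫ str)) ⟶ pullback f g₀ :=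
    pullback.lift ((yon S).map eW.hom ≫ fst) _ hw
  have sqW : IsPullback w ((yon S).map (specHom (str := str) φ β (φ ≫ β) rfl)) (pullback.snd f g₀)
      ((yon S).map (specToBase φ)) := by
    refine IsPullback.of_right ?_ (pullback.lift_snd _ _ _) (IsPullback.of_hasPullback f g₀)
    rw [pullback.lift_fst]
    refine sq.of_iso ((yon S).mapIso eW).symm (Iso.refl _) ((yon S).mapIso eZ').symm (Iso.refl _) ?_ ?_ ?_ ?_
    · simp [← Functor.map_comp_assoc]
    · simp only [Iso.symm_hom, Functor.mapIso_inv, ← Functor.map_comp]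
      congr 1
      rw [← cancel_mono eZ'.hom, Category.assoc, Category.assoc, eZ'.inv_hom_id, Category.comp_id, hib,
        eW.inv_hom_id_assoc]
    · simp
    · simp only [Iso.symm_hom, Functor.mapIso_inv, Iso.refl_hom, Category.comp_id, g₀, ← Category.assoc,
        ← Functor.map_comp]
      rw [Category.assoc eZ'.inv, hπ, eZ'.inv_hom_id_assoc]
  have : Flat (Spec.map φ) := by rw [hφ]; infer_instance
  have : Surjective (Spec.map φ) := by rw [hφ]; infer_instance
  have : LocallyOfFinitePresentation (Spec.map φ) := by rw [hφ]; infer_instance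
  obtain ⟨C, c, e, he⟩ := exists_affine_descent sqW
  refine ⟨Over.mk (Spec.map c ≫ str), specToBase c ≫ eZ.hom, e.hom ≫ pullback.fst f g₀, ?_,
    inferInstanceAs (IsAffine (Spec C)), ?_⟩
  · refine (IsPullback.of_hasPullback f g₀).of_iso e.symm (Iso.refl _) ((yon S).mapIso eZ) (Iso.refl _) ?_ ?_ ?_ ?_
    · simp
    · simp only [Iso.symm_hom, Functor.mapIso_hom, Functor.map_comp]
      rw [← he, Category.assoc, Iso.inv_hom_id_assoc]
    · simp
    · simp [g₀]
  · have hβP : P (Spec.map β) := by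
      rw [hβ]
      exact (P.cancel_left_of_respectsIso _ _).2 ((P.cancel_right_of_respectsIso _ _).2 hi)
    have sq' : IsPullback (Spec.map β) (w ≫ e.inv |> (yon S).preimage).left (Spec.map φ) (Spec.map c) := by
      have h1 := sqW.of_iso (Iso.refl _) e.symm (Iso.refl _) (Iso.refl _) (fst' := w ≫ e.inv)
        (snd' := (yon S).map (specHom (str := str) φ β (φ ≫ β) rfl)) (f' := (yon S).map (specToBase c))
        (g' := (yon S).map (specToBase φ)) (by simp) (by simp) (by simp [← he]) (by simp)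
      rw [← (yon S).map_preimage (w ≫ e.inv)] at h1
      exact ((h1.of_map_of_faithful (yon S)).map (Over.forget S)).flip
    have : P (Spec.map c) := MorphismProperty.of_isPullback_of_descendsAlong
      (Q := @Surjective ⊓ @Flat ⊓ @QuasiCompact) sq' ⟨⟨inferInstance, inferInstance⟩, inferInstance⟩ hβP
    change P (Spec.map c ≫ Z.left.isoSpec.inv)
    exact (P.cancel_right_of_respectsIso _ _).2 this

/-- A property implying affineness descends along an etale covering of the target. -/
theorem repWith_of_etale_cover {P : MorphismProperty Scheme.{u}} [IsZariskiLocalAtTarget P]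
    [P.DescendsAlong (@Surjective ⊓ @Flat ⊓ @QuasiCompact)] (hP : P ≤ @IsAffineHom) {V : Over S}
    {p : (yon S).obj V ⟶ G} (hp : RepWith @Etale p) (hps : RepWith @Surjective p) {P₀ : Sp S} {fst : P₀ ⟶ F}
    {snd : P₀ ⟶ (yon S).obj V} (sq : IsPullback fst snd f p) (h : RepWith P snd) : RepWith P f :=
  repWith_of_affine_test fun Z hZ g => by
    have : IsAffine Z.left := hZ
    obtain ⟨Z', π, v, hZ', _, _, hπ⟩ := exists_affine_cover_lift hp hps g
    obtain ⟨W', i, fst', sq', _, hi⟩ := affine_test_of_repWith hP h hZ' ((yon S).map v)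
    exact exists_affine_of_cover π g (sq := by rw [hπ]; exact sq'.paste_horiz sq) hi

end Groth.Agent.AlgSpDec
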