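import Groth.Agent.AlgSpDec.LimDescentIso
import Groth.Agent.AlgSpDec.AffineLocal
import Groth.Agent.MorLib.DescendCI
import Groth.Agent.S0083
import Groth.Agent.S0084

/-!
# Descending properties of representable morphisms along limits
-/

set_option backward.isDefEq.respectTransparency false
set_option backward.isDefEq.respectTransparency.types false

universe u

open CategoryTheory Limits Opposite AlgebraicGeometry AlgSp Groth.Agent.AlgSpLib Groth.Agent.AlgSpPts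
open Groth.Agent.MorLib

namespace Groth.Agent.AlgSpDec

variable {S : Scheme.{u}}

theorem isSeparatedMor_of_repWith_affine {X Y : Sp S} {f : X ⟶ Y} (hf : RepWith @IsAffineHom f) :
    IsSeparatedMor f :=
  repWith_diagonal hf fun g (_ : IsAffineHom g) => (inferInstance : IsClosedImmersion (pullback.diagonal g))

theorem isQuasiSeparatedMor_of_isSeparatedMor {X Y : Sp S} {f : X ⟶ Y} (hf : IsSeparatedMor f) :
    IsQuasiSeparatedMor f :=
  repWith_mono (fun _ _ g (_ : IsClosedImmersion g) => (inferInstance : QuasiCompact g)) _ hf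

theorem isQuasiCompactSp_of_affine {X Y : Sp S} (hY : IsAlgSpace Y) (f : X ⟶ Y) (hf : RepWith @IsAffineHom f)
    (hYqc : IsQuasiCompactSp Y) : IsQuasiCompactSp X :=
  isQuasiCompactMor_of_repWith (repWith_mono (fun _ _ g (_ : IsAffineHom g) => (inferInstance : QuasiCompact g)) _ hf)
    hY hYqc (𝟙 Y) (𝟙 X) f (IsPullback.of_horiz_isIso ⟨by simp⟩)

theorem isQuasiSeparatedSp_of_affine {X Y : Sp S} (f : X ⟶ Y) (hf : RepWith @IsAffineHom f)
    (hYqs : IsQuasiSeparatedSp Y) : IsQuasiSeparatedSp X := by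
  rw [isQuasiSeparatedSp_iff_mor] at hYqs ⊢
  rw [(isTerminalYon S).hom_ext ((isTerminalYon S).from X) (f ≫ (isTerminalYon S).from Y)]
  exact isQuasiSeparatedMor_comp (isQuasiSeparatedMor_of_isSeparatedMor (isSeparatedMor_of_repWith_affine hf)) hYqs

variable [QuasiSeparatedSpace ↥S] {I : Type u} [SmallCategory I] [IsCofiltered I] (D : I ⥤ Sp S)
  (hD : ∀ i, IsAlgSpace (D.obj i)) (hDa : ∀ (i j : I) (φ : i ⟶ j), IsAffineMor (D.map φ)) (c : Cone D)
  (hc : IsLimit c)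

include hDa hc in
/-- A property implying affineness descends for representable morphisms. -/
theorem descend_repWith {P Q : MorphismProperty Scheme.{u}} [P.IsStableUnderBaseChange]
    [Q.IsStableUnderBaseChange] [IsZariskiLocalAtTarget P]
    [P.DescendsAlong (@Surjective ⊓ @Flat ⊓ @QuasiCompact)] (hPA : P ≤ @IsAffineHom) (hcore : Desc.Core P Q)
    {i₀ : I} {X₀ Y₀ : Space S} {f₀ : X₀.obj ⟶ Y₀.obj} {b₀ : Y₀.obj ⟶ D.obj i₀}
    (hXqc : IsQuasiCompactSp X₀.obj) (hYqc : IsQuasiCompactSp Y₀.obj) (hYqs : IsQuasiSeparatedSp Y₀.obj)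
    {X Y : Sp S} {f : X ⟶ Y} {pY : Y ⟶ Y₀.obj} {qY : Y ⟶ c.pt}
    (hY : IsPullback pY qY b₀ (c.π.app i₀)) {pX : X ⟶ X₀.obj} (hX : IsPullback pX f f₀ pY)
    (hr : Representable f₀) (hsep : IsSeparatedMor f₀) (hQ : RepWith Q f₀) (hf : RepWith P f) :
    ∃ (i : I) (φ : i ⟶ i₀), Stage D f₀ b₀ (RepWith P) φ := by
  obtain ⟨V, v, hV, hv, hvs⟩ := exists_affine_atlas hYqc
  obtain ⟨U₀, a₀, hU₀, ha₀, has₀⟩ := exists_affine_atlas hXqc
  have : IsAffine V.left := hV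
  have : IsAffine U₀.left := hU₀
  let U := hr.pullback v
  let h := hr.snd v
  have sq0 : IsPullback (hr.fst v) ((yon S).map h) f₀ v := hr.isPullback v
  have : IsSeparated h.left := by
    have h1 : IsSeparatedMor ((yon S).map h) := isSeparatedMor_of_isPullback sq0 hsep
    exact ⟨(repWith_diagonal_yon_map_iff _ h).1 h1⟩
  have : CompactSpace ↥U.left := by
    have sq := hv.rep.isPullback' (a₀ ≫ f₀)
    have : QuasiCompact (hv.rep.snd (a₀ ≫ f₀)).left := quasiCompact_fibreProd hYqs sq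
    have : CompactSpace ↥(hv.rep.pullback (a₀ ≫ f₀)).left :=
      QuasiCompact.compactSpace_of_compactSpace (hv.rep.snd (a₀ ≫ f₀)).left
    let m := sq0.lift ((yon S).map (hv.rep.snd (a₀ ≫ f₀)) ≫ a₀) ((yon S).map (hv.rep.fst' (a₀ ≫ f₀)))
      (by rw [Category.assoc]; exact sq.w.symm)
    have sm : IsPullback ((yon S).map (hv.rep.snd (a₀ ≫ f₀))) m a₀ (hr.fst v) := by
      refine IsPullback.of_bot ?_ (sq0.lift_fst _ _ _).symm sq0
      rw [sq0.lift_snd]
      exact sq.flip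
    obtain ⟨m', hm'⟩ := (yon S).map_surjective m
    have : Surjective m'.left := (repWith_yon_map_iff _ m').1 (by
      rw [hm']; exact repWith_of_isPullback sm has₀)
    exact this.surj.compactSpace m'.left.continuous
  have : QuasiSeparatedSpace ↥U.left := quasiSeparatedSpace_of_quasiSeparated h.left
  obtain ⟨W, cW, hcW, p, fst, a, b, sqW, hwb, -, hWA, sqj, hfst, hp⟩ :=
    exists_limit_square' D hDa c hc i₀ (v ≫ b₀)
  have key : ∀ {X' Y' T W' : Sp S} {f' : X' ⟶ Y'} {pY' : Y' ⟶ Y₀.obj} {pX' : X' ⟶ X₀.obj}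
      (_ : IsPullback pX' f' f₀ pY') {U' W₁ : Over S} {p' : U' ⟶ U} {h' : U' ⟶ W₁} {b' : W₁ ⟶ V}
      {u₁ : (yon S).obj U' ⟶ X'} {v₁ : (yon S).obj W₁ ⟶ Y'}
      (_ : IsPullback ((yon S).map p') ((yon S).map h') ((yon S).map h) ((yon S).map b'))
      (_ : IsPullback u₁ ((yon S).map p') pX' (hr.fst v)) (_ : IsPullback v₁ ((yon S).map b') pY' v)
      (_ : u₁ ≫ f' = (yon S).map h' ≫ v₁), IsPullback u₁ ((yon S).map h') f' v₁ := by
    intro X' Y' T W' f' pY' pX' sX U' W₁ p' h' b' u₁ v₁ sp su sv hw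
    have outer : IsPullback u₁ ((yon S).map h' ≫ (yon S).map b') (f' ≫ pY') v := by
      rw [← sp.w, ← sX.w]
      exact su.paste_vert sq0
    exact IsPullback.of_bot outer hw sv
  let top : Over i₀ := Over.mk (𝟙 i₀)
  obtain ⟨j, hj⟩ := exists_stage_scheme hcore W cW hcW hWA top h (hQ.property_snd v) b hwb
    (fun fst' snd' sq => by
      obtain ⟨U', p', h', u₁, v₁, sp, sp', su, sv, hw⟩ := exists_baseChange_chart hY hX sq0.w sqW
      rw [← hp top] at sq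
      exact Desc.of_two P sp sq (hf.property v₁ _ _ (key (T := c.pt) (W' := c.pt) hX sp' su sv hw)))
  refine ⟨j.left, j.hom, fun Xi Yi fi pYi qYi hYi pXi hXi => ?_⟩
  obtain ⟨U', p', h', u₁, v₁, sp, sp', su, sv, hw⟩ := exists_baseChange_chart hYi hXi sq0.w (sqj j)
  exact repWith_of_etale_cover hPA (repWith_of_isPullback sv.flip hv) (repWith_of_isPullback sv.flip hvs)
    (key (T := c.pt) (W' := c.pt) hXi sp' su sv hw) ((repWith_yon_map_iff _ _).2 (hj p'.left h'.left sp))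

include hD hDa hc in
/-- Moving the base index to a stage. -/
theorem exists_stage_rebase {Φ : MorphismProperty (Sp S)} {i₀ : I} {X₀ Y₀ : Space S} {f₀ : X₀.obj ⟶ Y₀.obj}
    {b₀ : Y₀.obj ⟶ D.obj i₀} {X Y : Sp S} {f : X ⟶ Y} {pY : Y ⟶ Y₀.obj} {qY : Y ⟶ c.pt}
    (hY : IsPullback pY qY b₀ (c.π.app i₀)) {pX : X ⟶ X₀.obj} (hX : IsPullback pX f f₀ pY)
    {i₁ : I} (φ₁ : i₁ ⟶ i₀)
    (h : ∀ (X₁ Y₁ : Space S) (f₁ : X₁.obj ⟶ Y₁.obj) (b₁ : Y₁.obj ⟶ D.obj i₁) (pY₁ : Y₁.obj ⟶ Y₀.obj)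
      (pX₁ : X₁.obj ⟶ X₀.obj) (rY : Y ⟶ Y₁.obj) (rX : X ⟶ X₁.obj),
      IsPullback pY₁ b₁ b₀ (D.map φ₁) → IsPullback pX₁ f₁ f₀ pY₁ →
      RepWith @IsAffineHom pY₁ → RepWith @IsAffineHom pX₁ →
      IsPullback rY qY b₁ (c.π.app i₁) → IsPullback rX f f₁ rY →
      ∃ (i : I) (φ : i ⟶ i₁), Stage D f₁ b₁ Φ φ) :
    ∃ (i : I) (φ : i ⟶ i₀), Stage D f₀ b₀ Φ φ := by
  have sY := IsPullback.of_hasPullback b₀ (D.map φ₁)
  have hY₁ := isAlgSpace_pullback Y₀.property (hD i₁) (hD i₀) b₀ (D.map φ₁)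
  have sX := IsPullback.of_hasPullback f₀ (pullback.fst b₀ (D.map φ₁))
  have hX₁ := isAlgSpace_pullback X₀.property hY₁ Y₀.property f₀ (pullback.fst b₀ (D.map φ₁))
  have hpY₁ : RepWith @IsAffineHom (pullback.fst b₀ (D.map φ₁)) :=
    repWith_of_isPullback sY.flip (repWith_isAffineHom_of_isAffineMor (hDa _ _ φ₁))
  let rY : Y ⟶ pullback b₀ (D.map φ₁) := pullback.lift pY (qY ≫ c.π.app i₁) (by rw [hY.w, Category.assoc, c.w])
  have hrY : IsPullback rY qY (pullback.snd b₀ (D.map φ₁)) (c.π.app i₁) := by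
    refine IsPullback.of_right ?_ (pullback.lift_snd _ _ _) sY
    rw [pullback.lift_fst, c.w]
    exact hY
  let rX : X ⟶ pullback f₀ (pullback.fst b₀ (D.map φ₁)) :=
    pullback.lift pX (f ≫ rY) (by rw [hX.w, Category.assoc, pullback.lift_fst])
  have hrX : IsPullback rX f (pullback.snd f₀ (pullback.fst b₀ (D.map φ₁))) rY := by
    refine IsPullback.of_right ?_ (pullback.lift_snd _ _ _) sX
    rw [pullback.lift_fst, pullback.lift_fst]
    exact hX
  obtain ⟨i, φ, hi⟩ := h ⟨_, hX₁⟩ ⟨_, hY₁⟩ _ _ _ _ rY rX sY sX hpY₁ (repWith_of_isPullback sX.flip hpY₁) hrY hrX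
  refine ⟨i, φ ≫ φ₁, fun Xj Yj fj pYj qYj hYj pXj hXj => ?_⟩
  let r : Yj ⟶ pullback b₀ (D.map φ₁) :=
    pullback.lift pYj (qYj ≫ D.map φ) (by rw [hYj.w, D.map_comp, Category.assoc])
  have hr : IsPullback r qYj (pullback.snd b₀ (D.map φ₁)) (D.map φ) := by
    refine IsPullback.of_right ?_ (pullback.lift_snd _ _ _) sY
    rw [pullback.lift_fst, ← D.map_comp]
    exact hYj
  let r' : Xj ⟶ pullback f₀ (pullback.fst b₀ (D.map φ₁)) :=
    pullback.lift pXj (fj ≫ r) (by rw [hXj.w, Category.assoc, pullback.lift_fst])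
  have hr' : IsPullback r' fj (pullback.snd f₀ (pullback.fst b₀ (D.map φ₁))) r := by
    refine IsPullback.of_right ?_ (pullback.lift_snd _ _ _) sX
    rw [pullback.lift_fst, pullback.lift_fst]
    exact hXj
  exact hi _ _ _ _ _ hr _ hr'

variable {i₀ : I} {X₀ Y₀ : Space S} {f₀ : X₀.obj ⟶ Y₀.obj} {b₀ : Y₀.obj ⟶ D.obj i₀}
  (hXqc : IsQuasiCompactSp X₀.obj) (hXqs : IsQuasiSeparatedSp X₀.obj) (hYqs : IsQuasiSeparatedSp Y₀.obj)
  {X Y : Sp S} {f : X ⟶ Y} {pY : Y ⟶ Y₀.obj} {qY : Y ⟶ c.pt}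
  (hY : IsPullback pY qY b₀ (c.π.app i₀)) {pX : X ⟶ X₀.obj} (hX : IsPullback pX f f₀ pY)

include hDa hc hXqc hXqs hYqs hY hX in
theorem descend_isSeparatedMor (hf : IsSeparatedMor f) :
    ∃ (i : I) (φ : i ⟶ i₀), Stage D f₀ b₀ IsSeparatedMor φ := by
  have := EtFound.fpqc_isClosedImmersion.{u}
  obtain ⟨pP, hP₁, hP₂⟩ := exists_isPullback_self hY hX
  obtain ⟨hdr, hdft, -, -, -⟩ := diagonal_package X₀.property Y₀.property f₀
  let P₀ : Space S := ⟨pullback f₀ f₀, isAlgSpace_pullback X₀.property X₀.property Y₀.property f₀ f₀⟩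
  obtain ⟨i, φ, h⟩ := descend_repWith D hDa c hc (X₀ := X₀) (Y₀ := P₀) (f₀ := pullback.diagonal f₀)
    (P := @IsClosedImmersion) (fun _ _ g (_ : IsClosedImmersion g) => inferInstanceAs (IsAffineHom g))
    Desc.core_closedImmersion hXqc (isQuasiCompactSp_pullback_self Y₀.property f₀ hXqc hYqs)
    (isQuasiSeparatedSp_pullback_self f₀ hXqs hYqs) hP₁ hP₂ hdr (isSeparatedMor_of_mono _) hdft hf
  refine ⟨i, φ, fun Xi Yi fi pYi qYi hYi pXi hXi => ?_⟩
  obtain ⟨qP, hQ₁, hQ₂⟩ := exists_isPullback_self hYi hXi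
  exact h _ _ _ _ _ hQ₁ _ hQ₂

theorem core_lqf_ft : Desc.Core (@LocallyQuasiFinite ⊓ @LocallyOfFiniteType : MorphismProperty Scheme.{u})
    @LocallyOfFiniteType := fun I _ _ D c hc hD i hi X₀ f₀ hcs hqs hQ h => by
  obtain ⟨j, φ, hj⟩ := ConsPropLib.core_locallyQuasiFinite I D c hc hD i hi f₀ hcs hqs hQ h.1
  exact ⟨j, φ, hj, MorphismProperty.pullback_snd _ _ hQ⟩

include hD hDa hc hXqc hXqs hYqs hY hX in
/-- A property implying finiteness descends. -/
theorem descend_finite_type {P : MorphismProperty Scheme.{u}} [P.IsStableUnderBaseChange] [IsZariskiLocalAtTarget P]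
    [P.DescendsAlong (@Surjective ⊓ @Flat ⊓ @QuasiCompact)] (hPF : P ≤ @IsFinite)
    (hcore : Desc.Core P @LocallyOfFiniteType) (hYqc : IsQuasiCompactSp Y₀.obj) (hf : RepWith P f)
    (hf₀ : LocP @LocallyOfFiniteType f₀) :
    ∃ (i : I) (φ : i ⟶ i₀), Stage D f₀ b₀ (RepWith P) φ := by
  have hfin : RepWith @IsFinite f := repWith_mono hPF _ hf
  have hlqf : LocP (@LocallyQuasiFinite ⊓ @LocallyOfFiniteType) f := locP_of_repWith
    (repWith_mono (fun _ _ g (_ : IsFinite g) => ⟨inferInstanceAs (LocallyQuasiFinite g),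
      inferInstanceAs (LocallyOfFiniteType g)⟩) _ hfin)
  obtain ⟨i₁, φ₁, h₁⟩ := exists_stage_of_core D hDa c hc hXqc hYqc hYqs hY hX core_lqf_ft
    (fun U V u v h hu hv w => hf₀ u v h hu hv w) (fun hr => hr.of_locP hlqf)
  obtain ⟨i₂, φ₂, h₂⟩ := descend_isSeparatedMor D hDa c hc hXqc hXqs hYqs hY hX
    (isSeparatedMor_of_repWith_affine (repWith_mono (fun _ _ g (_ : IsFinite g) => inferInstanceAs (IsAffineHom g)) _ hfin))
  have h₁' : Stage D f₀ b₀ (LocP (@LocallyQuasiFinite ⊓ @LocallyOfFiniteType)) φ₁ :=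
    fun Xi Yi fi pYi qYi hYi pXi hXi => by
      obtain ⟨U, V, k, hr, hk⟩ := h₁ Xi Yi fi pYi qYi hYi pXi hXi
      exact hr.locP hk
  obtain ⟨j, a, b, hab⟩ := exists_common φ₁ φ₂
  have H₁ := h₁'.comp hD (fun hXA hA hA' sq h => locP_of_isPullback sq hXA hA hA' h) a
  have H₂ := h₂.comp hD (fun _ _ _ sq h => isSeparatedMor_of_isPullback sq h) b
  rw [← hab] at H₂
  refine exists_stage_rebase D hD hDa c hc hY hX (a ≫ φ₁)
    fun X₁ Y₁ f₁ b₁ pY₁ pX₁ rY rX sY sX hpY hpX hrY hrX => ?_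
  have hs := H₂ _ _ _ _ _ sY _ sX
  have hr₁ := representable_of_lqf_separated X₁.property Y₁.property f₁ (H₁ _ _ _ _ _ sY _ sX) hs
  exact descend_repWith D hDa c hc (fun _ _ g hg => by have : IsFinite g := hPF _ hg; infer_instance) hcore
    (isQuasiCompactSp_of_affine X₀.property pX₁ hpX hXqc) (isQuasiCompactSp_of_affine Y₀.property pY₁ hpY hYqc)
    (isQuasiSeparatedSp_of_affine pY₁ hpY hYqs) hrY hrX hr₁ hs
    (repWith_of_locP Y₁.property hr₁ (locP_of_isPullback sX X₀.property Y₀.property Y₁.property hf₀)) hf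

end Groth.Agent.AlgSpDec
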