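import Groth.Agent.AlgSpDec.Basic
import Groth.Agent.AlgSpPts.OpenSub
import Groth.Agent.AlgSpPts.Imm
import Groth.Agent.AlgSpPts.Univ
import Groth.Prelude.Def_AlgSpCov

/-!
Soberness and spectrality of point spaces.
-/

set_option backward.isDefEq.respectTransparency false
set_option backward.isDefEq.respectTransparency.types false

universe u

open CategoryTheory CategoryTheory.Limits AlgebraicGeometry AlgSp Groth.Agent.AlgSpLib Groth.Agent.AlgSpPts TopologicalSpace Topology

namespace Groth.Agent.AlgSpDec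

variable {S : Scheme.{u}}

theorem isOpenEmbedding_map' {X Y : Sp S} (hY : IsAlgSpace Y) {j : X ⟶ Y} (hj : RepWith @IsOpenImmersion j) :
    IsOpenEmbedding (Points.map j) := by
  have hu : RepWith @UniversallyOpen j :=
    repWith_mono (fun A B g (_ : IsOpenImmersion g) => inferInstanceAs (UniversallyOpen g)) _ hj
  have hi : RepWith @IsImmersion j :=
    repWith_mono (fun A B g (_ : IsOpenImmersion g) => inferInstanceAs (IsImmersion g)) _ hj
  exact .of_continuous_injective_isOpenMap (Points.continuous_map j) (isEmbedding_map hY hi).injective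
    (isOpenMap_map hu)

theorem sober_of_zarQs (X : Space S)
    (hX : ∃ (ι : Type u) (Xi : ι → Space S) (j : ∀ i, Xi i ⟶ X),
      IsZarCover (fun i => (Xi i).obj) (fun i => (j i).hom) ∧ ∀ i, IsQuasiSeparatedSp (Xi i).obj) :
    QuasiSober (Points X.obj) ∧ T0Space (Points X.obj) := by
  obtain ⟨ι, Xi, j, hcov, hqs⟩ := hX
  have he : ∀ i, IsOpenEmbedding (Points.map (j i).hom) := fun i => isOpenEmbedding_map' X.property (hcov.1 i)
  have hd : ∀ i, IsDecent (Xi i).obj := fun i => isDecent_of_isQuasiSeparatedSp (Xi i).property (hqs i)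
  have hs : ∀ i, QuasiSober ↥(Set.range (Points.map (j i).hom)) := fun i => by
    haveI := quasiSober_points (Xi i).property (hd i)
    exact (he i).isEmbedding.toHomeomorph.symm.isOpenEmbedding.quasiSober
  have ht : ∀ i, T0Space ↥(Set.range (Points.map (j i).hom)) := fun i => by
    haveI := t0Space_points (Xi i).property (hd i)
    exact (he i).isEmbedding.toHomeomorph.symm.isEmbedding.t0Space
  refine ⟨?_, T0Space.of_open_cover fun x => ?_⟩
  · haveI : ∀ s : Set.range (fun i => Set.range (Points.map (j i).hom)), QuasiSober s.1 := by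
      rintro ⟨_, i, rfl⟩; exact hs i
    refine quasiSober_of_open_cover (Set.range fun i => Set.range (Points.map (j i).hom))
      (by rintro ⟨_, i, rfl⟩; exact (he i).isOpen_range) ?_
    refine Set.eq_univ_of_forall fun x => ?_
    obtain ⟨i, y, hy⟩ := hcov.2 x
    exact ⟨_, ⟨i, rfl⟩, y, hy⟩
  · obtain ⟨i, y, hy⟩ := hcov.2 x
    exact ⟨Set.range (Points.map (j i).hom), ⟨y, hy⟩, (he i).isOpen_range, ht i⟩

theorem isCompact_range_inter [QuasiSeparatedSpace ↥S] {X : Sp S} (hX : IsAlgSpace X) (hqs : IsQuasiSeparatedSp X)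
    {U V : Over S} [CompactSpace ↥U.left] [CompactSpace ↥V.left] {a : (yon S).obj U ⟶ X} {b : (yon S).obj V ⟶ X}
    (ha : RepWith @Etale a) : IsCompact (Set.range (Points.ofPt a) ∩ Set.range (Points.ofPt b)) := by
  have hq : ∀ (W : Over S) [CompactSpace ↥W.left], IsQuasiCompactSp ((yon S).obj W) := fun W _ => by
    haveI : CompactSpace (Points ((yon S).obj W)) := (Points.schemeHomeo _).compactSpace
    exact (isQuasiCompactSp_iff (IsAlgSpace.yon_obj W)).2 ‹_›
  have hm := isQuasiCompactMor_of_qc_qs (IsAlgSpace.yon_obj U) hX (hq U) hqs a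
  have sq := ha.rep.isPullback' b
  have hP := hm (IsAlgSpace.yon_obj V) (hq V) b _ _ sq
  haveI : CompactSpace ↥(ha.rep.pullback b).left :=
    haveI := (isQuasiCompactSp_iff (IsAlgSpace.yon_obj _)).1 hP
    (Points.schemeHomeo (ha.rep.pullback b)).symm.compactSpace
  have : Set.range (Points.ofPt a) ∩ Set.range (Points.ofPt b) =
      Set.range (Points.ofPt a ∘ (ha.rep.fst' b).left) := by
    ext x
    constructor
    · rintro ⟨⟨u, rfl⟩, v, hv⟩
      obtain ⟨r, hr, -⟩ := exists_ofPt_of_eq sq hv.symm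
      exact ⟨r, congrArg (Points.ofPt a) hr⟩
    · rintro ⟨r, rfl⟩
      refine ⟨⟨_, rfl⟩, (ha.rep.snd b).left r, ?_⟩
      rw [Function.comp_apply, ← ofPt_comp, ← ofPt_comp, sq.w]
  rw [this]
  exact isCompact_range ((Points.continuous_ofPt a).comp (ha.rep.fst' b).left.continuous)

theorem spectralSpace_points [QuasiSeparatedSpace ↥S] {X : Sp S} (hX : IsAlgSpace X)
    (hqc : IsQuasiCompactSp X) (hqs : IsQuasiSeparatedSp X) : SpectralSpace (Points X) := by
  have hd := isDecent_of_isQuasiSeparatedSp hX hqs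
  haveI := t0Space_points hX hd
  haveI := quasiSober_points hX hd
  haveI := (isQuasiCompactSp_iff hX).1 hqc
  let B : Set (Set (Points X)) := {A | ∃ (U : Over S) (a : (yon S).obj U ⟶ X), IsAffine U.left ∧ RepWith @Etale a ∧
    A = Set.range (Points.ofPt a)}
  have hBo : ∀ A ∈ B, IsOpen A := by
    rintro _ ⟨U, a, -, ha, rfl⟩; exact (isOpenMap_ofPt ha).isOpen_range
  have hBc : ∀ A ∈ B, IsCompact A := by
    rintro _ ⟨U, a, hU, -, rfl⟩
    exact isCompact_range (Points.continuous_ofPt a)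
  have hB : IsTopologicalBasis B := isTopologicalBasis_of_isOpen_of_nhds hBo fun x O hx hO => by
    obtain ⟨U, a, u, -, ha, rfl⟩ := exists_affine_chart_at hX x
    obtain ⟨W, hW, huW, hWO⟩ := exists_isAffineOpen_mem_and_subset
      (U := ⟨Points.ofPt a ⁻¹' O, hO.preimage (Points.continuous_ofPt a)⟩) (x := u) hx
    let ι : Over.mk (W.ι ≫ U.hom) ⟶ U := Over.homMk W.ι rfl
    refine ⟨_, ⟨_, (yon S).map ι ≫ a, hW, repWith_comp ((repWith_yon_map_iff _ ι).2
      (inferInstanceAs (Etale W.ι))) ha, rfl⟩, ⟨(⟨u, huW⟩ : W.toScheme), ofPt_comp _ _ _⟩, ?_⟩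
    rintro _ ⟨w, rfl⟩
    rw [ofPt_comp]
    exact hWO (w : W.toScheme).2
  haveI : PrespectralSpace (Points X) := .of_isTopologicalBasis hB hBc
  haveI : QuasiSeparatedSpace (Points X) := ⟨fun A A' hA hAc hA' hA'c => by
    obtain ⟨s, hs, hsA⟩ := hB.open_eq_sUnion hA
    obtain ⟨t, ht, htA⟩ := hB.open_eq_sUnion hA'
    obtain ⟨s', hs', hsf, hscov⟩ := hAc.elim_finite_subcover_image (b := s) (c := id) (fun i hi => hBo i (hs hi))
      (by rw [hsA, Set.sUnion_eq_biUnion]; rfl)
    obtain ⟨t', ht', htf, htcov⟩ := hA'c.elim_finite_subcover_image (b := t) (c := id) (fun i hi => hBo i (ht hi))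
      (by rw [htA, Set.sUnion_eq_biUnion]; rfl)
    have : A ∩ A' = ⋃ i ∈ s', ⋃ k ∈ t', i ∩ k := by
      ext x
      simp only [Set.mem_inter_iff, Set.mem_iUnion]
      constructor
      · rintro ⟨h1, h2⟩
        obtain ⟨i, hi, hxi⟩ := Set.mem_iUnion₂.1 (hscov h1)
        obtain ⟨k, hk, hxk⟩ := Set.mem_iUnion₂.1 (htcov h2)
        exact ⟨i, hi, k, hk, hxi, hxk⟩
      · rintro ⟨i, hi, k, hk, hxi, hxk⟩
        exact ⟨hsA ▸ ⟨i, hs' hi, hxi⟩, htA ▸ ⟨k, ht' hk, hxk⟩⟩
    rw [this]
    refine hsf.isCompact_biUnion fun i hi => htf.isCompact_biUnion fun k hk => ?_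
    obtain ⟨U, a, hU, ha, rfl⟩ := hs (hs' hi)
    obtain ⟨V, b, hV, -, rfl⟩ := ht (ht' hk)
    exact isCompact_range_inter hX hqs ha⟩
  exact {}

end Groth.Agent.AlgSpDec
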