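import Groth.Agent.AlgSpDec.FieldGal
import Groth.Agent.FBaseLib.Components

/-!
# Geometric connectedness of algebraic spaces over a field
-/

set_option autoImplicit false
set_option linter.style.haveILetI false
set_option linter.unusedSectionVars false
set_option backward.isDefEq.respectTransparency false
set_option backward.isDefEq.respectTransparency.types false

universe u

open CategoryTheory CategoryTheory.Limits AlgebraicGeometry AlgSp Groth.Agent.AlgSpLib Groth.Agent.AlgSpPts Topology

namespace Groth.Agent.AlgSpDec.FieldBC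

theorem isConnected_preimage_of_open {α β : Type*} [TopologicalSpace α] [TopologicalSpace β] {f : α → β}
    (hf : Continuous f) (ho : IsOpenMap f) (hfib : ∀ y, _root_.IsConnected (f ⁻¹' {y})) {C : Set β}
    (hC : IsClosed C) (hC' : _root_.IsConnected C) : _root_.IsConnected (f ⁻¹' C) :=
  (ho.isQuotientMap hf fun y => (hfib y).nonempty).isCoinducing.isConnected_preimage_of_isClosed hfib hC hC'

theorem connectedComponentsMap_bijective_of_open {α β : Type*} [TopologicalSpace α] [TopologicalSpace β] {f : α → β}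
    (hf : Continuous f) (ho : IsOpenMap f) (hfib : ∀ y, _root_.IsConnected (f ⁻¹' {y})) :
    Function.Bijective (Continuous.connectedComponentsMap hf) := by
  constructor
  · intro a b hab
    obtain ⟨a, rfl⟩ := ConnectedComponents.surjective_coe a
    obtain ⟨b, rfl⟩ := ConnectedComponents.surjective_coe b
    have h : connectedComponent (f a) = connectedComponent (f b) := ConnectedComponents.coe_eq_coe.1 hab
    refine ConnectedComponents.coe_eq_coe.2 (connectedComponent_eq ?_)
    refine (isConnected_preimage_of_open hf ho hfib isClosed_connectedComponent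
      (isConnected_connectedComponent (x := f a))).isPreconnected.subset_connectedComponent mem_connectedComponent ?_
    show f b ∈ connectedComponent (f a)
    rw [h]; exact mem_connectedComponent
  · intro c
    obtain ⟨x, rfl⟩ := ConnectedComponents.surjective_coe c
    obtain ⟨y, rfl⟩ := (hfib x).nonempty
    exact ⟨y, rfl⟩

variable {k : Type u} [Field k] {X : Sp (base k)}

section Tower

variable (L M : Type u) [Field L] [Field M] [Algebra k L] [Algebra k M] [Algebra L M] [IsScalarTower k L M]

/-- The projection along a tower. -/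
noncomputable abbrev towerMap : Points (X ⨯ (yon (base k)).obj (sp k M)) → Points (X ⨯ (yon (base k)).obj (sp k L)) :=
  Points.map (prod.map (𝟙 X) ((yon (base k)).map (towerMor L M)))

theorem isOpenMap_tower (hX : IsAlgSpace X) : IsOpenMap (towerMap (X := X) L M) := by
  obtain ⟨U, a, ha, ha'⟩ := hX.atlas
  intro O hO
  have h : towerMap L M '' O = Points.ofPt (chart a (sp k L)) ''
      ((chartMap U (towerMor L M)).left '' (Points.ofPt (chart a (sp k M)) ⁻¹' O)) := by
    ext z
    constructor
    · rintro ⟨o, ho, rfl⟩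
      obtain ⟨w, rfl⟩ := surjective_ofPt (repWith_chart a (sp k M) ha') o
      exact ⟨_, ⟨w, ho, rfl⟩, (map_map_ofPt a (towerMor L M) w).symm⟩
    · rintro ⟨_, ⟨w, hw, rfl⟩, rfl⟩
      exact ⟨_, hw, map_map_ofPt a (towerMor L M) w⟩
  rw [h, chartMap_towerMor]
  exact isOpenMap_ofPt (repWith_chart a _ ha) _
    ((FBaseLib.bcMap U.hom L M).isOpenMap _ (hO.preimage (Points.continuous_ofPt _)))

theorem surjective_tower (hX : IsAlgSpace X) : Function.Surjective (towerMap (X := X) L M) := by
  obtain ⟨U, a, ha, ha'⟩ := hX.atlas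
  intro x
  obtain ⟨y, rfl⟩ := surjective_ofPt (repWith_chart a (sp k L) ha') x
  obtain ⟨w, rfl⟩ : ∃ w, (chartMap U (towerMor L M)).left w = y := by
    rw [chartMap_towerMor]
    exact (FBaseLib.bcMap U.hom L M).surjective y
  exact ⟨_, map_map_ofPt a (towerMor L M) w⟩

theorem isConnected_fibre_tower [IsSepClosed L] (hX : IsAlgSpace X) (x : Points (X ⨯ (yon (base k)).obj (sp k L))) :
    _root_.IsConnected (towerMap L M ⁻¹' {x}) := by
  obtain ⟨U, a, ha, ha'⟩ := hX.atlas
  obtain ⟨y, rfl⟩ := surjective_ofPt (repWith_chart a (sp k L) ha') x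
  letI : U.left.Over (base k) := ⟨U.hom⟩
  have h := GeomField.isConnected_bcMap_preimage (k := k) (X := U.left) L M (isConnected_singleton (x := y))
  have hc : _root_.IsConnected (Points.ofPt (chart a (sp k M)) '' (FBaseLib.bcMap U.hom L M ⁻¹' {y})) :=
    h.image _ (Points.continuous_ofPt _).continuousOn
  convert hc using 1
  ext z
  constructor
  · intro hz
    obtain ⟨w, hw, rfl⟩ := exists_lift_map a _ y z (Eq.symm hz)
    rw [chartMap_towerMor] at hw
    exact ⟨w, hw, rfl⟩
  · rintro ⟨w, hw, rfl⟩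
    refine (map_map_ofPt a (towerMor L M) w).trans ?_
    rw [chartMap_towerMor]
    exact congrArg _ hw

theorem connectedSpace_tower [IsSepClosed L] (hX : IsAlgSpace X)
    [ConnectedSpace (Points (X ⨯ (yon (base k)).obj (sp k L)))] :
    ConnectedSpace (Points (X ⨯ (yon (base k)).obj (sp k M))) :=
  connectedSpace_iff_univ.2 (isConnected_preimage_of_open (Points.continuous_map _) (isOpenMap_tower L M hX)
    (isConnected_fibre_tower L M hX) isClosed_univ isConnected_univ)

theorem connectedSpace_of_tower (hX : IsAlgSpace X) [ConnectedSpace (Points (X ⨯ (yon (base k)).obj (sp k M)))] :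
    ConnectedSpace (Points (X ⨯ (yon (base k)).obj (sp k L))) :=
  (surjective_tower L M hX).connectedSpace (Points.continuous_map _)

end Tower

theorem connectedSpace_base :
    ConnectedSpace (Points (X ⨯ (yon (base k)).obj (sp k k))) ↔ ConnectedSpace (Points X) := by
  let t := isTerminalYon (base k)
  let e : sp k k ⟶ Over.mk (𝟙 (base k)) := Over.homMk (Spec.map (CommRingCat.ofHom (algebraMap k k))) (Category.comp_id _)
  let e' : Over.mk (𝟙 (base k)) ⟶ sp k k := Over.homMk (𝟙 _) (by
    rw [Category.id_comp]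
    show Spec.map (CommRingCat.ofHom (algebraMap k k)) = 𝟙 _
    rw [Algebra.algebraMap_self, CommRingCat.ofHom_id, Spec.map_id])
  let s : X ⟶ X ⨯ (yon (base k)).obj (sp k k) := prod.lift (𝟙 X) (t.from X ≫ (yon (base k)).map e')
  have h₁ : s ≫ prod.fst = 𝟙 X := prod.lift_fst _ _
  have hee : e ≫ e' = 𝟙 _ := by
    ext
    show Spec.map (CommRingCat.ofHom (algebraMap k k)) ≫ 𝟙 _ = 𝟙 _
    rw [Category.comp_id, Algebra.algebraMap_self, CommRingCat.ofHom_id, Spec.map_id]
  have h₂ : (prod.fst : X ⨯ (yon (base k)).obj (sp k k) ⟶ X) ≫ s = 𝟙 _ := by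
    apply Limits.prod.hom_ext
    · rw [Category.assoc, h₁, Category.comp_id, Category.id_comp]
    · rw [Category.assoc, prod.lift_snd, Category.id_comp, ← Category.assoc,
        t.hom_ext (prod.fst ≫ t.from X) (prod.snd ≫ (yon (base k)).map e), Category.assoc,
        ← (yon (base k)).map_comp, hee, (yon (base k)).map_id, Category.comp_id]
  have hs₁ : Function.Surjective (Points.map (prod.fst : X ⨯ (yon (base k)).obj (sp k k) ⟶ X)) := fun x =>
    ⟨Points.map s x, by rw [← Points.map_comp, h₁, Points.map_id]⟩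
  have hs₂ : Function.Surjective (Points.map s) := fun x =>
    ⟨Points.map prod.fst x, by rw [← Points.map_comp, h₂, Points.map_id]⟩
  exact ⟨fun _ => hs₁.connectedSpace (Points.continuous_map _), fun _ => hs₂.connectedSpace (Points.continuous_map _)⟩

theorem geometricallyConnected_of_sepClosed (hX : IsAlgSpace X) (L : Type u) [Field L] [Algebra k L] [IsSepClosed L]
    [ConnectedSpace (Points (X ⨯ (yon (base k)).obj (sp k L)))] (K : Type u) [Field K] [Algebra k K] :
    ConnectedSpace (Points (X ⨯ (yon (base k)).obj (sp k K))) := by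
  obtain ⟨M, _, _, _, _, _, _⟩ := FBaseLib.exists_field_compositum (k := k) K L
  haveI := connectedSpace_tower (k := k) L M hX
  exact connectedSpace_of_tower (k := k) K M hX

theorem image_clopen_fst_eq_univ (hX : IsAlgSpace X) [ConnectedSpace (Points X)] {K : Type u} [Field K] [Algebra k K]
    [Algebra.IsAlgebraic k K] {A : Set (Points (X ⨯ (yon (base k)).obj (sp k K)))} (hA : IsClopen A) (hne : A.Nonempty) :
    Points.map (prod.fst : X ⨯ (yon (base k)).obj (sp k K) ⟶ X) '' A = Set.univ :=
  IsClopen.eq_univ ⟨isClosedMap_fst hX A hA.1, isOpenMap_fst _ hX A hA.2⟩ (hne.image _)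

theorem connectedSpace_of_finite (hX : IsAlgSpace X) [ConnectedSpace (Points X)] (K : Type u) [Field K] [Algebra k K]
    [IsGalois k K] (h : ∀ F : IntermediateField k K, FiniteDimensional k F →
      ConnectedSpace (Points (X ⨯ (yon (base k)).obj (sp k F)))) :
    ConnectedSpace (Points (X ⨯ (yon (base k)).obj (sp k K))) := by
  obtain ⟨U, a, ha, ha'⟩ := hX.atlas
  rw [connectedSpace_iff_clopen]
  refine ⟨?_, fun A hA => ?_⟩
  · obtain ⟨x⟩ := (inferInstance : Nonempty (Points X))
    obtain ⟨u, -⟩ := surjective_ofPt ha' x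
    letI : U.left.Over (base k) := ⟨U.hom⟩
    obtain ⟨w, -⟩ := GeomField.surjective_bcFst (k := k) (X := U.left) K u
    exact ⟨Points.ofPt (chart a (sp k K)) w⟩
  by_contra hne
  push Not at hne
  obtain ⟨z, hz⟩ := hne.1
  have hAc : Aᶜ.Nonempty := Set.nonempty_compl.2 hne.2
  obtain ⟨u₀, hu₀⟩ := surjective_ofPt ha' (Points.map prod.fst z)
  obtain ⟨O, hO, hu₀O, -⟩ := exists_isAffineOpen_mem_and_subset (U := (⊤ : U.left.Opens)) (x := u₀) trivial
  letI : U.left.Over (base k) := ⟨U.hom⟩
  let W : Set ↥(Curv2.bc k U.left K) := (Points.ofPt (chart a (sp k K)) ⁻¹' A) ∩ (Curv2.bcFst k U.left K ⁻¹' (O : Set U.left))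
  have hO' : IsCompact (Curv2.bcFst k U.left K ⁻¹' (O : Set U.left)) := by
    haveI : IsAffineHom (Curv2.bcFst k U.left K) := MorphismProperty.pullback_fst _ _ inferInstance
    exact (hO.preimage (Curv2.bcFst k U.left K)).isCompact
  obtain ⟨E, hE, hEW⟩ := Groth.Agent.S7621.result k K U.left W
    ((hA.2.preimage (Points.continuous_ofPt _)).inter (O.isOpen.preimage (Curv2.bcFst k U.left K).continuous))
    (hO'.inter_left (hA.1.preimage (Points.continuous_ofPt _)))
  let act : (K ≃ₐ[k] K) → Points (X ⨯ (yon (base k)).obj (sp k K)) → Points (X ⨯ (yon (base k)).obj (sp k K)) :=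
    fun σ => Points.map (prod.map (𝟙 X) ((yon (base k)).map (galMor σ)))
  have hinv : ∀ σ : K ≃ₐ[k] K, (∀ r : E, σ r = r) → ∀ y ∈ A, act σ y ∈ A := by
    intro σ hσ y hy
    by_contra hy'
    obtain ⟨y₁, ⟨hy₁, hy₁'⟩, hy₁x⟩ := (image_clopen_fst_eq_univ hX
      (hA.inter (hA.compl.preimage (Points.continuous_map _))) ⟨y, hy, hy'⟩).ge (Set.mem_univ (Points.map prod.fst z))
    obtain ⟨w, hw, rfl⟩ := exists_lift a _ u₀ y₁ (hu₀.trans hy₁x.symm)
    have hwW : w ∈ W := ⟨hy₁, show (Curv2.bcFst k U.left K w) ∈ O from hw.symm ▸ hu₀O⟩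
    have h2 := ((hEW σ fun x hx => hσ ⟨x, hx⟩).subset ⟨w, hwW, rfl⟩).1
    refine hy₁' ?_
    rw [map_map_ofPt]
    exact h2
  haveI := h E hE
  have hsE := surjective_tower (X := X) (k := k) E K hX
  have hoE := isOpenMap_tower (X := X) (k := k) E K hX
  obtain ⟨q, -, ⟨y, hy, rfl⟩, ⟨y', hy', hyy'⟩⟩ := isPreconnected_univ
    (α := Points (X ⨯ (yon (base k)).obj (sp k E))) (towerMap E K '' A) (towerMap E K '' Aᶜ)
    (hoE A hA.2) (hoE Aᶜ hA.compl.2) (fun q _ => by
      obtain ⟨v, rfl⟩ := hsE q
      by_cases hv : v ∈ A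
      · exact Or.inl ⟨v, hv, rfl⟩
      · exact Or.inr ⟨v, hv, rfl⟩)
    ⟨_, trivial, _, hz, rfl⟩ (hAc.image _ |>.mono fun q hq => ⟨trivial, hq⟩)
  obtain ⟨σ, hσ, rfl⟩ := exists_galMor_eq_over hX E y y' hyy'.symm
  exact hy' (hinv σ hσ y hy)

section Prod

variable {Y : Sp (base k)}

theorem isPullback_prod_id {V : Sp (base k)} (b : V ⟶ Y) :
    IsPullback (prod.map (𝟙 X) b) (prod.snd : X ⨯ V ⟶ V) (prod.snd : X ⨯ Y ⟶ Y) b :=
  ⟨⟨prod.map_snd _ _⟩, ⟨PullbackCone.IsLimit.mk _ (fun s => prod.lift (s.fst ≫ prod.fst) s.snd)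
    (fun s => by apply Limits.prod.hom_ext <;> simp [s.condition])
    (fun s => by simp)
    (fun s l h1 h2 => by
      apply Limits.prod.hom_ext
      · have := h1 =≫ prod.fst
        simpa using this
      · simpa using h2)⟩⟩

theorem isOpenMap_snd_prod (hX : IsAlgSpace X) (hY : IsAlgSpace Y) :
    IsOpenMap (Points.map (prod.snd : X ⨯ Y ⟶ Y)) := by
  obtain ⟨V, b, hb, hb'⟩ := hY.atlas
  intro O hO
  have sq := isPullback_prod_id (X := X) b
  have hs : Function.Surjective (Points.map (prod.map (𝟙 X) b : X ⨯ (yon (base k)).obj V ⟶ X ⨯ Y)) :=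
    surjective_map_of_repWith (repWith_of_isPullback sq.flip hb')
  have h : Points.map (prod.snd : X ⨯ Y ⟶ Y) '' O = Points.map b ''
      (Points.map (prod.snd : X ⨯ (yon (base k)).obj V ⟶ _) '' (Points.map (prod.map (𝟙 X) b) ⁻¹' O)) := by
    ext y
    constructor
    · rintro ⟨o, ho, rfl⟩
      obtain ⟨o', rfl⟩ := hs o
      exact ⟨_, ⟨o', ho, rfl⟩, by rw [← Points.map_comp, ← Points.map_comp, prod.map_snd]⟩
    · rintro ⟨_, ⟨o', ho, rfl⟩, rfl⟩
      exact ⟨_, ho, by rw [← Points.map_comp, ← Points.map_comp, prod.map_snd]⟩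
  rw [h]
  refine AlgSpPts.isOpenMap_map ⟨hb.rep, fun _ _ g fst snd sq => ?_⟩ _
    (isOpenMap_snd V hX _ (hO.preimage (Points.continuous_map _)))
  haveI : Etale snd.left := hb.property g fst snd sq
  exact (inferInstance : UniversallyOpen snd.left)

theorem isConnected_fibre_snd (h : ∀ (K : Type u) [Field K] [Algebra k K],
    ConnectedSpace (Points (X ⨯ (yon (base k)).obj (sp k K)))) (y : Points Y) :
    _root_.IsConnected (Points.map (prod.snd : X ⨯ Y ⟶ Y) ⁻¹' {y}) := by
  induction y using Points.ind with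
  | h p =>
    letI : Algebra k p.K := (Spec.preimage p.str).hom.toAlgebra
    have hp : p.pt = sp k p.K := by
      show Over.mk p.str = Over.mk _
      congr 1
      exact (Spec.map_preimage p.str).symm
    haveI : ConnectedSpace (Points (X ⨯ (yon (base k)).obj p.pt)) := by rw [hp]; exact h p.K
    have sq := isPullback_prod_id (X := X) p.toHom
    convert (isConnected_univ (α := Points (X ⨯ (yon (base k)).obj p.pt))).image
      (Points.map (prod.map (𝟙 X) p.toHom)) (Points.continuous_map _).continuousOn using 1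
    ext z
    have hpt : Points.mk p = Points.map p.toHom (Points.ofScheme p.pt (IsLocalRing.closedPoint p.K)) := by
      rw [← Points.ofPt_eq_map_ofScheme]; exact mk_eq_ofPt p
    constructor
    · intro hz
      obtain ⟨w, hw, -⟩ := exists_point_of_isPullback sq (x := z) (y := Points.ofScheme p.pt (IsLocalRing.closedPoint p.K))
        ((show Points.map prod.snd z = Points.mk p from hz).trans hpt)
      exact ⟨w, trivial, hw⟩
    · rintro ⟨w, -, rfl⟩
      show Points.map prod.snd _ = Points.mk p
      rw [← Points.map_comp, prod.map_snd, Points.map_comp, hpt]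
      congr 1
      rw [← Points.ofScheme_toScheme p.pt (Points.map _ w)]
      congr 1
      haveI : Subsingleton ↥p.pt.left := inferInstanceAs (Subsingleton (PrimeSpectrum p.K))
      exact Subsingleton.elim _ _

end Prod

end Groth.Agent.AlgSpDec.FieldBC
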