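import Groth.Agent.AlgSpDec.AffineLocal
import Groth.Agent.AlgSpDec.AffineProps
import Groth.Agent.AlgSpLib.Descends
import Mathlib.AlgebraicGeometry.Morphisms.LocalFlatDescent
import Groth.Prelude.Def_AlgSpMor5

/-!
# Finite locally free morphisms
-/

set_option backward.isDefEq.respectTransparency false
set_option backward.isDefEq.respectTransparency.types false

universe u

open CategoryTheory Limits Opposite AlgebraicGeometry AlgSp Groth.Agent.AlgSpLib

namespace Groth.Agent.AlgSpDec

theorem finLocFree_eq :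
    finLocFree.{u} = (@IsFinite ⊓ (@Flat ⊓ @LocallyOfFinitePresentation) : MorphismProperty Scheme.{u}) :=
  rfl

variable {S : Scheme.{u}} {F G : Sp S} {f : F ⟶ G}

theorem isAffineHom_of_finLocFree : finLocFree.{u} ≤ @IsAffineHom := fun _ _ e h => by
  have : IsFinite e := h.1
  infer_instance

/-- Finite local freeness is finiteness with flatness and finite presentation on charts. -/
theorem isFinLocFreeMor_iff (hG : IsAlgSpace G) :
    IsFinLocFreeMor f ↔ IsFiniteMor f ∧ LocP @Flat f ∧ LocP @LocallyOfFinitePresentation f := by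
  rw [isFiniteMor_iff_repWith]
  constructor
  · intro h
    exact ⟨repWith_mono (fun _ _ _ h => h.1) _ h, locP_of_repWith (repWith_mono (fun _ _ _ h => h.2.1) _ h),
      locP_of_repWith (repWith_mono (fun _ _ _ h => h.2.2) _ h)⟩
  · rintro ⟨h₁, h₂, h₃⟩
    have h₂' := repWith_of_locP hG h₁.rep h₂
    have h₃' := repWith_of_locP hG h₁.rep h₃
    exact ⟨h₁.rep, fun _ _ g fst snd sq => ⟨h₁.2 g fst snd sq, h₂'.2 g fst snd sq, h₃'.2 g fst snd sq⟩⟩

end Groth.Agent.AlgSpDec
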