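import Groth.Agent.MorLib.IndQA
import Groth.Agent.GrpdLib.InvOpen
import Groth.Agent.GrpdLib.LocQuot

/-!
# Finite sets of points in separated quasi-finite schemes over affine schemes
-/

universe u

open CategoryTheory AlgebraicGeometry

namespace Groth.Agent.AlgSpDec

/-- A finite set of points of a separated quasi-finite scheme over an affine scheme lies in an affine open. -/
theorem exists_affineOpen_of_finite {X Y : Scheme.{u}} (f : X ⟶ Y) [IsAffine Y] [IsSeparated f]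
    [LocallyQuasiFinite f] [LocallyOfFiniteType f] {T : Set X} (hT : T.Finite) :
    ∃ U : X.Opens, IsAffineOpen U ∧ T ⊆ U := by
  choose A hA hxA using fun x : X => Groth.Agent.GrpdLib.exists_affineOpen_mem x
  let U : X.Opens := ⟨⋃ x ∈ T, (A x : Set X), isOpen_biUnion fun x _ => (A x).2⟩
  have hUc : IsCompact (U : Set X) := hT.isCompact_biUnion fun x _ => (hA x).isCompact
  have hTU : T ⊆ U := fun x hx => Set.mem_biUnion hx (hxA x)
  have h := Groth.Agent.MorLib.IQA.indQA_of_locallyQuasiFinite f ⊤ (isAffineOpen_top Y)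
  let e : (f ⁻¹ᵁ ⊤ : X.Opens).toScheme ⟶ X := (f ⁻¹ᵁ ⊤ : X.Opens).ι
  have hc : IsCompact ((e ⁻¹ᵁ U : (f ⁻¹ᵁ ⊤ : X.Opens).toScheme.Opens) : Set (f ⁻¹ᵁ ⊤ : X.Opens)) :=
    e.isOpenEmbedding.toIsInducing.isCompact_preimage' hUc fun x _ => ⟨⟨x, trivial⟩, rfl⟩
  have := h (e ⁻¹ᵁ U) hc
  let Q := (e ⁻¹ᵁ U).toScheme
  let i : Q ⟶ X := (e ⁻¹ᵁ U).ι ≫ e
  let j := Q.toSpecΓ
  have hTi : T ⊆ Set.range i := fun x hx => ⟨⟨⟨x, trivial⟩, hTU hx⟩, rfl⟩
  let O : Set (Spec Γ(Q, ⊤)) := j '' (i ⁻¹' T)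
  have hO : O.Finite := ((hT.preimage i.isOpenEmbedding.injective.injOn)).image _
  obtain ⟨g, hg1, hg2⟩ := Groth.Agent.GrpdLib.exists_basicOpen_of_finite (isAffineOpen_top (Spec Γ(Q, ⊤))) hO
    j.opensRange (fun x _ => trivial) (fun _ ⟨q, _, hq⟩ => ⟨q, hq⟩)
  have hD : IsAffineOpen (j ⁻¹ᵁ (Spec Γ(Q, ⊤)).basicOpen g) :=
    ((isAffineOpen_top _).basicOpen g).preimage_of_isOpenImmersion j hg2
  refine ⟨i ''ᵁ (j ⁻¹ᵁ (Spec Γ(Q, ⊤)).basicOpen g), hD.image_of_isOpenImmersion i, fun x hx => ?_⟩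
  obtain ⟨q, hq⟩ := hTi hx
  exact ⟨q, hg1 ⟨q, by show i q ∈ T; rw [hq]; exact hx, rfl⟩, hq⟩

end Groth.Agent.AlgSpDec
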