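import Groth.Agent.AlgSpDec.LimStable
import Groth.Agent.AlgSpDec.LimDescentRep

/-!
# Maps into a limit that are eventually monomorphisms
-/

set_option backward.isDefEq.respectTransparency false
set_option backward.isDefEq.respectTransparency.types false

universe u

open CategoryTheory Limits Opposite AlgebraicGeometry AlgSp Groth.Agent.AlgSpLib Groth.Agent.AlgSpPts

namespace Groth.Agent.AlgSpDec

variable {S : Scheme.{u}}

theorem const_proj_eq {I : Type u} [SmallCategory I] [IsCofiltered I] {B : Sp S} {D : I ⥤ Sp S}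
    (t : D ⟶ (Functor.const I).obj B) (c : Cone D) (i k : I) : c.π.app i ≫ t.app i = c.π.app k ≫ t.app k := by
  obtain ⟨l, u, v, -⟩ := IsCofilteredOrEmpty.cone_objs i k
  have hu : D.map u ≫ t.app i = t.app l := (t.naturality u).trans (Category.comp_id _)
  have hv : D.map v ≫ t.app k = t.app l := (t.naturality v).trans (Category.comp_id _)
  rw [← c.w u, ← c.w v, Category.assoc, Category.assoc, hu, hv]

theorem eventually_mono [QuasiSeparatedSpace ↥S] {I : Type u} [SmallCategory I] [IsCofiltered I] (B : Space S)
    (D : I ⥤ Sp S) (hD : ∀ i, IsAlgSpace (D.obj i)) (t : D ⟶ (Functor.const I).obj B.obj)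
    (hDa : ∀ (i j : I) (φ : i ⟶ j), IsAffineMor (D.map φ)) (c : Cone D) (hc : IsLimit c)
    (hqs : ∀ i, IsQuasiSeparatedSp (D.obj i)) (Y : Space S) (hYqc : IsQuasiCompactSp Y.obj) (y : Y.obj ⟶ c.pt)
    [Mono y] (i₁ : I) (hYB : LocP @LocallyOfFiniteType (y ≫ c.π.app i₁ ≫ t.app i₁)) :
    ∃ i₀ : I, ∀ (i : I) (_ : i ⟶ i₀), Mono (y ≫ c.π.app i) := by
  have hY : IsAlgSpace Y.obj := Y.property
  let g : ∀ i, Y.obj ⟶ D.obj i := fun i => y ≫ c.π.app i
  have hg : ∀ {i j} (φ : i ⟶ j), g i ≫ D.map φ = g j := fun φ => by simp [g]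
  let m : ∀ {i j} (φ : i ⟶ j), pullback (g i) (g i) ⟶ pullback (g j) (g j) := fun {i j} φ =>
    pullback.lift (pullback.fst _ _) (pullback.snd _ _) (by rw [← hg φ, pullback.condition_assoc])
  let P : I ⥤ Sp S :=
    { obj := fun i => pullback (g i) (g i)
      map := fun φ => m φ
      map_id := fun i => pullback.hom_ext (by simp [m]) (by simp [m])
      map_comp := fun φ ψ => pullback.hom_ext (by simp [m]) (by simp [m]) }
  let T : P ⟶ (Functor.const I).obj Y.obj :=
    { app := fun i => pullback.fst _ _, naturality := fun i j φ => by simp [P, m] }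
  let cP : Cone P :=
    { pt := Y.obj
      π := { app := fun i => pullback.diagonal (g i)
             naturality := fun i j φ => by
               dsimp
               rw [Category.id_comp]
               exact pullback.hom_ext (by simp [P, m]) (by simp [P, m]) } }
  obtain ⟨i₂⟩ := IsCofiltered.nonempty (C := I)
  have hind : ∀ (s : Cone P) (i k : I),
      s.π.app i ≫ pullback.fst (g i) (g i) = s.π.app k ≫ pullback.fst (g k) (g k) ∧
      s.π.app i ≫ pullback.snd (g i) (g i) = s.π.app k ≫ pullback.snd (g k) (g k) := fun s i k => by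
    obtain ⟨l, u, v, -⟩ := IsCofilteredOrEmpty.cone_objs i k
    rw [← s.w u, ← s.w v]
    constructor <;> simp [P, m]
  have heq : ∀ (s : Cone P) (i : I),
      s.π.app i ≫ pullback.fst (g i) (g i) = s.π.app i ≫ pullback.snd (g i) (g i) := fun s i => by
    rw [← cancel_mono y]
    refine hc.hom_ext fun k => ?_
    rw [(hind s i k).1, (hind s i k).2, Category.assoc, Category.assoc, Category.assoc, Category.assoc]
    exact congrArg (fun z => s.π.app k ≫ z) (pullback.condition (f := g k) (g := g k))
  let hcP : IsLimit cP :=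
    { lift := fun s => s.π.app i₂ ≫ pullback.fst _ _
      fac := fun s i => pullback.hom_ext
        (by simpa [cP, pullback.diagonal_fst] using (hind s i₂ i).1)
        (by simpa [cP, pullback.diagonal_snd, ← heq s i] using (hind s i₂ i).1)
      uniq := fun s l hl => by
        rw [← hl i₂]
        simp [cP] }
  have hft : ∀ i, LocP @LocallyOfFiniteType (g i) := fun i => by
    refine Groth.Agent.AlgSpPts.locP_of_comp (fun a b (_ : LocallyOfFiniteType (a ≫ b)) => locallyOfFiniteType_of_comp a b)
      B.property (g := t.app i) ?_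
    simp only [g, Category.assoc]
    rw [const_proj_eq t c i i₁]
    exact hYB
  have hPc : ∀ (i j : I) (φ : i ⟶ j), RepWith @IsClosedImmersion (P.map φ) := fun i j φ => by
    have hd : RepWith @IsClosedImmersion (pullback.diagonal (D.map φ)) :=
      isSeparatedMor_of_repWith_affine (repWith_isAffineHom_of_isAffineMor (hDa i j φ))
    have hsq := pullback_map_diagonal_isPullback (g i) (g i) (D.map φ)
    let e : pullback (g i ≫ D.map φ) (g i ≫ D.map φ) ≅ pullback (g j) (g j) := pullback.congrHom (hg φ) (hg φ)
    have : P.map φ = pullback.map _ _ _ _ (𝟙 _) (𝟙 _) (D.map φ) (Category.id_comp _).symm (Category.id_comp _).symm ≫ e.hom :=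
      pullback.hom_ext (by simp [P, m, e]) (by simp [P, m, e])
    rw [this]
    exact repWith_comp (repWith_of_isPullback hsq hd) (repWith_of_isIso _ _)
  obtain ⟨i₀, h₀⟩ := eventually_isIso_proj Y P (fun i => isAlgSpace_pullback hY hY (hD i) _ _) T hPc cP hcP
    (fun i => isQuasiCompactSp_pullback_self (hD i) (g i) hYqc (hqs i))
    (fun i => locP_of_isPullback (IsPullback.of_hasPullback (g i) (g i)).flip hY (hD i) hY (hft i)) i₂ (by
      intro U V a b k ha hb w
      rw [show cP.π.app i₂ ≫ T.app i₂ = 𝟙 _ from pullback.diagonal_fst _, Category.comp_id] at w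
      have : Etale k.left := (repWith_yon_map_iff _ _).1 (repWith_etale_of_comp _ b (w ▸ ha) hb)
      infer_instance)
  refine ⟨i₀, fun i φ => ?_⟩
  have : IsIso (pullback.diagonal (g i)) := h₀ i φ
  refine ⟨fun {Z} a b h => ?_⟩
  let l := pullback.lift (f := g i) (g := g i) a b h
  have e : (l ≫ inv (pullback.diagonal (g i))) ≫ pullback.diagonal (g i) = l := by simp
  have h1 := e =≫ pullback.fst (g i) (g i)
  have h2 := e =≫ pullback.snd (g i) (g i)
  simp only [Category.assoc, pullback.diagonal_fst, pullback.diagonal_snd, Category.comp_id, l,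
    pullback.lift_fst, pullback.lift_snd] at h1 h2
  exact h1.symm.trans h2

end Groth.Agent.AlgSpDec
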