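import Groth.Agent.AlgSpDec.LimStable
import Groth.Agent.AlgSpDec.LimMono
import Groth.Agent.AlgSpDec.AffineLocal
import Groth.Agent.S0083

/-!
# Closed immersions into a limit
-/

set_option backward.isDefEq.respectTransparency false
set_option backward.isDefEq.respectTransparency.types false

universe u

open CategoryTheory Limits Opposite AlgebraicGeometry AlgSp Groth.Agent.AlgSpLib Groth.Agent.AlgSpPts

namespace Groth.Agent.AlgSpDec

variable {S : Scheme.{u}}

theorem exists_closedImmersion_stage {J : Type u} [SmallCategory J] [IsCofiltered J] {E : J ⥤ Scheme.{u}}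
    (c : Cone E) (hc : IsLimit c) [∀ j, IsAffine (E.obj j)] [IsAffine c.pt] {T V : Scheme.{u}} [IsAffine V]
    (q : T ⟶ c.pt) [IsClosedImmersion q] (r : ∀ j, E.obj j ⟶ V) (hr : ∀ {j k} (f : j ⟶ k), E.map f ≫ r k = r j)
    [∀ j, LocallyOfFiniteType (q ≫ c.π.app j ≫ r j)] :
    ∃ j, ∀ k, (k ⟶ j) → IsClosedImmersion (q ≫ c.π.app k) := by
  classical
  obtain ⟨hT, hqs⟩ := IsClosedImmersion.isAffine_surjective_of_isAffine q
  obtain ⟨j₀⟩ := IsCofiltered.nonempty (C := J)
  have hft : (q ≫ c.π.app j₀ ≫ r j₀).appTop.hom.FiniteType :=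
    (HasRingHomProperty.iff_of_isAffine (P := @LocallyOfFiniteType)).1 inferInstance
  letI := (q ≫ c.π.app j₀ ≫ r j₀).appTop.hom.toAlgebra
  haveI : Algebra.FiniteType Γ(V, ⊤) Γ(T, ⊤) := hft
  obtain ⟨s, hs⟩ := Algebra.FiniteType.out (R := Γ(V, ⊤)) (A := Γ(T, ⊤))
  have hz : ∀ z ∈ s, ∃ (j : J) (y : Γ(E.obj j, ⊤)), (q ≫ c.π.app j).appTop y = z := fun z _ => by
    obtain ⟨x, rfl⟩ := hqs z
    obtain ⟨j, y, rfl⟩ := exists_appTop_π_eq_of_isAffine_of_isLimit E c hc x
    refine ⟨j, y, ?_⟩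
    rw [Scheme.Hom.comp_appTop]
    rfl
  choose jz yz hyz using hz
  have hinf := IsCofiltered.inf_objs_exists (insert j₀ (s.attach.image fun z : {z // z ∈ s} => jz z.1 z.2))
  obtain ⟨j, hj⟩ := hinf
  refine ⟨j, fun k f => ?_⟩
  have : IsAffine (((Functor.const J).obj c.pt).obj k) := inferInstanceAs (IsAffine c.pt)
  refine IsClosedImmersion.of_surjective_of_isAffine _ fun x => ?_
  obtain ⟨f₀⟩ := hj (Finset.mem_insert_self _ _)
  have hw : ∀ {i} (a : k ⟶ i), q ≫ c.π.app i = (q ≫ c.π.app k) ≫ E.map a := fun {i} a => by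
    rw [Category.assoc, c.w]
  have h0 : q ≫ c.π.app j₀ ≫ r j₀ = (q ≫ c.π.app k) ≫ r k := by
    rw [← Category.assoc, hw (f ≫ f₀), Category.assoc, hr]
  have hmem : x ∈ Algebra.adjoin Γ(V, ⊤) (s : Set Γ(T, ⊤)) := hs ▸ Algebra.mem_top
  induction hmem using Algebra.adjoin_induction with
  | mem z hz =>
    obtain ⟨g⟩ := hj (Finset.mem_insert_of_mem (Finset.mem_image.2 ⟨⟨z, hz⟩, Finset.mem_attach _ _, rfl⟩))
    refine ⟨(E.map (f ≫ g)).appTop (yz z hz), ?_⟩
    refine Eq.trans ?_ (hyz z hz)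
    rw [hw (f ≫ g)]
    simp only [Scheme.Hom.comp_appTop]
    rfl
  | algebraMap v =>
    refine ⟨(r k).appTop v, ?_⟩
    change _ = (q ≫ c.π.app j₀ ≫ r j₀).appTop v
    rw [h0]
    simp only [Scheme.Hom.comp_appTop]
    rfl
  | add a b _ _ ha hb =>
    obtain ⟨a', rfl⟩ := ha
    obtain ⟨b', rfl⟩ := hb
    exact ⟨a' + b', map_add _ _ _⟩
  | mul a b _ _ ha hb =>
    obtain ⟨a', rfl⟩ := ha
    obtain ⟨b', rfl⟩ := hb
    exact ⟨a' * b', map_mul _ _ _⟩

theorem eventually_closedImmersion {I : Type u} [SmallCategory I] [IsCofiltered I] (B : Space S) (D : I ⥤ Sp S)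
    (t : D ⟶ (Functor.const I).obj B.obj) (hDa : ∀ (i j : I) (φ : i ⟶ j), IsAffineMor (D.map φ)) (c : Cone D)
    (hc : IsLimit c) (hqc : ∀ i, IsQuasiCompactSp (D.obj i)) (Y : Space S) (y : Y.obj ⟶ c.pt)
    (hy : RepWith @IsClosedImmersion y) (i₁ : I) (hYB : LocP @LocallyOfFiniteType (y ≫ c.π.app i₁ ≫ t.app i₁)) :
    ∃ i₀ : I, ∀ (i : I) (_ : i ⟶ i₀), RepWith @IsClosedImmersion (y ≫ c.π.app i) := by
  have := EtFound.fpqc_isClosedImmersion.{u}
  obtain ⟨Z, a₀, hZ, ha₀, has₀⟩ := exists_affine_atlas (hqc i₁)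
  have : IsAffine Z.left := hZ
  obtain ⟨V, b₀, hb, hbs⟩ := B.property.atlas
  obtain ⟨V', bV, U, π, v, hV', hbV, hU, _, _, hπ⟩ := exists_affine_chart_lift hb hbs (a₀ ≫ t.app i₁)
  have : IsAffine V'.left := hV'
  have : IsAffine U.left := hU
  let a := (yon S).map π ≫ a₀
  have ha : RepWith @Etale a := repWith_comp ((repWith_yon_map_iff _ _).2 ‹_›) ha₀
  have has : RepWith @Surjective a := repWith_comp ((repWith_yon_map_iff _ _).2 ‹_›) has₀
  have hat : a ≫ t.app i₁ = (yon S).map v ≫ bV := by rw [Category.assoc]; exact hπ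
  obtain ⟨W, cW, hcW, p, fst, aW, bW, sqW, hwb, hA, hWA, sqj, hfst, hp⟩ := exists_limit_square' D hDa c hc i₁ a
  let T := hy.rep.pullback fst
  let q : T ⟶ cW.pt := hy.rep.snd fst
  have sy : IsPullback (hy.rep.fst fst) ((yon S).map q) y fst := hy.rep.isPullback fst
  have sT := sy.paste_vert sqW
  have hTft : LocallyOfFiniteType (q.left ≫ p.left ≫ v.left) :=
    hYB (hy.rep.fst fst) bV (q ≫ p ≫ v) (repWith_of_isPullback sT.flip ha) hbV (by
      rw [← Category.assoc y, ← Category.assoc, sT.w, Category.assoc, hat, Functor.map_comp, Functor.map_comp,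
        Category.assoc, Category.assoc, Category.assoc])
  have : ∀ j, IsAffine ((W ⋙ Over.forget S).obj j) := hWA
  have : IsAffine ((Over.forget S).mapCone cW).pt := hA
  have := IsCofiltered.isConnected (Over i₁)
  have : IsClosedImmersion q.left := hy.property_snd fst
  have : ∀ j, LocallyOfFiniteType (q.left ≫ ((Over.forget S).mapCone cW).π.app j ≫ (bW j ≫ v).left) := fun j => by
    have : q.left ≫ ((Over.forget S).mapCone cW).π.app j ≫ (bW j ≫ v).left = q.left ≫ p.left ≫ v.left := by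
      rw [hp j]
      simp
    rw [this]
    exact hTft
  obtain ⟨j, hj⟩ := exists_closedImmersion_stage ((Over.forget S).mapCone cW)
    (isLimitOfPreserves (Over.forget S) hcW) q.left (fun j => (bW j ≫ v).left)
    (fun {j k} f => congrArg (fun e : W.obj j ⟶ V' => e.left) (show W.map f ≫ bW k ≫ v = bW j ≫ v by rw [← Category.assoc, hwb]))
  refine ⟨j.left, fun i φ => ?_⟩
  let k : Over i₁ := Over.mk (φ ≫ j.hom)
  let f : k ⟶ j := Over.homMk φ rfl
  have hk : IsClosedImmersion (q ≫ cW.π.app k).left := hj k f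
  have sk : IsPullback fst ((yon S).map (cW.π.app k)) (c.π.app i) (aW k) := by
    refine IsPullback.of_bot ?_ (hfst k) (sqj k)
    rw [← Functor.map_comp, ← hp k, c.w]
    exact sqW
  have hsq := sy.paste_vert sk
  rw [← Functor.map_comp] at hsq
  exact repWith_of_etale_cover (fun _ _ e (_ : IsClosedImmersion e) => inferInstanceAs (IsAffineHom e))
    (repWith_of_isPullback (sqj k).flip ha) (repWith_of_isPullback (sqj k).flip has) hsq
    ((repWith_yon_map_iff _ _).2 hk)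

end Groth.Agent.AlgSpDec
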