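import Groth.Agent.AlgSpDec.LimScheme
import Groth.Agent.AlgSpDec.LimOpen
import Groth.Agent.AlgSpDec.LimEventClosed
import Groth.Agent.AlgSpDec.PointsSpectral
import Groth.Agent.AlgSpDec.LqfScheme
import Groth.Agent.S10009
import Mathlib.Topology.LocallyClosed

/-!
# Immersions into limits
-/

set_option backward.isDefEq.respectTransparency false
set_option backward.isDefEq.respectTransparency.types false

universe u

open CategoryTheory Limits Opposite AlgebraicGeometry AlgSp Groth.Agent.AlgSpLib Groth.Agent.AlgSpPts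

namespace Groth.Agent.AlgSpDec

variable {S : Scheme.{u}}

theorem exists_qc_open_between {X : Sp S} (hX : IsAlgSpace X) {K V : Set (Points X)} (hK : IsCompact K)
    (hV : IsOpen V) (hKV : K ⊆ V) : ∃ O : Set (Points X), IsOpen O ∧ IsCompact O ∧ K ⊆ O ∧ O ⊆ V := by
  obtain ⟨U, a, ha, has⟩ := hX.atlas
  have h : ∀ x : K, ∃ O : Set (Points X), IsOpen O ∧ IsCompact O ∧ (x : Points X) ∈ O ∧ O ⊆ V := fun x => by
    obtain ⟨u, hu⟩ := surjective_ofPt has (x : Points X)
    let W : U.left.Opens := ⟨Points.ofPt a ⁻¹' V, hV.preimage (Points.continuous_ofPt a)⟩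
    obtain ⟨A, hA, huA, hAW⟩ := exists_isAffineOpen_mem_and_subset (U := W) (x := u) (by
      show Points.ofPt a u ∈ V
      rw [hu]; exact hKV x.2)
    exact ⟨Points.ofPt a '' A, isOpenMap_ofPt ha _ A.2, hA.isCompact.image (Points.continuous_ofPt a),
      ⟨u, huA, hu⟩, Set.image_subset_iff.2 hAW⟩
  choose O hO hOc hxO hOV using h
  obtain ⟨s, hs⟩ := hK.elim_finite_subcover O hO fun x hx => Set.mem_iUnion.2 ⟨⟨x, hx⟩, hxO ⟨x, hx⟩⟩
  exact ⟨⋃ i ∈ s, O i, isOpen_biUnion fun i _ => hO i, s.finite_toSet.isCompact_biUnion fun i _ => hOc i,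
    hs, Set.iUnion₂_subset fun i _ => hOV i⟩

theorem exists_qc_subspace {X : Sp S} (hX : IsAlgSpace X) {O : Set (Points X)} (hO : IsOpen O)
    (hOc : IsCompact O) :
    ∃ (X' : Sp S) (j : X' ⟶ X), IsAlgSpace X' ∧ RepWith @IsOpenImmersion j ∧ Set.range (Points.map j) = O ∧
      IsQuasiCompactSp X' := by
  obtain ⟨X', j, hX', hj, hr⟩ := exists_open_subspace hX hO
  refine ⟨X', j, hX', hj, hr, (isQuasiCompactSp_iff hX').2 ⟨?_⟩⟩
  rw [(isOpenEmbedding_map' hX hj).isInducing.isCompact_iff, Set.image_univ, hr]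
  exact hOc

theorem exists_factor_open_sp {X' X Y : Sp S} (hY : IsAlgSpace Y) {j : X' ⟶ X} (hj : RepWith @IsOpenImmersion j)
    (f : Y ⟶ X) (h : ∀ p, Points.map f p ∈ Set.range (Points.map j)) : ∃ f', f' ≫ j = f := by
  have sq := IsPullback.of_hasPullback j f
  have : IsIso (pullback.snd j f) :=
    isIso_of_openImm_surjective hY (repWith_of_isPullback sq hj) fun p => by
      obtain ⟨x, hx⟩ := h p
      obtain ⟨z, -, hz⟩ := exists_point_of_isPullback sq hx
      exact ⟨z, hz⟩
  exact ⟨inv (pullback.snd j f) ≫ pullback.fst j f, by rw [Category.assoc, pullback.condition, IsIso.inv_hom_id_assoc]⟩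

theorem repWith_of_comp_mono {P : MorphismProperty Scheme.{u}} {A B C : Sp S} (f : A ⟶ B) (g : B ⟶ C) [Mono g]
    (h : RepWith P (f ≫ g)) : RepWith P f :=
  repWith_of_isPullback
    (show IsPullback (𝟙 A) f (f ≫ g) g from
      ⟨⟨Category.id_comp _⟩, ⟨PullbackCone.IsLimit.mk _ (fun s => s.fst) (fun s => Category.comp_id _)
        (fun s => (cancel_mono g).1 (by rw [Category.assoc]; exact s.condition))
        (fun s m h₁ _ => by rw [← h₁, Category.comp_id])⟩⟩) h

theorem range_snd_eq_preimage {A B : Sp S} {f : A ⟶ B} (hf : Representable f) {T : Over S}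
    (g : (yon S).obj T ⟶ B) : Set.range (hf.snd g).left = Points.ofPt g ⁻¹' Set.range (Points.map f) := by
  ext x
  constructor
  · rintro ⟨z, rfl⟩
    exact ⟨Points.map (hf.fst g) (Points.ofScheme _ z), by
      rw [← Points.map_comp, (hf.isPullback g).w, Points.map_comp, map_map_ofScheme]⟩
  · rintro ⟨u, hu⟩
    obtain ⟨z, -, hz⟩ := exists_point_of_isPullback (hf.isPullback g) (x := u) (y := Points.ofScheme _ x)
      (hu.trans (Points.ofPt_eq_map_ofScheme _ _))
    obtain ⟨z, rfl⟩ := (Points.schemeHomeo _).surjective z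
    exact ⟨z, (Points.schemeHomeo T).injective ((Points.map_yon_map_apply _ _).symm.trans hz)⟩

/-- An immersion is a closed immersion into an open subspace. -/
theorem exists_closed_open_of_immersion {Y X : Sp S} (hY : IsAlgSpace Y) (hYqc : IsQuasiCompactSp Y)
    (hX : IsAlgSpace X) {y : Y ⟶ X} (hy : RepWith @IsImmersion y) :
    ∃ (U : Sp S) (jU : U ⟶ X) (y' : Y ⟶ U), RepWith @IsOpenImmersion jU ∧ IsQuasiCompactSp U ∧
      RepWith @IsClosedImmersion y' ∧ y' ≫ jU = y := by
  obtain ⟨W, b, hb, hbs⟩ := hX.atlas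
  let K := Set.range (Points.map y)
  have hpre : ∀ {T : Over S} (g : (yon S).obj T ⟶ X), IsLocallyClosed (Points.ofPt g ⁻¹' K) := fun {T} g => by
    rw [← range_snd_eq_preimage hy.rep g]
    have : IsImmersion (hy.rep.snd g).left := hy.property_snd g
    exact (hy.rep.snd g).left.isLocallyClosed_range
  let V : Set (Points X) := (closure K \ K)ᶜ
  have hV : IsOpen V := by
    refine (isOpen_iff_chart hb hbs).2 ?_
    have e : Points.ofPt b ⁻¹' V = coborder (Points.ofPt b ⁻¹' K) := by
      rw [coborder, ← (isOpenMap_ofPt hb).preimage_closure_eq_closure_preimage (Points.continuous_ofPt b)]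
      rfl
    rw [e]
    exact (hpre b).isOpen_coborder
  have hKV : K ⊆ V := fun x hx h => h.2 hx
  have hYc := (isQuasiCompactSp_iff hY).1 hYqc
  obtain ⟨O, hO, hOc, hKO, hOV⟩ := exists_qc_open_between hX (isCompact_range (Points.continuous_map y)) hV hKV
  obtain ⟨U, jU, hU, hjU, hr, hUqc⟩ := exists_qc_subspace hX hO hOc
  obtain ⟨y', hy'⟩ := exists_factor_open_sp hY hjU y fun p => hr ▸ hKO ⟨p, rfl⟩
  have := mono_of_openImm hjU
  have hy'i : RepWith @IsImmersion y' := repWith_of_comp_mono y' jU (hy' ▸ hy)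
  refine ⟨U, jU, y', hjU, hUqc, ?_, hy'⟩
  refine ⟨hy'i.rep, fun T P g fst snd sq => ?_⟩
  have : IsImmersion snd.left := hy'i.2 g fst snd sq
  have : IsPreimmersion ((Over.forget S).map snd) := inferInstanceAs (IsPreimmersion snd.left)
  refine IsClosedImmersion.of_isPreimmersion _ ?_
  have e : Set.range snd.left = Points.ofPt g ⁻¹' (Points.map jU ⁻¹' closure K) := by
    ext t
    constructor
    · rintro ⟨z, rfl⟩
      refine subset_closure ⟨Points.map fst (Points.ofScheme _ z), ?_⟩
      rw [← hy', Points.map_comp, ← Points.map_comp fst y', sq.w, Points.map_comp, map_map_ofScheme]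
    · intro ht
      have htO : Points.map jU (Points.ofPt g t) ∈ O := hr ▸ ⟨_, rfl⟩
      obtain ⟨p, hp⟩ : Points.map jU (Points.ofPt g t) ∈ K := by
        by_contra h
        exact hOV htO ⟨ht, h⟩
      rw [← hy', Points.map_comp] at hp
      obtain ⟨z, -, hz⟩ := exists_point_of_isPullback sq (x := p) (y := Points.ofScheme _ t)
        ((injective_points_map_of_mono jU hp).trans (Points.ofPt_eq_map_ofScheme _ _))
      obtain ⟨z, rfl⟩ := (Points.schemeHomeo _).surjective z
      exact ⟨z, (Points.schemeHomeo T).injective ((Points.map_yon_map_apply _ _).symm.trans hz)⟩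
  show IsClosed (Set.range snd.left)
  rw [e]
  exact (isClosed_closure.preimage (Points.continuous_map jU)).preimage (Points.continuous_ofPt g)

/-- The base change of a system along a morphism to a stage. -/
theorem exists_pullback_system_cone {I : Type u} [SmallCategory I] [IsCofiltered I] (D : I ⥤ Sp S) (c : Cone D)
    (hc : IsLimit c) {i₀ : I} {U : Sp S} (g₀ : U ⟶ D.obj i₀) :
    ∃ (E : Over i₀ ⥤ Sp S) (cE : Cone E) (_ : IsLimit cE) (pX : cE.pt ⟶ U) (w : cE.pt ⟶ c.pt)
      (u : ∀ o, E.obj o ⟶ U) (q : ∀ o, E.obj o ⟶ D.obj o.left),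
      IsPullback pX w g₀ (c.π.app i₀) ∧
      (∀ o, IsPullback (u o) (q o) g₀ (D.map o.hom)) ∧
      (∀ {o o' : Over i₀} (φ : o ⟶ o'), IsPullback (q o) (E.map φ) (D.map φ.left) (q o')) ∧
      ∀ o, cE.π.app o ≫ q o = w ≫ c.π.app o.left := by
  let E : Over i₀ ⥤ Sp S :=
    { obj := fun o => pullback g₀ (D.map o.hom)
      map := fun {o o'} φ => pullback.map _ _ _ _ (𝟙 _) (D.map φ.left) (𝟙 _) (by simp)
        (by rw [Category.comp_id, ← D.map_comp, Over.w φ])
      map_id := fun o => pullback.hom_ext (by simp) (by simp)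
      map_comp := fun φ ψ => pullback.hom_ext (by simp) (by simp) }
  have sqm : ∀ {o o' : Over i₀} (φ : o ⟶ o'),
      IsPullback (pullback.snd g₀ (D.map o.hom)) (E.map φ) (D.map φ.left) (pullback.snd g₀ (D.map o'.hom)) :=
    fun {o o'} φ => by
      refine IsPullback.of_bot ?_ (pullback.lift_snd _ _ _).symm (IsPullback.of_hasPullback g₀ (D.map o'.hom)).flip
      rw [← D.map_comp, Over.w φ, pullback.lift_fst, Category.comp_id]
      exact (IsPullback.of_hasPullback g₀ (D.map o.hom)).flip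
  have sX := IsPullback.of_hasPullback g₀ (c.π.app i₀)
  let cE : Cone E :=
    { pt := pullback g₀ (c.π.app i₀)
      π := { app := fun o => pullback.lift (pullback.fst _ _) (pullback.snd g₀ (c.π.app i₀) ≫ c.π.app o.left)
               (by rw [pullback.condition, Category.assoc, c.w o.hom])
             naturality := fun o o' φ => pullback.hom_ext (by simp [E]) (by simp [E]) } }
  have := IsCofiltered.isConnected (Over i₀)
  let hc' := (Functor.Initial.isLimitWhiskerEquiv (CategoryTheory.Over.forget i₀) c).symm hc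
  let c₂ : Cone E → Cone (CategoryTheory.Over.forget i₀ ⋙ D) := fun s =>
    { pt := s.pt
      π := { app := fun o => s.π.app o ≫ pullback.snd g₀ (D.map o.hom)
             naturality := fun o o' φ => by
               dsimp
               rw [Category.id_comp, ← s.w φ]
               simp [E] } }
  let top : Over i₀ := Over.mk (𝟙 i₀)
  have hfst : ∀ (s : Cone E) (o o' : Over i₀),
      s.π.app o ≫ pullback.fst g₀ (D.map o.hom) = s.π.app o' ≫ pullback.fst g₀ (D.map o'.hom) := fun s o o' => by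
    obtain ⟨l, u, v, -⟩ := IsCofilteredOrEmpty.cone_objs o o'
    rw [← s.w u, ← s.w v]
    simp [E]
  have hcond : ∀ s, (s.π.app top ≫ pullback.fst g₀ (D.map top.hom)) ≫ g₀ = hc'.lift (c₂ s) ≫ c.π.app i₀ := fun s => by
    refine Eq.trans ?_ (hc'.fac (c₂ s) top).symm
    simp [c₂, top, pullback.condition]
  let hcE : IsLimit cE :=
    { lift := fun s => sX.lift _ _ (hcond s)
      fac := fun s o => pullback.hom_ext (by simp [cE, hfst s o top]) (by
        simp only [cE, Category.assoc, pullback.lift_snd]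
        rw [IsPullback.lift_snd_assoc]
        exact hc'.fac (c₂ s) o)
      uniq := fun s l hl => sX.hom_ext (by simp [← hl top, cE])
        (hc'.hom_ext fun o => by
          refine Eq.trans ?_ ((congrArg (· ≫ c.π.app o.left) (sX.lift_snd _ _ (hcond s))).trans
            (hc'.fac (c₂ s) o)).symm
          simp [c₂, ← hl o, cE]) }
  exact ⟨E, cE, hcE, pullback.fst _ _, pullback.snd _ _, fun o => pullback.fst g₀ (D.map o.hom),
    fun o => pullback.snd g₀ (D.map o.hom), sX, fun o => IsPullback.of_hasPullback _ _, sqm,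
    fun o => pullback.lift_snd _ _ _⟩

theorem isQuasiSeparatedSp_of_mono {X Y : Sp S} (f : X ⟶ Y) [Mono f] (hYqs : IsQuasiSeparatedSp Y) :
    IsQuasiSeparatedSp X := by
  rw [isQuasiSeparatedSp_iff_mor] at hYqs ⊢
  rw [(isTerminalYon S).hom_ext ((isTerminalYon S).from X) (f ≫ (isTerminalYon S).from Y)]
  exact isQuasiSeparatedMor_comp (isQuasiSeparatedMor_of_isSeparatedMor (isSeparatedMor_of_mono f)) hYqs

theorem eventually_immersion [QuasiSeparatedSpace ↥S] {I : Type u} [SmallCategory I] [IsCofiltered I]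
    (B : Space S) (D : I ⥤ Sp S) (hD : ∀ i, IsAlgSpace (D.obj i))
    (t : D ⟶ (Functor.const I).obj B.obj)
    (hDa : ∀ (i j : I) (φ : i ⟶ j), IsAffineMor (D.map φ))
    (c : Cone D) (hc : IsLimit c) (hqs : ∀ i, IsQuasiSeparatedSp (D.obj i))
    (Y : Space S) (hYqc : IsQuasiCompactSp Y.obj) (y : Y.obj ⟶ c.pt) (hy : RepWith @IsImmersion y) (i₁ : I)
    (hYB : LocP @LocallyOfFiniteType (y ≫ c.π.app i₁ ≫ t.app i₁)) :
    ∃ i₀ : I, ∀ (i : I) (_ : i ⟶ i₀), RepWith @IsImmersion (y ≫ c.π.app i) := by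
  have := IsCofiltered.isConnected I
  -- a quasi-compact open of the stage containing the image
  have hYc := (isQuasiCompactSp_iff Y.property).1 hYqc
  obtain ⟨O, hO, hOc, hKO, -⟩ := exists_qc_open_between (hD i₁)
    (isCompact_range (Points.continuous_map (y ≫ c.π.app i₁))) isOpen_univ (Set.subset_univ _)
  obtain ⟨X₁, j₁, hX₁, hj₁, hr₁, hX₁qc⟩ := exists_qc_subspace (hD i₁) hO hOc
  have := mono_of_openImm hj₁
  obtain ⟨E, cE, hcE, pX, w, u, q, sX, squ, sqm, hπ⟩ := exists_pullback_system_cone D c hc j₁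
  have hqo : ∀ o, RepWith @IsOpenImmersion (q o) := fun o => repWith_of_isPullback (squ o) hj₁
  have hu : ∀ o : Over i₁, RepWith @IsAffineHom (u o) := fun o =>
    repWith_of_isPullback (squ o).flip (repWith_isAffineHom_of_isAffineMor (hDa _ _ o.hom))
  have hE : ∀ o, IsAlgSpace (E.obj o) := fun o => isAlgSpace_of_isPullback (squ o) hX₁ (hD o.left) (hD i₁)
  have hEa : ∀ o o' (φ : o ⟶ o'), IsAffineMor (E.map φ) := fun o o' φ =>
    isAffineMor_of_isPullback (sqm φ) (hDa _ _ φ.left)
  have hEqc : ∀ o, IsQuasiCompactSp (E.obj o) := fun o => isQuasiCompactSp_of_affine hX₁ _ (hu o) hX₁qc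
  have hEqs : ∀ o, IsQuasiSeparatedSp (E.obj o) := fun o =>
    have := mono_of_openImm (hqo o)
    isQuasiSeparatedSp_of_mono (q o) (hqs o.left)
  obtain ⟨l, hl⟩ := exists_factor_open_sp Y.property hj₁ (y ≫ c.π.app i₁) fun p => hr₁ ▸ hKO ⟨p, rfl⟩
  let y₁ : Y.obj ⟶ cE.pt := sX.lift l y hl
  have hw : RepWith @IsOpenImmersion w := repWith_of_isPullback sX hj₁
  have := mono_of_openImm hw
  have hy₁ : RepWith @IsImmersion y₁ := repWith_of_comp_mono y₁ w (by rw [sX.lift_snd]; exact hy)
  obtain ⟨U, jU, y₂, hjU, hUqc, hy₂, hy₂'⟩ := exists_closed_open_of_immersion Y.property hYqc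
    (isAlgSpace_limit E hE hEa cE hcE) hy₁
  obtain ⟨o, Uo, jo, qU, hjo, hUoqc, sU⟩ := exists_quasiCompact_open_descends E hE hEa hEqs cE hcE
    (Over.mk (𝟙 i₁)) (hEqc _) jU hjU hUqc
  obtain ⟨F, cF, hcF, pF, wF, uF, qF, sF, squF, sqmF, hπF⟩ := exists_pullback_system_cone E cE hcE jo
  have hUo : IsAlgSpace Uo := isAlgSpace_of_representable (hE o) jo hjo.rep
  have hqFo : ∀ o', RepWith @IsOpenImmersion (qF o') := fun o' => repWith_of_isPullback (squF o') hjo
  have huF : ∀ o', RepWith @IsAffineHom (uF o') := fun o' =>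
    repWith_of_isPullback (squF o').flip (repWith_isAffineHom_of_isAffineMor (hEa _ _ o'.hom))
  have hF : ∀ o', IsAlgSpace (F.obj o') := fun o' => isAlgSpace_of_isPullback (squF o') hUo (hE o'.left) (hE o)
  let eU : U ≅ cF.pt := sU.flip.isoIsPullback _ _ sF
  have heU : eU.hom ≫ wF = jU := sU.flip.isoIsPullback_hom_snd _ _ sF
  let tF : F ⟶ (Functor.const _).obj B.obj :=
    { app := fun o' => qF o' ≫ q o'.left ≫ t.app o'.left.left
      naturality := fun a b φ => by
        show F.map φ ≫ qF b ≫ q b.left ≫ t.app b.left.left = (qF a ≫ q a.left ≫ t.app a.left.left) ≫ 𝟙 _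
        rw [← reassoc_of% (sqmF φ).w, ← reassoc_of% (sqm φ.left).w, Category.comp_id]
        refine congrArg (fun e => qF a ≫ q a.left ≫ e) ?_
        exact (t.naturality φ.left.left).trans (Category.comp_id _) }
  let top : Over o := Over.mk (𝟙 o)
  have hcomp : ∀ o' : Over o, (y₂ ≫ eU.hom) ≫ cF.π.app o' ≫ qF o' ≫ q o'.left = y ≫ c.π.app o'.left.left := by
    intro o'
    rw [reassoc_of% (hπF o'), hπ o'.left, Category.assoc, reassoc_of% heU, reassoc_of% hy₂', ← Category.assoc,
      sX.lift_snd]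
  have htY : LocP @LocallyOfFiniteType ((y₂ ≫ eU.hom) ≫ cF.π.app top ≫ tF.app top) := by
    have e : (y₂ ≫ eU.hom) ≫ cF.π.app top ≫ tF.app top = y ≫ c.π.app i₁ ≫ t.app i₁ := by
      show (y₂ ≫ eU.hom) ≫ cF.π.app top ≫ qF top ≫ q top.left ≫ t.app top.left.left = _
      have h := congrArg (· ≫ t.app top.left.left) (hcomp top)
      simp only [Category.assoc] at h ⊢
      rw [h]
      show y ≫ c.π.app o.left ≫ t.app o.left = _
      rw [← c.w o.hom, Category.assoc]
      exact congrArg (fun e => y ≫ c.π.app o.left ≫ e) ((t.naturality o.hom).trans (Category.comp_id _)).symm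
    rw [e]; exact hYB
  obtain ⟨o₁, ho₁⟩ := Groth.Agent.S10009.result S B F hF tF
    (fun a b φ => isAffineMor_of_isPullback (sqmF φ) (hEa _ _ φ.left)) cF hcF
    (fun o' => isQuasiCompactSp_of_affine hUo _ (huF o') hUoqc) Y (y₂ ≫ eU.hom)
    (repWith_comp hy₂ (repWith_of_isIso _ _)) top htY
  refine ⟨o₁.left.left, fun i φ => ?_⟩
  let a : Over i₁ := Over.mk (φ ≫ o₁.left.hom)
  let φa : a ⟶ o₁.left := CategoryTheory.Over.homMk φ rfl
  let b : Over o := Over.mk (φa ≫ o₁.hom)
  have hb := ho₁ b (CategoryTheory.Over.homMk φa rfl)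
  have h := hcomp b
  rw [← Category.assoc] at h
  show RepWith @IsImmersion (y ≫ c.π.app b.left.left)
  rw [← h]
  exact repWith_comp
    (repWith_mono (fun _ _ g (_ : IsClosedImmersion g) => (inferInstance : IsImmersion g)) _ hb)
    (repWith_mono (fun _ _ g (_ : IsOpenImmersion g) => (inferInstance : IsImmersion g)) _
      (repWith_comp (hqFo b) (hqo b.left)))

end Groth.Agent.AlgSpDec
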