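import Mathlib.Topology.Spectral.Basic
import Mathlib.Topology.Spectral.ConstructibleTopology
import Mathlib.Topology.Compactness.Compact

/-!
# Open maps with finite fibres out of spectral spaces

The image of such a map is Kolmogorov and quasi-sober.
-/

open Topology Set TopologicalSpace

namespace Groth.Agent.AlgSpDec

variable {U Z : Type*} [TopologicalSpace U] [TopologicalSpace Z] {f : U → Z}

/-- Generalisations lift along open maps with finite fibres. -/
theorem exists_specializes_of_isOpenMap (hf : IsOpenMap f) {z : Z} (hfin : (f ⁻¹' {z}).Finite) {v : U}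
    (h : z ⤳ f v) : ∃ w, w ⤳ v ∧ f w = z := by
  by_contra hne
  simp only [not_exists, not_and] at hne
  let O : Set U := (⋃ w ∈ f ⁻¹' {z}, closure {w})ᶜ
  have hO : IsOpen O := (hfin.isClosed_biUnion fun _ _ => isClosed_closure).isOpen_compl
  have hv : v ∈ O := by
    simp only [O, mem_compl_iff, mem_iUnion, not_exists]
    exact fun w hw hvw => hne w (specializes_iff_mem_closure.2 hvw) hw
  obtain ⟨w, hw, hwz⟩ := (h.mem_open (hf O hO) ⟨v, hv, rfl⟩ : z ∈ f '' O)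
  exact hw (mem_biUnion (show w ∈ f ⁻¹' {z} from hwz) (subset_closure (mem_singleton w)))

/-- A minimal point of a set for the specialisation order. -/
def IsGenMin (T : Set U) (η : U) : Prop := η ∈ T ∧ ∀ w ∈ T, w ⤳ η → w = η

variable [SpectralSpace U] {T : Set U}

theorem exists_isGenMin (hT : IsClosed T) {v : U} (hv : v ∈ T) : ∃ η, IsGenMin T η ∧ η ⤳ v := by
  have : QuasiSober T := hT.isClosedEmbedding_subtypeVal.quasiSober
  have hirr : IsIrreducible (irreducibleComponent (⟨v, hv⟩ : T)) :=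
    isIrreducible_irreducibleComponent
  have hgen := hirr.isGenericPoint_genericPoint isClosed_irreducibleComponent
  refine ⟨(hirr.genericPoint : T), ⟨hirr.genericPoint.2, fun w hw h => ?_⟩,
    (hgen.specializes mem_irreducibleComponent).map continuous_subtype_val⟩
  have h' : (⟨w, hw⟩ : T) ⤳ hirr.genericPoint := (subtype_specializes_iff _ _).2 h
  have h1 : irreducibleComponent (⟨v, hv⟩ : T) ⊆ closure {(⟨w, hw⟩ : T)} :=
    hgen.def.ge.trans (closure_minimal (singleton_subset_iff.2 (specializes_iff_mem_closure.1 h'))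
      isClosed_closure)
  have h2 : closure {(⟨w, hw⟩ : T)} ⊆ irreducibleComponent (⟨v, hv⟩ : T) :=
    (eq_irreducibleComponent isIrreducible_singleton.closure.isPreirreducible h1).le
  have h3 : hirr.genericPoint ⤳ (⟨w, hw⟩ : T) := hgen.specializes (h2 (subset_closure (mem_singleton _)))
  exact (congrArg Subtype.val (h'.antisymm h3).eq :)

theorem isClosed_constructible_of_isCompact {s : Set U} (hs : IsCompact s) (ho : IsOpen s) :
    IsClosed ((WithTopology.ofTopology (t := constructibleTopology U)) ⁻¹' s : Set (WithConstructibleTopology U)) := by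
  rw [← isOpen_compl_iff, WithConstructibleTopology.isOpen_iff]
  have := IsCompact.isOpen_constructibleTopology_of_isClosed (s := sᶜ) (by rwa [compl_compl]) ho.isClosed_compl
  convert this using 1
  ext; simp

theorem isClosed_constructible_of_isClosed {s : Set U} (hs : IsClosed s) :
    IsClosed ((WithTopology.ofTopology (t := constructibleTopology U)) ⁻¹' s : Set (WithConstructibleTopology U)) := by
  have : s = ⋂ W ∈ {W : Set U | IsCompact W ∧ IsOpen W ∧ Disjoint W s}, Wᶜ := by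
    ext x
    simp only [mem_iInter, mem_ofPred_eq, mem_compl_iff]
    refine ⟨fun hx W hW hxW => hW.2.2.le_bot ⟨hxW, hx⟩, fun h => by_contra fun hx => ?_⟩
    obtain ⟨W, ⟨hWo, hWc⟩, hxW, hW⟩ := PrespectralSpace.isTopologicalBasis.exists_subset_of_mem_open
      (show x ∈ sᶜ from hx) hs.isOpen_compl
    exact h W ⟨hWc, hWo, disjoint_left.2 fun y hy => hW hy⟩ hxW
  rw [this, preimage_iInter₂]
  refine isClosed_biInter fun W hW => ?_
  rw [preimage_compl, isClosed_compl_iff, WithConstructibleTopology.isOpen_iff]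
  convert IsCompact.isOpen_constructibleTopology_of_isOpen hW.1 hW.2.1 using 1
  ext; simp

/-- A decreasing family of compact opens meeting a closed set has a common point in it. -/
theorem exists_mem_of_antitone {ι : Type*} [Nonempty ι] (hT : IsClosed T) (V : ι → Set U)
    (hV : Directed (· ⊇ ·) V) (hc : ∀ i, IsCompact (V i)) (ho : ∀ i, IsOpen (V i))
    (hne : ∀ i, (V i ∩ T).Nonempty) : ∃ v ∈ T, ∀ i, v ∈ V i := by
  let π := WithTopology.ofTopology (t := constructibleTopology U)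
  have hclosed : ∀ i, IsClosed (π ⁻¹' (V i ∩ T)) := fun i =>
    (isClosed_constructible_of_isCompact (hc i) (ho i)).inter (isClosed_constructible_of_isClosed hT)
  obtain ⟨x, hx⟩ := IsCompact.nonempty_iInter_of_directed_nonempty_isCompact_isClosed
    (fun i => π ⁻¹' (V i ∩ T))
    (fun i j => let ⟨k, hi, hj⟩ := hV i j
      ⟨k, preimage_mono (inter_subset_inter_left _ hi), preimage_mono (inter_subset_inter_left _ hj)⟩)
    (fun i => (hne i).preimage (WithTopology.ofTopology_surjective _))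
    (fun i => (hclosed i).isCompact) hclosed
  exact ⟨π x, ((mem_iInter.1 hx) (Classical.arbitrary ι)).2, fun i => ((mem_iInter.1 hx) i).1⟩

theorem eq_of_forall_inter {η η' : U} (hT : IsClosed T) (h : IsGenMin T η) (h' : IsGenMin T η')
    (H : ∀ A A' : Set U, IsOpen A → IsOpen A' → η ∈ A → η' ∈ A' → (A ∩ A' ∩ T).Nonempty) : η = η' := by
  let ι := {p : Set U × Set U // (IsOpen p.1 ∧ IsCompact p.1 ∧ η ∈ p.1) ∧ (IsOpen p.2 ∧ IsCompact p.2 ∧ η' ∈ p.2)}
  have : Nonempty ι := ⟨⟨(univ, univ), ⟨isOpen_univ, isCompact_univ, trivial⟩, isOpen_univ, isCompact_univ, trivial⟩⟩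
  obtain ⟨v, hv, hvi⟩ := exists_mem_of_antitone (ι := ι) hT (fun p => p.1.1 ∩ p.1.2)
    (fun p q => ⟨⟨(p.1.1 ∩ q.1.1, p.1.2 ∩ q.1.2),
      ⟨p.2.1.1.inter q.2.1.1, QuasiSeparatedSpace.inter_isCompact _ _ p.2.1.1 p.2.1.2.1 q.2.1.1 q.2.1.2.1, p.2.1.2.2, q.2.1.2.2⟩,
      p.2.2.1.inter q.2.2.1, QuasiSeparatedSpace.inter_isCompact _ _ p.2.2.1 p.2.2.2.1 q.2.2.1 q.2.2.2.1, p.2.2.2.2, q.2.2.2.2⟩,
      inter_subset_inter inter_subset_left inter_subset_left,
      inter_subset_inter inter_subset_right inter_subset_right⟩)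
    (fun p => QuasiSeparatedSpace.inter_isCompact _ _ p.2.1.1 p.2.1.2.1 p.2.2.1 p.2.2.2.1)
    (fun p => p.2.1.1.inter p.2.2.1) (fun p => H _ _ p.2.1.1 p.2.2.1 p.2.1.2.2 p.2.2.2.2)
  have key : ∀ (A : Set U), IsOpen A → η ∈ A → v ∈ A := by
    intro A hA hηA
    obtain ⟨W, ⟨hWo, hWc⟩, hηW, hWA⟩ := PrespectralSpace.isTopologicalBasis.exists_subset_of_mem_open hηA hA
    exact hWA (hvi ⟨(W, univ), ⟨hWo, hWc, hηW⟩, isOpen_univ, isCompact_univ, trivial⟩).1
  have key' : ∀ (A : Set U), IsOpen A → η' ∈ A → v ∈ A := by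
    intro A hA hηA
    obtain ⟨W, ⟨hWo, hWc⟩, hηW, hWA⟩ := PrespectralSpace.isTopologicalBasis.exists_subset_of_mem_open hηA hA
    exact hWA (hvi ⟨(univ, W), ⟨isOpen_univ, isCompact_univ, trivial⟩, hWo, hWc, hηW⟩).2
  exact (h.2 v hv (specializes_iff_forall_open.2 key)).symm.trans (h'.2 v hv (specializes_iff_forall_open.2 key'))

/-- Finitely many minimal points have opens which are pairwise disjoint on `T`. -/
theorem exists_separated (hT : IsClosed T) (s : Finset U) (hs : ∀ η ∈ s, IsGenMin T η) :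
    ∃ B : U → Set U, (∀ η ∈ s, IsOpen (B η) ∧ η ∈ B η) ∧
      ∀ η ∈ s, ∀ η' ∈ s, η ≠ η' → ∀ v ∈ T, v ∈ B η → v ∈ B η' → False := by
  classical
  have H : ∀ η η' : U, ∃ A A' : Set U, IsOpen A ∧ IsOpen A' ∧ η ∈ A ∧ η' ∈ A' ∧
      (IsGenMin T η → IsGenMin T η' → η ≠ η' → ∀ v ∈ T, v ∈ A → v ∈ A' → False) := by
    intro η η'
    by_contra hne
    refine hne ⟨univ, univ, isOpen_univ, isOpen_univ, trivial, trivial, fun h h' hd => absurd ?_ hd⟩
    refine eq_of_forall_inter hT h h' fun A A' hA hA' hηA hηA' => nonempty_iff_ne_empty.2 fun he => ?_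
    exact hne ⟨A, A', hA, hA', hηA, hηA', fun _ _ _ v hv h1 h2 => he.le ⟨⟨h1, h2⟩, hv⟩⟩
  choose A A' hA hA' hmem hmem' hdisj using H
  refine ⟨fun η => ⋂ η' ∈ s, A η η' ∩ A' η' η, fun η _ => ⟨?_, ?_⟩, fun η hη η' hη' hne v hv h1 h2 => ?_⟩
  · exact s.finite_toSet.isOpen_biInter fun η' _ => (hA η η').inter (hA' η' η)
  · simp only [mem_iInter]
    exact fun η' _ => ⟨hmem η η', hmem' η' η⟩
  · simp only [mem_iInter] at h1 h2
    exact hdisj η η' (hs η hη) (hs η' hη') hne v hv (h1 η' hη').1 (h2 η hη).2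

variable {Zc : Set Z}

/-- The minimal points in the fibre through `η`. -/
def orbit (f : U → Z) (T : Set U) (η : U) : Set U := {w | IsGenMin T w ∧ f w = f η}

theorem isGenMin_fibre (hf : IsOpenMap f) (hfin : ∀ z, (f ⁻¹' {z}).Finite) (hT : IsClosed T)
    (hsat : ∀ v w, f v = f w → v ∈ T → w ∈ T) (hc : Continuous f) {η : U} (hη : IsGenMin T η) {b : U}
    (hb : f b = f η) : ∃ b', IsGenMin T b' ∧ b' ⤳ b ∧ f b' = f η := by
  obtain ⟨b', hb', hspec⟩ := exists_isGenMin hT (hsat η b hb.symm hη.1)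
  obtain ⟨w, hw, hwf⟩ := exists_specializes_of_isOpenMap hf (hfin _) (v := η) (hb ▸ hspec.map hc)
  exact ⟨b', hb', hspec, by rw [← hwf, hη.2 w (hsat b' w hwf.symm hb'.1) hw]⟩

theorem exists_orbit_mem (hf : IsOpenMap f) (hfin : ∀ z, (f ⁻¹' {z}).Finite) (hT : IsClosed T)
    (hsat : ∀ v w, f v = f w → v ∈ T → w ∈ T) (hc : Continuous f) {η : U} (hη : IsGenMin T η) {B : Set U}
    (hB : IsOpen B) (h : f η ∈ f '' B) : ∃ w ∈ orbit f T η, w ∈ B := by
  obtain ⟨b, hb, hbf⟩ := h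
  obtain ⟨b', hb', hspec, hbf'⟩ := isGenMin_fibre hf hfin hT hsat hc hη hbf
  exact ⟨b', ⟨hb', hbf'⟩, hspec.mem_open hB hb⟩

/-- Near a minimal point the orbits are at least as large. -/
theorem exists_nhd_orbit (hf : IsOpenMap f) (hfin : ∀ z, (f ⁻¹' {z}).Finite) (hT : IsClosed T)
    (hsat : ∀ v w, f v = f w → v ∈ T → w ∈ T) (hc : Continuous f) {μ : U}
    (B : U → Set U) (hB : ∀ w ∈ orbit f T μ, IsOpen (B w) ∧ w ∈ B w)
    (hd : ∀ w ∈ orbit f T μ, ∀ w' ∈ orbit f T μ, w ≠ w' → ∀ v ∈ T, v ∈ B w → v ∈ B w' → False) :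
    ∃ W : Set U, IsOpen W ∧ μ ∈ W ∧ ∀ η, IsGenMin T η → η ∈ W →
      ∃ b : U → U, (∀ w ∈ orbit f T μ, b w ∈ orbit f T η ∧ b w ∈ B w) ∧ InjOn b (orbit f T μ) := by
  have hfin' : (orbit f T μ).Finite := (hfin (f μ)).subset fun w hw => hw.2
  refine ⟨⋂ w ∈ orbit f T μ, f ⁻¹' (f '' B w), hfin'.isOpen_biInter fun w hw => (hf _ (hB w hw).1).preimage hc,
    ?_, fun η hη hηW => ?_⟩
  · simp only [mem_iInter]
    exact fun w hw => ⟨w, (hB w hw).2, hw.2⟩
  · have H : ∀ w, ∃ b, w ∈ orbit f T μ → b ∈ orbit f T η ∧ b ∈ B w := by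
      intro w
      by_cases hw : w ∈ orbit f T μ
      · simp only [mem_iInter] at hηW
        obtain ⟨b, hb, hbB⟩ := exists_orbit_mem hf hfin hT hsat hc hη (hB w hw).1 (hηW w hw)
        exact ⟨b, fun _ => ⟨hb, hbB⟩⟩
      · exact ⟨w, fun h => absurd h hw⟩
    choose b hb using H
    refine ⟨b, hb, fun w hw w' hw' he => ?_⟩
    by_contra hne
    exact hd w hw w' hw' hne (b w) (hb w hw).1.1.1 (hb w hw).2 (he ▸ (hb w' hw').2)

theorem ncard_orbit_le_of_mem (hf : IsOpenMap f) (hfin : ∀ z, (f ⁻¹' {z}).Finite) (hT : IsClosed T)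
    (hsat : ∀ v w, f v = f w → v ∈ T → w ∈ T) (hc : Continuous f) (μ : U) :
    ∃ W : Set U, IsOpen W ∧ μ ∈ W ∧ ∀ η, IsGenMin T η → η ∈ W →
      (orbit f T μ).ncard ≤ (orbit f T η).ncard := by
  have hfin' : ∀ η, (orbit f T η).Finite := fun η => (hfin (f η)).subset fun w hw => hw.2
  obtain ⟨B, hB, hd⟩ := exists_separated hT (hfin' μ).toFinset fun w hw => ((hfin' μ).mem_toFinset.1 hw).1
  simp only [Set.Finite.mem_toFinset] at hB hd
  obtain ⟨W, hW, hμW, H⟩ := exists_nhd_orbit hf hfin hT hsat hc B hB hd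
  refine ⟨W, hW, hμW, fun η hη hηW => ?_⟩
  obtain ⟨b, hb, hinj⟩ := H η hη hηW
  exact ncard_le_ncard_of_injOn b (fun w hw => (hb w hw).1) hinj (hfin' η)

/-- Some nonempty open piece has bounded orbits. -/
theorem exists_bounded (hf : IsOpenMap f) (hfin : ∀ z, (f ⁻¹' {z}).Finite) (hT : IsClosed T)
    (hsat : ∀ v w, f v = f w → v ∈ T → w ∈ T) (hc : Continuous f) (hne : T.Nonempty) :
    ∃ A : Set U, IsOpen A ∧ (∃ μ, IsGenMin T μ ∧ μ ∈ A) ∧
      ∃ n, ∀ η, IsGenMin T η → η ∈ A → (orbit f T η).ncard ≤ n := by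
  by_contra H
  simp only [not_exists, not_and, not_forall, not_le] at H
  obtain ⟨v, hv⟩ := hne
  obtain ⟨μ₀, hμ₀, -⟩ := exists_isGenMin hT hv
  let Q := {V : Set U // IsOpen V ∧ IsCompact V ∧ ∃ μ, IsGenMin T μ ∧ μ ∈ V}
  have step : ∀ (V : Q) (k : ℕ), ∃ V' : Q, V'.1 ⊆ V.1 ∧
      ∀ η, IsGenMin T η → η ∈ V'.1 → k < (orbit f T η).ncard := by
    intro V k
    obtain ⟨ν, hν, hνV, hk⟩ := H V.1 V.2.1 V.2.2.2 k
    obtain ⟨W, hW, hνW, hWk⟩ := ncard_orbit_le_of_mem hf hfin hT hsat hc ν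
    obtain ⟨V', ⟨hVo, hVc⟩, hνV', hV'⟩ := PrespectralSpace.isTopologicalBasis.exists_subset_of_mem_open
      (show ν ∈ W ∩ V.1 from ⟨hνW, hνV⟩) (hW.inter V.2.1)
    exact ⟨⟨V', hVo, hVc, ν, hν, hνV'⟩, fun x hx => (hV' hx).2,
      fun η hη hηV => hk.trans_le (hWk η hη (hV' hηV).1)⟩
  choose g hg₁ hg₂ using step
  let V : ℕ → Q := fun k => Nat.rec ⟨univ, isOpen_univ, isCompact_univ, μ₀, hμ₀, trivial⟩
    (fun k W => g W k) k
  have hanti : Antitone fun k => (V k).1 := antitone_nat_of_succ_le fun k => hg₁ (V k) k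
  obtain ⟨w, hwT, hw⟩ := exists_mem_of_antitone hT (fun k => (V k).1) hanti.directed_ge
    (fun k => (V k).2.2.1) (fun k => (V k).2.1) (fun k => by
      obtain ⟨μ, hμ, hμV⟩ := (V k).2.2.2
      exact ⟨μ, hμV, hμ.1⟩)
  obtain ⟨η, hη, hspec⟩ := exists_isGenMin hT hwT
  have := hg₂ (V (orbit f T η).ncard) (orbit f T η).ncard η hη
    (hspec.mem_open (g (V (orbit f T η).ncard) (orbit f T η).ncard).2.1 (hw ((orbit f T η).ncard + 1)))
  omega

/-- An irreducible closed set meeting the image of an open map with finite fibres has a generic point. -/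
theorem exists_isGenericPoint (hf : IsOpenMap f) (hfin : ∀ z, (f ⁻¹' {z}).Finite) (hc : Continuous f)
    (hZ : IsIrreducible Zc) (hZc : IsClosed Zc) (hne : (Zc ∩ range f).Nonempty) :
    ∃ z, IsGenericPoint z Zc := by
  classical
  let T : Set U := f ⁻¹' Zc
  have hT : IsClosed T := hZc.preimage hc
  have hsat : ∀ v w, f v = f w → v ∈ T → w ∈ T := fun v w h hv => by
    change f w ∈ Zc; rw [← h]; exact hv
  have hfin' : ∀ η, (orbit f T η).Finite := fun η => (hfin (f η)).subset fun w hw => hw.2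
  obtain ⟨z₀, hz₀, v₀, rfl⟩ := hne
  obtain ⟨A₀, hA₀, ⟨ν, hν, hνA⟩, n, hn⟩ := exists_bounded hf hfin hT hsat hc ⟨v₀, hz₀⟩
  let P := fun m : ℕ => ∃ η, IsGenMin T η ∧ η ∈ A₀ ∧ (orbit f T η).ncard = m
  have hP : P (orbit f T ν).ncard := ⟨ν, hν, hνA, rfl⟩
  obtain ⟨μ, hμ, hμA, hμn⟩ : P (Nat.findGreatest P n) := Nat.findGreatest_spec (hn ν hν hνA) hP
  have hmax : ∀ η, IsGenMin T η → η ∈ A₀ → (orbit f T η).ncard ≤ (orbit f T μ).ncard := fun η hη hηA =>
    hμn ▸ Nat.le_findGreatest (hn η hη hηA) ⟨η, hη, hηA, rfl⟩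
  refine ⟨f μ, ?_⟩
  have hμZ : closure {f μ} ⊆ Zc := closure_minimal (singleton_subset_iff.2 hμ.1) hZc
  suffices hall : ∀ η, IsGenMin T η → f η = f μ by
    refine Subset.antisymm hμZ ?_
    refine Subset.trans (subset_closure_inter_of_isPreirreducible_of_isOpen hZ.isPreirreducible (hf univ isOpen_univ) ⟨f v₀, hz₀, v₀, trivial, rfl⟩) ?_
    refine closure_minimal ?_ isClosed_closure
    rintro _ ⟨hy, v, -, rfl⟩
    obtain ⟨η, hη, hspec⟩ := exists_isGenMin hT (show v ∈ T from hy)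
    exact specializes_iff_mem_closure.1 (hall η hη ▸ hspec.map hc)
  intro η hη
  by_contra hne'
  have hηO : η ∉ orbit f T μ := fun h => hne' h.2
  obtain ⟨B, hB, hd⟩ := exists_separated hT (insert η (hfin' μ).toFinset) fun w hw => by
    rcases Finset.mem_insert.1 hw with rfl | hw
    · exact hη
    · exact ((hfin' μ).mem_toFinset.1 hw).1
  simp only [Finset.mem_insert, Set.Finite.mem_toFinset] at hB hd
  obtain ⟨W, hW, hμW, H⟩ := exists_nhd_orbit hf hfin hT hsat hc B (fun w hw => hB w (Or.inr hw))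
    fun w hw w' hw' => hd w (Or.inr hw) w' (Or.inr hw')
  obtain ⟨z, hzc, ⟨a, ha, haf⟩, a', ha', haf'⟩ := hZ.isPreirreducible _ _ (hf _ (hW.inter hA₀))
    (hf _ (hB η (Or.inl rfl)).1) ⟨f μ, hμ.1, μ, ⟨hμW, hμA⟩, rfl⟩ ⟨f η, hη.1, η, (hB η (Or.inl rfl)).2, rfl⟩
  have haT : a ∈ T := by change f a ∈ Zc; rwa [haf]
  obtain ⟨ρ, hρ, hspec⟩ := exists_isGenMin hT haT
  have hρA : ρ ∈ W ∩ A₀ := hspec.mem_open (hW.inter hA₀) ha
  obtain ⟨c, hc', hcf⟩ := exists_specializes_of_isOpenMap hf (hfin _) (v := a')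
    (show f ρ ⤳ f a' by rw [haf', ← haf]; exact hspec.map hc)
  obtain ⟨d, hd', hdB⟩ := exists_orbit_mem hf hfin hT hsat hc hρ (hB η (Or.inl rfl)).1
    ⟨c, hc'.mem_open (hB η (Or.inl rfl)).1 ha', hcf⟩
  obtain ⟨b, hb, hinj⟩ := H ρ hρ hρA.1
  have himg : b '' orbit f T μ = orbit f T ρ :=
    Set.eq_of_subset_of_ncard_le (by rintro _ ⟨w, hw, rfl⟩; exact (hb w hw).1)
      (by rw [hinj.ncard_image]; exact hmax ρ hρ hρA.2) (hfin' ρ)
  obtain ⟨w, hw, rfl⟩ := himg.ge hd'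
  exact hd η (Or.inl rfl) w (Or.inr hw) (fun h => hηO (h ▸ hw)) (b w) (hb w hw).1.1.1 hdB (hb w hw).2

/-- Distinct points in the image of an open map with finite fibres are topologically distinguishable. -/
theorem eq_of_inseparable (hf : IsOpenMap f) (hfin : ∀ z, (f ⁻¹' {z}).Finite)
    {z z' : Z} (hz : z ∈ range f) (h : z ⤳ z') (h' : z' ⤳ z) : z = z' := by
  classical
  by_contra hne
  let F : Set U := f ⁻¹' {z} ∪ f ⁻¹' {z'}
  have hF : F.Finite := (hfin z).union (hfin z')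
  have hFne : F.Nonempty := by obtain ⟨u, hu⟩ := hz; exact ⟨u, Or.inl hu⟩
  let _ : PartialOrder U := specializationOrder U
  obtain ⟨w, hw, hwmax⟩ := hF.exists_maximal hFne
  rcases hw with hw | hw
  · obtain ⟨w', hspec, hw'⟩ := exists_specializes_of_isOpenMap hf (hfin _) (v := w)
      (show z' ⤳ f w by rw [show f w = z from hw]; exact h')
    have := hwmax (Or.inr hw') hspec
    exact hne (hw.symm.trans ((congrArg f (le_antisymm (α := U) hspec this)).trans hw'))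
  · obtain ⟨w', hspec, hw'⟩ := exists_specializes_of_isOpenMap hf (hfin _) (v := w)
      (show z ⤳ f w by rw [show f w = z' from hw]; exact h)
    have := hwmax (Or.inl hw') hspec
    exact hne (hw'.symm.trans ((congrArg f (le_antisymm (α := U) this hspec)).trans hw))

end Groth.Agent.AlgSpDec
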