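import Groth.Agent.AlgSpDec.MonoRep
import Groth.Agent.AlgSpDec.Topo
import Groth.Agent.AlgSpPts.Sep
import Groth.Agent.AlgSpPts.FppfTarget
import Groth.Agent.AlgSpLib.LocalSourceInst
import Groth.Agent.AlgSpLib.Descends2

/-!
# Decent algebraic spaces: first properties
-/

set_option backward.isDefEq.respectTransparency false
set_option backward.isDefEq.respectTransparency.types false

open CategoryTheory Limits Opposite AlgebraicGeometry MorphismProperty AlgSp Groth.Agent.AlgSpLib
  Groth.Agent.AlgSpPts

namespace Groth.Agent.AlgSpDec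

universe u

variable {S : Scheme.{u}} {X : Sp S}

theorem isDecent_of_isQuasiSeparatedSp (hX : IsAlgSpace X) (h : IsQuasiSeparatedSp X) : IsDecent X := by
  refine (isDecent_iff_exists_quasiCompact hX).2 fun x => ?_
  induction x using Points.ind with
  | h p =>
  refine ⟨p, rfl, AlgSpLib.of_comp_of_diagonal (RepWith @QuasiCompact) p.toHom ((isTerminalYon S).from X) ?_
    ((repWith_diag_iff _ X).1 h)⟩
  rw [(isTerminalYon S).hom_ext (p.toHom ≫ (isTerminalYon S).from X)
    ((yon S).map (Over.mkIdTerminal.from p.pt))]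
  exact (repWith_yon_map_iff _ _).2 (quasiCompact_of_subsingleton _)

theorem finite_fibre (hX : IsAlgSpace X) (h : IsDecent X) {U : Over S} [CompactSpace ↥U.left]
    {a : (yon S).obj U ⟶ X} (ha : RepWith @Etale a) (x : Points X) : (Points.ofPt a ⁻¹' {x}).Finite := by
  obtain ⟨p, rfl, -, hp⟩ := h x
  have sq := ha.rep.isPullback' p.toHom
  have hvU : QuasiCompact (ha.rep.fst' p.toHom).left := hp.property _ _ _ sq.flip
  have : CompactSpace ↥(ha.rep.pullback p.toHom).left :=
    QuasiCompact.compactSpace_of_compactSpace (ha.rep.fst' p.toHom).left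
  have : Etale (ha.rep.snd p.toHom).left := ha.property_snd p.toHom
  have : IsAffine p.pt.left := inferInstanceAs (IsAffine (Spec (CommRingCat.of p.K)))
  have : QuasiCompact (ha.rep.snd p.toHom).left := HasAffineProperty.iff_of_isAffine.2 ‹CompactSpace ↥(ha.rep.pullback p.toHom).left›
  have hfin : (Set.univ : Set ↥(ha.rep.pullback p.toHom).left).Finite := by
    refine ((ha.rep.snd p.toHom).left.finite_preimage_singleton (IsLocalRing.closedPoint p.K)).subset ?_
    intro w _
    exact Subsingleton.elim (α := ↥p.pt.left) _ _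
  refine (hfin.image (ha.rep.fst' p.toHom).left).subset fun v hv => ?_
  obtain ⟨w, hw, -⟩ := exists_ofPt_of_eq sq
    (show Points.ofPt a v = Points.ofPt p.toHom (IsLocalRing.closedPoint p.K) by
      rw [Points.ofPt_toHom]; exact hv)
  exact ⟨w, Set.mem_univ _, hw⟩

theorem spectralSpace_of_isAffine (Y : Scheme.{u}) [IsAffine Y] : SpectralSpace ↥Y := by
  have : SpectralSpace ↥(Spec Γ(Y, ⊤)) := inferInstanceAs (SpectralSpace (PrimeSpectrum _))
  exact Y.isoSpec.hom.isOpenEmbedding.spectralSpace

theorem t0Space_points (hX : IsAlgSpace X) (h : IsDecent X) : T0Space (Points X) := by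
  refine ⟨fun x y hxy => ?_⟩
  obtain ⟨U, a, u, hU, ha, hu⟩ := exists_affine_chart_at hX x
  have := spectralSpace_of_isAffine U.left
  exact eq_of_inseparable (isOpenMap_ofPt ha) (finite_fibre hX h ha) ⟨u, hu⟩ hxy.specializes hxy.specializes'

theorem quasiSober_points (hX : IsAlgSpace X) (h : IsDecent X) : QuasiSober (Points X) := by
  refine ⟨fun {Zc} hZ hZc => ?_⟩
  obtain ⟨x, hx⟩ := hZ.nonempty
  obtain ⟨U, a, u, hU, ha, hu⟩ := exists_affine_chart_at hX x
  have := spectralSpace_of_isAffine U.left
  exact exists_isGenericPoint (isOpenMap_ofPt ha) (finite_fibre hX h ha) (Points.continuous_ofPt a) hZ hZc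
    ⟨x, hx, u, hu⟩

theorem isDecent_of_isEtaleMor {Y : Sp S} (hX : IsAlgSpace X) (hY : IsAlgSpace Y) (f : X ⟶ Y)
    (hf : IsEtaleMor f) (h : IsDecent Y) : IsDecent X := by
  refine (isDecent_iff_exists_quasiCompact hX).2 fun x => ?_
  obtain ⟨p, hp, -, hpq⟩ := h (Points.map f x)
  have sqP := IsPullback.of_hasPullback f p.toHom
  have hP := isAlgSpace_pullback hX (IsAlgSpace.yon_obj p.pt) hY f p.toHom
  have hsnd : LocP @Etale (pullback.snd f p.toHom) :=
    locP_of_isPullback sqP hX hY (IsAlgSpace.yon_obj _) (locP_etale_of_isEtaleMor hf)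
  obtain ⟨W, c, hc, hc'⟩ := hP.atlas
  obtain ⟨hW, hhW⟩ := (yon S).map_surjective (c ≫ pullback.snd f p.toHom)
  have : Etale hW.left := hsnd c (𝟙 _) hW hc (repWith_id _ _) (by rw [Category.comp_id, hhW])
  obtain ⟨z, hz, -⟩ := exists_point_of_isPullback sqP (x := x)
    (y := Points.ofScheme p.pt (IsLocalRing.closedPoint p.K)) (by
      rw [← hp, mk_eq_ofPt, Points.map_ofPt, Category.id_comp])
  obtain ⟨w, hw⟩ := surjective_ofPt hc' z
  let q := FieldPt.ofPt c w
  refine ⟨q.map (pullback.fst f p.toHom), ?_, ?_⟩
  · change Points.map _ (Points.ofPt c w) = x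
    rw [hw, hz]
  · rw [FieldPt.toHom_map]
    have : MorphismProperty.IsLocalAtTarget (@QuasiCompact : MorphismProperty Scheme.{u}) Scheme.fppfPrecoverage :=
      isLocalAtTarget_fppf _
    have := isLocallySurjective_of_etale_surjective hc hc'
    refine repWith_comp ?_ (repWith_of_isPullback sqP.flip hpq)
    have hq : Representable q.toHom := representable_from_yon' hP _
    have sqG := hq.isPullback c
    refine repWith_of_locallySurjective hq c sqG _ ((repWith_yon_map_iff _ _).2 ?_)
    let φ : q.pt ⟶ W := Over.homMk (W.left.fromSpecResidueField w) rfl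
    let α : hq.pullback c ⟶ q.pt := hq.fst' c
    let β : hq.pullback c ⟶ W := hq.snd c
    have sq' : IsPullback ((yon S).map α) ((yon S).map β) q.toHom c := hq.isPullback' c
    have hqc : q.toHom = (yon S).map φ ≫ c := FieldPt.toHom_ofPt c w
    have hαβ : α.left ≫ (φ ≫ hW).left = β.left ≫ hW.left := by
      have : α ≫ φ ≫ hW = β ≫ hW := (yon S).map_injective (by
        rw [Functor.map_comp, Functor.map_comp, Functor.map_comp, hhW, ← Category.assoc ((yon S).map φ), ← hqc,
          ← Category.assoc, sq'.w, Category.assoc])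
      exact congrArg CommaMorphism.left this
    let k := pullback.fst (φ ≫ hW).left hW.left
    let r := pullback.snd (φ ≫ hW).left hW.left
    let m : (hq.pullback c).left ⟶ pullback (φ ≫ hW).left hW.left := pullback.lift α.left β.left hαβ
    have : Subsingleton ↥q.pt.left := inferInstance
    have : QuasiCompact (φ ≫ hW).left := quasiCompact_of_subsingleton _
    have hr : QuasiCompact r := MorphismProperty.pullback_snd _ _ ‹_›
    have : Etale k := MorphismProperty.pullback_fst _ _ ‹Etale hW.left›
    have hd : DiscreteTopology ↥(pullback (φ ≫ hW).left hW.left) := by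
      have h1 := k.isDiscrete_preimage_singleton (IsLocalRing.closedPoint q.K)
      rw [show k ⁻¹' {IsLocalRing.closedPoint q.K} = Set.univ from
        Set.eq_univ_of_forall fun x => Subsingleton.elim (α := ↥q.pt.left) _ _] at h1
      exact isDiscrete_univ_iff.1 h1
    have : Mono m := ⟨fun {Z} y y' hy => by
      have h₁ : y ≫ α.left = y' ≫ α.left := by
        rw [show α.left = m ≫ k from (pullback.lift_fst _ _ _).symm, reassoc_of% hy]
      have h₂ : y ≫ β.left = y' ≫ β.left := by
        rw [show β.left = m ≫ r from (pullback.lift_snd _ _ _).symm, reassoc_of% hy]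
      have hy' : y' ≫ (hq.pullback c).hom = y ≫ (hq.pullback c).hom := by
        rw [← Over.w β, ← Category.assoc, ← Category.assoc, h₂]
      let Y : Over S := Over.mk (y ≫ (hq.pullback c).hom)
      let yo : Y ⟶ hq.pullback c := Over.homMk y rfl
      let yo' : Y ⟶ hq.pullback c := Over.homMk y' hy'
      have hα : yo ≫ α = yo' ≫ α := Over.OverMorphism.ext h₁
      have hβ : yo ≫ β = yo' ≫ β := Over.OverMorphism.ext h₂
      have := (yon S).map_injective (sq'.hom_ext
        (show (yon S).map yo ≫ (yon S).map α = (yon S).map yo' ≫ (yon S).map α by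
          rw [← Functor.map_comp, ← Functor.map_comp, hα])
        (show (yon S).map yo ≫ (yon S).map β = (yon S).map yo' ≫ (yon S).map β by
          rw [← Functor.map_comp, ← Functor.map_comp, hβ]))
      exact congrArg CommaMorphism.left this⟩
    have : QuasiCompact m := (quasiCompact_iff m).2 fun V _ hVc =>
      ((hVc.finite_of_discrete).preimage m.injective.injOn).isCompact
    have : QuasiCompact (m ≫ r) := inferInstance
    rwa [pullback.lift_snd] at this

end Groth.Agent.AlgSpDec
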