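import Groth.Agent.AlgSpDec.LimPoints
import Groth.Agent.AlgSpDec.Basic
import Groth.Prelude.Def_AlgSpDec

/-!
# The points of a limit of decent spaces
-/

set_option backward.isDefEq.respectTransparency false
set_option backward.isDefEq.respectTransparency.types false

universe u

open CategoryTheory Limits Opposite AlgebraicGeometry AlgSp Groth.Agent.AlgSpLib Groth.Agent.AlgSpPts TopologicalSpace

namespace Groth.Agent.AlgSpDec

variable {S : Scheme.{u}}

theorem exists_map_specResidueField {A B : Scheme.{u}} (f : A ⟶ B) (a : A) (b : B) (h : f a = b) :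
    ∃ m : Spec (A.residueField a) ⟶ Spec (B.residueField b),
      m ≫ B.fromSpecResidueField b = A.fromSpecResidueField a ≫ f := by
  subst h
  exact ⟨_, f.SpecMap_residueFieldMap_fromSpecResidueField a⟩

/-- A compatible family of points of a cofiltered system of affine schemes comes from the limit. -/
theorem exists_point_of_compatible {J : Type u} [SmallCategory J] [IsCofiltered J] (E : J ⥤ Over S)
    (c : Cone E) (hc : IsLimit c) (u : ∀ j, ↥(E.obj j).left)
    (hu : ∀ (j k : J) (f : j ⟶ k), (E.map f).left (u j) = u k) :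
    ∃ z : ↥c.pt.left, ∀ j, (c.π.app j).left z = u j := by
  let ι : ∀ j, Spec ((E.obj j).left.residueField (u j)) ⟶ (E.obj j).left :=
    fun j => (E.obj j).left.fromSpecResidueField (u j)
  choose m hm using fun (j k : J) (f : j ⟶ k) => exists_map_specResidueField (E.map f).left _ _ (hu j k f)
  let Y : J ⥤ Over S :=
    { obj := fun j => Over.mk (ι j ≫ (E.obj j).hom)
      map := fun {j k} f => Over.homMk (m j k f) (by
        dsimp
        rw [reassoc_of% (hm j k f), Over.w])
      map_id := fun j => by
        ext : 1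
        refine (cancel_mono (ι j)).1 ?_
        exact (hm j j (𝟙 j)).trans (by simp [ι])
      map_comp := fun {i j k} f g => by
        ext : 1
        refine (cancel_mono (ι k)).1 ((hm i k (f ≫ g)).trans ?_)
        refine Eq.trans ?_ (Category.assoc _ _ _).symm
        refine Eq.trans ?_ (congrArg (m i j f ≫ ·) (hm j k g)).symm
        rw [reassoc_of% (hm i j f), ← Over.comp_left, ← E.map_comp] }
  let τ : Y ⟶ E :=
    { app := fun j => Over.homMk (ι j) rfl
      naturality := fun j k f => by ext : 1; exact hm j k f }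
  have hY : ∀ j, IsAffine (Y.obj j).left := fun j => inferInstanceAs (IsAffine (Spec _))
  obtain ⟨cY, ⟨hcY⟩, -⟩ := exists_affine_limit Y hY
  have := IsCofiltered.isConnected J
  have : ∀ j, IsAffine ((Y ⋙ Over.forget S).obj j) := hY
  have : ∀ {j k} (f : j ⟶ k), IsAffineHom ((Y ⋙ Over.forget S).map f) := fun f => inferInstance
  have : ∀ j, Nonempty ↥((Y ⋙ Over.forget S).obj j) := fun j =>
    inferInstanceAs (Nonempty ↥(Spec ((E.obj j).left.residueField (u j))))
  obtain ⟨y⟩ := Scheme.nonempty_of_isLimit (Y ⋙ Over.forget S) ((Over.forget S).mapCone cY)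
    (isLimitOfPreserves (Over.forget S) hcY)
  refine ⟨(hc.lift ((Cone.postcompose τ).obj cY)).left y, fun j => ?_⟩
  refine (Scheme.Hom.comp_apply _ _ _).symm.trans ?_
  rw [← Over.comp_left, hc.fac]
  exact Scheme.fromSpecResidueField_apply (X := (E.obj j).left) (u j) _

/-- Points of a limit of affine schemes are separated by the projections. -/
theorem point_ext_of_isLimit {J : Type u} [SmallCategory J] [IsCofiltered J] (E : J ⥤ Over S)
    (hE : ∀ j, IsAffine (E.obj j).left) (c : Cone E) (hc : IsLimit c) {z w : ↥c.pt.left}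
    (h : ∀ j, (c.π.app j).left z = (c.π.app j).left w) : z = w := by
  have := IsCofiltered.isConnected J
  have : ∀ j, IsAffine ((E ⋙ Over.forget S).obj j) := hE
  have : ∀ {j k} (f : j ⟶ k), IsAffineHom ((E ⋙ Over.forget S).map f) := fun f => inferInstance
  have hB := isBasis_preimage_isAffineOpen (E ⋙ Over.forget S) ((Over.forget S).mapCone c)
    (isLimitOfPreserves (Over.forget S) hc)
  refine Inseparable.eq (inseparable_iff_forall_isOpen.2 fun O hO => ?_)
  constructor
  · intro hz
    obtain ⟨_, ⟨j, V, -, rfl⟩, hzV, hVO⟩ :=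
      TopologicalSpace.Opens.isBasis_iff_nbhd.1 hB (show z ∈ (⟨O, hO⟩ : TopologicalSpace.Opens _) from hz)
    exact hVO (show (c.π.app j).left w ∈ V from h j ▸ hzV)
  · intro hw
    obtain ⟨_, ⟨j, V, -, rfl⟩, hwV, hVO⟩ :=
      TopologicalSpace.Opens.isBasis_iff_nbhd.1 hB (show w ∈ (⟨O, hO⟩ : TopologicalSpace.Opens _) from hw)
    exact hVO (show (c.π.app j).left z ∈ V from (h j).symm ▸ hwV)

theorem points_limit_bijective {I : Type u} [SmallCategory I] [IsCofiltered I] (D : I ⥤ Sp S)
    (hD : ∀ i, IsAlgSpace (D.obj i)) (hDa : ∀ (i j : I) (φ : i ⟶ j), IsAffineMor (D.map φ)) (c : Cone D)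
    (hc : IsLimit c) (hdec : ∀ i, IsDecent (D.obj i)) :
    (∀ x x' : Points c.pt, (∀ i, Points.map (c.π.app i) x = Points.map (c.π.app i) x') → x = x') ∧
    (∀ s : ∀ i, Points (D.obj i), (∀ (i j : I) (φ : i ⟶ j), Points.map (D.map φ) (s i) = s j) →
      ∃ x : Points c.pt, ∀ i, Points.map (c.π.app i) x = s i) := by
  obtain ⟨i₁⟩ := IsCofiltered.nonempty (C := I)
  refine ⟨fun x x' hxx' => ?_, fun s hs => ?_⟩
  · obtain ⟨U, a, v, hU, ha, hv⟩ := exists_affine_chart_at (hD i₁) (Points.map (c.π.app i₁) x)
    have : IsAffine U.left := hU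
    obtain ⟨W, cW, hcW, p, fst, aW, bW, haw, sqW, hwb, hA, hWA, sqj, hfst, hp⟩ :=
      exists_limit_square'' D hDa c hc i₁ a
    obtain ⟨z, hz, -⟩ := exists_point_of_isPullback sqW (x := x) (y := Points.ofScheme U v)
      (hv.symm.trans (Points.ofPt_eq_map_ofScheme _ _))
    obtain ⟨z, rfl⟩ := (Points.schemeHomeo _).surjective z
    -- the fibre over `x'` is finite
    have hF : (Points.ofPt fst ⁻¹' {x'}).Finite := by
      induction x' using Points.ind with
      | h q =>
      let r := q.map (c.π.app i₁)
      have hr : r.toHom = q.toHom ≫ c.π.app i₁ := FieldPt.toHom_map _ _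
      have hrq : RepWith @QuasiCompact r.toHom := repWith_quasiCompact_toHom (hD i₁) (hdec i₁) r
      have sq := ha.rep.isPullback' r.toHom
      have : QuasiCompact (ha.rep.fst' r.toHom).left := hrq.property _ _ _ sq.flip
      have : CompactSpace ↥(ha.rep.pullback r.toHom).left :=
        QuasiCompact.compactSpace_of_compactSpace (ha.rep.fst' r.toHom).left
      have : Etale (ha.rep.snd r.toHom).left := ha.property_snd r.toHom
      have hfin : (Set.univ : Set ↥(ha.rep.pullback r.toHom).left).Finite := by
        refine (finite_fibre_of_compactSpace (ha.rep.snd r.toHom).left (IsLocalRing.closedPoint r.K)).subset ?_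
        intro w _
        exact Subsingleton.elim (α := ↥r.pt.left) _ _
      obtain ⟨m, hm⟩ := (yon S).map_surjective (sqW.lift ((yon S).map (ha.rep.snd r.toHom) ≫ q.toHom)
        ((yon S).map (ha.rep.fst' r.toHom)) (by rw [Category.assoc, ← hr]; exact sq.w.symm))
      have sqm : IsPullback ((yon S).map m) ((yon S).map (ha.rep.snd r.toHom)) fst q.toHom := by
        refine IsPullback.of_right (h₁₂ := (yon S).map p) (h₂₂ := c.π.app i₁) ?_
          (by rw [hm, IsPullback.lift_fst]) sqW.flip
        rw [hm, IsPullback.lift_snd, ← hr]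
        exact sq
      refine (hfin.image m.left).subset fun w hw => ?_
      obtain ⟨t, ht, -⟩ := exists_ofPt_of_eq sqm
        (show Points.ofPt fst w = Points.ofPt q.toHom (IsLocalRing.closedPoint q.K) by
          rw [Points.ofPt_toHom]; exact hw)
      exact ⟨t, Set.mem_univ _, ht⟩
    have hne : ∀ j : Over i₁, ∃ w, Points.ofPt fst w = x' ∧ (cW.π.app j).left w = (cW.π.app j).left z := by
      intro j
      have hsk : IsPullback fst ((yon S).map (cW.π.app j)) (c.π.app j.left) (aW j) := by
        refine IsPullback.of_bot ?_ (hfst j) (sqj j)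
        rw [← Functor.map_comp, ← hp j, c.w]
        exact sqW
      obtain ⟨w, hw₁, hw₂⟩ := exists_point_of_isPullback hsk (x := x')
        (y := Points.ofScheme _ ((cW.π.app j).left z)) (by
          rw [← hxx', ← hz, ← Points.map_comp, hsk.w, Points.map_comp]
          exact congrArg _ (Points.map_yon_map_apply _ _))
      obtain ⟨w, rfl⟩ := (Points.schemeHomeo _).surjective w
      exact ⟨w, (Points.ofPt_eq_map_ofScheme _ _).trans hw₁,
        (Points.schemeHomeo (W.obj j)).injective ((Points.map_yon_map_apply _ _).symm.trans hw₂)⟩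
    classical
    have hcom : ∃ w, Points.ofPt fst w = x' ∧ ∀ j, (cW.π.app j).left w = (cW.π.app j).left z := by
      by_contra h
      push Not at h
      have : Nonempty (Over i₁) := ⟨Over.mk (𝟙 i₁)⟩
      choose! j hj using h
      obtain ⟨l, hl⟩ := IsCofiltered.inf_objs_exists (hF.toFinset.image j)
      obtain ⟨w, hw₁, hw₂⟩ := hne l
      obtain ⟨φ⟩ := hl (Finset.mem_image_of_mem j (hF.mem_toFinset.2 hw₁))
      refine hj w hw₁ ?_
      rw [← cW.w φ, Over.comp_left, Scheme.Hom.comp_apply, Scheme.Hom.comp_apply]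
      exact congrArg _ hw₂
    obtain ⟨w, hw₁, hw₂⟩ := hcom
    rw [← hw₁, point_ext_of_isLimit W hWA cW hcW hw₂, ← hz, Points.ofPt_eq_map_ofScheme]
    rfl
  · obtain ⟨U, a, v, hU, ha, hv⟩ := exists_affine_chart_at (hD i₁) (s i₁)
    have : IsAffine U.left := hU
    obtain ⟨W, cW, hcW, p, fst, aW, bW, haw, sqW, hwb, hA, hWA, sqj, hfst, hp⟩ :=
      exists_limit_square'' D hDa c hc i₁ a
    let G : Over i₁ ⥤ Type u :=
      { obj := fun j => {w : ↥(W.obj j).left // Points.ofPt (aW j) w = s j.left}
        map := fun {j k} φ => TypeCat.ofHom fun w => ⟨(W.map φ).left w.1, by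
          rw [← ofPt_comp, haw, Points.ofPt_eq_map_ofScheme, Points.map_comp,
            ← Points.ofPt_eq_map_ofScheme, w.2, hs]⟩
        map_id := fun j => by ext w; simp
        map_comp := fun φ ψ => by ext w; simp }
    have : ∀ j, Finite (G.obj j) := fun j => by
      have : IsAffine (W.obj j).left := hWA j
      exact (finite_fibre (hD j.left) (hdec j.left) (repWith_of_isPullback (sqj j).flip ha) (s j.left)).to_subtype
    have : ∀ j, Nonempty (G.obj j) := fun j => by
      obtain ⟨w, hw, -⟩ := exists_point_of_isPullback (sqj j) (x := s j.left) (y := Points.ofScheme U v)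
        ((hs _ _ j.hom).trans (hv.symm.trans (Points.ofPt_eq_map_ofScheme _ _)))
      obtain ⟨w, rfl⟩ := (Points.schemeHomeo _).surjective w
      exact ⟨⟨w, (Points.ofPt_eq_map_ofScheme _ _).trans hw⟩⟩
    obtain ⟨u, hu⟩ := nonempty_sections_of_finite_cofiltered_system G
    obtain ⟨z, hz⟩ := exists_point_of_compatible W cW hcW (fun j => (u j).1)
      (fun j k φ => congrArg Subtype.val (hu φ))
    refine ⟨Points.ofPt fst z, fun i => ?_⟩
    obtain ⟨l, f, g, -⟩ := IsCofilteredOrEmpty.cone_objs i i₁
    rw [← c.w f, Points.map_comp, ← hs l i f]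
    congr 1
    rw [Points.ofPt_eq_map_ofScheme, ← Points.map_comp, show l = (Over.mk g).left from rfl, hfst (Over.mk g),
      Points.map_comp]
    refine (map_map_ofScheme _ _ z).trans ?_
    exact (congrArg (Points.ofPt (aW (Over.mk g))) (hz (Over.mk g))).trans (u (Over.mk g)).2

end Groth.Agent.AlgSpDec
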