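import Groth.Agent.AlgSpDec.LimAffineDescend
import Groth.Agent.AlgSpDec.LimOpen
import Groth.Agent.AlgSpDec.LimPointsBij
import Groth.Agent.AlgSpDec.OpenGlue

/-!
# A limit which is a scheme is a scheme at some stage
-/

set_option backward.isDefEq.respectTransparency false
set_option backward.isDefEq.respectTransparency.types false

universe u

open CategoryTheory Limits Opposite AlgebraicGeometry AlgSp Groth.Agent.AlgSpLib Groth.Agent.AlgSpPts

namespace Groth.Agent.AlgSpDec

variable {S : Scheme.{u}}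

/-- The base change of a system to a space over one of its stages. -/
theorem exists_pullback_system {I : Type u} [SmallCategory I] [IsCofiltered I] (D : I ⥤ Sp S) (c : Cone D)
    (hc : IsLimit c) {i₀ : I} {U : Sp S} (g₀ : U ⟶ D.obj i₀) {X : Sp S} {pX : X ⟶ U} {qX : X ⟶ c.pt}
    (sX : IsPullback pX qX g₀ (c.π.app i₀)) :
    ∃ (E : Over i₀ ⥤ Sp S) (cE : Cone E) (_ : IsLimit cE) (_ : cE.pt ≅ X) (u : ∀ o, E.obj o ⟶ U)
      (q : ∀ o, E.obj o ⟶ D.obj o.left),
      (∀ o, IsPullback (u o) (q o) g₀ (D.map o.hom)) ∧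
      ∀ {o o' : Over i₀} (φ : o ⟶ o'), IsPullback (q o) (E.map φ) (D.map φ.left) (q o') := by
  let E : Over i₀ ⥤ Sp S :=
    { obj := fun o => pullback g₀ (D.map o.hom)
      map := fun {o o'} φ => pullback.map _ _ _ _ (𝟙 _) (D.map φ.left) (𝟙 _) (by simp)
        (by rw [Category.comp_id, ← D.map_comp, Over.w φ])
      map_id := fun o => pullback.hom_ext (by simp) (by simp)
      map_comp := fun φ ψ => pullback.hom_ext (by simp) (by simp) }
  have sqm : ∀ {o o' : Over i₀} (φ : o ⟶ o'),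
      IsPullback (pullback.snd g₀ (D.map o.hom)) (E.map φ) (D.map φ.left) (pullback.snd g₀ (D.map o'.hom)) :=
    fun {o o'} φ => by
      refine IsPullback.of_bot ?_ (pullback.lift_snd _ _ _).symm (IsPullback.of_hasPullback g₀ (D.map o'.hom)).flip
      rw [← D.map_comp, Over.w φ, pullback.lift_fst, Category.comp_id]
      exact (IsPullback.of_hasPullback g₀ (D.map o.hom)).flip
  let cE : Cone E :=
    { pt := X
      π := { app := fun o => pullback.lift pX (qX ≫ c.π.app o.left) (by rw [sX.w, Category.assoc, c.w o.hom])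
             naturality := fun o o' φ => pullback.hom_ext (by simp [E]) (by simp [E]) } }
  have := IsCofiltered.isConnected (Over i₀)
  let hc' := (Functor.Initial.isLimitWhiskerEquiv (CategoryTheory.Over.forget i₀) c).symm hc
  let c₂ : Cone E → Cone (CategoryTheory.Over.forget i₀ ⋙ D) := fun s =>
    { pt := s.pt
      π := { app := fun o => s.π.app o ≫ pullback.snd g₀ (D.map o.hom)
             naturality := fun o o' φ => by
               dsimp
               rw [Category.id_comp, ← s.w φ]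
               simp [E] } }
  let top : Over i₀ := Over.mk (𝟙 i₀)
  have hfst : ∀ (s : Cone E) (o o' : Over i₀),
      s.π.app o ≫ pullback.fst g₀ (D.map o.hom) = s.π.app o' ≫ pullback.fst g₀ (D.map o'.hom) := fun s o o' => by
    obtain ⟨l, u, v, -⟩ := IsCofilteredOrEmpty.cone_objs o o'
    rw [← s.w u, ← s.w v]
    simp [E]
  have hcond : ∀ s, (s.π.app top ≫ pullback.fst g₀ (D.map top.hom)) ≫ g₀ = hc'.lift (c₂ s) ≫ c.π.app i₀ := fun s => by
    refine Eq.trans ?_ (hc'.fac (c₂ s) top).symm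
    simp [c₂, top, pullback.condition]
  let hcE : IsLimit cE :=
    { lift := fun s => sX.lift _ _ (hcond s)
      fac := fun s o => pullback.hom_ext (by simp [cE, hfst s o top]) (by
        simp only [cE, Category.assoc, pullback.lift_snd]
        rw [IsPullback.lift_snd_assoc]
        exact hc'.fac (c₂ s) o)
      uniq := fun s l hl => sX.hom_ext (by simp [← hl top, cE])
        (hc'.hom_ext fun o => by
          refine Eq.trans ?_ ((congrArg (· ≫ c.π.app o.left) (sX.lift_snd _ _ (hcond s))).trans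
            (hc'.fac (c₂ s) o)).symm
          simp [c₂, ← hl o, cE]) }
  exact ⟨E, cE, hcE, Iso.refl _, fun o => pullback.fst g₀ (D.map o.hom), fun o => pullback.snd g₀ (D.map o.hom),
    fun o => IsPullback.of_hasPullback _ _, sqm⟩

/-- A space over a stage whose base change to the limit is affine is affine at some stage. -/
theorem exists_affine_pullback_stage [QuasiSeparatedSpace ↥S] {I : Type u} [SmallCategory I] [IsCofiltered I]
    (D : I ⥤ Sp S) (hD : ∀ i, IsAlgSpace (D.obj i)) (hDa : ∀ (i j : I) (φ : i ⟶ j), IsAffineMor (D.map φ))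
    (c : Cone D) (hc : IsLimit c) {i₀ : I} {U : Sp S} (hU : IsAlgSpace U) (hUqc : IsQuasiCompactSp U)
    (hUqs : IsQuasiSeparatedSp U) (g₀ : U ⟶ D.obj i₀) {X : Sp S} {pX : X ⟶ U} {qX : X ⟶ c.pt}
    (sX : IsPullback pX qX g₀ (c.π.app i₀)) {T : Over S} (hT : IsAffine T.left) (e : (yon S).obj T ≅ X) :
    ∃ (i : I) (φ : i ⟶ i₀) (T' : Over S) (a : (yon S).obj T' ⟶ U) (b : (yon S).obj T' ⟶ D.obj i),
      IsAffine T'.left ∧ IsPullback a b g₀ (D.map φ) := by
  obtain ⟨E, cE, hcE, eE, u, q, squ, sqm⟩ := exists_pullback_system D c hc g₀ sX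
  have hfa : ∀ o : Over i₀, RepWith @IsAffineHom (u o) := fun o =>
    repWith_of_isPullback (squ o).flip (repWith_isAffineHom_of_isAffineMor (hDa _ _ o.hom))
  obtain ⟨o, T', hT', ⟨e'⟩⟩ := exists_isAffine_stage E
    (fun o => isAlgSpace_of_isPullback (squ o) hU (hD o.left) (hD i₀))
    (fun o o' φ => isAffineMor_of_isPullback (sqm φ) (hDa _ _ φ.left))
    (fun o => isQuasiCompactSp_of_affine hU _ (hfa o) hUqc)
    (fun o => isQuasiSeparatedSp_of_affine _ (hfa o) hUqs) cE hcE T hT (e ≪≫ eE.symm)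
  exact ⟨o.left, o.hom, T', e'.hom ≫ u o, e'.hom ≫ q o, hT', (squ o).of_iso e'.symm (Iso.refl _) (Iso.refl _)
    (Iso.refl _) (by simp) (by simp) (by simp) (by simp)⟩

/-- Opens of a stage covering the limit cover a later stage. -/
theorem exists_stage_covered {I : Type u} [SmallCategory I] [IsCofiltered I] (D : I ⥤ Sp S)
    (hDa : ∀ (i j : I) (φ : i ⟶ j), IsAffineMor (D.map φ)) (c : Cone D) (hc : IsLimit c) {i₁ : I}
    (hqc : IsQuasiCompactSp (D.obj i₁)) {O : Set (Points (D.obj i₁))} (hO : IsOpen O)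
    (hcov : ∀ x : Points c.pt, Points.map (c.π.app i₁) x ∈ O) :
    ∃ (i : I) (φ : i ⟶ i₁), ∀ y : Points (D.obj i), Points.map (D.map φ) y ∈ O := by
  obtain ⟨U, a, hU, ha, has⟩ := exists_affine_atlas hqc
  have : IsAffine U.left := hU
  obtain ⟨W, cW, hcW, p, fst, aW, bW, haw, sqW, hwb, hA, hWA, sqj, hfst, hp⟩ :=
    exists_limit_square'' D hDa c hc i₁ a
  by_contra H
  push Not at H
  let K : ∀ j, Set ↥(W.obj j).left := fun j => (fun w => Points.ofPt a ((bW j).left w)) ⁻¹' Oᶜ
  have hKc : ∀ j, IsClosed (K j) := fun j =>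
    hO.isClosed_compl.preimage ((Points.continuous_ofPt a).comp (bW j).left.continuous)
  have hKne : ∀ j, (K j).Nonempty := fun j => by
    obtain ⟨y, hy⟩ := H j.left j.hom
    obtain ⟨u', hu'⟩ := surjective_ofPt has (Points.map (D.map j.hom) y)
    obtain ⟨w, -, hw⟩ := exists_point_of_isPullback (sqj j) (x := y) (y := Points.ofScheme U u')
      (hu'.symm.trans (Points.ofPt_eq_map_ofScheme _ _))
    obtain ⟨w, rfl⟩ := (Points.schemeHomeo _).surjective w
    refine ⟨w, ?_⟩
    rw [Points.map_yon_map_apply] at hw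
    have : (bW j).left w = u' := (Points.schemeHomeo U).injective hw
    show Points.ofPt a ((bW j).left w) ∈ Oᶜ
    rw [this, hu']
    exact hy
  have := IsCofiltered.isConnected (Over i₁)
  have : ∀ j, IsAffine ((W ⋙ Over.forget S).obj j) := hWA
  have : ∀ {j k} (f : j ⟶ k), IsAffineHom ((W ⋙ Over.forget S).map f) := fun f => inferInstance
  obtain ⟨z, hz⟩ := exists_mem_of_isClosed_of_nonempty (W ⋙ Over.forget S) ((Over.forget S).mapCone cW)
    (isLimitOfPreserves (Over.forget S) hcW) K hKc hKne (fun j => (hKc j).isCompact) (fun {j k} f w hw => by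
      show Points.ofPt a ((bW k).left ((W.map f).left w)) ∈ Oᶜ
      rw [← Scheme.Hom.comp_apply, ← Over.comp_left, hwb]
      exact hw)
  let j₀ : Over i₁ := Over.mk (𝟙 i₁)
  refine hz j₀ ?_
  show Points.ofPt a ((bW j₀).left ((cW.π.app j₀).left z)) ∈ O
  have e : Points.ofPt a (p.left z) = Points.map (c.π.app i₁) (Points.ofPt fst z) := by
    rw [Points.map_ofPt, sqW.w, ofPt_comp]
  rw [← Scheme.Hom.comp_apply, ← Over.comp_left, ← hp j₀]
  exact Set.mem_of_eq_of_mem e (hcov _)

theorem exists_isRepresentable_stage [QuasiSeparatedSpace ↥S] {I : Type u} [SmallCategory I] [IsCofiltered I]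
    (D : I ⥤ Sp S) (hD : ∀ i, IsAlgSpace (D.obj i)) (hDa : ∀ (i j : I) (φ : i ⟶ j), IsAffineMor (D.map φ))
    (hqc : ∀ i, IsQuasiCompactSp (D.obj i)) (hqs : ∀ i, IsQuasiSeparatedSp (D.obj i)) (c : Cone D) (hc : IsLimit c)
    {T : Over S} (e : (yon S).obj T ≅ c.pt) : ∃ i, (D.obj i).obj.IsRepresentable := by
  classical
  obtain ⟨i₁⟩ := IsCofiltered.nonempty (C := I)
  have hπa : ∀ i, RepWith @IsAffineHom (c.π.app i) := fun i =>
    repWith_isAffineHom_of_isAffineMor (isAffineMor_limit_proj D hDa c hc i)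
  have hcqc : IsQuasiCompactSp c.pt := isQuasiCompactSp_of_affine (hD i₁) _ (hπa i₁) (hqc i₁)
  have : CompactSpace ↥T.left := (isQuasiCompactSp_yon_iff T).1
    (isQuasiCompactSp_of_affine (isAlgSpace_limit D hD hDa c hc) e.hom (repWith_of_isIso _ _) hcqc)
  obtain ⟨s, hs⟩ := isCompact_univ.elim_finite_subcover (fun V : T.left.affineOpens => (V.1 : Set ↥T.left))
    (fun V => V.1.2) (fun x _ => by
      obtain ⟨V, hV, hxV, -⟩ := exists_isAffineOpen_mem_and_subset (U := (⊤ : T.left.Opens)) (x := x) trivial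
      exact Set.mem_iUnion.2 ⟨⟨V, hV⟩, hxV⟩)
  -- descend each affine open to an affine open of a stage
  have hdesc : ∀ V : T.left.affineOpens, ∃ (i : I) (R : Over S) (j : (yon S).obj R ⟶ D.obj i),
      IsAffine R.left ∧ RepWith @IsOpenImmersion j ∧
      ∀ v ∈ V.1, Points.map (c.π.app i) (Points.ofPt e.hom v) ∈ Set.range (Points.ofPt j) := fun V => by
    have hVA : IsAffine V.1.toScheme := V.2
    let TV : Over S := Over.mk (V.1.ι ≫ T.hom)
    let ι : TV ⟶ T := CategoryTheory.Over.homMk V.1.ι rfl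
    have hj : RepWith @IsOpenImmersion ((yon S).map ι ≫ e.hom) :=
      repWith_comp ((repWith_yon_map_iff _ _).2 (inferInstanceAs (IsOpenImmersion V.1.ι))) (repWith_of_isIso _ _)
    have : IsAffine TV.left := hVA
    obtain ⟨i, Ui, ji, q, hji, hUqc, sq⟩ := exists_quasiCompact_open_descends D hD hDa hqs c hc i₁ (hqc i₁)
      ((yon S).map ι ≫ e.hom) hj ((isQuasiCompactSp_yon_iff _).2 inferInstance)
    have hUA : IsAlgSpace Ui := isAlgSpace_of_representable (hD i) ji hji.rep
    have hUqs : IsQuasiSeparatedSp Ui := by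
      have := mono_of_openImm hji
      rw [isQuasiSeparatedSp_iff_mor, (isTerminalYon S).hom_ext ((isTerminalYon S).from Ui)
        (ji ≫ (isTerminalYon S).from _)]
      refine isQuasiSeparatedMor_comp ?_ ((isQuasiSeparatedSp_iff_mor _).1 (hqs i))
      exact repWith_of_isIso _ _
    obtain ⟨i', φ, R, ra, rb, hR, sR⟩ := exists_affine_pullback_stage D hD hDa c hc hUA hUqc hUqs ji sq.flip hVA
      (Iso.refl _)
    refine ⟨i', R, rb, hR, repWith_of_isPullback sR hji, fun v hv => ?_⟩
    have h1 : Points.map (D.map φ) (Points.map (c.π.app i') (Points.ofPt e.hom v)) =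
        Points.map ji (Points.map q (Points.ofScheme TV ⟨v, hv⟩)) := by
      rw [← Points.map_comp, ← Points.map_comp, c.w, ← sq.w, Points.map_comp, Points.map_comp,
        map_map_ofScheme]
      rfl
    obtain ⟨w, -, hw⟩ := exists_point_of_isPullback sR h1.symm
    obtain ⟨w, rfl⟩ := (Points.schemeHomeo _).surjective w
    exact ⟨w, (Points.ofPt_eq_map_ofScheme _ _).trans hw⟩
  choose ii RR jj hRR hjj hmem using hdesc
  obtain ⟨l, hl⟩ := IsCofiltered.inf_objs_exists (insert i₁ (s.image ii))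
  have f : ∀ V : ↥s, l ⟶ ii V.1 := fun V =>
    (hl (Finset.mem_insert_of_mem (Finset.mem_image_of_mem ii V.2))).some
  have hcR : ∀ V : ↥s, ∃ (R : Over S) (j : (yon S).obj R ⟶ D.obj l) (a : (yon S).obj R ⟶ (yon S).obj (RR V.1)),
      IsPullback a j (jj V.1) (D.map (f V)) := fun V => by
    obtain ⟨R, r, fr, sr, -⟩ := hDa _ _ (f V) (Z := RR V.1) (hRR V.1) (jj V.1)
    exact ⟨R, fr, (yon S).map r, sr.flip⟩
  choose R j aR sR using hcR
  have hjo : ∀ V, RepWith @IsOpenImmersion (j V) := fun V => repWith_of_isPullback (sR V) (hjj V.1)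
  let O : Set (Points (D.obj l)) := ⋃ V, Set.range (Points.map (j V))
  have hO : IsOpen O := isOpen_iUnion fun V => isOpen_range_openImm (hD l) (hjo V)
  have hcov : ∀ x : Points c.pt, Points.map (c.π.app l) x ∈ O := fun x => by
    obtain ⟨t, ht⟩ := surjective_ofPt (repWith_of_isIso @Surjective e.hom) x
    obtain ⟨V, hV, htV⟩ := Set.mem_iUnion₂.1 (hs (Set.mem_univ t))
    obtain ⟨w, hw⟩ := hmem V t htV
    have h1 : Points.map (jj V) (Points.ofScheme _ w) = Points.map (D.map (f ⟨V, hV⟩)) (Points.map (c.π.app l) x) := by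
      rw [← Points.map_comp, c.w, ← ht, ← hw]
      exact (Points.ofPt_eq_map_ofScheme _ _).symm
    obtain ⟨z, -, hz⟩ := exists_point_of_isPullback (sR ⟨V, hV⟩) h1
    exact Set.mem_iUnion.2 ⟨⟨V, hV⟩, z, hz⟩
  obtain ⟨m, φ, hφ⟩ := exists_stage_covered D hDa c hc (hqc l) hO hcov
  have hcM : ∀ V : ↥s, ∃ (M : Over S) (k : (yon S).obj M ⟶ D.obj m) (b : (yon S).obj M ⟶ (yon S).obj (R V)),
      IsPullback b k (j V) (D.map φ) := fun V => by
    have sq := (representable_of_isAffineMor (hDa _ _ φ)).isPullback (j V)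
    exact ⟨_, _, _, sq.flip⟩
  choose M k b sM using hcM
  obtain ⟨Q, ⟨eQ⟩, -⟩ := exists_iso_of_open_cover M k (fun V => repWith_of_isPullback (sM V) (hjo V)) (fun y => by
    obtain ⟨V, z, hz⟩ := Set.mem_iUnion.1 (hφ y)
    obtain ⟨w, -, hw⟩ := exists_point_of_isPullback (sM V) hz
    obtain ⟨w, rfl⟩ := (Points.schemeHomeo _).surjective w
    exact ⟨V, w, (Points.ofPt_eq_map_ofScheme _ _).trans hw⟩)
  exact ⟨m, isRepresentable_of_iso eQ⟩

end Groth.Agent.AlgSpDec
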