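import Groth.Agent.AlgSpDec.ClosedSub
import Groth.Agent.AlgSpDec.OneFlat
import Groth.Agent.H23.RedSub
import Groth.Prelude.Def_AlgSpSub

/-!
# Reduced induced closed subspaces
-/

set_option backward.isDefEq.respectTransparency false
set_option backward.isDefEq.respectTransparency.types false

universe u

open CategoryTheory Limits Opposite AlgebraicGeometry AlgSp Groth.Agent.AlgSpLib Groth.Agent.AlgSpPts

namespace Groth.Agent.AlgSpDec

/-- A morphism from a reduced scheme factors through a closed immersion containing its image. -/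
theorem exists_factor_closed {Z U Y : Scheme.{u}} (i : Z ⟶ U) [IsClosedImmersion i] (g : Y ⟶ U)
    [IsReduced Y] (h : Set.range g ⊆ Set.range i) : ∃ l, l ≫ i = g := by
  have hg : g.ker = (⊥ : Y.IdealSheafData).map g := (Scheme.IdealSheafData.map_bot g).symm
  have h2 : i.ker ≤ g.ker := by
    rw [hg, ← Y.nilradical_eq_bot, ← Scheme.IdealSheafData.vanishingIdeal_top,
      Scheme.IdealSheafData.map_vanishingIdeal, ← Scheme.IdealSheafData.le_support_iff_le_vanishingIdeal,
      TopologicalSpace.Closeds.closure_le]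
    rintro _ ⟨y, -, rfl⟩
    exact Scheme.Hom.range_subset_ker_support i (h ⟨y, rfl⟩)
  exact ⟨IsClosedImmersion.lift i g h2, IsClosedImmersion.lift_fac i g h2⟩

variable {S : Scheme.{u}} {X : Sp S}

/-- Reduced induced closed subspaces exist. -/
theorem exists_reduced_induced (hX : IsAlgSpace X) {T : Set (Points X)} (hT : IsClosed T) :
    ∃ (Z : Space S) (j : Z.obj ⟶ X), IsRedInduced T j := by
  obtain ⟨U, a, ha, has⟩ := hX.atlas
  let C : TopologicalSpace.Closeds ↥U.left := ⟨Points.ofPt a ⁻¹' T, hT.preimage (Points.continuous_ofPt a)⟩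
  let I := Scheme.IdealSheafData.vanishingIdeal C
  let ZU : Over S := Over.mk (I.subschemeι ≫ U.hom)
  let i : ZU ⟶ U := CategoryTheory.Over.homMk I.subschemeι rfl
  have : IsClosedImmersion i.left := inferInstanceAs (IsClosedImmersion I.subschemeι)
  have hr : IsReduced ZU.left := inferInstanceAs (IsReduced (Scheme.IdealSheafData.vanishingIdeal C).subscheme)
  have hi : Set.range i.left = Points.ofPt a ⁻¹' T := H23.RedSub.range_vanishingIdeal C
  have hcompat : ∀ (T' : Over S) (x y : T' ⟶ U), (yon S).map x ≫ a = (yon S).map y ≫ a →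
      (∃ l, l ≫ i = x) → ∃ l, l ≫ i = y := by
    rintro T' x y h ⟨l, rfl⟩
    let R := ha.rep.pullback a
    let s := ha.rep.snd a
    let t := ha.rep.fst' a
    have : Etale s.left := ha.property_snd a
    have sqR : IsPullback ((yon S).map t) ((yon S).map s) a a := ha.rep.isPullback' a
    obtain ⟨r, hr₁, hr₂⟩ : ∃ r : T' ⟶ R, r ≫ t = y ∧ r ≫ s = l ≫ i := by
      refine ⟨(yon S).preimage (sqR.lift ((yon S).map y) ((yon S).map (l ≫ i)) h.symm), ?_, ?_⟩ <;>
        apply (yon S).map_injective <;> simp
    have : Etale (pullback.fst i.left s.left) := MorphismProperty.pullback_fst _ _ ‹Etale s.left›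
    have : IsReduced (pullback i.left s.left) := isReduced_of_etaleMor (pullback.fst i.left s.left)
    obtain ⟨L, hL⟩ := exists_factor_closed i.left (pullback.snd i.left s.left ≫ t.left) (by
      rintro _ ⟨z, rfl⟩
      rw [hi]
      change Points.ofPt a (t.left (pullback.snd i.left s.left z)) ∈ T
      have e : Points.ofPt a (t.left (pullback.snd i.left s.left z)) =
          Points.ofPt a (i.left (pullback.fst i.left s.left z)) := by
        rw [← Scheme.Hom.comp_apply (pullback.fst i.left s.left) i.left, pullback.condition, Scheme.Hom.comp_apply,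
          ← ofPt_comp, ← ofPt_comp, sqR.w]
      rw [e]
      exact (hi.subset (Set.mem_range_self _) :))
    refine ⟨CategoryTheory.Over.homMk (pullback.lift l.left r.left (by rw [← Over.comp_left, ← hr₂]; rfl) ≫ L) ?_,
      ?_⟩
    · rw [← Over.w i, ← Category.assoc, Category.assoc _ L, hL, pullback.lift_snd_assoc, ← Over.comp_left, hr₁,
        Over.w y]
    · refine Over.OverMorphism.ext ?_
      change (pullback.lift _ _ _ ≫ L) ≫ i.left = y.left
      rw [Category.assoc, hL, pullback.lift_snd_assoc, ← Over.comp_left, hr₁]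
  obtain ⟨Z, j, q, hj, sq, hqe, hqs⟩ := exists_closed_subspace hX ha has hcompat
  refine ⟨Z, j, hj, Set.Subset.antisymm ?_ fun z hz => ?_, ⟨ZU, q, hqe, hqs, hr⟩⟩
  · rintro _ ⟨z, rfl⟩
    obtain ⟨v, rfl⟩ := surjective_map_of_repWith hqs z
    obtain ⟨w, rfl⟩ := (Points.schemeHomeo ZU).surjective v
    rw [← Points.map_comp, sq.w, Points.map_comp]
    refine (congrArg (fun p => Points.map a p ∈ T) (Points.map_yon_map_apply i w)).mpr ?_
    exact Points.ofPt_eq_map_ofScheme a _ ▸ (hi.subset (Set.mem_range_self w) :)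
  · obtain ⟨v, rfl⟩ := surjective_map_of_repWith has z
    obtain ⟨u, rfl⟩ := (Points.schemeHomeo U).surjective v
    obtain ⟨w, hw⟩ : u ∈ Set.range i.left := hi.symm.subset (by
      change Points.ofPt a u ∈ T
      rwa [Points.ofPt_eq_map_ofScheme])
    refine ⟨Points.map q (Points.ofScheme ZU w), ?_⟩
    rw [← Points.map_comp, sq.w, Points.map_comp]
    exact congrArg (Points.map a) ((Points.map_yon_map_apply i w).trans (congrArg _ hw))

end Groth.Agent.AlgSpDec
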