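import Mathlib.AlgebraicGeometry.ZariskisMainTheorem
import Mathlib.AlgebraicGeometry.Noetherian
import Mathlib.AlgebraicGeometry.PullbackCarrier
import Groth.Agent.AlgSpLib.EtLocalInst

/-!
# Separated etale schemes with finite fibres over a noetherian scheme are quasi-compact
-/

set_option backward.isDefEq.respectTransparency false
set_option backward.isDefEq.respectTransparency.types false

open CategoryTheory Limits AlgebraicGeometry TopologicalSpace Topology

namespace Groth.Agent.AlgSpDec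

universe u

theorem isMaximal_of_isIntegral_field {K A : Type u} [Field K] [CommRing A] [Algebra K A]
    [Algebra.IsIntegral K A] (P : Ideal A) [P.IsPrime] : P.IsMaximal := by
  refine Ideal.isMaximal_of_isIntegral_of_isMaximal_comap (R := K) P ?_
  rw [(Ideal.eq_bot_or_top _).resolve_right (Ideal.IsPrime.comap (algebraMap K A)).ne_top]
  exact Ideal.bot_isMaximal

theorem eq_of_specializes_of_isIntegralHom {Y T : Scheme.{u}} (g : Y ⟶ T) [IsIntegralHom g] {y y' : ↥Y}
    (h : y ⤳ y') (he : g y = g y') : y = y' := by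
  let F := g.fiber (g y')
  let K : Type u := ↥(T.residueField (g y'))
  let q : F ⟶ Spec (CommRingCat.of K) := g.fiberToSpecResidueField (g y')
  have : IsIntegralHom q := MorphismProperty.pullback_snd _ _ ‹_›
  have : IsAffine F := isAffine_of_isAffineHom q
  have hT : T1Space ↥F := by
    suffices T1Space ↥(Spec Γ(F, ⊤)) from F.isoSpec.hom.homeomorph.symm.t1Space
    let φ : CommRingCat.of K ⟶ Γ(F, ⊤) := Spec.preimage (F.isoSpec.inv ≫ q)
    have : IsIntegralHom (Spec.map φ) := by rw [Spec.map_preimage]; infer_instance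
    let _ := φ.hom.toAlgebra
    have : Algebra.IsIntegral K Γ(F, ⊤) := ⟨IsIntegralHom.SpecMap_iff.1 this⟩
    refine ⟨fun p => ?_⟩
    exact (PrimeSpectrum.isClosed_singleton_iff_isMaximal p).2 (isMaximal_of_isIntegral_field (K := K) p.asIdeal)
  let e := g.fiberHomeo (g y')
  have h1 : (⟨y, he⟩ : ↥(g ⁻¹' {g y'})) ⤳ ⟨y', rfl⟩ := (subtype_specializes_iff _ _).2 h
  have h2 := (h1.map e.symm.continuous).eq
  exact congrArg Subtype.val (e.symm.injective h2)

/-- A separated quasi-compact etale morphism is an open immersion followed by an integral morphism. -/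
theorem exists_open_immersion_integral {V T : Scheme.{u}} (f : V ⟶ T) [Etale f] [IsSeparated f] [QuasiCompact f] :
    ∃ (Y : Scheme.{u}) (j : V ⟶ Y) (g : Y ⟶ T), IsOpenImmersion j ∧ IsIntegralHom g ∧ j ≫ g = f := by
  have : LocallyQuasiFinite f := AlgSpLib.locallyQuasiFinite_of_formallyUnramified f
  exact ⟨_, f.toNormalization, f.fromNormalization, inferInstance, inferInstance, f.toNormalization_fromNormalization⟩

variable {W T : Scheme.{u}} (f : W ⟶ T) [Etale f] [IsSeparated f]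

theorem exists_dense_open_subset_compact [QuasiSeparatedSpace ↥T] (hfin : ∀ t, (f ⁻¹' {t}).Finite) {T₀ : Set ↥T}
    (hc : IsClosed T₀) (hirr : IsIrreducible T₀) :
    ∃ (W' : W.Opens) (D : T.Opens), IsCompact (W' : Set ↥W) ∧ ((D : Set ↥T) ∩ T₀).Nonempty ∧
      f ⁻¹' (T₀ ∩ D) ⊆ W' := by
  obtain ⟨η, hη⟩ := QuasiSober.sober hirr hc
  obtain ⟨W', hW'c, hW'⟩ : ∃ W' : W.Opens, IsCompact (W' : Set ↥W) ∧ f ⁻¹' {η} ⊆ W' := by
    choose A hA hxA _ using fun x : ↥W =>
      exists_isAffineOpen_mem_and_subset (U := (⊤ : W.Opens)) (x := x) trivial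
    refine ⟨⨆ x ∈ (hfin η).toFinset, A x, ?_, fun x hx => ?_⟩
    · simp only [Opens.coe_iSup]
      exact (hfin η).toFinset.isCompact_biUnion fun x _ => (hA x).isCompact
    · simp only [SetLike.mem_coe, Opens.mem_iSup]
      exact ⟨x, (hfin η).mem_toFinset.2 hx, hxA x⟩
  have : CompactSpace ↥W'.toScheme := isCompact_iff_compactSpace.1 hW'c
  let f' := W'.ι ≫ f
  have : QuasiCompact f' := (quasiCompact_iff _).2 fun A hA hA' => by
    have h2 := QuasiCompact.isCompact_preimage (f := f') A hA hA'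
    exact h2
  obtain ⟨Y, j, g, hj, hg, hjg⟩ := exists_open_immersion_integral f'
  let F : Set ↥W' := f' ⁻¹' {η}
  have hFfin : F.Finite := ((hfin η).preimage (f := ⇑W'.ι) W'.ι.injective.injOn : (⇑W'.ι ⁻¹' (f ⁻¹' {η})).Finite)
  let Y₀ : Set ↥Y := closure (j '' F)
  have hgen : ∀ w : ↥W', f' w ∈ T₀ → j w ∈ Y₀ := fun w hw => by
    obtain ⟨w₁, hw₁, he⟩ := Flat.generalizingMap f' (hη.specializes hw)
    exact (hw₁.map j.continuous).mem_closed isClosed_closure (subset_closure ⟨w₁, he, rfl⟩)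
  have hfibre : ∀ y ∈ Y₀, g y = η → y ∈ j '' F := fun y hy hgy => by
    have : Y₀ = ⋃ z ∈ j '' F, closure {z} := by
      simp only [Y₀]
      rw [← (hFfin.image j).closure_biUnion, Set.biUnion_of_singleton]
    rw [this] at hy
    obtain ⟨z, hz, hyz⟩ := Set.mem_iUnion₂.1 hy
    obtain ⟨w, hw, rfl⟩ := hz
    refine ⟨w, hw, eq_of_specializes_of_isIntegralHom g (specializes_iff_mem_closure.2 hyz) ?_⟩
    rw [hgy, ← Scheme.Hom.comp_apply, hjg]
    exact hw
  let bd : Set ↥Y := Y₀ \ Set.range j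
  have hbd : IsClosed (g '' bd) := g.isClosedMap _ (isClosed_closure.sdiff j.isOpenEmbedding.isOpen_range)
  have hηbd : η ∉ g '' bd := by
    rintro ⟨y, ⟨hy, hyj⟩, hgy⟩
    obtain ⟨w, -, rfl⟩ := hfibre y hy hgy
    exact hyj ⟨w, rfl⟩
  let D : T.Opens := ⟨(g '' bd)ᶜ, hbd.isOpen_compl⟩
  refine ⟨W', D, hW'c, ⟨η, hηbd, hη.mem⟩, ?_⟩
  -- a scheme with range `T₀ ∩ D`
  let ι₀ := (Scheme.IdealSheafData.vanishingIdeal ⟨T₀, hc⟩).subschemeι
  let Z := (ι₀ ⁻¹ᵁ D).toScheme
  let k : Z ⟶ T := (ι₀ ⁻¹ᵁ D).ι ≫ ι₀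
  have hk : Set.range k = T₀ ∩ D := by
    ext t
    constructor
    · rintro ⟨z, rfl⟩
      refine ⟨?_, z.2⟩
      have : Set.range ι₀ = T₀ := by
        simp [ι₀, Scheme.IdealSheafData.range_subschemeι]
      exact this ▸ ⟨_, rfl⟩
    · rintro ⟨ht₀, htD⟩
      obtain ⟨z, rfl⟩ : t ∈ Set.range ι₀ := by
        simp [ι₀, Scheme.IdealSheafData.range_subschemeι, ht₀]
      exact ⟨⟨z, htD⟩, rfl⟩
  let jZ : pullback f' k ⟶ pullback g k :=
    pullback.lift (pullback.fst f' k ≫ j) (pullback.snd f' k) (by rw [Category.assoc, hjg, pullback.condition])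
  have hsq : IsPullback jZ (pullback.fst f' k) (pullback.fst g k) j := by
    refine IsPullback.of_right ?_ (pullback.lift_fst _ _ _) (IsPullback.of_hasPullback g k).flip
    rw [pullback.lift_snd, hjg]
    exact (IsPullback.of_hasPullback f' k).flip
  have : IsOpenImmersion jZ := MorphismProperty.of_isPullback hsq.flip hj
  have hrange : Set.range jZ = (pullback.fst g k) ⁻¹' Y₀ := by
    ext z
    constructor
    · rintro ⟨v, rfl⟩
      rw [Set.mem_preimage, ← Scheme.Hom.comp_apply, pullback.lift_fst, Scheme.Hom.comp_apply]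
      refine hgen _ ?_
      have : f' (pullback.fst f' k v) ∈ Set.range k := by
        rw [← Scheme.Hom.comp_apply, pullback.condition, Scheme.Hom.comp_apply]; exact ⟨_, rfl⟩
      exact (hk ▸ this).1
    · intro hz
      obtain ⟨w, hw⟩ : pullback.fst g k z ∈ Set.range j := by
        by_contra hcon
        have : g (pullback.fst g k z) ∈ Set.range k := by
          rw [← Scheme.Hom.comp_apply, pullback.condition, Scheme.Hom.comp_apply]; exact ⟨_, rfl⟩
        exact (hk ▸ this).2 ⟨_, ⟨hz, hcon⟩, rfl⟩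
      obtain ⟨v, hv, -⟩ := Scheme.exists_preimage_of_isPullback hsq z w hw.symm
      exact ⟨v, hv⟩
  have : IsClosedImmersion jZ := .of_isPreimmersion _ (hrange ▸ isClosed_closure.preimage (pullback.fst g k).continuous)
  have : IsIntegralHom (pullback.snd g k) := MorphismProperty.pullback_snd _ _ hg
  let l : pullback f' k ⟶ pullback f k :=
    pullback.lift (pullback.fst f' k ≫ W'.ι) (pullback.snd f' k) (by rw [Category.assoc]; exact pullback.condition)
  have hint : IsIntegralHom (l ≫ pullback.snd f k) := by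
    rw [pullback.lift_snd, ← pullback.lift_snd (f := g) (g := k) (pullback.fst f' k ≫ j) (pullback.snd f' k)
      (by rw [Category.assoc, hjg, pullback.condition])]
    infer_instance
  have : IsSeparated (pullback.snd f k) := MorphismProperty.pullback_snd _ _ ‹IsSeparated f›
  have : IsIntegralHom l := MorphismProperty.of_postcomp (W := @IsIntegralHom) (W' := @IsSeparated) l
    (pullback.snd f k) inferInstance hint
  intro w hw
  obtain ⟨z, hz⟩ := (hk.ge hw : f w ∈ Set.range k)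
  obtain ⟨v, hv, -⟩ := Scheme.Pullback.exists_preimage_pullback (f := f) (g := k) w z hz.symm
  obtain ⟨w₁, hw₁, he₁⟩ := Flat.generalizingMap f (hη.specializes hw.1)
  obtain ⟨z₁, hz₁⟩ : η ∈ Set.range k := hk.ge ⟨hη.mem, hηbd⟩
  have : Flat (pullback.snd f k) := MorphismProperty.pullback_snd _ _ (inferInstance : Flat f)
  have hzz : z₁ ⤳ pullback.snd f k v := by
    have hvz : k (pullback.snd f k v) = f w := by
      rw [← Scheme.Hom.comp_apply, ← pullback.condition, Scheme.Hom.comp_apply, hv]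
    rw [← k.isEmbedding.specializes_iff, hz₁, hvz]
    exact hη.specializes hw.1
  obtain ⟨v₁, hv₁, hev⟩ := Flat.generalizingMap (pullback.snd f k) hzz
  have hv₁W : pullback.fst f k v₁ ∈ W' := hW' (show f (pullback.fst f k v₁) = η by
    rw [← Scheme.Hom.comp_apply, pullback.condition, Scheme.Hom.comp_apply, hev, hz₁])
  obtain ⟨v₁', hv₁', -⟩ : ∃ v' : ↥(pullback f' k), l v' = v₁ ∧ True := by
    have hl : IsPullback l (pullback.fst f' k) (pullback.fst f k) W'.ι := by
      refine IsPullback.of_right ?_ (pullback.lift_fst _ _ _) (IsPullback.of_hasPullback f k).flip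
      rw [pullback.lift_snd]
      exact (IsPullback.of_hasPullback f' k).flip
    obtain ⟨v', hv', -⟩ := Scheme.exists_preimage_of_isPullback hl v₁ ⟨_, hv₁W⟩ rfl
    exact ⟨v', hv', trivial⟩
  obtain ⟨v', hv'⟩ : v ∈ Set.range l :=
    hv₁.mem_closed l.isClosedMap.isClosed_range ⟨v₁', hv₁'⟩
  rw [← hv, ← hv', ← Scheme.Hom.comp_apply, pullback.lift_fst, Scheme.Hom.comp_apply]
  exact (pullback.fst f' k v').2

theorem compactSpace_of_etale_finite_fibres [IsNoetherian T] (hfin : ∀ t, (f ⁻¹' {t}).Finite) :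
    CompactSpace ↥W := by
  suffices ∀ T₀ : Closeds ↥T, IsCompact (f ⁻¹' (T₀ : Set ↥T)) from
    ⟨by simpa using this ⊤⟩
  intro T₀
  induction T₀ using WellFoundedLT.induction with
  | ind T₀ ih =>
    rcases Set.eq_empty_or_nonempty (T₀ : Set ↥T) with h | h
    · simp [h]
    by_cases hirr : IsPreirreducible (T₀ : Set ↥T)
    · obtain ⟨W', D, hW', hD, hsub⟩ := exists_dense_open_subset_compact f hfin T₀.2 ⟨h, hirr⟩
      let T₁ : Closeds ↥T := ⟨(T₀ : Set ↥T) ∩ (D : Set ↥T)ᶜ, T₀.2.inter D.2.isClosed_compl⟩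
      have hlt : T₁ < T₀ := lt_of_le_of_ne (fun x hx => hx.1) fun he => by
        obtain ⟨x, hxD, hx⟩ := hD
        have := he.ge hx
        exact this.2 hxD
      have heq : f ⁻¹' (T₀ : Set ↥T) = ((W' : Set ↥W) ∩ f ⁻¹' (T₀ : Set ↥T)) ∪ f ⁻¹' (T₁ : Set ↥T) := by
        ext w
        refine ⟨fun hw => (Classical.em (f w ∈ D)).imp (fun hD => ⟨hsub ⟨hw, hD⟩, hw⟩) fun hD => ⟨hw, hD⟩, ?_⟩
        rintro (hw | hw)
        · exact hw.2
        · exact hw.1
      rw [heq]
      exact (hW'.inter_right (T₀.2.preimage f.continuous)).union (ih T₁ hlt)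
    · simp only [IsPreirreducible, not_forall] at hirr
      obtain ⟨A, B, hA, hB, hAn, hBn, hAB⟩ := hirr
      let T₁ : Closeds ↥T := ⟨(T₀ : Set ↥T) ∩ Aᶜ, T₀.2.inter hA.isClosed_compl⟩
      let T₂ : Closeds ↥T := ⟨(T₀ : Set ↥T) ∩ Bᶜ, T₀.2.inter hB.isClosed_compl⟩
      have heq : f ⁻¹' (T₀ : Set ↥T) = f ⁻¹' (T₁ : Set ↥T) ∪ f ⁻¹' (T₂ : Set ↥T) := by
        ext w
        refine ⟨fun hw => ?_, ?_⟩
        · by_cases hwA : f w ∈ A
          · exact Or.inr ⟨hw, fun hwB => hAB ⟨f w, hw, hwA, hwB⟩⟩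
          · exact Or.inl ⟨hw, hwA⟩
        · rintro (hw | hw) <;> exact hw.1
      rw [heq]
      refine (ih T₁ (lt_of_le_of_ne (fun x hx => hx.1) fun he => ?_)).union
        (ih T₂ (lt_of_le_of_ne (fun x hx => hx.1) fun he => ?_))
      · obtain ⟨x, hx, hxA⟩ := hAn
        exact (he.ge hx).2 hxA
      · obtain ⟨x, hx, hxB⟩ := hBn
        exact (he.ge hx).2 hxB

end Groth.Agent.AlgSpDec
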