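import Groth.Agent.AlgSpDec.OnePoint
import Groth.Agent.AlgSpDec.EtCompact
import Groth.Agent.AlgSpPts.Diag
import Groth.Prelude.Def_Flat

/-!
# Local dimension, quasi-separatedness of locally noetherian decent spaces, finite fibres
-/

set_option backward.isDefEq.respectTransparency false
set_option backward.isDefEq.respectTransparency.types false

open CategoryTheory Limits Opposite AlgebraicGeometry MorphismProperty AlgSp Groth.Agent.AlgSpLib
  Groth.Agent.AlgSpPts Topology Order

namespace Groth.Agent.AlgSpDec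

universe u

variable {S : Scheme.{u}} {X : Sp S}

section LocalDim

attribute [local instance] specializationOrder

theorem krullDim_open {α : Type*} [TopologicalSpace α] [T0Space α] [QuasiSober α] (V : TopologicalSpace.Opens α) :
    topologicalKrullDim (V : Set α) = ⨆ v : (V : Set α), (coheight (v : α) : WithBot ℕ∞) := by
  have he : IsOpenEmbedding (Subtype.val : ↥(V : Set α) → α) := V.2.isOpenEmbedding_subtypeVal
  have := he.quasiSober
  have := he.isEmbedding.t0Space
  have e : topologicalKrullDim ↥(V : Set α) =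
      @Order.krullDim ↥(V : Set α) (specializationOrder ↥(V : Set α)).toPreorder :=
    @krullDim_eq_of_orderIso _ _ _ (specializationOrder ↥(V : Set α)).toPreorder
      (irreducibleSetEquivPoints (α := ↥(V : Set α)))
  rw [e, @krullDim_eq_iSup_coheight _ (specializationOrder ↥(V : Set α)).toPreorder]
  exact iSup_congr fun v => congrArg _ (IsOpenEmbedding.coheight_eq _ he).symm

theorem localDim_eq (hX : IsDecent X) [T0Space (Points X)] [QuasiSober (Points X)] {U : Over S}
    {a : (yon S).obj U ⟶ X} (ha : RepWith @Etale a) (u : ↥U.left) :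
    FlatMor.localDim ↥U.left u = FlatMor.localDim (Points X) (Points.ofPt a u) := by
  refine le_antisymm (le_iInf fun ⟨W, hW⟩ => ?_) (le_iInf fun ⟨V, hV⟩ => ?_)
  · let V : TopologicalSpace.Opens ↥U.left := ⟨Points.ofPt a ⁻¹' W, W.2.preimage (Points.continuous_ofPt a)⟩
    refine le_trans (iInf_le _ ⟨V, hW⟩) ?_
    rw [krullDim_open, krullDim_open]
    refine iSup_le fun v => ?_
    rw [← coheight_ofPt hX ha]
    exact le_iSup (fun w : (W : Set (Points X)) => (coheight (w : Points X) : WithBot ℕ∞)) ⟨Points.ofPt a v, v.2⟩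
  · let W : TopologicalSpace.Opens (Points X) := ⟨Points.ofPt a '' V, isOpenMap_ofPt ha _ V.2⟩
    refine le_trans (iInf_le _ ⟨W, ⟨u, hV, rfl⟩⟩) ?_
    rw [krullDim_open, krullDim_open]
    refine iSup_le ?_
    rintro ⟨_, v, hv, rfl⟩
    rw [coheight_ofPt hX ha]
    exact le_iSup (fun w : (V : Set ↥U.left) => (coheight (w : ↥U.left) : WithBot ℕ∞)) ⟨v, hv⟩

end LocalDim

theorem mono_prod_lift {U R : Over S} {a b : (yon S).obj U ⟶ X} {t s : R ⟶ U}
    (sq : IsPullback ((yon S).map t) ((yon S).map s) a b) : Mono (prod.lift t s) :=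
  ⟨fun c d h => (yon S).map_injective (sq.hom_ext
    (by simpa [← Functor.map_comp] using congrArg (fun m => (yon S).map (m ≫ prod.fst)) h)
    (by simpa [← Functor.map_comp] using congrArg (fun m => (yon S).map (m ≫ prod.snd)) h))⟩

/-- The fibre product of two charts has finite fibres over the first one. -/
theorem finite_fibre_pullback {U V : Over S}
    {a : (yon S).obj U ⟶ X} {b : (yon S).obj V ⟶ X} (hb : RepWith @Etale b) (K : V.left.Opens)
    (hK : IsCompact (K : Set ↥V.left)) (u : ↥U.left)
    (hq' : RepWith @QuasiCompact (FieldPt.ofPt a u).toHom) :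
    ((hb.rep.snd a).left ⁻¹' {u} ∩ (hb.rep.fst' a).left ⁻¹' K).Finite := by
  let q := FieldPt.ofPt a u
  have hq : RepWith @QuasiCompact q.toHom := hq'
  let φ : q.pt ⟶ U := Over.homMk (U.left.fromSpecResidueField u) rfl
  have hqa : q.toHom = (yon S).map φ ≫ a := FieldPt.toHom_ofPt a u
  have sqV := hb.rep.isPullback' q.toHom
  have : QuasiCompact (hb.rep.fst' q.toHom).left := hq.property _ _ _ sqV.flip
  have : Etale (hb.rep.snd q.toHom).left := hb.property_snd q.toHom
  have hd : DiscreteTopology ↥(hb.rep.pullback q.toHom).left := by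
    have h1 := (hb.rep.snd q.toHom).left.isDiscrete_preimage_singleton (IsLocalRing.closedPoint q.K)
    rw [show (hb.rep.snd q.toHom).left ⁻¹' {IsLocalRing.closedPoint q.K} = Set.univ from
      Set.eq_univ_of_forall fun x => Subsingleton.elim (α := ↥q.pt.left) _ _] at h1
    exact isDiscrete_univ_iff.1 h1
  have hfin : ((hb.rep.fst' q.toHom).left ⁻¹' (K : Set ↥V.left)).Finite :=
    (QuasiCompact.isCompact_preimage (f := (hb.rep.fst' q.toHom).left) _ K.isOpen hK).finite_of_discrete
  obtain ⟨m, hm⟩ := (yon S).map_surjective ((hb.rep.isPullback' a).lift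
    ((yon S).map (hb.rep.fst' q.toHom)) ((yon S).map (hb.rep.snd q.toHom) ≫ (yon S).map φ)
    (by rw [Category.assoc, ← hqa, sqV.w]))
  have hsq : IsPullback ((yon S).map m) ((yon S).map (hb.rep.snd q.toHom))
      ((yon S).map (hb.rep.snd a)) ((yon S).map φ) := by
    refine IsPullback.of_right ?_ (by rw [hm, IsPullback.lift_snd]) (hb.rep.isPullback' a)
    rw [hm, IsPullback.lift_fst, ← hqa]
    exact sqV
  refine (hfin.image m.left).subset fun w hw => ?_
  obtain ⟨v, hv, -⟩ := Scheme.exists_preimage_of_isPullback (isPullback_of_yon hsq) w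
    (IsLocalRing.closedPoint q.K) (by
      change (hb.rep.snd a).left w = U.left.fromSpecResidueField u _
      rw [Scheme.fromSpecResidueField_apply]
      exact hw.1)
  refine ⟨v, ?_, hv⟩
  have h2 : m ≫ hb.rep.fst' a = hb.rep.fst' q.toHom := (yon S).map_injective (by
    rw [Functor.map_comp, hm, IsPullback.lift_fst])
  change (hb.rep.fst' q.toHom).left v ∈ K
  rw [← h2, Over.comp_left, Scheme.Hom.comp_apply, hv]
  exact hw.2

theorem isQuasiSeparatedSp_of_locNoeth (hA : IsAlgSpace X) (hN : IsLocNoethSp X) (hX : IsDecent X) :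
    IsQuasiSeparatedSp X := by
  obtain ⟨U, p, hp, hs⟩ := hA.atlas
  have := isLocallyNoetherian_chart hp hN
  have : MorphismProperty.IsLocalAtTarget (@QuasiCompact : MorphismProperty Scheme.{u}) Scheme.fppfPrecoverage :=
    isLocalAtTarget_fppf _
  refine repWith_diag_of_chart @QuasiCompact hA.diag p hp hs (hp.rep.fst' p) (hp.rep.snd p) (hp.rep.isPullback' p) ?_
  let R := hp.rep.pullback p
  let t : R ⟶ U := hp.rep.fst' p
  let s : R ⟶ U := hp.rep.snd p
  let l := prod.lift t s
  -- the product as a scheme pullback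
  let e := Over.prodLeftIsoPullback U U
  suffices QuasiCompact (l.left ≫ e.hom) by
    exact (MorphismProperty.cancel_right_of_respectsIso @QuasiCompact l.left e.hom).1 this
  have he₁ : (l.left ≫ e.hom) ≫ pullback.fst U.hom U.hom = t.left := by
    rw [Category.assoc, Over.prodLeftIsoPullback_hom_fst, ← Over.comp_left, prod.lift_fst]
  have he₂ : (l.left ≫ e.hom) ≫ pullback.snd U.hom U.hom = s.left := by
    rw [Category.assoc, Over.prodLeftIsoPullback_hom_snd, ← Over.comp_left, prod.lift_snd]
  have hmono : Mono (l.left ≫ e.hom) := by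
    have := mono_prod_lift (hp.rep.isPullback' p)
    have : Mono l.left := inferInstanceAs (Mono ((Over.forget S).map l))
    exact mono_comp _ _
  let m := l.left ≫ e.hom
  have : Etale t.left := hp.property _ _ _ (hp.rep.isPullback' p).flip
  -- affine pieces of the product with quasi-compact preimage
  have key : ∀ z : ↥(pullback U.hom U.hom), ∃ O : (pullback U.hom U.hom).Opens, z ∈ O ∧ IsAffineOpen O ∧
      IsCompact (m ⁻¹' (O : Set ↥(pullback U.hom U.hom))) := by
    intro z
    obtain ⟨S₀, hS₀, hzS, -⟩ := exists_isAffineOpen_mem_and_subset (U := (⊤ : S.Opens))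
      (x := U.hom (pullback.fst U.hom U.hom z)) trivial
    obtain ⟨A, hA', hzA, hAS⟩ := exists_isAffineOpen_mem_and_subset (U := U.hom ⁻¹ᵁ S₀)
      (x := pullback.fst U.hom U.hom z) hzS
    obtain ⟨B, hB', hzB, hBS⟩ := exists_isAffineOpen_mem_and_subset (U := U.hom ⁻¹ᵁ S₀)
      (x := pullback.snd U.hom U.hom z) (by
        change U.hom (pullback.snd U.hom U.hom z) ∈ S₀
        rw [← Scheme.Hom.comp_apply, ← pullback.condition, Scheme.Hom.comp_apply]
        exact hzS)
    have : IsAffine S₀.toScheme := hS₀
    have : IsAffine A.toScheme := hA'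
    have : IsAffine B.toScheme := hB'
    let μ : pullback (U.hom.resLE S₀ A hAS) (U.hom.resLE S₀ B hBS) ⟶ pullback U.hom U.hom :=
      pullback.map _ _ _ _ A.ι B.ι S₀.ι (Scheme.Hom.resLE_comp_ι _ _) (Scheme.Hom.resLE_comp_ι _ _)
    have hμ : Set.range μ = pullback.fst U.hom U.hom ⁻¹' (A : Set ↥U.left) ∩
        pullback.snd U.hom U.hom ⁻¹' (B : Set ↥U.left) := by
      simp only [μ, Scheme.Pullback.range_map, Scheme.Opens.range_ι]
    have : IsOpenImmersion μ := inferInstance
    refine ⟨μ.opensRange, ?_, isAffineOpen_opensRange μ, ?_⟩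
    · change z ∈ Set.range μ
      rw [hμ]
      exact ⟨hzA, hzB⟩
    rw [Scheme.Hom.coe_opensRange, hμ, Set.preimage_inter, ← Set.preimage_comp, ← Set.preimage_comp]
    let R₀ : R.left.Opens := t.left ⁻¹ᵁ A ⊓ s.left ⁻¹ᵁ B
    suffices h : IsCompact (R₀ : Set ↥R.left) by
      convert h using 1
      ext r
      simp only [Set.mem_inter_iff, Set.mem_preimage, Function.comp_apply, ← Scheme.Hom.comp_apply, m, he₁, he₂]
      rfl
    have : IsNoetherian B.toScheme := { }
    let f : R₀.toScheme ⟶ A.toScheme := t.left.resLE A R₀ inf_le_left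
    let g : R₀.toScheme ⟶ B.toScheme := s.left.resLE B R₀ inf_le_right
    have hfg : f ≫ U.hom.resLE S₀ A hAS = g ≫ U.hom.resLE S₀ B hBS := by
      rw [← cancel_mono S₀.ι]
      simp only [f, g, Category.assoc, Scheme.Hom.resLE_comp_ι, Scheme.Hom.resLE_comp_ι_assoc, CategoryTheory.Over.w]
    let n := pullback.lift f g hfg
    have hn : n ≫ μ = R₀.ι ≫ m := by
      apply pullback.hom_ext
      · simp only [n, μ, m, Category.assoc, pullback.map, pullback.lift_fst, pullback.lift_fst_assoc]
        rw [← Category.assoc l.left e.hom, he₁, Scheme.Hom.resLE_comp_ι]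
      · simp only [n, μ, m, Category.assoc, pullback.map, pullback.lift_snd, pullback.lift_snd_assoc]
        rw [← Category.assoc l.left e.hom, he₂, Scheme.Hom.resLE_comp_ι]
    have : Mono n := by
      have : Mono (n ≫ μ) := by rw [hn]; exact mono_comp _ _
      exact mono_of_mono n μ
    have : IsSeparated (n ≫ pullback.snd _ _) := inferInstance
    have : IsSeparated g := by
      have h3 : n ≫ pullback.snd _ _ = g := pullback.lift_snd _ _ _
      rwa [← h3]
    have : Etale s.left := hp.property_snd p
    have : Etale g := by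
      have h4 : Etale (g ≫ B.ι) := by
        rw [Scheme.Hom.resLE_comp_ι]; infer_instance
      exact MorphismProperty.of_postcomp (W := @Etale) (W' := @Etale) g B.ι inferInstance h4
    have hc : CompactSpace ↥R₀.toScheme := by
      refine compactSpace_of_etale_finite_fibres g fun x => ?_
      refine ((finite_fibre_pullback (a := p) hp A hA'.isCompact (B.ι x) (repWith_quasiCompact_toHom hA hX _)).preimage
        R₀.ι.injective.injOn).subset ?_
      intro r hr
      refine ⟨?_, r.2.1⟩
      change s.left (R₀.ι r) = B.ι x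
      rw [← Scheme.Hom.comp_apply, ← Scheme.Hom.resLE_comp_ι (f := s.left) (e := inf_le_right), Scheme.Hom.comp_apply]
      exact congrArg B.ι hr
    exact isCompact_iff_compactSpace.2 hc
  choose O hzO hO hOc using key
  refine (IsZariskiLocalAtTarget.iff_of_iSup_eq_top (P := @QuasiCompact) O
    (top_unique fun z _ => TopologicalSpace.Opens.mem_iSup.2 ⟨z, hzO z⟩)).2 fun z => ?_
  have : IsAffine (O z).toScheme := hO z
  exact HasAffineProperty.iff_of_isAffine.2 (isCompact_iff_compactSpace.1 (hOc z))

end Groth.Agent.AlgSpDec
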