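import Groth.Prelude.Def_Grpd
import Groth.Agent.GrpSchLib.Action

/-!
The groupoid scheme of a group action.
-/

set_option backward.isDefEq.respectTransparency false
set_option backward.isDefEq.respectTransparency.types false

universe u

open CategoryTheory MonoidalCategory CartesianMonoidalCategory MonObj AlgebraicGeometry Groth.Agent.GrpSchLib
open CategoryTheory.Limits (pullback HasPullback)

namespace Groth.Agent.AlgSpDec.ActGroupoid

variable {S : Scheme.{u}} {G X : Over S} [GrpObj G] (a : AlgGrp.Action G X)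

/-- `(g, x) ∘ (h, y) = (g * h, y)` -/
noncomputable def op {T : Over S} (α β : T ⟶ G ⊗ X) : T ⟶ G ⊗ X :=
  lift ((α ≫ fst G X) * (β ≫ fst G X)) (β ≫ snd G X)

/-- `(g, x)⁻¹ = (g⁻¹, g x)` -/
noncomputable def invMor : G ⊗ X ⟶ G ⊗ X := lift (fst G X)⁻¹ a.act

/-- identities -/
noncomputable def idMor (X : Over S) : X ⟶ G ⊗ X := lift 1 (𝟙 X)

variable {T T' : Over S}

lemma op_pre (f : T' ⟶ T) (α β : T ⟶ G ⊗ X) : f ≫ op α β = op (f ≫ α) (f ≫ β) := by
  simp [op, MonObj.comp_mul]

lemma op_snd (α β : T ⟶ G ⊗ X) : op α β ≫ snd G X = β ≫ snd G X := lift_snd _ _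

lemma pt_act (α : T ⟶ G ⊗ X) : α ≫ a.act = lift (α ≫ fst G X) (α ≫ snd G X) ≫ a.act := by
  congr 1
  apply CartesianMonoidalCategory.hom_ext <;> simp

lemma op_act (α β : T ⟶ G ⊗ X) (h : α ≫ snd G X = β ≫ a.act) : op α β ≫ a.act = α ≫ a.act := by
  rw [pt_act a α, h, pt_act a β, act_mul]
  rfl

lemma op_assoc (α β γ : T ⟶ G ⊗ X) : op (op α β) γ = op α (op β γ) := by
  apply CartesianMonoidalCategory.hom_ext
  · simp only [op, lift_fst]
    exact mul_assoc _ _ _
  · simp [op]

lemma idMor_snd : idMor (G := G) X ≫ snd G X = 𝟙 X := lift_snd _ _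

lemma idMor_fst : idMor (G := G) X ≫ fst G X = 1 := lift_fst _ _

lemma idMor_act : idMor (G := G) X ≫ a.act = 𝟙 X := act_one a _

lemma invMor_fst : invMor a ≫ fst G X = (fst G X)⁻¹ := lift_fst _ _

lemma invMor_snd : invMor a ≫ snd G X = a.act := lift_snd _ _

lemma invMor_act : invMor a ≫ a.act = snd G X := by
  rw [pt_act a (invMor a), invMor_fst, invMor_snd]
  have h := act_mul a (fst G X)⁻¹ (fst G X) (snd G X)
  rw [lift_fst_snd, Category.id_comp, inv_mul_cancel, act_one] at h
  exact h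

lemma op_id (α : T ⟶ G ⊗ X) : op α ((α ≫ snd G X) ≫ idMor (G := G) X) = α := by
  apply CartesianMonoidalCategory.hom_ext <;>
    simp [op, idMor, MonObj.comp_one]

lemma id_op (α : T ⟶ G ⊗ X) : op ((α ≫ a.act) ≫ idMor (G := G) X) α = α := by
  apply CartesianMonoidalCategory.hom_ext <;>
    simp [op, idMor, MonObj.comp_one]

lemma op_inv (α : T ⟶ G ⊗ X) : op α (α ≫ invMor a) = (α ≫ a.act) ≫ idMor (G := G) X := by
  apply CartesianMonoidalCategory.hom_ext <;>
    simp [op, idMor, invMor, MonObj.comp_one, GrpObj.comp_inv]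

lemma inv_op (α : T ⟶ G ⊗ X) : op (α ≫ invMor a) α = (α ≫ snd G X) ≫ idMor (G := G) X := by
  apply CartesianMonoidalCategory.hom_ext <;>
    simp [op, idMor, invMor, MonObj.comp_one, GrpObj.comp_inv]

/-- the scheme of composable pairs -/
noncomputable abbrev pairs : Over S :=
  Over.mk (pullback.fst (snd G X).left a.act.left ≫ (G ⊗ X).hom)

/-- first projection -/
noncomputable abbrev prA : pairs a ⟶ G ⊗ X := Over.homMk (pullback.fst _ _) rfl

/-- second projection -/
noncomputable abbrev prB : pairs a ⟶ G ⊗ X :=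
  Over.homMk (pullback.snd _ _) (by
    rw [← Over.w a.act, ← Category.assoc, ← Limits.pullback.condition, Category.assoc, Over.w (snd G X)]
    rfl)

/-- composition -/
noncomputable def compMor : pairs a ⟶ G ⊗ X := op (prA a) (prB a)

lemma over_w {T : Scheme.{u}} (α β : T ⟶ (G ⊗ X).left)
    (h : α ≫ (snd G X).left = β ≫ a.act.left) : β ≫ (G ⊗ X).hom = α ≫ (G ⊗ X).hom := by
  exact (congrArg (β ≫ ·) (Over.w a.act)).symm.trans
    (((Category.assoc _ _ _).symm.trans (congrArg (· ≫ X.hom) h.symm)).trans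
      ((Category.assoc _ _ _).trans (congrArg (α ≫ ·) (Over.w (snd G X)))))

/-- a generalized arrow over `S` -/
noncomputable abbrev pt {T : Scheme.{u}} (α : T ⟶ (G ⊗ X).left) : Over.mk (α ≫ (G ⊗ X).hom) ⟶ G ⊗ X :=
  Over.homMk α rfl

lemma lift_compMor {T : Scheme.{u}} (α β : T ⟶ (G ⊗ X).left)
    (h : α ≫ (snd G X).left = β ≫ a.act.left) :
    pullback.lift α β h ≫ (compMor a).left =
      (op (pt α) (Over.homMk β (over_w a α β h) : Over.mk (α ≫ (G ⊗ X).hom) ⟶ G ⊗ X)).left := by
  let l : Over.mk (α ≫ (G ⊗ X).hom) ⟶ pairs a := Over.homMk (pullback.lift α β h) (by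
    change pullback.lift α β h ≫ pullback.fst _ _ ≫ (G ⊗ X).hom = α ≫ (G ⊗ X).hom
    rw [← Category.assoc, pullback.lift_fst])
  have h₁ : l ≫ prA a = pt α := Over.OverMorphism.ext (pullback.lift_fst _ _ _)
  have h₂ : l ≫ prB a = Over.homMk β (over_w a α β h) := Over.OverMorphism.ext (pullback.lift_snd _ _ _)
  rw [← h₁, ← h₂, ← op_pre]
  rfl

/-- The groupoid scheme of an action: source the projection, target the action. -/
noncomputable def gpd : Grpd.GroupoidScheme S where
  U := X.left
  R := (G ⊗ X).left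
  pU := X.hom
  pR := (G ⊗ X).hom
  s := (snd G X).left
  t := a.act.left
  e := (idMor (G := G) X).left
  i := (invMor a).left
  c := (compMor a).left
  s_over := Over.w (snd G X)
  t_over := Over.w a.act
  comp_s := fun α β h => by
    rw [lift_compMor, ← Over.comp_left, op_snd]
    rfl
  comp_t := fun α β h => by
    rw [lift_compMor, ← Over.comp_left, op_act a _ _ (Over.OverMorphism.ext h)]
    rfl
  assoc := fun {T} α β γ h₁ h₂ => by
    have hβ := over_w a α β h₁
    have hγ := (over_w a β γ h₂).trans hβ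
    let A : Over.mk (α ≫ (G ⊗ X).hom) ⟶ G ⊗ X := pt α
    let B : Over.mk (α ≫ (G ⊗ X).hom) ⟶ G ⊗ X := Over.homMk β hβ
    let C : Over.mk (α ≫ (G ⊗ X).hom) ⟶ G ⊗ X := Over.homMk γ hγ
    have e₁ : pullback.lift α β h₁ ≫ (compMor a).left = (op A B).left := lift_compMor a α β h₁
    have e₂ : pullback.lift β γ h₂ ≫ (compMor a).left = (op B C).left := by
      let l : Over.mk (α ≫ (G ⊗ X).hom) ⟶ pairs a := Over.homMk (pullback.lift β γ h₂) (by
        change pullback.lift β γ h₂ ≫ pullback.fst _ _ ≫ (G ⊗ X).hom = α ≫ (G ⊗ X).hom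
        rw [← Category.assoc, pullback.lift_fst, hβ])
      have k₁ : l ≫ prA a = B := Over.OverMorphism.ext (pullback.lift_fst _ _ _)
      have k₂ : l ≫ prB a = C := Over.OverMorphism.ext (pullback.lift_snd _ _ _)
      rw [← k₁, ← k₂, ← op_pre]
      rfl
    have key : ∀ (P Q : Over.mk (α ≫ (G ⊗ X).hom) ⟶ G ⊗ X) (p q : T ⟶ (G ⊗ X).left)
        (h : p ≫ (snd G X).left = q ≫ a.act.left), p = P.left → q = Q.left →
        pullback.lift p q h ≫ (compMor a).left = (op P Q).left := by
      rintro P Q _ _ h rfl rfl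
      let l : Over.mk (α ≫ (G ⊗ X).hom) ⟶ pairs a := Over.homMk (pullback.lift P.left Q.left h) (by
        change pullback.lift P.left Q.left h ≫ pullback.fst _ _ ≫ (G ⊗ X).hom = α ≫ (G ⊗ X).hom
        rw [← Category.assoc, pullback.lift_fst]
        exact Over.w P)
      have k₁ : l ≫ prA a = P := Over.OverMorphism.ext (pullback.lift_fst _ _ _)
      have k₂ : l ≫ prB a = Q := Over.OverMorphism.ext (pullback.lift_snd _ _ _)
      change (l ≫ compMor a).left = _
      rw [compMor, op_pre, k₁, k₂]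
    rw [key (op A B) C _ γ _ e₁ rfl, key A (op B C) α _ _ rfl e₂, op_assoc]
  e_s := congrArg CommaMorphism.left (idMor_snd (G := G) (X := X))
  e_t := congrArg CommaMorphism.left (idMor_act a)
  comp_e := fun α => by
    rw [lift_compMor]
    exact congrArg CommaMorphism.left (op_id (pt α))
  e_comp := fun α => by
    let l : Over.mk (α ≫ (G ⊗ X).hom) ⟶ pairs a := Over.homMk
      (pullback.lift (α ≫ a.act.left ≫ (idMor (G := G) X).left) α
        (by rw [Category.assoc, Category.assoc, ← Over.comp_left, idMor_snd, Over.id_left, Category.comp_id])) (by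
        change pullback.lift _ _ _ ≫ pullback.fst _ _ ≫ (G ⊗ X).hom = α ≫ (G ⊗ X).hom
        rw [← Category.assoc, pullback.lift_fst, Category.assoc, Category.assoc, Over.w (idMor (G := G) X),
          Over.w a.act])
    have h₁ : l ≫ prA a = (pt α ≫ a.act) ≫ idMor (G := G) X :=
      Over.OverMorphism.ext ((pullback.lift_fst _ _ _).trans (Category.assoc _ _ _).symm)
    have h₂ : l ≫ prB a = pt α := Over.OverMorphism.ext (pullback.lift_snd _ _ _)
    change (l ≫ compMor a).left = α
    rw [compMor, op_pre, h₁, h₂, id_op]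
    rfl
  i_s := congrArg CommaMorphism.left (invMor_snd a)
  i_t := congrArg CommaMorphism.left (invMor_act a)
  comp_i := fun α => by
    rw [lift_compMor]
    exact (congrArg CommaMorphism.left (op_inv a (pt α))).trans (Category.assoc _ _ _)
  i_comp := fun α => by
    let l : Over.mk (α ≫ (G ⊗ X).hom) ⟶ pairs a := Over.homMk
      (pullback.lift (α ≫ (invMor a).left) α
        (by rw [Category.assoc, ← Over.comp_left, invMor_snd])) (by
        change pullback.lift _ _ _ ≫ pullback.fst _ _ ≫ (G ⊗ X).hom = α ≫ (G ⊗ X).hom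
        rw [← Category.assoc, pullback.lift_fst, Category.assoc, Over.w (invMor a)])
    have h₁ : l ≫ prA a = pt α ≫ invMor a := Over.OverMorphism.ext (pullback.lift_fst _ _ _)
    have h₂ : l ≫ prB a = pt α := Over.OverMorphism.ext (pullback.lift_snd _ _ _)
    change (l ≫ compMor a).left = α ≫ (snd G X).left ≫ (idMor (G := G) X).left
    rw [compMor, op_pre, h₁, h₂, inv_op]
    exact Category.assoc _ _ _

end Groth.Agent.AlgSpDec.ActGroupoid
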