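import Groth.Prelude.Def_AlgSp
import Groth.Agent.GrpdLib.GlueProps
import Groth.Agent.GrpdLib.QuotSheaf
import Groth.Agent.GITQuot.Fppf
import Groth.Agent.S4085
import Groth.Agent.S4086

/-!
Quotient schemes of finite locally free equivalence relations with enough affine opens.
-/

set_option backward.isDefEq.respectTransparency false
set_option backward.isDefEq.respectTransparency.types false

universe u

open CategoryTheory CategoryTheory.Limits AlgebraicGeometry

namespace Groth.Agent.AlgSpDec.FinLocFreeQuot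

/-- If in each nonempty closed subset some point has its class in an affine open, then every point does. -/
theorem exists_affine_class {S : Scheme.{u}} (G : Grpd.GroupoidScheme S) (hs : Mor2.IsFinLocFree G.s)
    (h3 : ∀ Z : Set ↥G.U, IsClosed Z → Z.Nonempty →
      ∃ u ∈ Z, ∃ W : G.U.Opens, IsAffineOpen W ∧ ∀ r : ↥G.R, G.s r = u → G.t r ∈ W) (x : G.U) :
    ∃ V : G.U.Opens, IsAffineOpen V ∧ G.t.base '' (G.s.base ⁻¹' {x}) ⊆ (V : Set G.U) := by
  haveI : IsFinite G.s := hs.1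
  haveI : Flat G.s := hs.2.1
  haveI : LocallyOfFinitePresentation G.s := hs.2.2
  let O : Set G.U := {y | ∃ W : G.U.Opens, IsAffineOpen W ∧ GrpdLib.IsInv G W ∧ y ∈ W}
  have hO : IsOpen O := isOpen_iff_forall_mem_open.2 fun y ⟨W, h₁, h₂, h₃⟩ =>
    ⟨W, fun z hz => ⟨W, h₁, h₂, hz⟩, W.isOpen, h₃⟩
  by_contra hx
  have hxO : x ∉ O := fun ⟨W, h₁, h₂, h₃⟩ => hx ⟨W, h₁, by
    rintro _ ⟨r, hr, rfl⟩
    refine (h₂.mem_iff r).1 ?_
    rw [show G.s r = x from hr]; exact h₃⟩
  obtain ⟨u, hu, W, hW, hr⟩ := h3 Oᶜ hO.isClosed_compl ⟨x, hxO⟩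
  obtain ⟨W', hW', hu', hinv, -⟩ := GrpdLib.exists_invariant_affineOpen u W hW hr
  exact hu ⟨W', hW', hinv, hu'⟩

theorem mono_j {S : Scheme.{u}} (G : Grpd.GroupoidScheme S)
    (heq : AlgSp.IsEqvRel (Over.homMk G.s G.s_over : Over.mk G.pR ⟶ Over.mk G.pU)
      (Over.homMk G.t G.t_over : Over.mk G.pR ⟶ Over.mk G.pU)) : Mono G.j := by
  refine ⟨fun {T} r r' h => ?_⟩
  have h₁ : r ≫ G.t = r' ≫ G.t := by
    have := congrArg (· ≫ pullback.fst G.pU G.pU) h
    simpa [Grpd.GroupoidScheme.j, Category.assoc] using this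
  have h₂ : r ≫ G.s = r' ≫ G.s := by
    have := congrArg (· ≫ pullback.snd G.pU G.pU) h
    simpa [Grpd.GroupoidScheme.j, Category.assoc] using this
  have hw : r' ≫ G.pR = r ≫ G.pR := by
    rw [← G.t_over, ← Category.assoc, ← h₁, Category.assoc]
  exact congrArg CommaMorphism.left (heq.injective (Over.mk (r ≫ G.pR)) (Over.homMk r rfl) (Over.homMk r' hw)
    (Over.OverMorphism.ext h₁) (Over.OverMorphism.ext h₂))

/-- The map to a quotient scheme is surjective. -/
theorem surjective_of_isQuotient {S : Scheme.{u}} {R U M : Over S} {s t : R ⟶ U} {q : U ⟶ M}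
    (hq : QuotSh.IsQuotient Scheme.fppfPrecoverage s t q) : Surjective q.left := by
  obtain ⟨w, hw⟩ := hq
  haveI : Epi (QuotSh.repMap Scheme.fppfPrecoverage q) := by
    have : QuotSh.quotπ Scheme.fppfPrecoverage s t ≫ QuotSh.quotDesc _ q w = QuotSh.repMap _ q :=
      coequalizer.π_desc _ _
    rw [← this]
    haveI : Epi (QuotSh.quotπ Scheme.fppfPrecoverage s t) :=
      inferInstanceAs (Epi (coequalizer.π _ _))
    infer_instance
  have hls : Presheaf.IsLocallySurjective (QuotSh.J Scheme.fppfPrecoverage S)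
      (Functor.whiskerRight (yoneda.map q) uliftFunctor.{u + 1, u}) :=
    (Presheaf.isLocallySurjective_presheafToSheaf_map_iff _ _).1
      ((Sheaf.isLocallySurjective_iff_epi _).2 inferInstance)
  have hmem := hls.imageSieve_mem (U := M) ⟨𝟙 M⟩
  rw [GrothendieckTopology.mem_over_iff] at hmem
  obtain ⟨I, W, f, hf, -, -, hsurj⟩ := GITQuot.exists_cover hmem
  refine ⟨fun y => ?_⟩
  obtain ⟨i, v, rfl⟩ := hsurj y
  obtain ⟨x, hx⟩ := (Sieve.overEquiv_iff _ _).1 (hf i)
  have h : x.down.left ≫ q.left = f i := by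
    have := congrArg (fun z => (ULift.down z).left) hx
    simpa using this
  exact ⟨x.down.left v, congrArg (fun φ : W i ⟶ M.left => φ v) h⟩

theorem exists_quotient {S : Scheme.{u}} (G : Grpd.GroupoidScheme S)
    (hs : Mor2.IsFinLocFree G.s)
    (heq : AlgSp.IsEqvRel (Over.homMk G.s G.s_over : Over.mk G.pR ⟶ Over.mk G.pU)
      (Over.homMk G.t G.t_over : Over.mk G.pR ⟶ Over.mk G.pU))
    (h3 : ∀ Z : Set ↥G.U, IsClosed Z → Z.Nonempty →
      ∃ u ∈ Z, ∃ W : G.U.Opens, IsAffineOpen W ∧ ∀ r : ↥G.R, G.s r = u → G.t r ∈ W) :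
    ∃ (M : Over S) (m : Over.mk G.pU ⟶ M), Mor2.IsFinLocFree m.left ∧ Surjective m.left ∧
      IsPullback G.t G.s m.left m.left ∧
      QuotSh.IsQuotient Scheme.fppfPrecoverage (Over.homMk G.s G.s_over : Over.mk G.pR ⟶ Over.mk G.pU)
        (Over.homMk G.t G.t_over : Over.mk G.pR ⟶ Over.mk G.pU) m := by
  have hb := exists_affine_class G hs h3
  obtain ⟨Y, p, w, ⟨hc⟩, -, hsurj, -⟩ := Groth.Agent.S4085.result S G hs hb
  haveI : Mono G.j := mono_j G heq
  obtain ⟨hpb, hp⟩ := Groth.Agent.S4086.result S G hs hb Y p w hc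
  have hwU : G.t ≫ G.pU = G.s ≫ G.pU := G.t_over.trans G.s_over.symm
  let σ : Y ⟶ S := hc.desc (Cofork.ofπ G.pU hwU)
  have hσ : p ≫ σ = G.pU := hc.fac (Cofork.ofπ G.pU hwU) WalkingParallelPair.one
  haveI : Flat p := hp.2.1
  haveI : LocallyOfFinitePresentation p := hp.2.2
  haveI : Surjective p := hsurj
  refine ⟨Over.mk σ, Over.homMk p hσ, hp, hsurj, hpb, ?_⟩
  refine GrpdLib.isQuotient_of_isKernelPair _ _ _ _ ?_ ?_
  · exact IsPullback.of_map (Over.forget S) (Over.OverMorphism.ext hpb.flip.w) hpb.flip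
  · exact Precoverage.generate_mem_toGrothendieck p.singleton_mem_fppfPrecoverage

end Groth.Agent.AlgSpDec.FinLocFreeQuot
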