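import Groth.Agent.AlgSpDec.ActGroupoid
import Groth.Agent.AlgSpDec.FinLocFreeQuot
import Groth.Agent.AlgSpDec.FinsetAffine
import Groth.Prelude.Def_NonAbH2

/-!
Quotient schemes of free actions of finite locally free group schemes.
-/

set_option backward.isDefEq.respectTransparency false
set_option backward.isDefEq.respectTransparency.types false

universe u

open CategoryTheory MonoidalCategory CartesianMonoidalCategory MonObj AlgebraicGeometry Groth.Agent.GrpSchLib

namespace Groth.Agent.AlgSpDec.ActQuotient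

open ActGroupoid

variable {S : Scheme.{u}} {G X : Over S} [GrpObj G] (a : AlgGrp.Action G X)

theorem isEqvRel
    (hfree : ∀ (T : Over S) (g : T ⟶ G) (x : T ⟶ X), lift g x ≫ a.act = x → g = toUnit T ≫ η[G]) :
    AlgSp.IsEqvRel (snd G X) a.act where
  injective T r r' ht hs := by
    rw [pt_act a r, pt_act a r', hs] at ht
    have h1 : lift ((r' ≫ fst G X)⁻¹ * (r ≫ fst G X)) (r' ≫ snd G X) ≫ a.act = r' ≫ snd G X := by
      rw [← act_mul, ht, act_mul, inv_mul_cancel, act_one]
    have h2 : (r' ≫ fst G X)⁻¹ * (r ≫ fst G X) = 1 :=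
      (hfree T _ _ h1).trans (by rw [MonObj.one_eq_one, MonObj.comp_one])
    apply CartesianMonoidalCategory.hom_ext
    · exact (inv_mul_eq_one.1 h2).symm
    · exact hs
  equivalence T := by
    refine ⟨fun x => ⟨x ≫ idMor (G := G) X, ?_, ?_⟩, ?_, ?_⟩
    · rw [Category.assoc, idMor_act, Category.comp_id]
    · rw [Category.assoc, idMor_snd, Category.comp_id]
    · rintro x y ⟨r, rfl, rfl⟩
      exact ⟨r ≫ invMor a, by rw [Category.assoc, invMor_act], by rw [Category.assoc, invMor_snd]⟩
    · rintro x y z ⟨r, rfl, h⟩ ⟨r', rfl, rfl⟩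
      exact ⟨op r r', op_act a r r' h, op_snd r r'⟩

theorem exists_affine_class (hG : Mor2.IsFinLocFree G.hom)
    (h3 : IsAffineHom X.hom ∨ (∃ (R : CommRingCat.{u}) (i : X.left ⟶ Spec R), IsOpenImmersion i) ∨
      UniversallyInjective G.hom) (u : X.left) :
    ∃ W : X.left.Opens, IsAffineOpen W ∧
      ∀ r : (G ⊗ X).left, (snd G X).left r = u → a.act.left r ∈ W := by
  rcases h3 with h | ⟨R, i, hi⟩ | h
  · obtain ⟨V, hV, hpV⟩ := GrpdLib.exists_affineOpen_mem (X.hom u)
    refine ⟨X.hom ⁻¹ᵁ V, hV.preimage X.hom, fun r hr => ?_⟩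
    show X.hom (a.act.left r) ∈ V
    have e : a.act.left ≫ X.hom = (snd G X).left ≫ X.hom := (Over.w a.act).trans (Over.w (snd G X)).symm
    have := congrArg (fun φ : (G ⊗ X).left ⟶ S => φ r) e
    simp only [Scheme.Hom.comp_apply] at this
    rw [this, hr]
    exact hpV
  · haveI : IsFinite (snd G X).left := MorphismProperty.pullback_snd (P := @IsFinite) _ _ hG.1
    obtain ⟨W, hW, hTW⟩ := exists_affineOpen_of_finite i
      (((snd G X).left.finite_preimage_singleton u).image a.act.left)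
    exact ⟨W, hW, fun r hr => hTW ⟨r, hr, rfl⟩⟩
  · haveI : UniversallyInjective (snd G X).left :=
      MorphismProperty.pullback_snd (P := @UniversallyInjective) _ _ h
    obtain ⟨W, hW, huW⟩ := GrpdLib.exists_affineOpen_mem u
    refine ⟨W, hW, fun r hr => ?_⟩
    have h₁ : (snd G X).left ((idMor (G := G) X).left u) = u :=
      congrArg (fun φ : X ⟶ X => φ.left u) (idMor_snd (G := G) (X := X))
    have h₂ : a.act.left ((idMor (G := G) X).left u) = u :=
      congrArg (fun φ : X ⟶ X => φ.left u) (idMor_act a)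
    rw [(snd G X).left.injective (hr.trans h₁.symm), h₂]
    exact huW

theorem exists_quotient (hG : Mor2.IsFinLocFree G.hom)
    (hfree : ∀ (T : Over S) (g : T ⟶ G) (x : T ⟶ X), lift g x ≫ a.act = x → g = toUnit T ≫ η[G])
    (h3 : IsAffineHom X.hom ∨ (∃ (R : CommRingCat.{u}) (i : X.left ⟶ Spec R), IsOpenImmersion i) ∨
      UniversallyInjective G.hom) :
    ∃ (M : Over S) (q : X ⟶ M), QuotSh.IsQuotient Scheme.fppfPrecoverage (snd G X) a.act q ∧
      CategoryTheory.IsPullback a.act.left (snd G X).left q.left q.left ∧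
      NonAbH1.IsLocallyTrivialFor Scheme.fppfPrecoverage (Over.mk q.left) := by
  have hs : Mor2.IsFinLocFree (gpd a).s :=
    ⟨MorphismProperty.pullback_snd (P := @IsFinite) _ _ hG.1,
      MorphismProperty.pullback_snd (P := @Flat) _ _ hG.2.1,
      MorphismProperty.pullback_snd (P := @LocallyOfFinitePresentation) _ _ hG.2.2⟩
  obtain ⟨M, m, hm, hsurj, hpb, hq⟩ := FinLocFreeQuot.exists_quotient (gpd a) hs (isEqvRel a hfree)
    (fun Z _ ⟨z, hz⟩ => ⟨z, hz, exists_affine_class a hG h3 z⟩)
  refine ⟨M, m, hq, hpb, ?_⟩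
  haveI : Flat m.left := hm.2.1
  haveI : LocallyOfFinitePresentation m.left := hm.2.2
  refine ⟨_, m.left.singleton_mem_fppfPrecoverage, ?_⟩
  rintro S' f ⟨⟩
  exact ⟨𝟙 _, Category.id_comp _⟩

end Groth.Agent.AlgSpDec.ActQuotient
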