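import Groth.Agent.AlgSpDec.FiniteQuot
import Groth.Agent.AlgSpDec.FinLocFreeQuot
import Groth.Agent.AlgSpPts.OpenSub

/-!
Open subschemes of spaces with a finite etale chart around classes contained in affine opens.
-/

set_option backward.isDefEq.respectTransparency false
set_option backward.isDefEq.respectTransparency.types false

universe u

open CategoryTheory CategoryTheory.Limits AlgebraicGeometry AlgSp Groth.Agent.AlgSpLib Groth.Agent.AlgSpPts

namespace Groth.Agent.AlgSpDec

variable {S : Scheme.{u}} {X : Sp S} {U : Over S}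

/-- Two epimorphisms of sheaves with the same kernel pair have isomorphic targets. -/
theorem nonempty_iso_of_same_kernelPair {A P Y Z : Sp S} (p q : P ⟶ A) (a : A ⟶ Y) (b : A ⟶ Z) [Epi a] [Epi b]
    (h : IsPullback p q a a) (h' : IsPullback p q b b) : Nonempty (Y ≅ Z) := by
  have : IsRegularEpi a := IsRegularEpiCategory.regularEpiOfEpi _
  have : IsRegularEpi b := IsRegularEpiCategory.regularEpiOfEpi _
  have : EffectiveEpi a := inferInstance
  have : EffectiveEpi b := inferInstance
  exact ⟨(isColimitCoforkOfEffectiveEpi a h.cone h.isLimit).coconePointUniqueUpToIso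
    (isColimitCoforkOfEffectiveEpi b h'.cone h'.isLimit)⟩

theorem exists_iso_of_affine_finite_etale (a : (yon S).obj U ⟶ X) (ha : RepWith @Etale a)
    (hf : RepWith @IsFinite a) (hs : RepWith @Surjective a) [IsAffine U.left] :
    ∃ Z : Over S, Nonempty ((yon S).obj Z ≅ X) := by
  let R := ha.rep.pullback a
  let t : R ⟶ U := ha.rep.fst' a
  let s : R ⟶ U := ha.rep.snd a
  have sq : IsPullback ((yon S).map t) ((yon S).map s) a a := ha.rep.isPullback' a
  have hse : Etale s.left := ha.property_snd a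
  have hsf : IsFinite s.left := hf.property a _ _ (ha.rep.isPullback a)
  obtain ⟨G, hU, hR, hgs, hgt, hpU, hpR⟩ := exists_groupoid_over sq
  obtain ⟨GU, GR, pU, pR, gs, gt, ge, gi, gc, h1, h2, h3, h4, h5, h6, h7, h8, h9, h10, h11, h12, h13⟩ := G
  subst hU hR
  obtain rfl : gs = s.left := eq_of_heq hgs
  obtain rfl : gt = t.left := eq_of_heq hgt
  obtain rfl : pU = U.hom := eq_of_heq hpU
  obtain rfl : pR = R.hom := eq_of_heq hpR
  let G : Grpd.GroupoidScheme S :=
    ⟨_, _, U.hom, R.hom, _, _, ge, gi, gc, h1, h2, h3, h4, h5, h6, h7, h8, h9, h10, h11, h12, h13⟩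
  have hfl : Mor2.IsFinLocFree G.s :=
    ⟨hsf, inferInstanceAs (Flat s.left), inferInstanceAs (LocallyOfFinitePresentation s.left)⟩
  have heq : AlgSp.IsEqvRel s t := by
    refine ⟨fun T r r' ht' hs' => ?_, fun T => ⟨fun y => ?_, ?_, ?_⟩⟩
    · exact Over.OverMorphism.ext (rel_ext sq (congrArg Over.Hom.left ht') (congrArg Over.Hom.left hs'))
    · exact exists_rel_lift sq y y rfl
    · rintro y z ⟨r, rfl, rfl⟩
      refine exists_rel_lift sq _ _ ?_
      rw [(yon S).map_comp r t, (yon S).map_comp r s, Category.assoc, Category.assoc, sq.w]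
    · rintro y z w ⟨r, rfl, hr⟩ ⟨r', rfl, rfl⟩
      refine exists_rel_lift sq _ _ ?_
      rw [(yon S).map_comp r t, Category.assoc, sq.w, ← Category.assoc, ← (yon S).map_comp r s, hr,
        (yon S).map_comp r' t, Category.assoc, sq.w, ← Category.assoc, ← (yon S).map_comp r' s]
  obtain ⟨M, m, hm, hmsurj, hpb, -⟩ := FinLocFreeQuot.exists_quotient G hfl heq
    (fun Z _ ⟨z, hz⟩ => ⟨z, hz, ⊤, isAffineOpen_top U.left, fun _ _ => trivial⟩)
  let m' : U ⟶ M := m
  haveI : Flat m'.left := hm.2.1
  haveI : LocallyOfFinitePresentation m'.left := hm.2.2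
  haveI : Surjective m'.left := hmsurj
  haveI : Sheaf.IsLocallySurjective a := isLocallySurjective_of_etale_surjective ha hs
  haveI : Sheaf.IsLocallySurjective ((yon S).map m') :=
    isLocallySurjective_of_repWith ((repWith_yon_map_iff fppf m').2 (fppf_of m'.left))
  haveI : Epi a := (Sheaf.isLocallySurjective_iff_epi a).1 inferInstance
  haveI : Epi ((yon S).map m') := (Sheaf.isLocallySurjective_iff_epi _).1 inferInstance
  have hpb' : IsPullback ((yon S).map t) ((yon S).map s) ((yon S).map m') ((yon S).map m') :=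
    (IsPullback.of_map (Over.forget S) (f := t) (g := s) (h := m') (i := m')
      (Over.OverMorphism.ext hpb.w) hpb).map (yon S)
  exact ⟨M, nonempty_iso_of_same_kernelPair _ _ _ _ hpb' sq⟩

/-- A point whose class lies in an affine open of a finite etale chart has an open neighbourhood which is a scheme. -/
theorem exists_open_subscheme_of_affine_class (hX : IsAlgSpace X) (a : (yon S).obj U ⟶ X) (ha : RepWith @Etale a)
    (hf : RepWith @IsFinite a) (hs : RepWith @Surjective a) {V : U.left.Opens} (hV : IsAffineOpen V) (u : U.left)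
    (huV : Points.ofPt a ⁻¹' {Points.ofPt a u} ⊆ (V : Set U.left)) :
    ∃ (T : Over S) (j : (yon S).obj T ⟶ X),
      RepWith @IsOpenImmersion j ∧ Points.ofPt a u ∈ Set.range (Points.map j) := by
  let R := ha.rep.pullback a
  let t : R ⟶ U := ha.rep.fst' a
  let s : R ⟶ U := ha.rep.snd a
  have sq : IsPullback ((yon S).map t) ((yon S).map s) a a := ha.rep.isPullback' a
  obtain ⟨G, hU, hR, hgs, hgt⟩ := exists_groupoid sq
  obtain ⟨GU, GR, pU, pR, gs, gt, ge, gi, gc, h1, h2, h3, h4, h5, h6, h7, h8, h9, h10, h11, h12, h13⟩ := G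
  subst hU hR
  obtain rfl : gs = s.left := eq_of_heq hgs
  obtain rfl : gt = t.left := eq_of_heq hgt
  let G : Grpd.GroupoidScheme S :=
    ⟨_, _, pU, pR, _, _, ge, gi, gc, h1, h2, h3, h4, h5, h6, h7, h8, h9, h10, h11, h12, h13⟩
  haveI : Etale G.s := ha.property_snd a
  haveI : IsFinite G.s := hf.property a _ _ (ha.rep.isPullback a)
  have hrel : ∀ r : R.left, Points.ofPt a (t.left r) = Points.ofPt a (s.left r) := fun r => by
    rw [← ofPt_comp, ← ofPt_comp, sq.w]
  obtain ⟨W, hW, huW, hinv, -⟩ := GrpdLib.exists_invariant_affineOpen (G := G) u V hV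
    (fun r hr => huV (show Points.ofPt a (t.left r) = _ from (hrel r).trans (by rw [← hr])))
  have hpre : Points.ofPt a ⁻¹' (Points.ofPt a '' (W : Set U.left)) = W := by
    refine Set.Subset.antisymm ?_ fun x hx => ⟨x, hx, rfl⟩
    rintro x ⟨w, hw, e⟩
    obtain ⟨r, hr₁, hr₂⟩ := exists_ofPt_of_eq sq (u := w) (v := x) e
    rw [← hr₂]
    have hw' : G.t r ∈ W := by
      show t.left r ∈ W
      rw [hr₁]; exact hw
    exact (hinv.mem_iff r).2 hw'
  obtain ⟨O, j, hO, hj, hrange⟩ :=
    exists_open_subspace hX (isOpenMap_ofPt ha _ W.isOpen)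
  let P := hj.rep.pullback a
  let i : P ⟶ U := hj.rep.snd a
  haveI : IsOpenImmersion i.left := hj.property_snd a
  have hPr : i.left.opensRange = W := TopologicalSpace.Opens.ext (by
    show Set.range i.left = (W : Set U.left)
    rw [← hpre, ← hrange]
    ext x
    constructor
    · rintro ⟨p, rfl⟩
      exact ⟨Points.ofPt (hj.rep.fst a) p, by rw [Points.map_ofPt, hj.rep.w a, ofPt_comp]⟩
    · rintro ⟨z, hz⟩
      obtain ⟨w, -, hw⟩ := exists_point_of_isPullback (hj.rep.isPullback a) (x := z)
        (y := Points.ofScheme U x) (hz.trans (Points.ofPt_eq_map_ofScheme a x))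
      obtain ⟨w, rfl⟩ := (Points.schemeHomeo _).surjective w
      exact ⟨w, (Points.schemeHomeo U).injective ((Points.map_yon_map_apply i w).symm.trans hw)⟩)
  haveI : IsAffine i.left.opensRange.toScheme := hPr ▸ hW
  haveI : IsAffine P.left := IsAffine.of_isIso i.left.isoOpensRange.hom
  have sqP := hj.rep.isPullback a
  obtain ⟨Z, ⟨e⟩⟩ := exists_iso_of_affine_finite_etale (X := O) (hj.rep.fst a)
    (repWith_of_isPullback sqP.flip ha) (repWith_of_isPullback sqP.flip hf) (repWith_of_isPullback sqP.flip hs)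
  refine ⟨Z, e.hom ≫ j, repWith_comp (repWith_of_isIso _ e.hom) hj, ?_⟩
  obtain ⟨z, hz⟩ : Points.ofPt a u ∈ Set.range (Points.map j) := hrange.symm.subset ⟨u, huW, rfl⟩
  exact ⟨Points.map e.inv z, by rw [← Points.map_comp, e.inv_hom_id_assoc, hz]⟩

end Groth.Agent.AlgSpDec
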