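import Mathlib.RingTheory.Flat.Basic
import Mathlib.RingTheory.RingHom.Flat
import Mathlib.AlgebraicGeometry.Morphisms.Flat
import Groth.Agent.AlgSpVal.SpecPullback
import Groth.Agent.AlgSpLib.Sheaf
import Groth.Agent.AlgSpLib.FpqcDescent

/-!
# Effective descent of affine schemes along flat coverings
-/

set_option backward.isDefEq.respectTransparency false
set_option backward.isDefEq.respectTransparency.types false

universe u

open CategoryTheory Limits Opposite AlgebraicGeometry AlgSp Groth.Agent.AlgSpLib Groth.Agent.AlgSpVal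
open scoped TensorProduct

namespace Groth.Agent.AlgSpDec

section Algebra

variable {A A' B : Type u} [CommRing A] [CommRing A'] [CommRing B] [Algebra A A'] [Algebra A B]

/-- The invariants of a descent datum on an algebra. -/
def descentInv (δ : B →ₐ[A] B ⊗[A] A') : Subalgebra A B :=
  AlgHom.equalizer δ Algebra.TensorProduct.includeLeft

/-- An algebra with a descent datum is the base change of its invariants. -/
theorem bijective_descent [Module.Flat A A'] (β : A' →ₐ[A] B) (δ : B →ₐ[A] B ⊗[A] A')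
    (hβ : ∀ a, δ (β a) = 1 ⊗ₜ a)
    (hm : ∀ b, Algebra.TensorProduct.lift (AlgHom.id A B) β (fun _ _ => Commute.all _ _) (δ b) = b)
    (hc : ∀ b, Algebra.TensorProduct.map δ (AlgHom.id A A') (δ b) =
      Algebra.TensorProduct.map (Algebra.TensorProduct.includeLeft : B →ₐ[A] B ⊗[A] A') (AlgHom.id A A') (δ b)) :
    Function.Bijective
      (Algebra.TensorProduct.lift (descentInv δ).val β (fun _ _ => Commute.all _ _) : descentInv δ ⊗[A] A' →ₐ[A] B) := by
  let i : descentInv δ ⊗[A] A' →ₐ[A] B ⊗[A] A' := Algebra.TensorProduct.map (descentInv δ).val (AlgHom.id A A')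
  let L : B →ₗ[A] B ⊗[A] A' :=
    δ.toLinearMap - (Algebra.TensorProduct.includeLeft : B →ₐ[A] B ⊗[A] A').toLinearMap
  have hi : Function.Injective i :=
    Module.Flat.rTensor_preserves_injective_linearMap (M := A') (descentInv δ).val.toLinearMap Subtype.val_injective
  have hex : Function.Exact (descentInv δ).val.toLinearMap L := fun b => by
    constructor
    · intro h
      exact ⟨⟨b, sub_eq_zero.1 h⟩, rfl⟩
    · rintro ⟨x, rfl⟩
      exact sub_eq_zero.2 x.2
  have hex' := Module.Flat.rTensor_exact A' hex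
  have hδ : ∀ b, ∃ z, i z = δ b := fun b => (hex' (δ b)).1 (by
    have h1 : ∀ x, L.rTensor A' x = Algebra.TensorProduct.map δ (AlgHom.id A A') x -
        Algebra.TensorProduct.map (Algebra.TensorProduct.includeLeft : B →ₐ[A] B ⊗[A] A') (AlgHom.id A A') x := by
      intro x
      induction x using TensorProduct.induction_on with
      | zero => simp
      | add x y hx hy => simp only [map_add, hx, hy]; abel
      | tmul x y => simp [L, TensorProduct.sub_tmul]
    rw [h1, hc, sub_self])
  have hli : ∀ z, Algebra.TensorProduct.lift (AlgHom.id A B) β (fun _ _ => Commute.all _ _) (i z) =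
      Algebra.TensorProduct.lift (descentInv δ).val β (fun _ _ => Commute.all _ _) z := by
    intro z
    induction z using TensorProduct.induction_on with
    | zero => simp
    | add x y hx hy => rw [map_add, map_add, map_add, hx, hy]
    | tmul x y => simp [i]
  have hδl : ∀ z, δ (Algebra.TensorProduct.lift (descentInv δ).val β (fun _ _ => Commute.all _ _) z) = i z := by
    intro z
    induction z using TensorProduct.induction_on with
    | zero => simp
    | add x y hx hy => rw [map_add, map_add, map_add, hx, hy]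
    | tmul x y =>
      rw [Algebra.TensorProduct.lift_tmul, map_mul, hβ]
      change δ (x : B) * (1 ⊗ₜ y) = (x : B) ⊗ₜ[A] y
      rw [show δ (x : B) = (x : B) ⊗ₜ[A] (1 : A') from x.2, Algebra.TensorProduct.tmul_mul_tmul, mul_one, one_mul]
  refine ⟨fun z w h => hi ?_, fun b => ?_⟩
  · rw [← hδl, h, hδl]
  · obtain ⟨z, hz⟩ := hδ b
    exact ⟨z, by rw [← hli, hz, hm]⟩

end Algebra

section Geometry

variable {S : Scheme.{u}} {A A' B : CommRingCat.{u}} {str : Spec A ⟶ S} {φ : A ⟶ A'} {β : A' ⟶ B}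
  {γ : A ⟶ B} {hγ : φ ≫ β = γ} {P : Sp S} {q : P ⟶ (yon S).obj (Over.mk str)}
  {w : (yon S).obj (Over.mk (Spec.map γ ≫ str)) ⟶ P}

theorem ringHom_ext_of_descent
    (sqW : IsPullback w ((yon S).map (specHom (str := str) φ β γ hγ)) q ((yon S).map (specToBase φ)))
    {D : CommRingCat.{u}} {ε : A ⟶ D} (η₁ η₂ : B ⟶ D) (h₁ : γ ≫ η₁ = ε) (h₂ : γ ≫ η₂ = ε)
    (hw : (yon S).map (specHom (str := str) γ η₁ ε h₁) ≫ w = (yon S).map (specHom γ η₂ ε h₂) ≫ w)
    (hβ : β ≫ η₁ = β ≫ η₂) : η₁ = η₂ := by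
  have h : (yon S).map (specHom (str := str) γ η₁ ε h₁) = (yon S).map (specHom γ η₂ ε h₂) := sqW.hom_ext hw (by
    rw [← Functor.map_comp, ← Functor.map_comp, specHom_comp, specHom_comp]
    congr 1
    exact specHom_congr _ _ _ _ hβ)
  exact Spec.map_injective (congrArg Over.Hom.left ((yon S).map_injective h))

theorem exists_descent_datum
    (sqW : IsPullback w ((yon S).map (specHom (str := str) φ β γ hγ)) q ((yon S).map (specToBase φ)))
    {D : CommRingCat.{u}} (l : B ⟶ D) (r : A' ⟶ D) (hlr : γ ≫ l = φ ≫ r) :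
    ∃ (δ : B ⟶ D) (hδ : γ ≫ δ = γ ≫ l), β ≫ δ = r ∧
      (yon S).map (specHom (str := str) γ δ (γ ≫ l) hδ) ≫ w = (yon S).map (specHom γ l (γ ≫ l) rfl) ≫ w := by
  have hwq : w ≫ q = (yon S).map (specToBase (str := str) γ) := by
    rw [sqW.w, ← Functor.map_comp, specHom_toBase]
  obtain ⟨m, hm⟩ := (yon S).map_surjective (sqW.lift ((yon S).map (specHom γ l (γ ≫ l) rfl) ≫ w)
    ((yon S).map (specHom (str := str) φ r (γ ≫ l) hlr.symm)) (by
      rw [Category.assoc, hwq, ← Functor.map_comp, ← Functor.map_comp, specHom_toBase, specHom_toBase]))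
  obtain ⟨δ, hδ⟩ : ∃ δ : B ⟶ D, Spec.map δ = m.left := ⟨_, Spec.map_preimage _⟩
  have hm₂ : m ≫ specHom (str := str) φ β γ hγ = specHom φ r (γ ≫ l) hlr.symm := (yon S).map_injective (by
    rw [Functor.map_comp, hm, sqW.lift_snd])
  have hβ : β ≫ δ = r := Spec.map_injective (by
    rw [Spec.map_comp, hδ]
    exact congrArg Over.Hom.left hm₂)
  have hγδ : γ ≫ δ = γ ≫ l := by rw [← hγ, Category.assoc, hβ, ← hlr, hγ]
  refine ⟨δ, hγδ, hβ, ?_⟩
  have : specHom (str := str) γ δ (γ ≫ l) hγδ = m := Over.OverMorphism.ext hδ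
  rw [this, hm, sqW.lift_fst]

/-- Effective descent of affine schemes along a flat covering of affine schemes. -/
theorem exists_affine_descent [Flat (Spec.map φ)] [Surjective (Spec.map φ)]
    [LocallyOfFinitePresentation (Spec.map φ)]
    (sqW : IsPullback w ((yon S).map (specHom (str := str) φ β γ hγ)) q ((yon S).map (specToBase φ))) :
    ∃ (C : CommRingCat.{u}) (c : A ⟶ C) (e : (yon S).obj (Over.mk (Spec.map c ≫ str)) ≅ P),
      e.hom ≫ q = (yon S).map (specToBase c) := by
  let _ : Algebra A A' := φ.hom.toAlgebra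
  let _ : Algebra A B := γ.hom.toAlgebra
  have : Module.Flat A A' := (HasRingHomProperty.Spec_iff (P := @Flat)).1 ‹Flat (Spec.map φ)›
  let D : CommRingCat.{u} := CommRingCat.of (B ⊗[A] A')
  let l : B ⟶ D := CommRingCat.ofHom Algebra.TensorProduct.includeLeftRingHom
  let r : A' ⟶ D := CommRingCat.ofHom (Algebra.TensorProduct.includeRight (R := A) (A := B) (B := A')).toRingHom
  have hpo : IsPushout γ φ l r := CommRingCat.isPushout_tensorProduct A B A'
  obtain ⟨δ, hδ, hβδ, hδw⟩ := exists_descent_datum sqW l r hpo.w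
  let βa : A' →ₐ[A] B := { β.hom with commutes' := fun a => RingHom.congr_fun (congrArg CommRingCat.Hom.hom hγ) a }
  let δa : B →ₐ[A] B ⊗[A] A' :=
    { δ.hom with commutes' := fun a => (RingHom.congr_fun (congrArg CommRingCat.Hom.hom hδ) a :) }
  have hβa : ∀ a, δa (βa a) = 1 ⊗ₜ a := fun a => RingHom.congr_fun (congrArg CommRingCat.Hom.hom hβδ) a
  let μB : D ⟶ B :=
    CommRingCat.ofHom (Algebra.TensorProduct.lift (AlgHom.id A B) βa (fun _ _ => Commute.all _ _)).toRingHom
  have hlμ : l ≫ μB = 𝟙 B := CommRingCat.hom_ext (RingHom.ext fun b => by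
    change Algebra.TensorProduct.lift (AlgHom.id A B) βa (fun _ _ => Commute.all _ _) (b ⊗ₜ[A] (1 : A')) = b
    simp)
  have hm : δ ≫ μB = 𝟙 B := by
    refine ringHom_ext_of_descent sqW (ε := γ) _ _ (by rw [← Category.assoc, hδ, Category.assoc, hlμ, Category.comp_id])
      (Category.comp_id _) ?_ ?_
    · rw [← specHom_comp γ δ (γ ≫ l) hδ μB γ (by rw [Category.assoc, hlμ, Category.comp_id]), Functor.map_comp,
        Category.assoc, hδw, ← Functor.map_comp_assoc, specHom_comp]
      congr 2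
      exact specHom_congr _ _ _ _ hlμ
    · rw [← Category.assoc, hβδ, Category.comp_id]
      exact CommRingCat.hom_ext (RingHom.ext fun a => by
        change Algebra.TensorProduct.lift (AlgHom.id A B) βa (fun _ _ => Commute.all _ _) ((1 : B) ⊗ₜ[A] a) = β.hom a
        simp [βa])
  let D₂ : CommRingCat.{u} := CommRingCat.of ((B ⊗[A] A') ⊗[A] A')
  let Φ₁ : D ⟶ D₂ := CommRingCat.ofHom (Algebra.TensorProduct.map δa (AlgHom.id A A')).toRingHom
  let Φ₂ : D ⟶ D₂ := CommRingCat.ofHom
    (Algebra.TensorProduct.map (Algebra.TensorProduct.includeLeft : B →ₐ[A] B ⊗[A] A') (AlgHom.id A A')).toRingHom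
  let l₂ : D ⟶ D₂ := CommRingCat.ofHom Algebra.TensorProduct.includeLeftRingHom
  have hl₁ : l ≫ Φ₁ = δ ≫ l₂ := CommRingCat.hom_ext (RingHom.ext fun b => by
    change Algebra.TensorProduct.map δa (AlgHom.id A A') (b ⊗ₜ[A] (1 : A')) = δa b ⊗ₜ[A] (1 : A')
    simp)
  have hl₂ : l ≫ Φ₂ = l ≫ l₂ := CommRingCat.hom_ext (RingHom.ext fun b => by
    change Algebra.TensorProduct.map (Algebra.TensorProduct.includeLeft : B →ₐ[A] B ⊗[A] A') (AlgHom.id A A')
      (b ⊗ₜ[A] (1 : A')) = (b ⊗ₜ[A] (1 : A')) ⊗ₜ[A] (1 : A')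
    simp)
  have hr₂ : r ≫ Φ₁ = r ≫ Φ₂ := CommRingCat.hom_ext (RingHom.ext fun a => by
    change Algebra.TensorProduct.map δa (AlgHom.id A A') ((1 : B) ⊗ₜ[A] a) =
      Algebra.TensorProduct.map (Algebra.TensorProduct.includeLeft : B →ₐ[A] B ⊗[A] A') (AlgHom.id A A')
        ((1 : B) ⊗ₜ[A] a)
    rw [Algebra.TensorProduct.map_tmul, Algebra.TensorProduct.map_tmul, map_one, map_one])
  have hγ₁ : (γ ≫ l) ≫ Φ₁ = γ ≫ l ≫ l₂ := by
    rw [Category.assoc, hl₁, ← Category.assoc, hδ, Category.assoc]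
  have hγ₂ : (γ ≫ l) ≫ Φ₂ = γ ≫ l ≫ l₂ := by rw [Category.assoc, hl₂]
  have hc : δ ≫ Φ₁ = δ ≫ Φ₂ := by
    refine ringHom_ext_of_descent sqW (ε := γ ≫ l ≫ l₂) _ _ (by rw [← Category.assoc, hδ, hγ₁])
      (by rw [← Category.assoc, hδ, hγ₂]) ?_ (by rw [← Category.assoc, ← Category.assoc, hβδ, hr₂])
    rw [← specHom_comp γ δ (γ ≫ l) hδ Φ₁ _ hγ₁, ← specHom_comp γ δ (γ ≫ l) hδ Φ₂ _ hγ₂, Functor.map_comp,
      Functor.map_comp, Category.assoc, Category.assoc, hδw, ← Functor.map_comp_assoc, ← Functor.map_comp_assoc,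
      specHom_comp, specHom_comp, specHom_congr γ _ _ (by rw [← Category.assoc, hδ, Category.assoc]) hl₁,
      specHom_congr γ _ _ rfl hl₂, ← specHom_comp γ δ (γ ≫ l) hδ l₂ _ (Category.assoc _ _ _), Functor.map_comp,
      Category.assoc, hδw, ← Functor.map_comp_assoc, specHom_comp]
  let C₀ := descentInv δa
  have hbij := bijective_descent βa δa hβa (fun b => RingHom.congr_fun (congrArg CommRingCat.Hom.hom hm) b)
    (fun b => RingHom.congr_fun (congrArg CommRingCat.Hom.hom hc) b)
  let C : CommRingCat.{u} := CommRingCat.of C₀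
  let c : A ⟶ C := CommRingCat.ofHom (algebraMap A C₀)
  let iC : C ⟶ B := CommRingCat.ofHom C₀.val.toRingHom
  have hcC : c ≫ iC = γ := rfl
  -- the base change of the invariants is `Spec B`
  have hpo₀ : IsPushout c φ iC β := by
    let e : CommRingCat.of (C₀ ⊗[A] A') ≅ B := (RingEquiv.ofBijective
      (Algebra.TensorProduct.lift C₀.val βa (fun _ _ => Commute.all _ _)).toRingHom hbij).toCommRingCatIso
    refine (CommRingCat.isPushout_tensorProduct A C₀ A').of_iso (Iso.refl _) (Iso.refl _) (Iso.refl _) e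
      (by simp; rfl) (by simp; rfl) ?_ ?_
    · refine CommRingCat.hom_ext (RingHom.ext fun x => ?_)
      change Algebra.TensorProduct.lift C₀.val βa (fun _ _ => Commute.all _ _) (x ⊗ₜ[A] (1 : A')) = C₀.val x
      simp
    · refine CommRingCat.hom_ext (RingHom.ext fun x => ?_)
      change Algebra.TensorProduct.lift C₀.val βa (fun _ _ => Commute.all _ _) ((1 : C₀) ⊗ₜ[A] x) = β.hom x
      simp [βa]
  let Y : Over S := Over.mk (Spec.map c ≫ str)
  let ψ : Over.mk (Spec.map γ ≫ str) ⟶ Y := specHom c iC γ hcC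
  have sqY : IsPullback ψ (specHom (str := str) φ β γ hγ) (specToBase c) (specToBase φ) :=
    IsPullback.of_map (Over.forget S) (by rw [specHom_toBase, specHom_toBase])
      (isPullback_SpecMap_of_isPushout _ _ _ _ hpo₀)
  have hψ : fppf ψ.left :=
    MorphismProperty.of_isPullback (sqY.map (Over.forget S)).flip (fppf_of (Spec.map φ))
  have hwq : w ≫ q = (yon S).map (specToBase (str := str) γ) := by
    rw [sqW.w, ← Functor.map_comp, specHom_toBase]
  have hcompat : ∀ ⦃Z : Over S⦄ (a b : Z ⟶ Over.mk (Spec.map γ ≫ str)), a ≫ ψ = b ≫ ψ →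
      (yon S).map a ≫ w = (yon S).map b ≫ w := by
    intro Z a b hab
    let pr₁ : Over.mk (Spec.map (γ ≫ l) ≫ str) ⟶ Over.mk (Spec.map γ ≫ str) := specHom γ l _ rfl
    let pr₂ : Over.mk (Spec.map (γ ≫ l) ≫ str) ⟶ Over.mk (Spec.map γ ≫ str) := specHom γ δ _ hδ
    let prT : Over.mk (Spec.map (γ ≫ l) ≫ str) ⟶ Over.mk (Spec.map φ ≫ str) := specHom φ r _ hpo.w.symm
    have sqD : IsPullback pr₁ prT (specToBase γ) (specToBase φ) :=
      IsPullback.of_map (Over.forget S) (by rw [specHom_toBase, specHom_toBase])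
        (isPullback_SpecMap_of_isPushout _ _ _ _ hpo)
    have hab' : a ≫ specToBase γ = b ≫ specHom φ β γ hγ ≫ specToBase φ := by
      rw [specHom_toBase, ← specHom_toBase c iC γ hcC]
      exact (Category.assoc _ _ _).symm.trans ((congrArg (· ≫ specToBase c) hab).trans (Category.assoc _ _ _))
    obtain ⟨z, hz₁, hz₂⟩ := sqD.exists_lift a (b ≫ specHom φ β γ hγ) (by rw [Category.assoc]; exact hab')
    have e1 : pr₂ ≫ ψ = pr₁ ≫ ψ := Over.OverMorphism.ext (by
      change Spec.map δ ≫ Spec.map iC = Spec.map l ≫ Spec.map iC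
      rw [← Spec.map_comp, ← Spec.map_comp]
      congr 1
      exact CommRingCat.hom_ext (RingHom.ext fun x => x.2))
    have e2 : z ≫ pr₂ = b := by
      refine sqY.hom_ext ?_ ?_
      · rw [Category.assoc, e1, ← Category.assoc, hz₁, hab]
      · rw [Category.assoc]
        have : pr₂ ≫ specHom (str := str) φ β γ hγ = prT := by
          rw [specHom_comp]; exact specHom_congr _ _ _ _ hβδ
        rw [this, hz₂]
    rw [← e2, ← hz₁, Functor.map_comp, Functor.map_comp, Category.assoc, Category.assoc, hδw]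
  have hR : Sieve.generate (Presieve.singleton ψ) ∈ J S Y :=
    mem_J_of_fppf ψ hψ _ ⟨_, 𝟙 _, ψ, Presieve.singleton_self ψ, Category.id_comp _⟩
  have hs : Presieve.IsSheafFor P.obj (Presieve.singleton ψ) :=
    (Presieve.isSheafFor_iff_generate _).2 (((isSheaf_iff_isSheaf_of_type _ _).1 P.property) _ hR)
  obtain ⟨t, ht, -⟩ := Presieve.isSheafFor_singleton.1 hs ((J S).uliftYonedaEquiv w) fun {Z} a b hab => by
    rw [uliftYonedaEquiv_precomp, uliftYonedaEquiv_precomp, hcompat a b hab]
  let G : (yon S).obj Y ⟶ P := (J S).uliftYonedaEquiv.symm t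
  have hG : (yon S).map ψ ≫ G = w := (J S).uliftYonedaEquiv.injective (by
    rw [← uliftYonedaEquiv_precomp, Equiv.apply_symm_apply, ht])
  have hGq : G ≫ q = (yon S).map (specToBase c) := hom_ext_of_fppf ψ hψ _ _ (by
    rw [← Category.assoc, hG, hwq, ← Functor.map_comp, specHom_toBase])
  have hmono : Mono G := by
    refine mono_of_yon_injective fun Z a b hab => ?_
    obtain ⟨a, rfl⟩ := (yon S).map_surjective a
    obtain ⟨b, rfl⟩ := (yon S).map_surjective b
    have hst : a ≫ specToBase c = b ≫ specToBase c := (yon S).map_injective (by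
      rw [Functor.map_comp, Functor.map_comp, ← hGq, ← Category.assoc, ← Category.assoc, hab])
    let k := a.left ≫ Spec.map c
    let Z' : Over S := Over.mk (pullback.fst k (Spec.map φ) ≫ Z.hom)
    let π : Z' ⟶ Z := CategoryTheory.Over.homMk (pullback.fst k (Spec.map φ)) rfl
    let t' : Z' ⟶ Over.mk (Spec.map φ ≫ str) := CategoryTheory.Over.homMk (pullback.snd k (Spec.map φ)) (by
      change pullback.snd k _ ≫ Spec.map φ ≫ str = pullback.fst k _ ≫ Z.hom
      rw [← Over.w a, ← pullback.condition_assoc]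
      simp only [k, Category.assoc]
      rfl)
    have ht' : (π ≫ a) ≫ specToBase c = t' ≫ specToBase φ := Over.OverMorphism.ext (by
      change (pullback.fst k (Spec.map φ) ≫ a.left) ≫ Spec.map c = pullback.snd k (Spec.map φ) ≫ Spec.map φ
      rw [Category.assoc]
      exact pullback.condition)
    obtain ⟨a', ha₁, ha₂⟩ := sqY.exists_lift (π ≫ a) t' ht'
    obtain ⟨b', hb₁, hb₂⟩ := sqY.exists_lift (π ≫ b) t' (by rw [Category.assoc, ← hst, ← Category.assoc, ht'])
    have hfp : fppf π.left := MorphismProperty.pullback_fst k (Spec.map φ) (fppf_of (Spec.map φ))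
    refine hom_ext_of_fppf π hfp _ _ ?_
    rw [← Functor.map_comp, ← Functor.map_comp, ← ha₁, ← hb₁]
    congr 2
    refine (yon S).map_injective (sqW.hom_ext ?_ ?_)
    · rw [← hG, ← Functor.map_comp_assoc, ← Functor.map_comp_assoc, ha₁, hb₁, Functor.map_comp, Functor.map_comp,
        Category.assoc, Category.assoc, hab]
    · rw [← Functor.map_comp, ← Functor.map_comp, ha₂, hb₂]
  have hwls : Sheaf.IsLocallySurjective w := isLocallySurjective_of_repWith (repWith_of_isPullback sqW.flip
    ((repWith_yon_map_iff _ _).2 (fppf_of (Spec.map φ))))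
  have hls : Sheaf.IsLocallySurjective G := by
    refine isLocallySurjective_of_lifts G fun Z g => ?_
    have hf : RepWith fppf w := repWith_of_isPullback sqW.flip
      ((repWith_yon_map_iff _ _).2 (fppf_of (Spec.map φ)))
    exact ⟨_, hf.rep.snd g, hf.rep.fst g ≫ (yon S).map ψ, hf.property_snd g, by rw [Category.assoc, hG, hf.rep.w g]⟩
  have := isIso_of_mono_of_locallySurjective G
  exact ⟨C, c, asIso G, hGq⟩

end Geometry

end Groth.Agent.AlgSpDec
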