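import Mathlib.RingTheory.TensorProduct.Basic
import Mathlib.RingTheory.Flat.Basic
import Mathlib.Algebra.Algebra.Epi
import Mathlib.Algebra.Field.Subfield.Basic
import Mathlib.LinearAlgebra.Dimension.Finite
import Mathlib.LinearAlgebra.FreeModule.Finite.Basic
import Mathlib.LinearAlgebra.Dimension.Free
import Mathlib.LinearAlgebra.FiniteDimensional.Lemmas

/-!
# The quotient of a field by a finite equivalence relation

A finite equivalence relation on the spectrum of a field `K`, given by two maps `s, t : K → A`,
is `K ⊗[k] K` for the equalizer `k` of `s` and `t`.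
-/

universe u

open TensorProduct

namespace Groth.Agent.AlgSpDec

variable (K A : Type u) [Field K] [CommRing A] [Nontrivial A] [Algebra K A]

/-- A copy of `A`, to carry the second algebra structure. -/
def Twist (_t : K →+* A) : Type u := A

instance (t : K →+* A) : CommRing (Twist K A t) := inferInstanceAs (CommRing A)

noncomputable instance (t : K →+* A) : Algebra K (Twist K A t) := t.toAlgebra

variable {K A}

/-- The equalizer of the two maps. -/
abbrev eqField (t : K →+* A) : Subfield K := (algebraMap K A).eqLocusField t

theorem linearIndepOn_map (t : K →+* A) (e : A →+* K) (hes : ∀ x, e (algebraMap K A x) = x)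
    (het : ∀ x, e (t x) = x)
    (hcomp : ∀ (C : Type u) [CommRing C] (q q' : A →+* C), q.comp t = q'.comp (algebraMap K A) →
      ∃ r : A →+* C, r.comp (algebraMap K A) = q.comp (algebraMap K A) ∧ r.comp t = q'.comp t)
    (s : Finset K) (hs : LinearIndepOn (eqField t) id (s : Set K)) :
    LinearIndepOn K t (s : Set K) := by
  classical
  induction s using Finset.induction with
  | empty => simp
  | insert a s has ih =>
    rw [Finset.coe_insert, linearIndepOn_insert (by simpa using has)] at hs ⊢
    have hi := ih hs.1
    refine ⟨hi, fun hspan => hs.2 ?_⟩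
    obtain ⟨c, hc⟩ : ∃ c : K → K, ∑ i ∈ s, c i • t i = t a := by
      obtain ⟨f, hf, hfa⟩ := (Finsupp.mem_span_image_iff_linearCombination K).1 hspan
      refine ⟨f, ?_⟩
      rw [← hfa, Finsupp.linearCombination_apply, Finsupp.sum_of_support_subset f
        (by simpa [Finsupp.mem_supported] using hf) (fun i a => a • t i) (by simp)]
    let B := Twist K A t
    let j : A →+* B := RingHom.id A
    let q : A →+* B ⊗[K] A := (Algebra.TensorProduct.includeLeftRingHom).comp j
    let q' : A →+* B ⊗[K] A := (Algebra.TensorProduct.includeRight (R := K) (A := B) (B := A)).toRingHom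
    have hqq : q.comp t = q'.comp (algebraMap K A) := by
      ext x
      change (algebraMap K B x) ⊗ₜ[K] (1 : A) = (1 : B) ⊗ₜ[K] algebraMap K A x
      exact Algebra.TensorProduct.tmul_one_eq_one_tmul x
    obtain ⟨r, hr₁, hr₂⟩ := hcomp _ q q' hqq
    have h₁ := congrArg r hc
    have h₂ := congrArg q' hc
    simp only [Algebra.smul_def, map_sum, map_mul] at h₁ h₂
    simp only [← RingHom.comp_apply, hr₁, hr₂] at h₁
    simp only [RingHom.comp_apply] at h₁
    rw [← h₂, ← sub_eq_zero, ← Finset.sum_sub_distrib] at h₁
    have h₃ : ∀ i, q' (algebraMap K A (c i)) = q (t (c i)) := fun i => (RingHom.congr_fun hqq (c i)).symm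
    simp only [RingHom.comp_apply, h₃, ← sub_mul, ← map_sub] at h₁
    have hli := Module.Flat.linearIndependent_one_tmul (S := B) hi.linearIndependent
    have hzero : ∀ i ∈ s, j (algebraMap K A (c i) - t (c i)) = 0 := by
      have hsum : ∑ i : (s : Set K), (j (algebraMap K A (c i) - t (c i))) • ((1 : B) ⊗ₜ[K] t i) = 0 := by
        rw [← h₁, ← Finset.sum_coe_sort s]
        refine Finset.sum_congr rfl fun i _ => ?_
        simp only [q, q', RingHom.comp_apply, AlgHom.toRingHom_eq_coe, RingHom.coe_coe,
          Algebra.TensorProduct.includeLeftRingHom_apply, Algebra.TensorProduct.includeRight_apply,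
          Algebra.TensorProduct.tmul_mul_tmul, mul_one, one_mul, smul_tmul', smul_eq_mul]
      intro i hi'
      exact Fintype.linearIndependent_iff.1 hli _ hsum ⟨i, hi'⟩
    have hmem : ∀ i ∈ s, c i ∈ eqField t := fun i hi' => sub_eq_zero.1 (hzero i hi')
    have hxa := congrArg e hc
    simp only [Algebra.smul_def, map_sum, map_mul, hes, het] at hxa
    change a ∈ Submodule.span (eqField t) (id '' (s : Set K))
    rw [← hxa, Set.image_id]
    exact Submodule.sum_mem _ fun i hi' =>
      (Submodule.smul_mem _ (⟨c i, hmem i hi'⟩ : eqField t) (Submodule.subset_span hi'))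

theorem finite_over_eqField [Module.Finite K A] (t : K →+* A) (e : A →+* K)
    (hes : ∀ x, e (algebraMap K A x) = x) (het : ∀ x, e (t x) = x)
    (hcomp : ∀ (C : Type u) [CommRing C] (q q' : A →+* C), q.comp t = q'.comp (algebraMap K A) →
      ∃ r : A →+* C, r.comp (algebraMap K A) = q.comp (algebraMap K A) ∧ r.comp t = q'.comp t) :
    Module.Finite (eqField t) K ∧ Module.finrank (eqField t) K ≤ Module.finrank K A := by
  have hr : Module.rank (eqField t) K ≤ Module.finrank K A := rank_le fun s hs => by
    have := linearIndepOn_map t e hes het hcomp s hs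
    have h := this.linearIndependent.fintype_card_le_finrank
    simpa using h
  have hf : Module.Finite (eqField t) K :=
    Module.rank_lt_aleph0_iff.1 (lt_of_le_of_lt hr Cardinal.natCast_lt_aleph0)
  exact ⟨hf, by exact_mod_cast (Module.finrank_eq_rank (eqField t) K) ▸ hr⟩

/-- The second map as an algebra map over the equalizer. -/
noncomputable def tAlg (t : K →+* A) : K →ₐ[eqField t] A :=
  { t with commutes' := fun x => (x.2 : algebraMap K A x = t x).symm }

/-- The comparison `K ⊗[k] K → A`. -/
noncomputable def compare (t : K →+* A) : K ⊗[eqField t] K →ₐ[K] A :=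
  Algebra.TensorProduct.lift (Algebra.ofId K A) (tAlg t) fun _ _ => mul_comm _ _

/-- For a finite equivalence relation on a field, `A = K ⊗[k] K` with `k` the equalizer. -/
theorem bijective_compare [Module.Finite K A] (t : K →+* A) (e : A →+* K)
    (hes : ∀ x, e (algebraMap K A x) = x) (het : ∀ x, e (t x) = x)
    (hcomp : ∀ (C : Type u) [CommRing C] (q q' : A →+* C), q.comp t = q'.comp (algebraMap K A) →
      ∃ r : A →+* C, r.comp (algebraMap K A) = q.comp (algebraMap K A) ∧ r.comp t = q'.comp t)
    (hgen : ∀ (C : Type u) [CommRing C] (q q' : A →+* C),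
      q.comp (algebraMap K A) = q'.comp (algebraMap K A) → q.comp t = q'.comp t → q = q') :
    Function.Bijective (compare t) := by
  obtain ⟨hf, hle⟩ := finite_over_eqField t e hes het hcomp
  have hsurj : Function.Surjective (compare t) := by
    let P := K ⊗[eqField t] K
    let _ : Algebra P A := (compare t).toRingHom.toAlgebra
    have : IsScalarTower K P A := IsScalarTower.of_algebraMap_eq fun x => ((compare t).commutes x).symm
    have : Module.Finite P A := Module.Finite.of_restrictScalars_finite K P A
    have : Algebra.IsEpi P A := (Algebra.isEpi_iff_forall_one_tmul_eq P A).2 fun a => by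
      have hP : ∀ p : P, (1 : A) ⊗ₜ[P] compare t p = compare t p ⊗ₜ[P] 1 := fun p =>
        (Algebra.TensorProduct.tmul_one_eq_one_tmul p).symm
      refine RingHom.congr_fun (hgen _
        (Algebra.TensorProduct.includeRight (R := P) (A := A) (B := A)).toRingHom
        Algebra.TensorProduct.includeLeftRingHom ?_ ?_) a
      · ext x
        simpa [compare] using hP (x ⊗ₜ 1)
      · ext x
        have := hP (1 ⊗ₜ x)
        simp [compare] at this
        simpa [tAlg] using! this
    exact Algebra.isEpi_iff_surjective_algebraMap_of_finite.1 this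
  refine ⟨?_, hsurj⟩
  have h1 : Module.finrank K (K ⊗[eqField t] K) = Module.finrank (eqField t) K := Module.finrank_baseChange
  have h2 : Module.finrank K A ≤ Module.finrank K (K ⊗[eqField t] K) :=
    LinearMap.finrank_le_finrank_of_surjective (f := (compare t).toLinearMap) hsurj
  exact (LinearMap.injective_iff_surjective_of_finrank_eq_finrank (f := (compare t).toLinearMap) (by omega)).2 hsurj

end Groth.Agent.AlgSpDec
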