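import Groth.Agent.AlgSpLib.LocP
import Groth.Agent.AlgSpLib.EtLocalInst

/-!
Surjective chart diagrams compatible with a base change.
-/

set_option backward.isDefEq.respectTransparency false
set_option backward.isDefEq.respectTransparency.types false

universe u

open CategoryTheory CategoryTheory.Limits AlgebraicGeometry AlgSp Groth.Agent.AlgSpLib

namespace Groth.Agent.AlgSpDec

variable {S : Scheme.{u}} {F G : Sp S}

/-- Chart diagrams of a morphism and of a base change of it related by a cartesian square of schemes, with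
surjective source chart on the base change. -/
theorem exists_baseChange_charts {F' G' : Sp S} {f : F ⟶ G} {g : G' ⟶ G} {fst : F' ⟶ F}
    {snd : F' ⟶ G'} (sq : IsPullback fst snd f g) (hF : IsAlgSpace F) (hG : IsAlgSpace G)
    (hG' : IsAlgSpace G') :
    ∃ (U V W : Over S) (a : (yon S).obj U ⟶ F) (b : (yon S).obj V ⟶ G) (c : (yon S).obj W ⟶ G')
      (h : U ⟶ V) (h₁ : W ⟶ V) (a' : (yon S).obj (Limits.pullback h h₁) ⟶ F'),
      RepWith @Etale a ∧ RepWith @Etale b ∧ RepWith @Etale c ∧ a ≫ f = (yon S).map h ≫ b ∧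
      RepWith @Etale a' ∧ RepWith @Surjective a' ∧ a' ≫ snd = (yon S).map (pullback.snd h h₁) ≫ c ∧
      a' ≫ fst = (yon S).map (pullback.fst h h₁) ≫ a := by
  obtain ⟨V, b, hb, hb'⟩ := hG.atlas
  obtain ⟨U, a₀, h, h1, h2, h3⟩ := exists_chart_over hF hG f b
  obtain ⟨W, c₀, h₁, hc1, hc2, hc3⟩ := exists_chart_over hG' hG g b
  let c := c₀ ≫ pullback.fst g b
  have hc : c ≫ g = (yon S).map h₁ ≫ b := by
    rw [Category.assoc, pullback.condition, ← Category.assoc, hc3]
  let Q := pullback f (c ≫ g)
  let n : Q ⟶ pullback f b := pullback.lift (pullback.fst _ _) (pullback.snd _ _ ≫ (yon S).map h₁)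
    (pullback.condition.trans ((congrArg (pullback.snd f (c ≫ g) ≫ ·) hc).trans (Category.assoc _ _ _).symm))
  have sn : IsPullback n (pullback.snd f (c ≫ g)) (pullback.snd f b) ((yon S).map h₁) := by
    refine IsPullback.of_right ?_ (pullback.lift_snd _ _ _) (IsPullback.of_hasPullback f b)
    rw [pullback.lift_fst, ← hc]
    exact IsPullback.of_hasPullback f (c ≫ g)
  let m : Q ⟶ F' := sq.lift (pullback.fst _ _) (pullback.snd _ _ ≫ c)
    (pullback.condition.trans (Category.assoc _ _ _).symm)
  have sm : IsPullback m (pullback.snd f (c ≫ g)) snd c := by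
    refine IsPullback.of_right ?_ (sq.lift_snd _ _ _) sq
    rw [IsPullback.lift_fst]
    exact IsPullback.of_hasPullback f (c ≫ g)
  have st := IsPullback.of_hasPullback a₀ n
  let X := Limits.pullback h h₁
  have sX : IsPullback ((yon S).map (pullback.fst h h₁)) ((yon S).map (pullback.snd h h₁))
      ((yon S).map h) ((yon S).map h₁) := (IsPullback.of_hasPullback h h₁).map (yon S)
  have sY : IsPullback (pullback.fst a₀ n) (pullback.snd a₀ n ≫ pullback.snd f (c ≫ g))
      ((yon S).map h) ((yon S).map h₁) := h3 ▸ st.paste_vert sn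
  let e := IsPullback.isoIsPullback _ _ sX sY
  let a' : (yon S).obj X ⟶ F' := (e.hom ≫ pullback.snd a₀ n) ≫ m
  have ha' : ∀ (R : MorphismProperty Scheme.{u}) [R.IsStableUnderBaseChange] [R.IsMultiplicative],
      RepWith R a₀ → RepWith R c₀ → RepWith R b → RepWith R a' := fun R _ _ h₀ hc₀ hb₀ =>
    repWith_comp (repWith_comp (repWith_of_isIso R e.hom) (repWith_of_isPullback st h₀))
      (repWith_of_isPullback sm.flip (repWith_comp hc₀ (repWith_fst g hb₀)))
  refine ⟨U, V, W, a₀ ≫ pullback.fst f b, b, c, h, h₁, a', repWith_comp h1 (repWith_fst f hb), hb,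
    repWith_comp hc1 (repWith_fst g hb), ?_, ha' _ h1 hc1 hb, ha' _ h2 hc2 hb', ?_, ?_⟩
  · rw [Category.assoc, pullback.condition, ← Category.assoc, h3]
  · calc a' ≫ snd = (e.hom ≫ pullback.snd a₀ n ≫ pullback.snd f (c ≫ g)) ≫ c := by
          simp [a', sm.w]
      _ = (yon S).map (pullback.snd h h₁) ≫ c := by rw [IsPullback.isoIsPullback_hom_snd]
  · calc a' ≫ fst = (e.hom ≫ pullback.fst a₀ n) ≫ a₀ ≫ pullback.fst f b := by
          have := congrArg (· ≫ pullback.fst f b) st.w
          simp only [Category.assoc] at this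
          simp [a', m, n, this]
      _ = (yon S).map (pullback.fst h h₁) ≫ a₀ ≫ pullback.fst f b := by
          rw [IsPullback.isoIsPullback_hom_fst]

end Groth.Agent.AlgSpDec
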