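import Mathlib.AlgebraicGeometry.Morphisms.FlatRank
import Mathlib.AlgebraicGeometry.Artinian
import Mathlib.AlgebraicGeometry.Morphisms.Etale
import Mathlib.RingTheory.Unramified.LocalStructure
import Groth.Agent.EtFound.Descent

/-!
# Finite schemes over a field and bounds on their degrees
-/

set_option backward.isDefEq.respectTransparency false
set_option backward.isDefEq.respectTransparency.types false

open CategoryTheory Limits AlgebraicGeometry TensorProduct

namespace Groth.Agent.AlgSpDec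

universe u

variable {K : Type u} [Field K]

/-- `c` is finite of degree at most `n` over the field `K`. -/
def DegLE (n : ℕ) {T : Scheme.{u}} (c : T ⟶ Spec (.of K)) : Prop :=
  IsFinite c ∧ ∀ s, c.finrank s ≤ n

theorem flat_toField {T : Scheme.{u}} (c : T ⟶ Spec (.of K)) : Flat c := by
  have : Subsingleton ↥(Spec (.of K)) := inferInstanceAs (Subsingleton (PrimeSpectrum K))
  infer_instance

theorem DegLE.mono {n m : ℕ} (h : n ≤ m) {T : Scheme.{u}} {c : T ⟶ Spec (.of K)} (hc : DegLE n c) :
    DegLE m c := ⟨hc.1, fun s => (hc.2 s).trans h⟩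

theorem degLE_comp_iso_iff {n : ℕ} {T T' : Scheme.{u}} (e : T' ⟶ T) [IsIso e] (c : T ⟶ Spec (.of K)) :
    DegLE n (e ≫ c) ↔ DegLE n c := by
  have := flat_toField c
  refine ⟨fun ⟨h, hn⟩ => ?_, fun ⟨h, hn⟩ => ?_⟩
  · have : IsFinite c := (MorphismProperty.cancel_left_of_respectsIso @IsFinite e c).1 h
    exact ⟨this, fun s => by simpa using hn s⟩
  · have : IsFinite c := h
    exact ⟨inferInstance, fun s => by simpa using hn s⟩

theorem degLE_spec_iff {n : ℕ} (B : Type u) [CommRing B] [Algebra K B] :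
    DegLE n (Spec.map (CommRingCat.ofHom (algebraMap K B))) ↔
      Module.Finite K B ∧ Module.finrank K B ≤ n := by
  have h : IsFinite (Spec.map (CommRingCat.ofHom (algebraMap K B))) ↔ Module.Finite K B := by
    rw [IsFinite.SpecMap_iff]; exact RingHom.finite_algebraMap
  constructor
  · intro ⟨hf, hn⟩
    have := h.1 hf
    refine ⟨this, ?_⟩
    have h2 := hn (IsLocalRing.closedPoint K)
    rwa [Scheme.Hom.finrank_SpecMap_algebraMap, Module.rankAtStalk_eq_finrank_of_free] at h2
  · intro ⟨hf, hn⟩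
    refine ⟨h.2 hf, fun s => ?_⟩
    rwa [Scheme.Hom.finrank_SpecMap_algebraMap, Module.rankAtStalk_eq_finrank_of_free]

/-- An affine scheme over a field is the spectrum of an algebra. -/
theorem exists_spec {T : Scheme.{u}} [IsAffine T] (c : T ⟶ Spec (.of K)) :
    ∃ (B : Type u) (_ : CommRing B) (_ : Algebra K B) (e : T ≅ Spec (.of B)),
      e.hom ≫ Spec.map (CommRingCat.ofHom (algebraMap K B)) = c := by
  let φ := Spec.preimage (T.isoSpec.inv ≫ c)
  refine ⟨Γ(T, ⊤), inferInstance, φ.hom.toAlgebra, T.isoSpec, ?_⟩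
  have : CommRingCat.ofHom (φ.hom) = φ := rfl
  rw [RingHom.algebraMap_toAlgebra]
  change _ ≫ Spec.map φ = c
  rw [Spec.map_preimage, Iso.hom_inv_id_assoc]

theorem DegLE.exists_spec {n : ℕ} {T : Scheme.{u}} {c : T ⟶ Spec (.of K)} (h : DegLE n c) :
    ∃ (B : Type u) (_ : CommRing B) (_ : Algebra K B) (e : T ≅ Spec (.of B)),
      e.hom ≫ Spec.map (CommRingCat.ofHom (algebraMap K B)) = c ∧ Module.Finite K B ∧
        Module.finrank K B ≤ n := by
  have := h.1
  have : IsAffine T := isAffine_of_isAffineHom c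
  obtain ⟨B, _, _, e, he⟩ := AlgSpDec.exists_spec c
  rw [← he, degLE_comp_iso_iff, degLE_spec_iff] at h
  exact ⟨B, _, _, e, he, h.1, h.2⟩

theorem card_primeSpectrum_le_finrank (B : Type u) [CommRing B] [Algebra K B] [Module.Finite K B] :
    Nat.card (PrimeSpectrum B) ≤ Module.finrank K B := by
  classical
  have : IsArtinianRing B := IsArtinianRing.of_finite K B
  have := Fintype.ofFinite (PrimeSpectrum B)
  let f : B →ₗ[K] (Π p : PrimeSpectrum B, B ⧸ p.asIdeal) :=
    LinearMap.pi fun p => (Ideal.Quotient.mkₐ K p.asIdeal).toLinearMap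
  have hmax (p : PrimeSpectrum B) : p.asIdeal.IsMaximal := IsArtinianRing.isMaximal_of_isPrime _
  have hf : Function.Surjective f := by
    intro y
    choose z hz using fun p => Ideal.Quotient.mk_surjective (y p)
    obtain ⟨b, hb⟩ := Ideal.exists_forall_sub_mem_ideal
      (I := fun p : PrimeSpectrum B => p.asIdeal)
      (fun p q hpq => Ideal.isCoprime_iff_sup_eq.2 ((hmax p).coprime_of_ne (hmax q)
        fun h => hpq (PrimeSpectrum.ext h))) z
    exact ⟨b, funext fun p => (Ideal.Quotient.eq.2 (hb p)).trans (hz p)⟩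
  have h1 : ∀ p : PrimeSpectrum B, 1 ≤ Module.finrank K (B ⧸ p.asIdeal) := fun p => by
    have : Nontrivial (B ⧸ p.asIdeal) := Ideal.Quotient.nontrivial_iff.2 p.isPrime.ne_top
    exact Module.finrank_pos
  have h2 := LinearMap.finrank_le_finrank_of_surjective hf
  rw [Module.finrank_pi_fintype] at h2
  refine le_trans ?_ h2
  rw [Nat.card_eq_fintype_card, Fintype.card_eq_sum_ones]
  exact Finset.sum_le_sum fun p _ => h1 p

theorem DegLE.space {n : ℕ} {T : Scheme.{u}} {c : T ⟶ Spec (.of K)} (h : DegLE n c) :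
    Finite ↥T ∧ DiscreteTopology ↥T ∧ Nat.card ↥T ≤ n := by
  obtain ⟨B, _, _, e, -, hfin, hn⟩ := h.exists_spec
  have : IsArtinianRing B := IsArtinianRing.of_finite K B
  have : DiscreteTopology ↥(Spec (.of B)) := inferInstanceAs (DiscreteTopology (PrimeSpectrum B))
  refine ⟨Finite.of_equiv (PrimeSpectrum B) e.hom.homeomorph.symm.toEquiv,
    e.hom.homeomorph.symm.discreteTopology, ?_⟩
  rw [Nat.card_congr e.hom.homeomorph.toEquiv]
  exact (card_primeSpectrum_le_finrank (K := K) B).trans hn

theorem DegLE.isAffine {n : ℕ} {T : Scheme.{u}} {c : T ⟶ Spec (.of K)} (h : DegLE n c) : IsAffine T := by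
  have := h.1
  exact isAffine_of_isAffineHom c

theorem exists_algHom {B C : Type u} [CommRing B] [CommRing C] [Algebra K B] [Algebra K C]
    (g : Spec (.of C) ⟶ Spec (.of B))
    (hg : g ≫ Spec.map (CommRingCat.ofHom (algebraMap K B)) = Spec.map (CommRingCat.ofHom (algebraMap K C))) :
    ∃ φ : B →ₐ[K] C, Spec.map (CommRingCat.ofHom φ.toRingHom) = g := by
  rw [← Spec.map_preimage g, ← Spec.map_comp] at hg
  refine ⟨{ (Spec.preimage g).hom with commutes' := fun k => ?_ }, by simp⟩
  exact congrArg (fun m : CommRingCat.of K ⟶ CommRingCat.of C => m.hom k) (Spec.map_injective hg)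

theorem DegLE.closedImmersion {n : ℕ} {T W : Scheme.{u}} {c : T ⟶ Spec (.of K)} (h : DegLE n c)
    (i : W ⟶ T) [IsClosedImmersion i] : DegLE n (i ≫ c) := by
  have := h.isAffine
  have : IsAffine W := isAffine_of_isAffineHom i
  obtain ⟨B, _, _, e, he, hfin, hn⟩ := h.exists_spec
  obtain ⟨C, _, _, e', he'⟩ := AlgSpDec.exists_spec (i ≫ c)
  obtain ⟨φ, hφ⟩ := exists_algHom (K := K) (e'.inv ≫ i ≫ e.hom) (by
    rw [Category.assoc, Category.assoc, he, ← he', Iso.inv_hom_id_assoc])
  have hs : Function.Surjective φ := by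
    have : IsClosedImmersion (Spec.map (CommRingCat.ofHom φ.toRingHom)) := by rw [hφ]; infer_instance
    have h1 := ((HasAffineProperty.iff_of_isAffine (P := @IsClosedImmersion)).1 this).2
    have h2 := Scheme.ΓSpecIso_naturality (CommRingCat.ofHom φ.toRingHom)
    intro y
    obtain ⟨x, hx⟩ := h1 ((Scheme.ΓSpecIso (.of C)).inv y)
    refine ⟨(Scheme.ΓSpecIso (.of B)).hom x, ?_⟩
    have := congrArg (fun m => (ConcreteCategory.hom m) x) h2
    rw [ConcreteCategory.comp_apply, ConcreteCategory.comp_apply, hx, ← ConcreteCategory.comp_apply,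
      Iso.inv_hom_id] at this
    exact this.symm
  rw [← he', degLE_comp_iso_iff, degLE_spec_iff]
  have : Module.Finite K C := Module.Finite.of_surjective φ.toLinearMap hs
  exact ⟨this, (LinearMap.finrank_le_finrank_of_surjective (f := φ.toLinearMap) hs).trans hn⟩

theorem degLE_of_isEmpty {T : Scheme.{u}} [IsEmpty ↥T] (c : T ⟶ Spec (.of K)) : DegLE 0 c := by
  have : DiscreteTopology ↥T := ⟨Subsingleton.elim _ _⟩
  obtain ⟨B, _, _, e, he⟩ := exists_spec c
  rw [← he, degLE_comp_iso_iff, degLE_spec_iff]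
  have : IsEmpty (PrimeSpectrum B) := Function.isEmpty e.inv.homeomorph
  have : Subsingleton B := PrimeSpectrum.isEmpty_iff_subsingleton.1 this
  exact ⟨Module.Finite.of_finite, (Module.finrank_zero_of_subsingleton).le⟩

theorem degLE_baseChange_iff {n : ℕ} {L : Type u} [Field L] {T T' : Scheme.{u}}
    {c : T ⟶ Spec (.of K)} {z : Spec (.of L) ⟶ Spec (.of K)} {c' : T' ⟶ Spec (.of L)} {h : T' ⟶ T}
    (sq : IsPullback h c' c z) : DegLE n c' ↔ DegLE n c := by
  have := flat_toField c
  have := flat_toField z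
  have : Surjective z := ⟨fun x => ⟨IsLocalRing.closedPoint L, Subsingleton.elim (α := PrimeSpectrum K) _ _⟩⟩
  have hz : (@Surjective ⊓ @Flat ⊓ @QuasiCompact : MorphismProperty Scheme.{u}) z :=
    ⟨⟨‹_›, ‹_›⟩, inferInstance⟩
  have := EtFound.fpqc_isFinite.{u}
  constructor
  · intro ⟨hf, hn⟩
    have : IsFinite c :=
      MorphismProperty.of_isPullback_of_descendsAlong (P := @IsFinite) sq.flip hz hf
    refine ⟨this, fun s => ?_⟩
    obtain rfl : z (IsLocalRing.closedPoint L) = s := Subsingleton.elim (α := PrimeSpectrum K) _ _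
    rw [← Scheme.Hom.finrank_of_isPullback h c' c z sq]
    exact hn _
  · intro ⟨hf, hn⟩
    refine ⟨MorphismProperty.of_isPullback (P := @IsFinite) sq hf, fun s => ?_⟩
    rw [Scheme.Hom.finrank_of_isPullback h c' c z sq]
    exact hn _

/-- The degree bound descends along flat surjective morphisms over the field. -/
theorem DegLE.of_flat_surjective {n : ℕ} {T W : Scheme.{u}} {c : T ⟶ Spec (.of K)} (g : W ⟶ T)
    [Flat g] [Surjective g] (h : DegLE n (g ≫ c)) : DegLE n c := by
  obtain ⟨hW, hWd, -⟩ := h.space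
  have : Finite ↥T := Finite.of_surjective g g.surjective
  have aff : ∀ O : T.Opens, IsAffineOpen O → DegLE n (O.ι ≫ c) := by
    intro O hO
    have : IsAffine O.toScheme := hO
    have : IsClosedImmersion (g ⁻¹ᵁ O).ι :=
      IsClosedImmersion.of_isPreimmersion _ (by rw [Scheme.Opens.range_ι]; exact isClosed_discrete _)
    have h' := h.closedImmersion (g ⁻¹ᵁ O).ι
    rw [← Category.assoc, ← morphismRestrict_ι g O, Category.assoc] at h'
    have := h'.isAffine
    obtain ⟨C, _, _, e', he', hfin, hn⟩ := h'.exists_spec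
    obtain ⟨B, _, _, e, he⟩ := AlgSpDec.exists_spec (O.ι ≫ c)
    obtain ⟨φ, hφ⟩ := exists_algHom (K := K) (e'.inv ≫ (g ∣_ O) ≫ e.hom) (by
      rw [Category.assoc, Category.assoc, he, ← he', Iso.inv_hom_id_assoc])
    have : Surjective (g ∣_ O) :=
      MorphismProperty.of_isPullback (P := @Surjective) (isPullback_morphismRestrict g O).flip ‹_›
    have hi : Function.Injective φ := by
      have h1 : Flat (Spec.map (CommRingCat.ofHom φ.toRingHom)) := by rw [hφ]; infer_instance
      have h2 : Surjective (Spec.map (CommRingCat.ofHom φ.toRingHom)) := by rw [hφ]; infer_instance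
      exact (RingHom.FaithfullyFlat.iff_flat_and_comap_surjective.2
        ⟨Flat.SpecMap_iff.1 h1, h2.surj⟩).injective
    rw [← he, degLE_comp_iso_iff, degLE_spec_iff]
    have : Module.Finite K B := Module.Finite.of_injective φ.toLinearMap hi
    exact ⟨this, (LinearMap.finrank_le_finrank_of_injective (f := φ.toLinearMap) hi).trans hn⟩
  have : DiscreteTopology ↥T := by
    refine discreteTopology_iff_forall_isOpen.2 fun U => ?_
    refine isOpen_iff_forall_mem_open.2 fun t ht => ⟨{t}, Set.singleton_subset_iff.2 ht, ?_, rfl⟩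
    obtain ⟨O, hO, htO, -⟩ := exists_isAffineOpen_mem_and_subset (U := (⊤ : T.Opens)) (x := t) trivial
    haveI : DiscreteTopology ↥(O : Set ↥T) := (aff O hO).space.2.1
    have h2 := O.2.isOpenMap_subtype_val {(⟨t, htO⟩ : O)} (isOpen_discrete _)
    rwa [Set.image_singleton] at h2
  have h' := aff ⊤ (isAffineOpen_top T)
  rwa [← Scheme.topIso_hom, degLE_comp_iso_iff] at h'

theorem degLE_sigma {ι : Type u} [Fintype ι] {W : ι → Scheme.{u}} (c : ∀ i, W i ⟶ Spec (.of K))
    (d : ι → ℕ) (h : ∀ i, DegLE (d i) (c i)) : DegLE (∑ i, d i) (Sigma.desc c) := by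
  choose B _ _ e he hfin hn using fun i => (h i).exists_spec
  have key : Sigma.desc c = ((Sigma.mapIso e).hom ≫ sigmaSpec fun i => CommRingCat.of (B i)) ≫
      Spec.map (CommRingCat.ofHom (algebraMap K (Π i, B i))) := by
    refine Sigma.hom_ext _ _ fun i => ?_
    simp only [Sigma.ι_desc, Category.assoc, Sigma.ι_mapIso_hom_assoc, ι_sigmaSpec_assoc]
    rw [← Spec.map_comp, ← he i]
    rfl
  rw [key]
  refine (degLE_comp_iso_iff _ _).2 ((degLE_spec_iff _).2 ⟨inferInstance, ?_⟩)
  rw [Module.finrank_pi_fintype]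
  exact Finset.sum_le_sum fun i _ => hn i

/-- A scheme covered by finitely many flat pieces of bounded degree has bounded degree. -/
theorem degLE_of_cover {ι : Type u} [Fintype ι] {T : Scheme.{u}} {c : T ⟶ Spec (.of K)} {W : ι → Scheme.{u}}
    (g : ∀ i, W i ⟶ T) [∀ i, Flat (g i)] (hsurj : ∀ t, ∃ i w, g i w = t) (d : ι → ℕ)
    (h : ∀ i, DegLE (d i) (g i ≫ c)) : DegLE (∑ i, d i) c := by
  have hS : Surjective (Sigma.desc g) := ⟨fun t => by
    obtain ⟨i, w, rfl⟩ := hsurj t
    exact ⟨Sigma.ι W i w, by rw [← Scheme.Hom.comp_apply, Sigma.ι_desc]⟩⟩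
  have hF : Flat (Sigma.desc g) := by
    refine IsZariskiLocalAtSource.of_openCover (sigmaOpenCover W) fun i => ?_
    change Flat (Sigma.ι W i ≫ Sigma.desc g)
    rw [Sigma.ι_desc]; infer_instance
  refine DegLE.of_flat_surjective (Sigma.desc g) ?_
  rw [show Sigma.desc g ≫ c = Sigma.desc fun i => g i ≫ c from Sigma.hom_ext _ _ fun i => by simp]
  exact degLE_sigma _ d h

/-- Generators modulo every maximal ideal generate a module over an Artinian ring. -/
theorem exists_span_eq_top {B C : Type u} [CommRing B] [IsArtinianRing B] [AddCommGroup C] [Module B C]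
    {r : ℕ} (h : ∀ p : PrimeSpectrum B, ∃ x : Fin r → C,
      Submodule.span B (Set.range x) ⊔ p.asIdeal • (⊤ : Submodule B C) = ⊤) :
    ∃ y : Fin r → C, Submodule.span B (Set.range y) = ⊤ := by
  classical
  have := Fintype.ofFinite (PrimeSpectrum B)
  choose x hx using h
  have hmax (p : PrimeSpectrum B) : p.asIdeal.IsMaximal := IsArtinianRing.isMaximal_of_isPrime _
  have hco : Pairwise fun p q : PrimeSpectrum B => IsCoprime p.asIdeal q.asIdeal := fun p q hpq =>
    Ideal.isCoprime_iff_sup_eq.2 ((hmax p).coprime_of_ne (hmax q) fun h => hpq (PrimeSpectrum.ext h))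
  have hδ : ∀ p : PrimeSpectrum B, ∃ a : B, ∀ q : PrimeSpectrum B,
      a - (if q = p then (1 : B) else 0) ∈ q.asIdeal := fun p =>
    Ideal.exists_forall_sub_mem_ideal hco fun q => if q = p then (1 : B) else 0
  choose e he using hδ
  let y : Fin r → C := fun j => ∑ p, e p • x p j
  refine ⟨y, ?_⟩
  obtain ⟨Y, hYd⟩ : ∃ Y : Submodule B C, Y = Submodule.span B (Set.range y) := ⟨_, rfl⟩
  rw [← hYd]
  have hY : ∀ q : PrimeSpectrum B, Y ⊔ q.asIdeal • (⊤ : Submodule B C) = ⊤ := by
    intro q
    refine eq_top_iff.2 (le_of_eq_of_le (hx q).symm ?_)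
    refine @sup_le _ _ (Submodule.span B (Set.range (x q))) (q.asIdeal • (⊤ : Submodule B C)) _
      ?_ (@le_sup_right _ _ Y (q.asIdeal • (⊤ : Submodule B C)))
    rw [Submodule.span_le]
    rintro _ ⟨j, rfl⟩
    have : y j - x q j ∈ q.asIdeal • (⊤ : Submodule B C) := by
      have : y j - x q j = ∑ p, (e p - if q = p then (1 : B) else 0) • x p j := by
        simp [y, sub_smul, Finset.sum_sub_distrib, ite_smul]
      rw [this]
      exact Submodule.sum_mem _ fun p _ => Submodule.smul_mem_smul (he p q) Submodule.mem_top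
    rw [SetLike.mem_coe, show x q j = y j - (y j - x q j) by abel]
    exact sub_mem (Submodule.mem_sup_left (hYd ▸ Submodule.subset_span ⟨j, rfl⟩)) (Submodule.mem_sup_right this)
  have mul : ∀ I J : Ideal B, Y ⊔ I • (⊤ : Submodule B C) = ⊤ → Y ⊔ J • (⊤ : Submodule B C) = ⊤ →
      Y ⊔ (I * J) • (⊤ : Submodule B C) = ⊤ := by
    intro I J hI hJ
    refine eq_top_iff.2 (le_of_eq_of_le hI.symm (sup_le le_sup_left ?_))
    refine le_trans (Submodule.smul_mono le_rfl hJ.ge) ?_
    rw [Submodule.smul_sup, ← Submodule.mul_smul]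
    exact sup_le (Submodule.smul_le_right.trans le_sup_left) le_sup_right
  let P : Ideal B := ∏ p : PrimeSpectrum B, p.asIdeal
  have hP : Y ⊔ P • (⊤ : Submodule B C) = ⊤ :=
    Finset.prod_induction _ (fun I => Y ⊔ I • (⊤ : Submodule B C) = ⊤) mul (by simp) fun p _ => hY p
  have hPk : ∀ k, Y ⊔ P ^ k • (⊤ : Submodule B C) = ⊤ := by
    intro k; induction k with
    | zero => simp
    | succ k ih => rw [pow_succ]; exact mul _ _ ih hP
  obtain ⟨k, hk⟩ := IsArtinianRing.isNilpotent_nilradical (R := B)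
  have hle : P ≤ nilradical B := by
    rw [nilradical_eq_sInf]
    exact le_sInf fun I hI => Ideal.prod_le_inf.trans
      (Finset.inf_le (f := fun q : PrimeSpectrum B => q.asIdeal) (Finset.mem_univ ⟨I, hI⟩))
  have hz : P ^ k = ⊥ := le_bot_iff.1 ((Ideal.pow_right_mono hle k).trans hk.le)
  simpa [hz] using hPk k

/-- An affine scheme over an affine scheme is the spectrum of an algebra. -/
theorem exists_spec_ring {B : Type u} [CommRing B] {T : Scheme.{u}} [IsAffine T] (g : T ⟶ Spec (.of B)) :
    ∃ (C : Type u) (_ : CommRing C) (_ : Algebra B C) (e : T ≅ Spec (.of C)),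
      e.hom ≫ Spec.map (CommRingCat.ofHom (algebraMap B C)) = g := by
  let φ := Spec.preimage (T.isoSpec.inv ≫ g)
  refine ⟨Γ(T, ⊤), inferInstance, φ.hom.toAlgebra, T.isoSpec, ?_⟩
  rw [RingHom.algebraMap_toAlgebra]
  change _ ≫ Spec.map φ = g
  rw [Spec.map_preimage, Iso.hom_inv_id_assoc]

theorem degLE_iff_of_isPullback {n : ℕ} {X Y P P' : Scheme.{u}} {f : X ⟶ Y} {z : Spec (.of K) ⟶ Y}
    {fst : P ⟶ Spec (.of K)} {snd : P ⟶ X} {fst' : P' ⟶ Spec (.of K)} {snd' : P' ⟶ X}
    (sq : IsPullback fst snd z f) (sq' : IsPullback fst' snd' z f) : DegLE n fst ↔ DegLE n fst' := by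
  rw [← sq.isoIsPullback_hom_fst _ _ sq', degLE_comp_iso_iff]

/-- The degree bound is multiplicative in towers. -/
theorem DegLE.comp {n r : ℕ} {T T' : Scheme.{u}} {c' : T' ⟶ Spec (.of K)} (h : DegLE n c') (f : T ⟶ T')
    (hf : ∀ (L : Type u) [Field L] (z : Spec (.of L) ⟶ T'), DegLE r (pullback.fst z f)) :
    DegLE (r * n) (f ≫ c') := by
  classical
  obtain ⟨B, _, _, e, he, hfin, hn⟩ := h.exists_spec
  have : IsArtinianRing B := IsArtinianRing.of_finite K B
  obtain ⟨g, rfl⟩ : ∃ g, f = g ≫ e.inv := ⟨f ≫ e.hom, by simp⟩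
  rw [← he, Category.assoc, Iso.inv_hom_id_assoc]
  let z (p : PrimeSpectrum B) : Spec (.of p.asIdeal.ResidueField) ⟶ Spec (.of B) :=
    Spec.map (CommRingCat.ofHom (algebraMap B p.asIdeal.ResidueField))
  have hmax (p : PrimeSpectrum B) : p.asIdeal.IsMaximal := IsArtinianRing.isMaximal_of_isPrime _
  have hq (p : PrimeSpectrum B) : DegLE r (pullback.fst (z p) g) :=
    (degLE_iff_of_isPullback (IsPullback.of_hasPullback (z p ≫ e.inv) (g ≫ e.inv))
      ((IsPullback.of_hasPullback (z p) g).of_iso (fst' := pullback.fst (z p) g)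
        (snd' := pullback.snd (z p) g) (f' := z p ≫ e.inv) (g' := g ≫ e.inv)
        (Iso.refl _) (Iso.refl _) (Iso.refl _) e.symm
        (by simp) (by simp) (by simp) (by simp))).1 (hf _ (z p ≫ e.inv))
  have hsur (p : PrimeSpectrum B) : Function.Surjective (algebraMap B p.asIdeal.ResidueField) := by
    rw [IsScalarTower.algebraMap_eq B (B ⧸ p.asIdeal) p.asIdeal.ResidueField]
    exact p.asIdeal.bijective_algebraMap_quotient_residueField.2.comp Ideal.Quotient.mk_surjective
  have : DiscreteTopology ↥(Spec (.of B)) := inferInstanceAs (DiscreteTopology (PrimeSpectrum B))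
  have hrange (p : PrimeSpectrum B) : Set.range (pullback.snd (z p) g) = g ⁻¹' {p} := by
    rw [Scheme.Pullback.range_snd]
    congr 1
    have : ∀ x, z p x = p := fun x => PrimeSpectrum.ext (by
      change (x : PrimeSpectrum p.asIdeal.ResidueField).asIdeal.comap _ = p.asIdeal
      have : (x : PrimeSpectrum p.asIdeal.ResidueField).asIdeal = ⊥ :=
        (Ideal.eq_bot_or_top _).resolve_right (x : PrimeSpectrum p.asIdeal.ResidueField).isPrime.ne_top
      rw [this]
      exact p.asIdeal.ker_algebraMap_residueField)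
    exact Set.eq_singleton_iff_unique_mem.2 ⟨⟨IsLocalRing.closedPoint _, this _⟩,
      Set.forall_mem_range.2 this⟩
  have : Finite ↥T := by
    refine Set.finite_univ_iff.1 ((Set.finite_iUnion fun p : PrimeSpectrum B => ?_).subset
      fun t _ => Set.mem_iUnion (s := fun p : PrimeSpectrum B => g ⁻¹' ({p} : Set (PrimeSpectrum B))).2 ⟨g t, rfl⟩ : (Set.univ : Set ↥T).Finite)
    have := (hq p).space.1
    rw [show g ⁻¹' ({p} : Set (PrimeSpectrum B)) = Set.range (pullback.snd (z p) g) from (hrange p).symm]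
    exact Set.finite_range _
  have : DiscreteTopology ↥T := by
    refine discreteTopology_iff_forall_isOpen.2 fun U => ?_
    refine isOpen_iff_forall_mem_open.2 fun t ht => ⟨{t}, Set.singleton_subset_iff.2 ht, ?_, rfl⟩
    have : IsClosedImmersion (z (g t)) := IsClosedImmersion.spec_of_surjective _ (hsur _)
    have : DiscreteTopology ↥(pullback (z (g t)) g : Scheme.{u}) := (hq (g t)).space.2.1
    have ho : Topology.IsOpenEmbedding (pullback.snd (z (g t)) g) :=
      ⟨(pullback.snd (z (g t)) g).isEmbedding, by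
        rw [hrange]; exact (isOpen_discrete _).preimage g.continuous⟩
    obtain ⟨w, hw⟩ : t ∈ Set.range (pullback.snd (z (g t)) g) := by rw [hrange]; rfl
    have h2 := ho.isOpenMap {w} (isOpen_discrete _)
    rwa [Set.image_singleton, hw] at h2
  obtain ⟨C, _, _, eC, heC⟩ := exists_spec_ring g
  let _ : Algebra K C := ((algebraMap B C).comp (algebraMap K B)).toAlgebra
  have : IsScalarTower K B C := .of_algebraMap_eq fun _ => rfl
  have hC (p : PrimeSpectrum B) : ∃ x : Fin r → C,
      Submodule.span B (Set.range x) ⊔ p.asIdeal • (⊤ : Submodule B C) = ⊤ := by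
    let L := p.asIdeal.ResidueField
    have h1 : DegLE r (Spec.map (CommRingCat.ofHom (algebraMap L (L ⊗[B] C)))) := by
      rw [← pullbackSpecIso_inv_fst' B L C, degLE_comp_iso_iff]
      exact (degLE_iff_of_isPullback ((IsPullback.of_hasPullback (z p) g).of_iso (Iso.refl _)
        (Iso.refl _) eC (Iso.refl _) (fst' := pullback.fst (z p) g) (snd' := pullback.snd (z p) g ≫ eC.hom)
        (by simp) (by simp) (by simp [z, L]) (by simp [heC])) (IsPullback.of_hasPullback _ _)).1 (hq p)
    rw [degLE_spec_iff] at h1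
    have := h1.1
    let b := Module.finBasis L (L ⊗[B] C)
    let v : Fin r → L ⊗[B] C := fun j => if hj : (j : ℕ) < Module.finrank L (L ⊗[B] C) then b ⟨j, hj⟩ else 0
    have hv : ∀ i, b i = v ⟨i, i.2.trans_le h1.2⟩ := fun i => by simp [v]
    have hmk : ∀ w : L ⊗[B] C, ∃ c : C, (1 : L) ⊗ₜ[B] c = w := by
      intro w
      induction w using TensorProduct.induction_on with
      | zero => exact ⟨0, TensorProduct.tmul_zero _ _⟩
      | tmul l c =>
        obtain ⟨a, rfl⟩ := hsur p l
        exact ⟨a • c, by rw [TensorProduct.tmul_smul, TensorProduct.smul_tmul', Algebra.smul_def, mul_one]⟩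
      | add w w' hw hw' =>
        obtain ⟨c, rfl⟩ := hw
        obtain ⟨c', rfl⟩ := hw'
        exact ⟨c + c', TensorProduct.tmul_add _ _ _⟩
    choose x hx using fun j => hmk (v j)
    refine ⟨x, eq_top_iff.2 fun c _ => ?_⟩
    choose a ha using fun i => hsur p (b.repr ((1 : L) ⊗ₜ[B] c) i)
    let s := ∑ i, a i • x ⟨i, i.2.trans_le h1.2⟩
    rw [show c = s + (c - s) by abel]
    refine Submodule.add_mem_sup (Submodule.sum_mem _ fun i _ =>
      Submodule.smul_mem _ _ (Submodule.subset_span ⟨_, rfl⟩)) ?_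
    have h0 : (1 : L) ⊗ₜ[B] (c - s) = 0 := by
      have hc := b.sum_repr ((1 : L) ⊗ₜ[B] c)
      simp only [hv, ← hx, ← ha, TensorProduct.smul_tmul', Algebra.algebraMap_eq_smul_one,
        smul_assoc, one_smul, smul_eq_mul, mul_one] at hc
      rw [TensorProduct.tmul_sub, TensorProduct.tmul_sum, ← hc, sub_eq_zero]
      exact Finset.sum_congr rfl fun i _ => by rw [TensorProduct.tmul_smul, TensorProduct.smul_tmul']
    let ψ : L →ₗ[B] B ⧸ p.asIdeal :=
      (AlgEquiv.ofBijective (IsScalarTower.toAlgHom B (B ⧸ p.asIdeal) L)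
        p.asIdeal.bijective_algebraMap_quotient_residueField).symm.toLinearMap
    have h2 := congrArg (fun w => TensorProduct.quotTensorEquivQuotSMul C p.asIdeal (ψ.rTensor C w)) h0
    have h3 : ψ 1 = 1 := map_one (AlgEquiv.ofBijective (IsScalarTower.toAlgHom B (B ⧸ p.asIdeal) L)
        p.asIdeal.bijective_algebraMap_quotient_residueField).symm
    simp only [LinearMap.rTensor_tmul, h3, map_zero,
      TensorProduct.quotTensorEquivQuotSMul_mk_one_tmul] at h2
    exact (Submodule.Quotient.mk_eq_zero _).1 h2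
  obtain ⟨y, hy⟩ := exists_span_eq_top hC
  let φ : (Fin r → B) →ₗ[B] C := Fintype.linearCombination B y
  have hφ : Function.Surjective (φ.restrictScalars K) := by
    rw [LinearMap.coe_restrictScalars, ← LinearMap.range_eq_top, Fintype.range_linearCombination, hy]
  have hfinC : Module.Finite K C := Module.Finite.of_surjective _ hφ
  have key : g ≫ Spec.map (CommRingCat.ofHom (algebraMap K B)) =
      eC.hom ≫ Spec.map (CommRingCat.ofHom (algebraMap K C)) := by
    rw [← heC, Category.assoc, ← Spec.map_comp]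
    rfl
  rw [key, degLE_comp_iso_iff, degLE_spec_iff]
  refine ⟨hfinC, (LinearMap.finrank_le_finrank_of_surjective hφ).trans ?_⟩
  rw [Module.finrank_pi_fintype, Finset.sum_const, Finset.card_univ, Fintype.card_fin, smul_eq_mul]
  exact Nat.mul_le_mul_left r hn

end Groth.Agent.AlgSpDec
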