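import Groth.Agent.AlgSpDec.Alg
import Groth.Agent.AlgSpPts.Geom
import Groth.Agent.AlgSpPts.Descent
import Groth.Agent.AlgSpLib.Descends2
import Groth.Agent.AlgSpLib.FpqcDescent
import Groth.Agent.AlgSpLib.Sheaf
import Groth.Prelude.Def_AlgSpDec
import Mathlib.AlgebraicGeometry.Morphisms.QuasiFinite
import Mathlib.RingTheory.FinitePresentation

/-!
# Monomorphic representatives of points with quasi-compact morphisms
-/

set_option backward.isDefEq.respectTransparency false
set_option backward.isDefEq.respectTransparency.types false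

open CategoryTheory Limits Opposite AlgebraicGeometry MorphismProperty AlgSp Groth.Agent.AlgSpLib
  Groth.Agent.AlgSpPts

namespace Groth.Agent.AlgSpDec

universe u

variable {S : Scheme.{u}} {X : Sp S}

theorem quasiCompact_of_subsingleton {P Q : Scheme.{u}} (f : P ⟶ Q) [Subsingleton ↥P] : QuasiCompact f :=
  (quasiCompact_iff _).2 fun _ _ _ => Set.subsingleton_of_subsingleton.finite.isCompact

theorem surjective_of_subsingleton {P Q : Scheme.{u}} (f : P ⟶ Q) [Nonempty ↥P] [Subsingleton ↥Q] :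
    Surjective f :=
  ⟨fun _ => ⟨Classical.arbitrary _, Subsingleton.elim _ _⟩⟩

instance (p : FieldPt X) : Subsingleton ↥p.pt.left := inferInstanceAs (Subsingleton (PrimeSpectrum p.K))

instance (p : FieldPt X) : Nonempty ↥p.pt.left := inferInstanceAs (Nonempty (PrimeSpectrum p.K))

theorem repWith_quasiCompact_of_precomp {V' V : Over S} (b : V' ⟶ V) [Surjective b.left]
    (q : (yon S).obj V ⟶ X) (hq : Representable q) (h : RepWith @QuasiCompact ((yon S).map b ≫ q)) :
    RepWith @QuasiCompact q := by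
  refine ⟨hq, fun T W g fst snd sq => ?_⟩
  let hb := representable_yon_map (S := S) b
  have : Surjective (hb.snd fst).left :=
    ((repWith_yon_map_iff @Surjective b).2 ‹_›).property _ _ _ (hb.isPullback fst)
  have h' : QuasiCompact ((hb.snd fst) ≫ snd).left :=
    h.property g (hb.fst fst) (hb.snd fst ≫ snd) (by
      rw [Functor.map_comp]; exact (hb.isPullback fst).paste_vert sq)
  have : QuasiCompact ((hb.snd fst).left ≫ snd.left) := h'
  exact quasiCompact_of_comp_surjective (hb.snd fst).left snd.left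

/-- Quasi-compactness of the morphism only depends on the point. -/
theorem repWith_quasiCompact_of_rel (hX : IsAlgSpace X) {p q : FieldPt X}
    (hp : RepWith @QuasiCompact p.toHom) (h : Points.mk q = Points.mk p) :
    RepWith @QuasiCompact q.toHom := by
  obtain ⟨Ω, _, w, a, b, hab⟩ := Points.mk_eq_mk_iff.1 h
  have e : (yon S).map a ≫ q.toHom = (yon S).map b ≫ p.toHom := by
    apply (J S).uliftYonedaEquiv.injective
    rw [← uliftYonedaEquiv_precomp, ← uliftYonedaEquiv_precomp, FieldPt.uliftYonedaEquiv_toHom,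
      FieldPt.uliftYonedaEquiv_toHom]
    exact hab
  have : Subsingleton ↥(Over.mk w).left := inferInstanceAs (Subsingleton (PrimeSpectrum Ω))
  have : Nonempty ↥(Over.mk w).left := inferInstanceAs (Nonempty (PrimeSpectrum Ω))
  have := surjective_of_subsingleton a.left
  refine repWith_quasiCompact_of_precomp a _ (representable_from_yon' hX _) ?_
  rw [e]
  exact repWith_comp ((repWith_yon_map_iff _ b).2 (quasiCompact_of_subsingleton b.left)) hp

/-- Every point is reached by an affine etale chart. -/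
theorem exists_affine_chart_at (hX : IsAlgSpace X) (x : Points X) :
    ∃ (U : Over S) (a : (yon S).obj U ⟶ X) (u : ↥U.left),
      IsAffine U.left ∧ RepWith @Etale a ∧ Points.ofPt a u = x := by
  obtain ⟨V, p, he, hs⟩ := hX.atlas
  obtain ⟨v, rfl⟩ := surjective_ofPt hs x
  obtain ⟨W, hW, hvW, -⟩ := exists_isAffineOpen_mem_and_subset (U := (⊤ : V.left.Opens)) (x := v) trivial
  let ι : Over.mk (W.ι ≫ V.hom) ⟶ V := Over.homMk W.ι rfl
  refine ⟨_, (yon S).map ι ≫ p, ⟨v, hvW⟩, hW, repWith_comp ((repWith_yon_map_iff _ ι).2 ?_) he, ?_⟩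
  · change Etale W.ι
    infer_instance
  · rw [ofPt_comp]
    rfl

theorem isPullback_of_yon {P A B C : Over S} {f : P ⟶ A} {g : P ⟶ B} {h : A ⟶ C} {i : B ⟶ C}
    (sq : IsPullback ((yon S).map f) ((yon S).map g) ((yon S).map h) ((yon S).map i)) :
    IsPullback f.left g.left h.left i.left :=
  (IsPullback.of_map (yon S) ((yon S).map_injective (by simpa using sq.w)) sq).map (Over.forget S)

/-- Descent of a monomorphism along the quotient of a field by a finite equivalence relation. -/
theorem exists_mono_of_isPullback {K : Type u} [Field K] {str : Spec (CommRingCat.of K) ⟶ S}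
    (π : (yon S).obj (Over.mk str) ⟶ X) (hX : IsAlgSpace X) {A : CommRingCat.{u}}
    {g : Spec A ⟶ S} {a₁ a₂ : Over.mk g ⟶ Over.mk str}
    (sq : IsPullback ((yon S).map a₁) ((yon S).map a₂) π π) (hfin : IsFinite a₂.left) :
    ∃ (p : FieldPt X) (i : Over.mk str ⟶ p.pt),
      (yon S).map i ≫ p.toHom = π ∧ Surjective i.left ∧ Mono p.toHom := by
  let σ : CommRingCat.of K ⟶ A := Spec.preimage a₂.left
  let τ : CommRingCat.of K ⟶ A := Spec.preimage a₁.left
  have hσ : Spec.map σ = a₂.left := Spec.map_preimage _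
  have hτ : Spec.map τ = a₁.left := Spec.map_preimage _
  have hσw : Spec.map σ ≫ str = g := by rw [hσ]; exact Over.w a₂
  have hτw : Spec.map τ ≫ str = g := by rw [hτ]; exact Over.w a₁
  have hw : ∀ {Z : Over S} (y z : Z ⟶ Over.mk g), y ≫ a₁ = z ≫ a₁ → y ≫ a₂ = z ≫ a₂ → y = z := by
    intro Z y z h₁ h₂
    apply (yon S).map_injective
    exact sq.hom_ext (by rw [← Functor.map_comp, ← Functor.map_comp, h₁])
      (by rw [← Functor.map_comp, ← Functor.map_comp, h₂])
  -- the diagonal
  obtain ⟨δ, hδ₁, hδ₂⟩ : ∃ δ : Over.mk str ⟶ Over.mk g, δ ≫ a₁ = 𝟙 _ ∧ δ ≫ a₂ = 𝟙 _ := by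
    obtain ⟨δ, hδ⟩ := (yon S).map_surjective (sq.lift (𝟙 _) (𝟙 _) rfl)
    exact ⟨δ, (yon S).map_injective (by rw [Functor.map_comp, hδ, sq.lift_fst]; simp),
      (yon S).map_injective (by rw [Functor.map_comp, hδ, sq.lift_snd]; simp)⟩
  let ε : A ⟶ CommRingCat.of K := Spec.preimage δ.left
  have hε : Spec.map ε = δ.left := Spec.map_preimage _
  have hεσ : σ ≫ ε = 𝟙 _ := Spec.map_injective (by
    rw [Spec.map_comp, Spec.map_id, hσ, hε]; exact congrArg CommaMorphism.left hδ₂)
  have hετ : τ ≫ ε = 𝟙 _ := Spec.map_injective (by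
    rw [Spec.map_comp, Spec.map_id, hτ, hε]; exact congrArg CommaMorphism.left hδ₁)
  have : Nontrivial ↥A := ε.hom.domain_nontrivial
  let _ : Algebra K A := σ.hom.toAlgebra
  have : Module.Finite K A := by
    have : IsFinite (Spec.map σ) := hσ ▸ hfin
    exact ((IsFinite.SpecMap_iff σ).1 this : σ.hom.Finite)
  have hcomp : ∀ (C : Type u) [CommRing C] (q q' : A →+* C), q.comp τ.hom = q'.comp (algebraMap K A) →
      ∃ r : A →+* C, r.comp (algebraMap K A) = q.comp (algebraMap K A) ∧ r.comp τ.hom = q'.comp τ.hom := by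
    intro C _ q q' hqq
    let Q : A ⟶ CommRingCat.of C := CommRingCat.ofHom q
    let Q' : A ⟶ CommRingCat.of C := CommRingCat.ofHom q'
    have hQ : τ ≫ Q = σ ≫ Q' := CommRingCat.hom_ext hqq
    have hg : Spec.map Q' ≫ g = Spec.map Q ≫ g := by
      conv_lhs => rw [← hσw]
      conv_rhs => rw [← hτw]
      rw [← Category.assoc, ← Category.assoc, ← Spec.map_comp, ← Spec.map_comp, hQ]
    let T : Over S := Over.mk (Spec.map Q ≫ g)
    let y : T ⟶ Over.mk g := Over.homMk (Spec.map Q) rfl
    let y' : T ⟶ Over.mk g := Over.homMk (Spec.map Q') hg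
    have hyy : y ≫ a₁ = y' ≫ a₂ := Over.OverMorphism.ext (by
      change Spec.map Q ≫ a₁.left = Spec.map Q' ≫ a₂.left
      rw [← hτ, ← hσ, ← Spec.map_comp, ← Spec.map_comp, hQ])
    have hπ' : ∀ w : T ⟶ Over.mk g, (yon S).map (w ≫ a₁) ≫ π = (yon S).map (w ≫ a₂) ≫ π := fun w => by
      rw [Functor.map_comp, Functor.map_comp, Category.assoc, Category.assoc, sq.w]
    obtain ⟨r, hr⟩ := (yon S).map_surjective (sq.lift ((yon S).map (y' ≫ a₁)) ((yon S).map (y ≫ a₂)) (by
      rw [hπ' y', ← hyy, hπ' y]))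
    have hr₁ : r ≫ a₁ = y' ≫ a₁ := (yon S).map_injective (by rw [Functor.map_comp, hr, sq.lift_fst])
    have hr₂ : r ≫ a₂ = y ≫ a₂ := (yon S).map_injective (by rw [Functor.map_comp, hr, sq.lift_snd])
    obtain ⟨R, hR⟩ : ∃ R : A ⟶ CommRingCat.of C, Spec.map R = r.left := ⟨_, Spec.map_preimage _⟩
    refine ⟨R.hom, ?_, ?_⟩
    · have : σ ≫ R = σ ≫ Q := Spec.map_injective (by
        rw [Spec.map_comp, Spec.map_comp, hR, hσ]; exact congrArg CommaMorphism.left hr₂)
      exact congrArg CommRingCat.Hom.hom this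
    · have : τ ≫ R = τ ≫ Q' := Spec.map_injective (by
        rw [Spec.map_comp, Spec.map_comp, hR, hτ]; exact congrArg CommaMorphism.left hr₁)
      exact congrArg CommRingCat.Hom.hom this
  have hgen : ∀ (C : Type u) [CommRing C] (q q' : A →+* C),
      q.comp (algebraMap K A) = q'.comp (algebraMap K A) → q.comp τ.hom = q'.comp τ.hom → q = q' := by
    intro C _ q q' h₂ h₁
    let Q : A ⟶ CommRingCat.of C := CommRingCat.ofHom q
    let Q' : A ⟶ CommRingCat.of C := CommRingCat.ofHom q'
    have h₁' : τ ≫ Q = τ ≫ Q' := CommRingCat.hom_ext h₁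
    have h₂' : σ ≫ Q = σ ≫ Q' := CommRingCat.hom_ext h₂
    have hg : Spec.map Q' ≫ g = Spec.map Q ≫ g := by
      rw [← hτw, ← Category.assoc, ← Category.assoc, ← Spec.map_comp, ← Spec.map_comp, h₁']
    let T : Over S := Over.mk (Spec.map Q ≫ g)
    let y : T ⟶ Over.mk g := Over.homMk (Spec.map Q) rfl
    let y' : T ⟶ Over.mk g := Over.homMk (Spec.map Q') hg
    have hyy : y = y' := hw y y' (Over.OverMorphism.ext (by
        change Spec.map Q ≫ a₁.left = Spec.map Q' ≫ a₁.left
        rw [← hτ, ← Spec.map_comp, ← Spec.map_comp, h₁']))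
      (Over.OverMorphism.ext (by
        change Spec.map Q ≫ a₂.left = Spec.map Q' ≫ a₂.left
        rw [← hσ, ← Spec.map_comp, ← Spec.map_comp, h₂']))
    exact congrArg CommRingCat.Hom.hom (Spec.map_injective (congrArg CommaMorphism.left hyy) : Q = Q')
  have hes : ∀ x, ε.hom (algebraMap K A x) = x := RingHom.congr_fun (congrArg CommRingCat.Hom.hom hεσ)
  have het : ∀ x, ε.hom (τ.hom x) = x := RingHom.congr_fun (congrArg CommRingCat.Hom.hom hετ)
  obtain ⟨hkfin, -⟩ := finite_over_eqField (A := ↑A) τ.hom ε.hom hes het hcomp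
  have hbij := bijective_compare (A := ↑A) τ.hom ε.hom hes het hcomp hgen
  let k : Subfield K := eqField (A := ↑A) τ.hom
  let ι : CommRingCat.of ↥k ⟶ CommRingCat.of K := CommRingCat.ofHom (algebraMap k K)
  -- the structure morphism of the quotient
  obtain ⟨str₀, hstr₀⟩ : ∃ str₀ : Spec (CommRingCat.of ↥k) ⟶ S, Spec.map ι ≫ str₀ = str := by
    obtain ⟨⟨s₀, φ⟩, rfl⟩ := (Scheme.SpecToEquivOfField K S).symm.surjective str
    change Spec.map σ ≫ Spec.map φ ≫ S.fromSpecResidueField s₀ = g at hσw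
    change Spec.map τ ≫ Spec.map φ ≫ S.fromSpecResidueField s₀ = g at hτw
    rw [← hτw, ← Spec.map_comp_assoc, ← Spec.map_comp_assoc, cancel_mono] at hσw
    have hφ : φ ≫ σ = φ ≫ τ := Spec.map_injective hσw
    refine ⟨Spec.map (CommRingCat.ofHom (φ.hom.codRestrict k fun x =>
      RingHom.congr_fun (congrArg CommRingCat.Hom.hom hφ) x)) ≫ S.fromSpecResidueField s₀, ?_⟩
    rw [← Spec.map_comp_assoc]
    rfl
  let i : Over.mk str ⟶ Over.mk str₀ := Over.homMk (Spec.map ι) hstr₀
  have hsing : Subsingleton ↥(Spec (CommRingCat.of ↥k)) := inferInstanceAs (Subsingleton (PrimeSpectrum ↥k))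
  have : Nonempty ↥(Over.mk str).left := inferInstanceAs (Nonempty (PrimeSpectrum K))
  have : Subsingleton ↥(Over.mk str₀).left := hsing
  have hsurj : Surjective i.left := surjective_of_subsingleton _
  have hflat : Flat i.left := by
    change Flat (Spec.map ι)
    rw [HasRingHomProperty.Spec_iff (P := @Flat)]
    exact RingHom.flat_algebraMap_iff.2 inferInstance
  have hlfp : LocallyOfFinitePresentation i.left := by
    change LocallyOfFinitePresentation (Spec.map ι)
    rw [HasRingHomProperty.Spec_iff (P := @LocallyOfFinitePresentation)]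
    exact RingHom.finitePresentation_algebraMap.2
      (Algebra.FinitePresentation.of_finiteType.1 inferInstance)
  have hfppf : fppf i.left := fppf_of i.left
  -- the comparison square
  have hsq : IsPullback a₂.left a₁.left i.left i.left := by
    change IsPullback a₂.left a₁.left (Spec.map ι) (Spec.map ι)
    rw [← hσ, ← hτ]
    have h0 : IsPushout ι ι (CommRingCat.ofHom (Algebra.TensorProduct.includeLeftRingHom (R := ↥k) (A := K) (B := K)))
        (CommRingCat.ofHom ((Algebra.TensorProduct.includeRight (R := ↥k) (A := K) (B := K)).toRingHom)) :=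
      CommRingCat.isPushout_tensorProduct ↥k K K
    refine isPullback_SpecMap_of_isPushout _ _ _ _ (h0.of_iso (Iso.refl _) (Iso.refl _) (Iso.refl _)
      (RingEquiv.ofBijective (compare (A := ↑A) τ.hom).toRingHom hbij).toCommRingCatIso
      (by simp) (by simp) ?_ ?_)
    · ext x
      change compare (A := ↑A) τ.hom (x ⊗ₜ 1) = σ.hom x
      simp [compare, tAlg, RingHom.algebraMap_toAlgebra]
    · ext x
      change compare (A := ↑A) τ.hom (1 ⊗ₜ x) = τ.hom x
      simp [compare, tAlg]
  have hlift : ∀ {Z : Over S} (y z : Z ⟶ Over.mk str), y ≫ i = z ≫ i →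
      ∃ r : Z ⟶ Over.mk g, r ≫ a₁ = y ∧ r ≫ a₂ = z := by
    intro Z y z h
    let r := hsq.lift z.left y.left (congrArg CommaMorphism.left h).symm
    refine ⟨Over.homMk r ?_, Over.OverMorphism.ext (hsq.lift_snd _ _ _), Over.OverMorphism.ext (hsq.lift_fst _ _ _)⟩
    change r ≫ g = _
    rw [← hσw, hσ, ← Category.assoc, hsq.lift_fst]
    exact Over.w z
  have hai : a₁ ≫ i = a₂ ≫ i := Over.OverMorphism.ext hsq.w.symm
  -- descend
  obtain ⟨v, hv, -⟩ := Presieve.isSheafFor_singleton.1
    ((Presieve.isSheafFor_iff_generate _).2 (((isSheaf_iff_isSheaf_of_type _ _).1 X.property) _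
      (mem_J_of_fppf i hfppf (Sieve.generate (Presieve.singleton i))
        ⟨_, 𝟙 _, i, Presieve.singleton_self i, Category.id_comp _⟩)))
    ((J S).uliftYonedaEquiv π) (fun {Z} y z h => by
      obtain ⟨r, rfl, rfl⟩ := hlift y z h
      rw [uliftYonedaEquiv_precomp, uliftYonedaEquiv_precomp, Functor.map_comp, Functor.map_comp,
        Category.assoc, Category.assoc, sq.w])
  let p : FieldPt X := { K := ↥k, str := str₀, val := v }
  have hπ : (yon S).map i ≫ p.toHom = π := by
    apply (J S).uliftYonedaEquiv.injective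
    rw [← uliftYonedaEquiv_precomp]
    refine Eq.trans ?_ hv
    exact congrArg _ (FieldPt.uliftYonedaEquiv_toHom p)
  refine ⟨p, i, hπ, hsurj, mono_of_yon_injective fun T y z hyz => ?_⟩
  obtain ⟨y, rfl⟩ := (yon S).map_surjective y
  obtain ⟨z, rfl⟩ := (yon S).map_surjective z
  have hlocal : ∀ {T : Over S} (y : T ⟶ Over.mk str₀),
      ∃ (T' : Over S) (φ : T' ⟶ T) (y' : T' ⟶ Over.mk str), fppf φ.left ∧ y' ≫ i = φ ≫ y := by
    intro T y
    have hi := representable_yon_map (S := S) i
    refine ⟨_, hi.snd ((yon S).map y), hi.fst' ((yon S).map y),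
      ((repWith_yon_map_iff fppf i).2 hfppf).property _ _ _ (hi.isPullback ((yon S).map y)), ?_⟩
    apply (yon S).map_injective
    rw [Functor.map_comp, Functor.map_comp]
    exact (hi.isPullback' ((yon S).map y)).w
  obtain ⟨T₁, φ₁, y₁, hφ₁, hy₁⟩ := hlocal y
  obtain ⟨T₂, φ₂, z', hφ₂, hz'⟩ := hlocal (φ₁ ≫ z)
  have hy' : (φ₂ ≫ y₁) ≫ i = (φ₂ ≫ φ₁) ≫ y := by rw [Category.assoc, hy₁, Category.assoc]
  have hz'' : z' ≫ i = (φ₂ ≫ φ₁) ≫ z := by rw [hz', Category.assoc]
  have hπyz : (yon S).map (φ₂ ≫ y₁) ≫ π = (yon S).map z' ≫ π := by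
    rw [← hπ, ← Category.assoc, ← Category.assoc, ← Functor.map_comp, ← Functor.map_comp, hy', hz'',
      Functor.map_comp _ _ y, Functor.map_comp _ _ z, Category.assoc, Category.assoc, hyz]
  obtain ⟨r, hr⟩ := (yon S).map_surjective (sq.lift _ _ hπyz)
  have e₁ : r ≫ a₁ = φ₂ ≫ y₁ := (yon S).map_injective (by rw [Functor.map_comp, hr, sq.lift_fst])
  have e₂ : r ≫ a₂ = z' := (yon S).map_injective (by rw [Functor.map_comp, hr, sq.lift_snd])
  have hyz' : (φ₂ ≫ y₁) ≫ i = z' ≫ i := by
    rw [← e₁, ← e₂, Category.assoc, Category.assoc, hai]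
  have hww : fppf (φ₂ ≫ φ₁).left := MorphismProperty.comp_mem _ φ₂.left φ₁.left hφ₂ hφ₁
  refine hom_ext_of_fppf (φ₂ ≫ φ₁) hww _ _ ?_
  rw [← Functor.map_comp, ← Functor.map_comp, ← hy', ← hz'', hyz']

/-- A point whose morphism is quasi-compact has a monomorphic representative with quasi-compact
morphism. -/
theorem exists_mono_rep (hX : IsAlgSpace X) (p : FieldPt X) (hp : RepWith @QuasiCompact p.toHom) :
    ∃ p' : FieldPt X, Points.mk p' = Points.mk p ∧ Mono p'.toHom ∧ RepWith @QuasiCompact p'.toHom := by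
  obtain ⟨U, a, u, hU, ha, hu⟩ := exists_affine_chart_at hX (Points.mk p)
  let q := FieldPt.ofPt a u
  have hq : RepWith @QuasiCompact q.toHom := repWith_quasiCompact_of_rel hX hp hu
  let φ : q.pt ⟶ U := Over.homMk (U.left.fromSpecResidueField u) rfl
  have hqa : q.toHom = (yon S).map φ ≫ a := FieldPt.toHom_ofPt a u
  let V := ha.rep.pullback q.toHom
  have sqV := ha.rep.isPullback' q.toHom
  let vU : V ⟶ U := ha.rep.fst' q.toHom
  let vK : V ⟶ q.pt := ha.rep.snd q.toHom
  have hvU : QuasiCompact vU.left := hq.property _ _ _ sqV.flip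
  have : CompactSpace ↥V.left := QuasiCompact.compactSpace_of_compactSpace vU.left
  have : Etale vK.left := ha.property_snd q.toHom
  have : QuasiCompact vK.left := HasAffineProperty.iff_of_isAffine.2 ‹CompactSpace ↥V.left›
  let G := hq.rep.pullback q.toHom
  have sqG := hq.rep.isPullback' q.toHom
  let g₁ : G ⟶ q.pt := hq.rep.fst' q.toHom
  let g₂ : G ⟶ q.pt := hq.rep.snd q.toHom
  have hcomm : ((yon S).map g₁ ≫ (yon S).map φ) ≫ a = (yon S).map g₂ ≫ q.toHom := by
    rw [Category.assoc, ← hqa]; exact sqG.w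
  obtain ⟨l, hl⟩ := (yon S).map_surjective (sqV.lift _ _ hcomm)
  have hl₁ : (yon S).map l ≫ (yon S).map vU = (yon S).map g₁ ≫ (yon S).map φ := by rw [hl]; exact sqV.lift_fst _ _ _
  have hl₂ : (yon S).map l ≫ (yon S).map vK = (yon S).map g₂ := by rw [hl]; exact sqV.lift_snd _ _ _
  have sqT : IsPullback ((yon S).map g₁) ((yon S).map l) ((yon S).map φ) ((yon S).map vU) := by
    refine IsPullback.of_bot ?_ hl₁.symm sqV
    rw [hl₂, ← hqa]
    exact sqG
  have : IsPreimmersion φ.left := inferInstanceAs (IsPreimmersion (U.left.fromSpecResidueField u))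
  have : IsPreimmersion l.left := MorphismProperty.of_isPullback (isPullback_of_yon sqT) ‹_›
  have hd : DiscreteTopology ↥V.left := by
    have h1 := vK.left.isDiscrete_preimage_singleton (IsLocalRing.closedPoint q.K)
    rw [show vK.left ⁻¹' {IsLocalRing.closedPoint q.K} = Set.univ from
      Set.eq_univ_of_forall fun x => Subsingleton.elim (α := ↥q.pt.left) _ _] at h1
    exact isDiscrete_univ_iff.1 h1
  have : IsClosedImmersion l.left := .of_isPreimmersion _ (isClosed_discrete _)
  have : IsArtinianScheme q.pt.left :=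
    inferInstanceAs (IsArtinianScheme (Spec (CommRingCat.of q.K)))
  have : IsFinite vK.left := IsFinite.of_locallyQuasiFinite vK.left
  have hg₂ : IsFinite g₂.left := by
    have : l ≫ vK = g₂ := (yon S).map_injective (by rw [Functor.map_comp, hl₂])
    rw [← this]
    change IsFinite (l.left ≫ vK.left)
    infer_instance
  have : IsAffine q.pt.left := inferInstanceAs (IsAffine (Spec (CommRingCat.of q.K)))
  have : IsAffine G.left := isAffine_of_isAffineHom g₂.left
  let e : Over.mk (G.left.isoSpec.inv ≫ G.hom) ≅ G := Over.isoMk G.left.isoSpec.symm rfl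
  have hfin : IsFinite (e.hom ≫ g₂).left := by
    change IsFinite (G.left.isoSpec.inv ≫ g₂.left)
    infer_instance
  obtain ⟨p', i, hi, hs, hm⟩ := exists_mono_of_isPullback q.toHom hX (a₁ := e.hom ≫ g₁) (a₂ := e.hom ≫ g₂)
    (by
      rw [Functor.map_comp, Functor.map_comp]
      exact IsPullback.of_iso sqG ((yon S).mapIso e).symm (Iso.refl _) (Iso.refl _) (Iso.refl _)
        (by
          erw [Category.comp_id, ← Category.assoc, show ((yon S).mapIso e).symm.hom ≫ (yon S).map e.hom = 𝟙 _ from ((yon S).mapIso e).inv_hom_id, Category.id_comp])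
        (by
          erw [Category.comp_id, ← Category.assoc, show ((yon S).mapIso e).symm.hom ≫ (yon S).map e.hom = 𝟙 _ from ((yon S).mapIso e).inv_hom_id, Category.id_comp])
        (by simp) (by simp))
    hfin
  refine ⟨p', Eq.trans ?_ hu, hm, ?_⟩
  · refine Eq.symm (Points.sound ?_)
    refine ⟨q.K, inferInstance, q.str, 𝟙 _, i, ?_⟩
    have := congrArg (J S).uliftYonedaEquiv hi
    rw [← uliftYonedaEquiv_precomp, FieldPt.uliftYonedaEquiv_toHom, FieldPt.uliftYonedaEquiv_toHom] at this
    erw [op_id, Functor.map_id_apply]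
    exact this.symm
  · have : Surjective i.left := hs
    exact repWith_quasiCompact_of_precomp i _ (representable_from_yon' hX _) (hi ▸ hq)

/-- Decency amounts to every point having a representative with quasi-compact morphism. -/
theorem isDecent_iff_exists_quasiCompact (hX : IsAlgSpace X) :
    IsDecent X ↔ ∀ x : Points X, ∃ p : FieldPt X, Points.mk p = x ∧ RepWith @QuasiCompact p.toHom := by
  refine ⟨fun h x => ?_, fun h x => ?_⟩
  · obtain ⟨p, h₁, -, h₃⟩ := h x
    exact ⟨p, h₁, h₃⟩
  · obtain ⟨p, h₁, h₂⟩ := h x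
    obtain ⟨p', h₁', h₂', h₃'⟩ := exists_mono_rep hX p h₂
    exact ⟨p', h₁'.trans h₁, h₂', h₃'⟩

/-- In a decent space every field-valued point has quasi-compact morphism. -/
theorem repWith_quasiCompact_toHom (hX : IsAlgSpace X) (h : IsDecent X) (p : FieldPt X) :
    RepWith @QuasiCompact p.toHom := by
  obtain ⟨q, hq, -, hq'⟩ := h (Points.mk p)
  exact repWith_quasiCompact_of_rel hX hq' hq.symm

end Groth.Agent.AlgSpDec
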