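import Groth.Agent.AlgSpDec.Factor
import Groth.Agent.AlgSpDec.MonoRep
import Groth.Agent.AlgSpDec.FinDeg
import Groth.Prelude.Def_W4decUnivBdd

/-!
# Universally bounded fibres of morphisms into algebraic spaces
-/

set_option backward.isDefEq.respectTransparency false
set_option backward.isDefEq.respectTransparency.types false

open CategoryTheory Limits Opposite AlgebraicGeometry MorphismProperty AlgSp Groth.Agent.AlgSpLib

namespace Groth.Agent.AlgSpDec

universe u

variable {S : Scheme.{u}} {X Y : Sp S}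

/-- The field-valued point given by a morphism from the spectrum of a field. -/
noncomputable def fieldPtOfHom {L : Type u} [Field L] (w : Spec (.of L) ⟶ S)
    (g : (yon S).obj (Over.mk w) ⟶ X) : FieldPt X where
  K := L
  str := w
  val := (J S).uliftYonedaEquiv g

theorem toHom_fieldPtOfHom {L : Type u} [Field L] (w : Spec (.of L) ⟶ S)
    (g : (yon S).obj (Over.mk w) ⟶ X) : (fieldPtOfHom w g).toHom = g :=
  Equiv.symm_apply_apply _ _

theorem degFibres_apply {n : ℕ} {U : Over S} {a : (yon S).obj U ⟶ X} (ha : W4dec.DegFibresLE n a)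
    {L : Type u} [Field L] {w : Spec (.of L) ⟶ S} (g : (yon S).obj (Over.mk w) ⟶ X) {T : Over S}
    (c : T ⟶ Over.mk w) (snd : (yon S).obj T ⟶ (yon S).obj U)
    (sq : IsPullback ((yon S).map c) snd g a) : DegLE n c.left :=
  ha (fieldPtOfHom w g) T c snd (by rw [toHom_fieldPtOfHom]; exact sq)

theorem isPullback_yon_of_left {P A B C : Over S} (p : P ⟶ A) (q : P ⟶ B) (f : A ⟶ C) (g : B ⟶ C)
    (sq : IsPullback p.left q.left f.left g.left) :
    IsPullback ((yon S).map p) ((yon S).map q) ((yon S).map f) ((yon S).map g) :=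
  (IsPullback.of_map (Over.forget S) (Over.OverMorphism.ext sq.w) sq).map (yon S)

theorem degFibresLE_comp (hA : IsAlgSpace X) {U V : Over S} (f : V ⟶ U) (g : (yon S).obj U ⟶ X) {r n : ℕ}
    (hf : W4dec.DegFibresLE r ((yon S).map f)) (hg : W4dec.DegFibresLE n g) :
    W4dec.DegFibresLE (r * n) ((yon S).map f ≫ g) := by
  intro q T c snd h
  have hr : Representable g := representable_from_yon' hA g
  obtain ⟨snd', rfl⟩ := (yon S).map_surjective snd
  let T₁ := hr.pullback q.toHom
  let c₁ : T₁ ⟶ q.pt := hr.snd q.toHom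
  let s₁ : T₁ ⟶ U := hr.fst' q.toHom
  have sq₁ : IsPullback ((yon S).map c₁) ((yon S).map s₁) q.toHom g := (hr.isPullback' q.toHom).flip
  obtain ⟨m, hm⟩ := (yon S).map_surjective (sq₁.lift ((yon S).map c) ((yon S).map snd' ≫ (yon S).map f)
    (by rw [Category.assoc]; exact h.w))
  have e1 : m ≫ c₁ = c := (yon S).map_injective (by rw [Functor.map_comp, hm, IsPullback.lift_fst])
  have e2 : m ≫ s₁ = snd' ≫ f :=
    (yon S).map_injective (by rw [Functor.map_comp, hm, IsPullback.lift_snd, Functor.map_comp])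
  have sqT : IsPullback ((yon S).map m) ((yon S).map snd') ((yon S).map s₁) ((yon S).map f) := by
    refine IsPullback.of_right ?_ (by rw [← Functor.map_comp, e2, Functor.map_comp]) sq₁
    rw [← Functor.map_comp, e1]
    exact h
  have sqL := isPullback_of_yon sqT
  rw [← e1, Over.comp_left]
  refine DegLE.comp (hg q T₁ c₁ _ sq₁) m.left fun L _ z => ?_
  let w : Spec (.of L) ⟶ S := z ≫ T₁.hom
  let zO : Over.mk w ⟶ T₁ := Over.homMk z rfl
  let P : Over S := Over.mk (pullback.fst z m.left ≫ w)
  let cP : P ⟶ Over.mk w := Over.homMk (pullback.fst z m.left) rfl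
  let sP : P ⟶ T := Over.homMk (pullback.snd z m.left) (by
    change pullback.snd z m.left ≫ T.hom = pullback.fst z m.left ≫ z ≫ T₁.hom
    rw [pullback.condition_assoc, Over.w m])
  refine degFibres_apply hf ((yon S).map (zO ≫ s₁)) cP ((yon S).map (sP ≫ snd')) ?_
  refine isPullback_yon_of_left cP (sP ≫ snd') (zO ≫ s₁) f ?_
  simp only [Over.comp_left]
  exact (IsPullback.of_hasPullback z m.left).paste_vert sqL

theorem degFibresLE_baseChange {F G : Sp S} (p : G ⟶ F) {U V : Over S} (g : (yon S).obj U ⟶ F) {n : ℕ}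
    (hg : W4dec.DegFibresLE n g) (fst : (yon S).obj V ⟶ (yon S).obj U) (snd : (yon S).obj V ⟶ G)
    (h : IsPullback fst snd g p) : W4dec.DegFibresLE n snd := by
  intro q T c s sq
  refine hg (q.map p) T c (s ≫ fst) ?_
  rw [FieldPt.toHom_map]
  exact sq.paste_vert h.flip |> fun h' => by simpa using h'

theorem degFibresLE_of_flat_surjective (hA : IsAlgSpace X) {U V : Over S} (f : U ⟶ V) [Surjective f.left]
    [Flat f.left] (h : (yon S).obj V ⟶ X) {n : ℕ} (hg : W4dec.DegFibresLE n ((yon S).map f ≫ h)) :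
    W4dec.DegFibresLE n h := by
  intro q T c snd sq
  obtain ⟨snd', rfl⟩ := (yon S).map_surjective snd
  let W : Over S := Over.mk (pullback.fst snd'.left f.left ≫ T.hom)
  let g : W ⟶ T := Over.homMk (pullback.fst snd'.left f.left) rfl
  let s : W ⟶ U := Over.homMk (pullback.snd snd'.left f.left) (by
    change pullback.snd snd'.left f.left ≫ U.hom = pullback.fst snd'.left f.left ≫ T.hom
    rw [← Over.w f, ← pullback.condition_assoc, Over.w snd'])
  have h2 : IsPullback ((yon S).map g) ((yon S).map s) ((yon S).map snd') ((yon S).map f) :=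
    isPullback_yon_of_left g s snd' f (IsPullback.of_hasPullback _ _)
  have h3 : DegLE n (g ≫ c).left := hg q W (g ≫ c) ((yon S).map s) (by
    rw [Functor.map_comp]; exact h2.paste_horiz sq)
  have : Flat g.left := inferInstanceAs (Flat (pullback.fst snd'.left f.left))
  have : Surjective g.left :=
    MorphismProperty.pullback_fst (P := @Surjective) _ _ ‹_›
  exact DegLE.of_flat_surjective g.left h3

theorem encard_fibre_le (hA : IsAlgSpace X) {U : Over S} {φ : (yon S).obj U ⟶ X} {n : ℕ}
    (hφ : W4dec.DegFibresLE n φ) (x : Points X) : (Points.ofPt φ ⁻¹' {x}).encard ≤ n := by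
  obtain ⟨q, rfl⟩ := Points.mk_surjective x
  have hr : Representable φ := representable_from_yon' hA φ
  let T := hr.pullback q.toHom
  have sq : IsPullback ((yon S).map (hr.snd q.toHom)) ((yon S).map (hr.fst' q.toHom)) q.toHom φ :=
    (hr.isPullback' q.toHom).flip
  obtain ⟨hfin, -, hcard⟩ := DegLE.space (c := (hr.snd q.toHom).left) (hφ q T _ _ sq)
  refine (Set.encard_le_encard (t := Set.range (hr.fst' q.toHom).left) fun u hu => ?_).trans ?_
  · obtain ⟨t, -, ht⟩ := exists_ofPt_of_eq sq (u := IsLocalRing.closedPoint q.K) (v := u)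
      ((mk_eq_ofPt q).symm.trans hu.symm)
    exact ⟨t, ht⟩
  · rw [← Set.image_univ]
    refine le_trans (Set.encard_image_le _ _) ?_
    rw [Set.encard_univ, ENat.card_eq_coe_natCard]
    exact_mod_cast hcard

theorem isDecent_of_bddFibres (hA : IsAlgSpace X)
    (h : ∀ (U : Over S) (φ : (yon S).obj U ⟶ X), IsAffine U.left → RepWith @Etale φ →
      W4dec.HasUnivBddFibres φ) : IsDecent X := by
  intro x
  refine exists_rep_of_finite hA x fun U φ hU hφ R s t sq => ?_
  obtain ⟨n, hn⟩ := h U φ hU hφ
  let F := Points.ofPt φ ⁻¹' {x}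
  have hF : F.Finite :=
    Set.finite_of_encard_le_coe (encard_fibre_le hA hn x)
  have hsub : Points.ofPt ((yon S).map t ≫ φ) ⁻¹' {x} ⊆ ⋃ u ∈ F, t.left ⁻¹' {u} := by
    intro r hr
    refine Set.mem_iUnion₂.2 ⟨t.left r, ?_, rfl⟩
    change Points.ofPt φ (t.left r) = x
    rw [← ofPt_comp]; exact hr
  refine (hF.biUnion fun u _ => ?_).subset hsub
  -- the fibre of `t` over `u` is the image of the fibre of `φ` over the point `u`
  let q := FieldPt.ofPt φ u
  let z : q.pt ⟶ U := Over.homMk (U.left.fromSpecResidueField u) rfl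
  have hq : q.toHom = (yon S).map z ≫ φ := FieldPt.toHom_ofPt φ u
  let P : Over S := Over.mk (pullback.fst z.left t.left ≫ q.pt.hom)
  let cP : P ⟶ q.pt := Over.homMk (pullback.fst z.left t.left) rfl
  let sP : P ⟶ R := Over.homMk (pullback.snd z.left t.left) (by
    change pullback.snd z.left t.left ≫ R.hom = pullback.fst z.left t.left ≫ q.pt.hom
    rw [← Over.w t, ← pullback.condition_assoc, Over.w z])
  have h2 : IsPullback ((yon S).map cP) ((yon S).map sP) ((yon S).map z) ((yon S).map t) :=
    isPullback_yon_of_left cP sP z t (IsPullback.of_hasPullback _ _)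
  have h3 : DegLE n cP.left := hn q P cP ((yon S).map sP ≫ (yon S).map s) (by
    rw [hq]; exact h2.paste_vert sq)
  have := h3.space.1
  have : Set.range (pullback.snd z.left t.left) = t.left ⁻¹' {u} := by
    rw [Scheme.Pullback.range_snd]
    exact congrArg (fun A => t.left ⁻¹' A) (U.left.range_fromSpecResidueField u)
  rw [← this]
  have : Finite ↥(pullback z.left t.left : Scheme.{u}) := h3.space.1
  exact Set.finite_range _

end Groth.Agent.AlgSpDec
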