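import Groth.Agent.AlgSpDec.FinDeg

/-!
# Étale morphisms with quasi-compact source have bounded fibres
-/

set_option backward.isDefEq.respectTransparency false
set_option backward.isDefEq.respectTransparency.types false

open CategoryTheory Limits AlgebraicGeometry TensorProduct

namespace Groth.Agent.AlgSpDec

universe u

theorem finrank_le_of_standardEtale {R C : Type u} [CommRing R] [CommRing C] [Algebra R C]
    (P : StandardEtalePresentation R C) (L : Type u) [Field L] [Algebra R L] :
    Module.Finite L (L ⊗[R] C) ∧ Module.finrank L (L ⊗[R] C) ≤ P.f.natDegree := by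
  let Q : StandardEtalePresentation L (L ⊗[R] C) := P.baseChange
  have hQ : Q.f.natDegree = P.f.natDegree := P.monic_f.natDegree_map _
  let e : (L ⊗[R] C) ≃ₐ[L] Localization.Away (AdjoinRoot.mk Q.f Q.g) :=
    Q.equivRing.trans Q.P.equivAwayAdjoinRoot
  have : Module.Finite L (AdjoinRoot Q.f) := Q.monic_f.finite_adjoinRoot
  have : IsArtinianRing (AdjoinRoot Q.f) := IsArtinianRing.of_finite L _
  let φ : AdjoinRoot Q.f →ₗ[L] L ⊗[R] C := e.symm.toLinearMap ∘ₗ
    (IsScalarTower.toAlgHom L (AdjoinRoot Q.f) (Localization.Away (AdjoinRoot.mk Q.f Q.g))).toLinearMap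
  have hφ : Function.Surjective φ := e.symm.surjective.comp
    (IsArtinianRing.localization_surjective (Submonoid.powers (AdjoinRoot.mk Q.f Q.g)) _)
  refine ⟨Module.Finite.of_surjective φ hφ,
    (LinearMap.finrank_le_finrank_of_surjective hφ).trans (le_of_eq ?_)⟩
  rw [← hQ]
  exact finrank_quotient_span_eq_natDegree

/-- Étale morphisms with quasi-compact source have universally bounded fibres. -/
theorem exists_degLE_of_etale {A B : Scheme.{u}} (f : A ⟶ B) [Etale f] [CompactSpace ↥A] :
    ∃ d : ℕ, ∀ (L : Type u) [Field L] (z : Spec (.of L) ⟶ B), DegLE d (pullback.fst z f) := by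
  classical
  have key : ∀ a : ↥A, ∃ (W : Scheme.{u}) (i : W ⟶ A) (d : ℕ), IsOpenImmersion i ∧ a ∈ Set.range i ∧
      ∀ (L : Type u) [Field L] (z : Spec (.of L) ⟶ B), DegLE d (pullback.fst z (i ≫ f)) := by
    intro a
    obtain ⟨V, hV, haV, -⟩ := exists_isAffineOpen_mem_and_subset (U := (⊤ : B.Opens)) (x := f a) trivial
    obtain ⟨U, hU, haU, hUV⟩ := exists_isAffineOpen_mem_and_subset (U := f ⁻¹ᵁ V) (x := a) haV
    have e : U ≤ f ⁻¹ᵁ V := hUV
    let φ := f.appLE V U e
    have hφ : φ.hom.Etale := HasRingHomProperty.appLE @Etale f ‹_› ⟨V, hV⟩ ⟨U, hU⟩ e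
    algebraize [φ.hom]
    let q := (hU.primeIdealOf ⟨a, haU⟩)
    have : Algebra.IsEtaleAt Γ(B, V) q.asIdeal := by
      have : Algebra.FormallyEtale Γ(A, U) (Localization.AtPrime q.asIdeal) :=
        .of_isLocalization q.asIdeal.primeCompl
      exact Algebra.FormallyEtale.comp Γ(B, V) Γ(A, U) _
    obtain ⟨g, hg, hst⟩ := Algebra.IsEtaleAt.exists_isStandardEtale (R := Γ(B, V)) q.asIdeal
    obtain ⟨P⟩ := hst.nonempty_standardEtalePresentation
    let C := Localization.Away g
    let j := Spec.map (CommRingCat.ofHom (algebraMap Γ(A, U) C))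
    have : IsOpenImmersion j := IsOpenImmersion.of_isLocalization g
    refine ⟨Spec (.of C), j ≫ hU.fromSpec, P.f.natDegree, inferInstance, ?_, fun L _ z => ?_⟩
    · have hr : q ∈ Set.range j := by
        change q ∈ Set.range (PrimeSpectrum.comap (algebraMap Γ(A, U) C))
        rw [PrimeSpectrum.localization_away_comap_range C g]
        exact hg
      obtain ⟨w, hw⟩ := hr
      exact ⟨w, by rw [Scheme.Hom.comp_apply, hw]; exact hU.fromSpec_primeIdealOf _⟩
    have hcomp : (j ≫ hU.fromSpec) ≫ f =
        Spec.map (CommRingCat.ofHom (algebraMap Γ(B, V) C)) ≫ hV.fromSpec := by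
      rw [Category.assoc, ← IsAffineOpen.SpecMap_appLE_fromSpec f hV hU e, ← Category.assoc,
        ← Spec.map_comp]
      rfl
    rw [hcomp]
    by_cases hz : z (IsLocalRing.closedPoint L) ∈ Set.range hV.fromSpec
    · let z₀ : Spec (.of L) ⟶ Spec Γ(B, V) := IsOpenImmersion.lift hV.fromSpec z (by
        rintro _ ⟨x, rfl⟩
        rwa [Subsingleton.elim (α := PrimeSpectrum L) x (IsLocalRing.closedPoint L)])
      have hz₀ : z₀ ≫ hV.fromSpec = z := IsOpenImmersion.lift_fac _ _ _
      obtain ⟨ψ, hψ⟩ := Spec.map_surjective z₀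
      let _ : Algebra Γ(B, V) L := ψ.hom.toAlgebra
      have hψ' : z₀ = Spec.map (CommRingCat.ofHom (algebraMap Γ(B, V) L)) := hψ.symm
      have h1 : DegLE P.f.natDegree (pullback.fst z₀ (Spec.map (CommRingCat.ofHom (algebraMap Γ(B, V) C)))) := by
        rw [hψ']
        rw [← degLE_comp_iso_iff (pullbackSpecIso Γ(B, V) L C).inv, pullbackSpecIso_inv_fst',
          degLE_spec_iff]
        exact finrank_le_of_standardEtale P L
      rw [← hz₀]
      exact (degLE_iff_of_isPullback (IsPullback.of_hasPullback _ _)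
        (IsPullback.of_isLimit (PullbackCone.isLimitOfCompMono z₀ _ hV.fromSpec _
          (pullback.isLimit z₀ _)))).2 h1
    · have : IsEmpty ↥(pullback z (Spec.map (CommRingCat.ofHom (algebraMap Γ(B, V) C)) ≫ hV.fromSpec) :
          Scheme.{u}) := ⟨fun p => hz ⟨(Spec.map (CommRingCat.ofHom (algebraMap Γ(B, V) C)))
            (pullback.snd z _ p), by
          refine Eq.trans ?_ (congrArg z (Subsingleton.elim (α := PrimeSpectrum L)
            (pullback.fst z _ p) (IsLocalRing.closedPoint L)))
          simp only [← Scheme.Hom.comp_apply, Category.assoc, pullback.condition]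
          rfl⟩⟩
      exact (degLE_of_isEmpty _).mono (Nat.zero_le _)
  choose W i d hi ha hd using key
  obtain ⟨t, ht⟩ := isCompact_univ.elim_finite_subcover (fun a => Set.range (i a))
    (fun a => (i a).isOpenEmbedding.isOpen_range) fun a _ => Set.mem_iUnion.2 ⟨a, ha a⟩
  refine ⟨∑ a : t, d a, fun L _ z => ?_⟩
  let g (a : t) : pullback z (i a ≫ f) ⟶ pullback z f :=
    pullback.map _ _ _ _ (𝟙 _) (i a) (𝟙 _) (by simp) (by simp)
  have sq (a : t) : IsPullback (pullback.snd z (i a ≫ f)) (g a) (i a) (pullback.snd z f) := by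
    refine IsPullback.of_bot ?_ (by simp [g]) (IsPullback.of_hasPullback z f).flip
    simpa [g] using (IsPullback.of_hasPullback z (i a ≫ f)).flip
  have (a : t) : Flat (g a) := by
    have := hi a
    have : IsOpenImmersion (g a) :=
      MorphismProperty.of_isPullback (P := @IsOpenImmersion) (sq a) inferInstance
    infer_instance
  refine degLE_of_cover g (fun p => ?_) (fun a => d a) fun a => ?_
  · obtain ⟨a, hat, w, hw⟩ := Set.mem_iUnion₂.1 (ht (Set.mem_univ (pullback.snd z f p)))
    obtain ⟨r, -, hr⟩ := Scheme.exists_preimage_of_isPullback (sq ⟨a, hat⟩) w p hw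
    exact ⟨⟨a, hat⟩, r, hr⟩
  · simpa [g] using hd a L z

end Groth.Agent.AlgSpDec
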