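import Groth.Agent.AlgSpDec.BddFibres
import Groth.Agent.AlgSpDec.EtaleBdd
import Groth.Agent.AlgSpDec.Glue

/-!
# Bounded fibres: covers, descent, base change
-/

set_option backward.isDefEq.respectTransparency false
set_option backward.isDefEq.respectTransparency.types false

open CategoryTheory Limits Opposite AlgebraicGeometry MorphismProperty AlgSp Groth.Agent.AlgSpLib

namespace Groth.Agent.AlgSpDec

universe u

variable {S : Scheme.{u}} {X Y : Sp S}

theorem degFibresLE_yon_of_etale {U W : Over S} (f : W ⟶ U) [Etale f.left] [CompactSpace ↥W.left] :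
    ∃ d, W4dec.DegFibresLE d ((yon S).map f) := by
  obtain ⟨d, hd⟩ := exists_degLE_of_etale f.left
  refine ⟨d, fun q T c snd sq => ?_⟩
  obtain ⟨z, hz⟩ := (yon S).map_surjective q.toHom
  obtain ⟨snd', rfl⟩ := (yon S).map_surjective snd
  rw [← hz] at sq
  exact (degLE_iff_of_isPullback (IsPullback.of_hasPullback z.left f.left) (isPullback_of_yon sq)).1
    (hd q.K z.left)

theorem degFibresLE_of_cover {V : Over S} {ι : Type u} [Fintype ι] {W : ι → Over S} (g : ∀ i, W i ⟶ V)
    [∀ i, Flat (g i).left] (hsurj : ∀ v, ∃ i w, (g i).left w = v) (ψ : (yon S).obj V ⟶ X) (d : ι → ℕ)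
    (h : ∀ i, W4dec.DegFibresLE (d i) ((yon S).map (g i) ≫ ψ)) : W4dec.DegFibresLE (∑ i, d i) ψ := by
  intro q T c snd sq
  obtain ⟨snd', rfl⟩ := (yon S).map_surjective snd
  let P (i : ι) : Over S := Over.mk (pullback.fst snd'.left (g i).left ≫ T.hom)
  let gP (i : ι) : P i ⟶ T := Over.homMk (pullback.fst snd'.left (g i).left) rfl
  let sP (i : ι) : P i ⟶ W i := Over.homMk (pullback.snd snd'.left (g i).left) (by
    change pullback.snd snd'.left (g i).left ≫ (W i).hom = pullback.fst snd'.left (g i).left ≫ T.hom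
    rw [← Over.w (g i), ← pullback.condition_assoc, Over.w snd'])
  have : ∀ i, Flat (gP i).left := fun i => inferInstanceAs (Flat (pullback.fst snd'.left (g i).left))
  refine degLE_of_cover (fun i => (gP i).left) (fun t => ?_) d fun i => ?_
  · obtain ⟨i, w, hw⟩ := hsurj (snd'.left t)
    obtain ⟨p, hp, -⟩ := Scheme.Pullback.exists_preimage_pullback (f := snd'.left) (g := (g i).left) t w hw.symm
    exact ⟨i, p, hp⟩
  · have h2 : IsPullback ((yon S).map (gP i)) ((yon S).map (sP i)) ((yon S).map snd') ((yon S).map (g i)) :=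
      isPullback_yon_of_left (gP i) (sP i) snd' (g i) (IsPullback.of_hasPullback _ _)
    exact h i q (P i) (gP i ≫ c) ((yon S).map (sP i)) (by rw [Functor.map_comp]; exact h2.paste_horiz sq)

theorem hasUnivBddFibres_of_etale_cover (hA : IsAlgSpace X) {ι : Type*} (U : ι → Over S)
    (φ : ∀ i, (yon S).obj (U i) ⟶ X) (hφ : ∀ i, RepWith @Etale (φ i))
    (hsurj : ∀ x : Points X, ∃ (i : ι) (v : ↥(U i).left), Points.ofPt (φ i) v = x)
    (hb : ∀ i, W4dec.HasUnivBddFibres (φ i)) {V : Over S} [CompactSpace ↥V.left]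
    (ψ : (yon S).obj V ⟶ X) (hψ : RepWith @Etale ψ) : W4dec.HasUnivBddFibres ψ := by
  classical
  have key : ∀ v : ↥V.left, ∃ (W : Over S) (g : W ⟶ V) (d : ℕ), Etale g.left ∧ v ∈ Set.range g.left ∧
      W4dec.DegFibresLE d ((yon S).map g ≫ ψ) := by
    intro v
    obtain ⟨i, u, hu⟩ := hsurj (Points.ofPt ψ v)
    have sq := (hφ i).rep.isPullback' ψ
    obtain ⟨w, -, hw⟩ := exists_ofPt_of_eq sq hu
    obtain ⟨A, hA', hwA, -⟩ := exists_isAffineOpen_mem_and_subset
      (U := (⊤ : ((hφ i).rep.pullback ψ).left.Opens)) (x := w) trivial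
    let R := (hφ i).rep.pullback ψ
    let a : Over.mk (A.ι ≫ R.hom) ⟶ R := Over.homMk A.ι rfl
    have : Etale ((hφ i).rep.snd ψ).left := (hφ i).property_snd ψ
    have : Etale ((hφ i).rep.fst' ψ).left := hψ.property _ _ _ sq.flip
    have : Etale a.left := inferInstanceAs (Etale A.ι)
    have : Etale (a ≫ (hφ i).rep.fst' ψ).left := by rw [Over.comp_left]; infer_instance
    have : CompactSpace ↥(Over.mk (A.ι ≫ R.hom)).left := isCompact_iff_compactSpace.1 hA'.isCompact
    obtain ⟨r, hr⟩ := degFibresLE_yon_of_etale (a ≫ (hφ i).rep.fst' ψ)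
    obtain ⟨n, hn⟩ := hb i
    refine ⟨_, a ≫ (hφ i).rep.snd ψ, r * n, by rw [Over.comp_left]; infer_instance, ⟨⟨w, hwA⟩, hw⟩, ?_⟩
    have := degFibresLE_comp hA _ (φ i) hr hn
    rwa [Functor.map_comp, Category.assoc, ← sq.w, ← Category.assoc, ← Functor.map_comp]
  choose W g d hg hv hd using key
  obtain ⟨t, ht⟩ := isCompact_univ.elim_finite_subcover (fun v => Set.range (g v).left)
    (fun v => (g v).left.isOpenMap.isOpen_range) fun v _ => Set.mem_iUnion.2 ⟨v, hv v⟩
  have : ∀ v : t, Flat (g v.1).left := fun v => by have := hg v.1; infer_instance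
  exact ⟨_, degFibresLE_of_cover (fun v : t => g v.1) (fun x => by
    obtain ⟨v, hvt, w, hw⟩ := Set.mem_iUnion₂.1 (ht (Set.mem_univ x))
    exact ⟨⟨v, hvt⟩, w, hw⟩) ψ (fun v => d v.1) fun v => hd v.1⟩

theorem degFibresLE_of_baseChange {X Y : Sp S} (g : Y ⟶ X) {U V : Over S} (f : (yon S).obj U ⟶ X)
    (fst : (yon S).obj V ⟶ (yon S).obj U) (f' : (yon S).obj V ⟶ Y) (h : IsPullback fst f' f g)
    (him : Set.range (Points.ofPt f) ⊆ Set.range (Points.map g)) {n : ℕ} (hf' : W4dec.DegFibresLE n f') :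
    W4dec.DegFibresLE n f := by
  intro q T c snd sq
  rcases isEmpty_or_nonempty ↥T.left with hT | ⟨⟨t⟩⟩
  · exact (degLE_of_isEmpty c.left).mono (Nat.zero_le n)
  obtain ⟨snd', rfl⟩ := (yon S).map_surjective snd
  have hq : Points.mk q = Points.ofPt f (snd'.left t) := by
    rw [← ofPt_comp, ← sq.w, ofPt_comp]
    exact (Points.ofPt_toHom q _).symm
  obtain ⟨y, hy⟩ := him ⟨snd'.left t, hq.symm⟩
  obtain ⟨y, rfl⟩ := Points.mk_surjective y
  obtain ⟨Ω, _, w, a, b, hab⟩ := Points.mk_eq_mk_iff.1 hy.symm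
  have e : (yon S).map a ≫ q.toHom = (yon S).map b ≫ y.toHom ≫ g := by
    rw [← FieldPt.toHom_map]
    apply (J S).uliftYonedaEquiv.injective
    rw [← uliftYonedaEquiv_precomp, ← uliftYonedaEquiv_precomp, FieldPt.uliftYonedaEquiv_toHom,
      FieldPt.uliftYonedaEquiv_toHom]
    exact hab
  let P : Over S := Over.mk (pullback.fst a.left c.left ≫ (Over.mk w).hom)
  let cP : P ⟶ Over.mk w := Over.homMk (pullback.fst a.left c.left) rfl
  let sP : P ⟶ T := Over.homMk (pullback.snd a.left c.left) (by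
    change pullback.snd a.left c.left ≫ T.hom = pullback.fst a.left c.left ≫ (Over.mk w).hom
    rw [← Over.w c, ← pullback.condition_assoc, Over.w a])
  have h2 : IsPullback ((yon S).map cP) ((yon S).map sP) ((yon S).map a) ((yon S).map c) :=
    isPullback_yon_of_left cP sP a c (IsPullback.of_hasPullback _ _)
  have h3 : IsPullback ((yon S).map cP) ((yon S).map sP ≫ (yon S).map snd') ((yon S).map b ≫ y.toHom ≫ g) f := by
    rw [← e]; exact h2.paste_vert sq
  let m := h.lift ((yon S).map sP ≫ (yon S).map snd') ((yon S).map cP ≫ (yon S).map b ≫ y.toHom)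
    (by simpa [Category.assoc] using h3.w.symm)
  have sq' : IsPullback ((yon S).map cP) m ((yon S).map b ≫ y.toHom) f' := by
    refine IsPullback.of_bot ?_ (h.lift_snd _ _ _).symm h.flip
    rw [IsPullback.lift_fst, Category.assoc]
    exact h3
  exact (degLE_baseChange_iff (c := c.left) (z := a.left) (c' := cP.left) (h := sP.left)
    (IsPullback.of_hasPullback a.left c.left).flip).1 (degFibres_apply hf' _ cP m sq')

theorem hasUnivBddFibres_of_representable (hX : IsAlgSpace X) (hY : IsAlgSpace Y) (f : X ⟶ Y)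
    (hf : Representable f)
    (h : ∀ (V : Over S) (ψ : (yon S).obj V ⟶ Y), IsAffine V.left → RepWith @Etale ψ → W4dec.HasUnivBddFibres ψ)
    (U : Over S) (φ : (yon S).obj U ⟶ X) [CompactSpace ↥U.left] (hφ : RepWith @Etale φ) :
    W4dec.HasUnivBddFibres φ := by
  choose V ψ v hV hψ hv using fun y : Points Y => exists_affine_chart_at hY y
  refine hasUnivBddFibres_of_etale_cover hX (fun y => hf.pullback (ψ y)) (fun y => hf.fst (ψ y))
    (fun y => ?_) (fun x => ?_) (fun y => ?_) φ hφ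
  · exact repWith_of_isPullback (hf.isPullback (ψ y)).flip (hψ y)
  · induction x using Points.ind with | _ p =>
    obtain ⟨q, hq⟩ := Points.mk_surjective (Points.mk p)
    have sq := (hf.isPullback (ψ (Points.map f (Points.mk p)))).flip
    obtain ⟨r, hr⟩ := exists_point_of_isPullback sq (x := Points.ofScheme _ (v (Points.map f (Points.mk p))))
      (y := Points.mk p) (by rw [← Points.ofPt_eq_map_ofScheme]; exact hv _)
    obtain ⟨r', rfl⟩ := (Points.schemeEquiv _).surjective r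
    exact ⟨Points.map f (Points.mk p), r', by rw [Points.ofPt_eq_map_ofScheme]; exact hr.2⟩
  · obtain ⟨n, hn⟩ := h (V y) (ψ y) (hV y) (hψ y)
    exact ⟨n, degFibresLE_baseChange f (ψ y) hn _ _ (hf.isPullback (ψ y)).flip⟩

theorem hasUnivBddFibres_comp_openImmersion (hA : IsAlgSpace X) {U : Over S} (a : (yon S).obj U ⟶ Y)
    (j : Y ⟶ X) (hj : RepWith @IsOpenImmersion j) {n : ℕ} (ha : W4dec.DegFibresLE n a) :
    W4dec.DegFibresLE n (a ≫ j) := by
  have := mono_of_openImmersion hj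
  intro q T c snd sq
  rcases isEmpty_or_nonempty ↥T.left with hT | ⟨⟨t⟩⟩
  · exact (degLE_of_isEmpty c.left).mono (Nat.zero_le n)
  have hP := hj.rep.isPullback q.toHom
  have : IsOpenImmersion (hj.rep.snd q.toHom).left := hj.property_snd q.toHom
  obtain ⟨l, hl⟩ : ∃ l : T ⟶ hj.rep.pullback q.toHom, (yon S).map l = hP.lift (snd ≫ a) ((yon S).map c)
      (by rw [Category.assoc]; exact sq.w.symm) := (yon S).map_surjective _
  have : Subsingleton ↥q.pt.left := inferInstanceAs (Subsingleton (PrimeSpectrum q.K))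
  have : Surjective (hj.rep.snd q.toHom).left := ⟨fun x => ⟨l.left t, Subsingleton.elim _ _⟩⟩
  have : IsIso (hj.rep.snd q.toHom).left := (isIso_iff_isOpenImmersion_and_surjective _).2 ⟨‹_›, ‹_›⟩
  have : IsIso ((Over.forget S).map (hj.rep.snd q.toHom)) := ‹IsIso (hj.rep.snd q.toHom).left›
  have : IsIso (hj.rep.snd q.toHom) := isIso_of_reflects_iso _ (Over.forget S)
  obtain ⟨q₁, hq₁⟩ : ∃ q₁ : (yon S).obj q.pt ⟶ Y, q₁ ≫ j = q.toHom :=
    ⟨inv ((yon S).map (hj.rep.snd q.toHom)) ≫ hj.rep.fst q.toHom, by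
      rw [Category.assoc, hP.w, IsIso.inv_hom_id_assoc]⟩
  refine degFibres_apply ha q₁ c snd ?_
  rw [← hq₁] at sq
  have w : (yon S).map c ≫ q₁ = snd ≫ a := by
    rw [← cancel_mono j]; simpa using sq.w
  exact IsPullback.of_isLimit' ⟨w⟩ (PullbackCone.isLimitAux' _ fun s =>
    ⟨sq.lift s.fst s.snd (by rw [← Category.assoc, ← Category.assoc, s.condition]),
      sq.lift_fst _ _ _, sq.lift_snd _ _ _, fun h₁ h₂ => sq.hom_ext (by simpa using h₁) (by simpa using h₂)⟩)

theorem hasUnivBddFibres_of_zarCover (hX : IsAlgSpace X) {ι : Type u} (Xi : ι → Sp S)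
    (hXi : ∀ i, IsAlgSpace (Xi i)) (j : ∀ i, Xi i ⟶ X) (hj : IsZarCover Xi j)
    (h : ∀ (i : ι) (V : Over S) (ψ : (yon S).obj V ⟶ Xi i), IsAffine V.left → RepWith @Etale ψ →
      W4dec.HasUnivBddFibres ψ)
    (U : Over S) (φ : (yon S).obj U ⟶ X) [CompactSpace ↥U.left] (hφ : RepWith @Etale φ) :
    W4dec.HasUnivBddFibres φ := by
  choose i hi using hj.2
  choose x₁ hx₁ using hi
  choose V ψ v hV hψ hv using fun x : Points X => exists_affine_chart_at (hXi (i x)) (x₁ x)
  refine hasUnivBddFibres_of_etale_cover hX V (fun x => ψ x ≫ j (i x)) (fun x => ?_)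
    (fun x => ⟨x, v x, by rw [← Points.map_ofPt, hv, hx₁]⟩) (fun x => ?_) φ hφ
  · exact repWith_comp (hψ x) (repWith_mono (fun _ _ f (hf : IsOpenImmersion f) => (inferInstance : Etale f)) _ (hj.1 (i x)))
  · obtain ⟨n, hn⟩ := h _ (V x) (ψ x) (hV x) (hψ x)
    exact ⟨n, hasUnivBddFibres_comp_openImmersion hX _ _ (hj.1 (i x)) hn⟩

end Groth.Agent.AlgSpDec
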