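import Groth.Agent.AlgSpDec.LqfSplit
import Groth.Agent.MorLib.ElemEtaleFinite

/-!
# Existence of splitting data with a covered piece
-/

set_option backward.isDefEq.respectTransparency false
set_option backward.isDefEq.respectTransparency.types false

universe u

open CategoryTheory Limits Opposite AlgebraicGeometry AlgSp Groth.Agent.AlgSpLib Groth.Agent.AlgSpPts

namespace Groth.Agent.AlgSpDec

variable {S : Scheme.{u}} {F : Sp S} {V : Over S} {p : (yon S).obj V ⟶ F}

/-- Factorization through an open immersion over `S`. -/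
theorem exists_factor_openImm {X A B : Over S} (j : A ⟶ B) [IsOpenImmersion j.left] (k : X ⟶ B)
    (h : ∀ x, k.left x ∈ Set.range j.left) : ∃ k', k' ≫ j = k := by
  have hsub : Set.range k.left ⊆ Set.range j.left := by rintro _ ⟨x, rfl⟩; exact h x
  exact ⟨CategoryTheory.Over.homMk (IsOpenImmersion.lift j.left k.left hsub) (by
      rw [← Over.w j, IsOpenImmersion.lift_fac_assoc, Over.w k]),
    Over.OverMorphism.ext (IsOpenImmersion.lift_fac _ _ _)⟩

namespace Split

/-- Splitting data on an open of `T` where the section lies in the piece. -/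
theorem exists_restrict {T Q : Over S} (τ : T ⟶ V) [Etale τ.left] (sn : Q ⟶ T) (cq : Q ⟶ V) (σ : T ⟶ Q)
    (sq : IsPullback ((yon S).map cq) ((yon S).map sn) p ((yon S).map τ ≫ p)) (P : Q.left.Opens)
    (finP : IsFinite (P.ι ≫ sn.left)) [IsSeparated sn.left] [Flat sn.left] [LocallyOfFinitePresentation sn.left]
    (σsn : σ ≫ sn = 𝟙 T) (σcq : σ ≫ cq = τ) (T₁ : T.left.Opens) (hT₁ : ∀ a ∈ T₁, σ.left a ∈ P) :
    ∃ (D : Split p) (j : D.T ⟶ T) (jQ : D.Q ⟶ Q), IsOpenImmersion j.left ∧ Set.range j.left = T₁ ∧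
      j ≫ τ = D.τ ∧ IsPullback jQ D.sn sn j ∧ jQ ≫ cq = D.cq ∧ D.P = jQ.left ⁻¹ᵁ P ∧ D.σ ≫ jQ = j ≫ σ := by
  obtain ⟨sn', hsn', sqQ⟩ := exists_res sn T₁ rfl
  let jQ := openOverι Q (sn.left ⁻¹ᵁ T₁)
  let j := openOverι T T₁
  have sqS : IsPullback jQ.left sn'.left sn.left j.left := sqQ.map (Over.forget S)
  have hflat : Flat sn'.left := MorphismProperty.of_isPullback (P := @Flat) sqS ‹_›
  have hlfp : LocallyOfFinitePresentation sn'.left :=
    MorphismProperty.of_isPullback (P := @LocallyOfFinitePresentation) sqS ‹_›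
  have hsep : IsSeparated sn'.left := MorphismProperty.of_isPullback (P := @IsSeparated) sqS ‹_›
  let σ' := sqQ.lift (j ≫ σ) (𝟙 _) (by rw [Category.assoc, σsn, Category.comp_id, Category.id_comp])
  have hσ1 : σ' ≫ jQ = j ≫ σ := sqQ.lift_fst _ _ _
  have hsq : IsPullback ((yon S).map (jQ ≫ cq)) ((yon S).map sn') p ((yon S).map (j ≫ τ) ≫ p) := by
    have h := (sqQ.map (yon S)).paste_horiz sq
    rw [← Functor.map_comp, ← Category.assoc, ← Functor.map_comp] at h
    exact h
  refine ⟨⟨openOver T T₁, j ≫ τ, openOver Q (sn.left ⁻¹ᵁ T₁), sn', jQ ≫ cq, σ', jQ.left ⁻¹ᵁ P,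
    inferInstanceAs (Etale (T₁.ι ≫ τ.left)), hsq, ?_, hsep, hflat, hlfp, sqQ.lift_snd _ _ _, ?_, fun a => ?_⟩,
    j, jQ, (show IsOpenImmersion (openOverι T T₁).left from inferInstanceAs (IsOpenImmersion T₁.ι)), Scheme.Opens.range_ι T₁, rfl, sqQ, rfl, rfl, hσ1⟩
  · exact MorphismProperty.of_isPullback (P := @IsFinite)
      ((isPullback_morphismRestrict jQ.left P).paste_vert sqS) finP
  · rw [← Category.assoc, hσ1, Category.assoc, σcq]
  · show (σ' ≫ jQ).left a ∈ P
    rw [hσ1]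
    exact hT₁ _ a.2

/-- A splitting at a point of a flat quasi-finite chart. -/
theorem exists_split [IsAffine V.left] (hp : Representable p)
    (hf : RepWith @Flat p) (hlfp : RepWith @LocallyOfFinitePresentation p)
    (hqf : RepWith @LocallyQuasiFinite p) (v : V.left) :
    ∃ (D : Split p) (u : D.T.left), D.τ.left u = v ∧ ∀ z ∈ D.P, D.sn.left z = u → z = D.σ.left u := by
  let R := hp.pullback p
  let t := hp.fst' p
  let s := hp.snd p
  have sqR : IsPullback ((yon S).map t) ((yon S).map s) p p := hp.isPullback' p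
  have : Flat s.left := hf.property p ((yon S).map t) s sqR
  have : LocallyOfFinitePresentation s.left := hlfp.property p ((yon S).map t) s sqR
  have : LocallyQuasiFinite s.left := hqf.property p ((yon S).map t) s sqR
  have hl : t.left ≫ V.hom = s.left ≫ V.hom := (Over.w t).trans (Over.w s).symm
  let j := pullback.lift (f := V.hom) (g := V.hom) t.left s.left hl
  have : Mono j := ⟨fun y y' h => rel_ext sqR
    (by simpa [j] using congrArg (· ≫ pullback.fst V.hom V.hom) h)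
    (by simpa [j] using congrArg (· ≫ pullback.snd V.hom V.hom) h)⟩
  have : IsSeparated V.hom := by
    have : IsSeparated (V.hom ≫ terminal.from S) := by
      rw [terminal.comp_from]
      infer_instance
    exact IsSeparated.of_comp V.hom (terminal.from S)
  have hsep : IsSeparated s.left := by
    rw [show s.left = j ≫ pullback.snd V.hom V.hom from (pullback.lift_snd _ _ _).symm]
    infer_instance
  obtain ⟨e, het, hes⟩ := exists_rel_lift sqR (𝟙 V) (𝟙 V) rfl
  have hsev : s.left (e.left v) = v := by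
    rw [← Scheme.Hom.comp_apply, ← Over.comp_left, hes]; rfl
  obtain ⟨U₀, g, u, ⟨hg, hgu, -⟩, Pu, v', hv'P, hPu, hv'u, huniq, hv'x, -⟩ :=
    Groth.Agent.MorLib.EEF.exists_elem_nbhd s.left (e.left v) (Scheme.Hom.quasiFiniteAt _ _)
  let T : Over S := Over.mk (g ≫ V.hom)
  let τ : T ⟶ V := CategoryTheory.Over.homMk g rfl
  have : Etale τ.left := hg
  let Q : Over S := pullback s τ
  let pr : Q ⟶ R := pullback.fst s τ
  let sn : Q ⟶ T := pullback.snd s τ
  have hQ : IsPullback pr.left sn.left s.left g := (IsPullback.of_hasPullback s τ).map (Over.forget S)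
  let φ := hQ.isoPullback
  let P : Q.left.Opens := φ.hom ⁻¹ᵁ Pu
  have hfin : IsFinite (P.ι ≫ sn.left) := by
    rw [← hQ.isoPullback_hom_snd, ← Category.assoc, ← morphismRestrict_ι φ.hom Pu, Category.assoc]
    infer_instance
  have sq : IsPullback ((yon S).map (pr ≫ t)) ((yon S).map sn) p ((yon S).map τ ≫ p) := by
    rw [Functor.map_comp]
    exact ((IsPullback.of_hasPullback s τ).map (yon S)).paste_horiz sqR
  let σ : T ⟶ Q := pullback.lift (τ ≫ e) (𝟙 T) (by rw [Category.assoc, hes, Category.comp_id, Category.id_comp])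
  have hσpr : σ ≫ pr = τ ≫ e := pullback.lift_fst _ _ _
  have hσsn : σ ≫ sn = 𝟙 T := pullback.lift_snd _ _ _
  have hσcq : σ ≫ pr ≫ t = τ := by rw [reassoc_of% hσpr, het, Category.comp_id]
  have : IsSeparated sn.left := MorphismProperty.of_isPullback (P := @IsSeparated) hQ hsep
  have : Flat sn.left := MorphismProperty.of_isPullback (P := @Flat) hQ inferInstance
  have : LocallyOfFinitePresentation sn.left :=
    MorphismProperty.of_isPullback (P := @LocallyOfFinitePresentation) hQ inferInstance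
  -- the section takes the value of the chosen point
  have sqσ : IsPullback σ τ pr e := (IsPullback.of_bot (v₁₁ := σ) (v₁₂ := e) (h₂₁ := pr) (v₂₁ := sn)
    (v₂₂ := s) (h₁₁ := τ) (h₃₁ := τ) (by rw [hes, hσsn]; exact IsPullback.of_vert_isIso ⟨by simp⟩)
    hσpr.symm (IsPullback.of_hasPullback s τ)).flip
  let z₀ := φ.inv v'
  have hz1 : pr.left z₀ = e.left v := by
    rw [← Scheme.Hom.comp_apply, hQ.isoPullback_inv_fst]; exact hv'x
  have hz2 : sn.left z₀ = u := by
    rw [← Scheme.Hom.comp_apply, hQ.isoPullback_inv_snd]; exact hv'u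
  obtain ⟨w, hw1, -⟩ := Scheme.exists_preimage_of_isPullback (sqσ.map (Over.forget S)) z₀ v hz1
  have hwu : w = u := by
    rw [← hz2, ← show σ.left w = z₀ from hw1, ← Scheme.Hom.comp_apply, ← Over.comp_left, hσsn]
    rfl
  have hσu : φ.hom (σ.left u) = v' := by
    rw [← hwu, show σ.left w = z₀ from hw1, ← Scheme.Hom.comp_apply, Iso.inv_hom_id]; rfl
  obtain ⟨D, jT, jQ, hjo, hjr, hτ, sqJ, -, hDP, hσj⟩ := exists_restrict τ sn (pr ≫ t) σ sq P hfin hσsn hσcq
    (σ.left ⁻¹ᵁ P) (fun a ha => ha)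
  obtain ⟨u', hu'⟩ : u ∈ Set.range jT.left := by
    rw [hjr]
    show φ.hom (σ.left u) ∈ Pu
    rw [hσu]; exact hv'P
  refine ⟨D, u', ?_, fun z hz hzu => ?_⟩
  · rw [← hτ, Over.comp_left, Scheme.Hom.comp_apply, hu']; exact hgu.trans hsev
  · rw [hDP] at hz
    have h1 : pullback.snd s.left g (φ.hom (jQ.left z)) = u := by
      rw [← Scheme.Hom.comp_apply, hQ.isoPullback_hom_snd, ← Scheme.Hom.comp_apply, ← Over.comp_left, sqJ.w,
        Over.comp_left, Scheme.Hom.comp_apply, hzu]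
      exact hu'
    have h2 := huniq _ hz h1
    have hinjQ : Function.Injective jQ.left := by
      have : Mono jQ.left := MorphismProperty.of_isPullback (P := MorphismProperty.monomorphisms Scheme.{u})
        (sqJ.map (Over.forget S)).flip (inferInstanceAs (Mono jT.left))
      exact jQ.left.injective
    apply hinjQ
    apply (Scheme.homeoOfIso φ).injective
    show φ.hom (jQ.left z) = φ.hom (jQ.left (D.σ.left u'))
    rw [h2, ← Scheme.Hom.comp_apply (D.σ.left) jQ.left, ← Over.comp_left, hσj, Over.comp_left, Scheme.Hom.comp_apply, hu', hσu]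

/-- The points of the base over which the piece is covered. -/
theorem exists_good (D : Split p) : ∃ T₁ : D.T.left.Opens, ∀ a, a ∈ T₁ ↔
    ∀ z ∈ D.P, D.sn.left z = a → ∃ r ∈ D.E, (pullback.fst D.cq D.τ).left r = z := by
  have hop : IsOpen ((pullback.fst D.cq D.τ).left '' (D.E : Set D.R2.left)) := by
    have : Etale (pullback.fst D.cq D.τ).left := MorphismProperty.of_isPullback (P := @Etale)
      ((IsPullback.of_hasPullback D.cq D.τ).map (Over.forget S)).flip D.etaleτ
    exact (pullback.fst D.cq D.τ).left.isOpenMap _ D.E.2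
  have hcl : IsClosed (D.sn.left '' ((D.P : Set D.Q.left) ∩ ((pullback.fst D.cq D.τ).left '' (D.E : Set D.R2.left))ᶜ)) :=
    D.isClosed_image_of_piece D.sn.left (x := 𝟙 _) (y := 𝟙 _) (IsPullback.of_horiz_isIso ⟨by simp⟩)
      (D.isClosed_P.inter hop.isClosed_compl) Set.inter_subset_left
  refine ⟨⟨_, hcl.isOpen_compl⟩, fun a => ⟨fun ha z hz hza => ?_, fun h => ?_⟩⟩
  · by_contra hne
    exact ha ⟨z, ⟨hz, fun ⟨r, hr, hrz⟩ => hne ⟨r, hr, hrz⟩⟩, hza⟩
  · rintro ⟨z, ⟨hz, hne⟩, rfl⟩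
    exact hne (h z hz rfl)

/-- The covered locus is invariant. -/
theorem good_of_pair (D : Split p) {r : D.R2.left} (hr : r ∈ D.E)
    (h : ∀ z ∈ D.P, D.sn.left z = D.ra.left r → ∃ r ∈ D.E, (pullback.fst D.cq D.τ).left r = z)
    {zb : D.Q.left} (hzb : zb ∈ D.P) (hzbr : D.sn.left zb = D.rb.left r) :
    ∃ r' ∈ D.E, (pullback.fst D.cq D.τ).left r' = zb := by
  obtain ⟨w, hwχ, hwr⟩ : ∃ w : D.Q2.left, D.χ.left w = zb ∧ (pullback.fst D.ra D.sn).left w = r :=
    Scheme.exists_preimage_of_isPullback (D.isPullback_χ.map (Over.forget S)) zb r hzbr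
  have hw : (pullback.snd D.ra D.sn).left w ∈ D.P := ((D.mem_E_iff.1 hr) w hwr).2 (by rw [hwχ]; exact hzb)
  obtain ⟨r₁, hr₁, hr₁z⟩ := h _ hw (by
    rw [← Scheme.Hom.comp_apply, ← Over.comp_left, ← pullback.condition, Over.comp_left,
      Scheme.Hom.comp_apply, hwr])
  let X : Over S := pullback (pullback.snd D.ra D.sn) (pullback.fst D.cq D.τ)
  let pw : X ⟶ D.Q2 := pullback.fst _ _
  let p₁ : X ⟶ D.R2 := pullback.snd _ _
  obtain ⟨ξ, hξw, hξr⟩ : ∃ ξ : X.left, pw.left ξ = w ∧ p₁.left ξ = r₁ := Scheme.exists_preimage_of_isPullback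
    ((IsPullback.of_hasPullback (pullback.snd D.ra D.sn) (pullback.fst D.cq D.τ)).map (Over.forget S))
    w r₁ hr₁z.symm
  have hX : pw ≫ pullback.snd D.ra D.sn = p₁ ≫ pullback.fst D.cq D.τ := pullback.condition
  let pr : X ⟶ D.R2 := pw ≫ pullback.fst D.ra D.sn
  let X₀ : X.left.Opens := pr.left ⁻¹ᵁ D.E ⊓ p₁.left ⁻¹ᵁ D.E
  have hξr' : pr.left ξ = r := by
    rw [Over.comp_left, Scheme.Hom.comp_apply, hξw, hwr]
  have hξ : ξ ∈ X₀ := ⟨by show pr.left ξ ∈ D.E; rw [hξr']; exact hr, by show p₁.left ξ ∈ D.E; rw [hξr]; exact hr₁⟩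
  let i := openOverι X X₀
  let r' : X ⟶ D.R2 := pullback.lift (f := D.cq) (g := D.τ) (pw ≫ D.χ) (p₁ ≫ D.rb) (by
    rw [Category.assoc, D.χ_cq, reassoc_of% hX, pullback.condition, Category.assoc])
  have hr'1 : r' ≫ pullback.fst D.cq D.τ = pw ≫ D.χ := pullback.lift_fst _ _ _
  have hr'2 : r' ≫ D.rb = p₁ ≫ D.rb := pullback.lift_snd _ _ _
  have e1 := (D.same_iff (i ≫ pr)).2 fun x => x.2.1
  have e2 := (D.same_iff (i ≫ p₁)).2 fun x => x.2.2
  have hab : (i ≫ pr) ≫ D.ra = (i ≫ p₁) ≫ D.ra := by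
    simp only [pr, Category.assoc]
    rw [pullback.condition, reassoc_of% hX]
  have hb : (i ≫ r') ≫ D.ra = (i ≫ pr) ≫ D.rb := by
    simp only [pr, Category.assoc]
    rw [reassoc_of% hr'1, D.χ_sn]
  rw [hab] at e1
  have e3 := e1.symm.trans e2
  rw [← hb, show (i ≫ p₁) ≫ D.rb = (i ≫ r') ≫ D.rb by rw [Category.assoc, Category.assoc, hr'2]] at e3
  refine ⟨r'.left ξ, (D.same_iff _).1 e3 ⟨ξ, hξ⟩, ?_⟩
  rw [← Scheme.Hom.comp_apply, ← Over.comp_left, hr'1, Over.comp_left, Scheme.Hom.comp_apply, hξw, hwχ]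

/-- A splitting with covered piece at every point of a flat quasi-finite chart. -/
theorem exists_cov_split [IsAffine V.left] (hp : Representable p)
    (hf : RepWith @Flat p) (hlfp : RepWith @LocallyOfFinitePresentation p)
    (hqf : RepWith @LocallyQuasiFinite p) (v : V.left) :
    ∃ (D : Split p) (u : D.T.left), D.τ.left u = v ∧ D.Cov := by
  obtain ⟨D, u, hu, huniq⟩ := exists_split hp hf hlfp hqf v
  obtain ⟨T₁, hT₁⟩ := D.exists_good
  have huT : u ∈ T₁ := (hT₁ u).2 fun z hz hzu => by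
    obtain ⟨d, hd1, -, hdE⟩ := D.exists_diag
    refine ⟨d.left u, hdE u, ?_⟩
    rw [← Scheme.Hom.comp_apply, ← Over.comp_left, hd1, huniq z hz hzu]
  have : IsFinite (D.P.ι ≫ D.sn.left) := D.finP
  obtain ⟨D', j, jQ, hjo, hjr, hjτ, sqJ, hjcq, hDP, -⟩ := exists_restrict D.τ D.sn D.cq D.σ D.sq D.P D.finP
    D.σsn D.σcq T₁ (fun a _ => D.memP a)
  have : Mono j := (Over.forget S).mono_of_mono_map (inferInstanceAs (Mono j.left))
  have hjQinj : Function.Injective jQ.left := by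
    have : IsOpenImmersion jQ.left := MorphismProperty.of_isPullback (P := @IsOpenImmersion)
      (sqJ.map (Over.forget S)).flip hjo
    exact jQ.left.isOpenEmbedding.injective
  obtain ⟨u', hu'⟩ : u ∈ Set.range j.left := by rw [hjr]; exact huT
  refine ⟨D', u', by rw [← hjτ, Over.comp_left, Scheme.Hom.comp_apply, hu', hu], fun z hz => ?_⟩
  rw [hDP] at hz
  have hzT : D.sn.left (jQ.left z) ∈ T₁ := by
    show _ ∈ (T₁ : Set D.T.left)
    rw [← hjr]
    exact ⟨D'.sn.left z, by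
      rw [← Scheme.Hom.comp_apply, ← Scheme.Hom.comp_apply, ← Over.comp_left, ← Over.comp_left, sqJ.w]⟩
  obtain ⟨r, hr, hrz⟩ := (hT₁ _).1 hzT _ hz rfl
  have hra : D.ra.left r = D.sn.left (jQ.left z) := by
    rw [Over.comp_left, Scheme.Hom.comp_apply, hrz]
  have hrb : D.rb.left r ∈ T₁ := (hT₁ _).2 fun zb hzb hzbr =>
    D.good_of_pair hr (by rw [hra]; exact (hT₁ _).1 hzT) hzb hzbr
  let X₀ : D.R2.left.Opens := D.E ⊓ D.ra.left ⁻¹ᵁ T₁ ⊓ D.rb.left ⁻¹ᵁ T₁
  let i := openOverι D.R2 X₀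
  have hrX : r ∈ X₀ := ⟨⟨hr, by show D.ra.left r ∈ T₁; rw [hra]; exact hzT⟩, hrb⟩
  obtain ⟨a', ha'⟩ := exists_factor_openImm j (i ≫ D.ra) fun x => by rw [hjr]; exact x.2.1.2
  obtain ⟨b', hb'⟩ := exists_factor_openImm j (i ≫ D.rb) fun x => by rw [hjr]; exact x.2.2
  let q' := sqJ.lift (i ≫ pullback.fst D.cq D.τ) a' (by rw [ha', Category.assoc])
  have hq1 : q' ≫ jQ = i ≫ pullback.fst D.cq D.τ := sqJ.lift_fst _ _ _
  let r₀ : openOver D.R2 X₀ ⟶ D'.R2 := pullback.lift (f := D'.cq) (g := D'.τ) q' b' (by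
    rw [← hjcq, ← hjτ, reassoc_of% hq1, reassoc_of% hb', pullback.condition])
  have hr1 : r₀ ≫ pullback.fst D'.cq D'.τ = q' := pullback.lift_fst _ _ _
  refine ⟨r₀.left ⟨r, hrX⟩, (D'.same_iff r₀).1 ?_ _, hjQinj ?_⟩
  · rw [pullback.lift_fst_assoc, sqJ.lift_snd, pullback.lift_snd]
    have hs := (D.same_iff i).2 fun x => x.2.1.1
    rw [← ha', ← hb'] at hs
    refine ⟨?_, fun X' φ qa qb h1 h2 h3 ω => ?_⟩
    · have := hs.1
      rw [Functor.map_comp, Functor.map_comp, Category.assoc, Category.assoc] at this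
      rwa [Split.c, ← hjτ, Functor.map_comp, Category.assoc]
    · have := hs.2 φ (qa ≫ jQ) (qb ≫ jQ) (by rw [Category.assoc, sqJ.w, reassoc_of% h1])
        (by rw [Category.assoc, sqJ.w, reassoc_of% h2]) (by rw [Category.assoc, Category.assoc, hjcq, h3]) ω
      rw [Over.comp_left, Over.comp_left, Scheme.Hom.comp_apply, Scheme.Hom.comp_apply] at this
      rw [hDP]
      exact this
  · rw [← hrz, ← Scheme.Hom.comp_apply (r₀.left), ← Over.comp_left, hr1, ← Scheme.Hom.comp_apply q'.left,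
      ← Over.comp_left, hq1, Over.comp_left, Scheme.Hom.comp_apply]
    rfl

end Split

end Groth.Agent.AlgSpDec
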