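import Groth.Agent.AlgSpDec.OneFlat
import Mathlib.AlgebraicGeometry.Morphisms.LocalFlatDescent

/-!
# Monomorphisms into one-point spaces, factorisation of reduced spaces through a point
-/

set_option backward.isDefEq.respectTransparency false
set_option backward.isDefEq.respectTransparency.types false

open CategoryTheory Limits Opposite AlgebraicGeometry MorphismProperty AlgSp Groth.Agent.AlgSpLib
  Groth.Agent.AlgSpPts Topology

namespace Groth.Agent.AlgSpDec

universe u

variable {S : Scheme.{u}}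

/-- A monomorphism of algebraic spaces to the spectrum of a field with non-empty source is an isomorphism. -/
theorem isIso_of_mono_field {P : Sp S} (hP : IsAlgSpace P) {K : Type u} [Field K]
    {str : Spec (CommRingCat.of K) ⟶ S} (g : P ⟶ (yon S).obj (Over.mk str)) [Mono g] (z : Points P) :
    IsIso g := by
  obtain ⟨W, c, w, hW, hc, -⟩ := exists_affine_chart_at hP z
  obtain ⟨h, hh⟩ := (yon S).map_surjective (c ≫ g)
  let R := hc.rep.pullback c
  let r₁ : R ⟶ W := hc.rep.fst' c
  let r₂ : R ⟶ W := hc.rep.snd c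
  have sq : IsPullback ((yon S).map r₁) ((yon S).map r₂) c c := hc.rep.isPullback' c
  have sq' : IsPullback ((yon S).map r₁) ((yon S).map r₂) ((yon S).map h) ((yon S).map h) := by
    rw [hh]
    exact IsPullback.of_isLimit' ⟨by rw [reassoc_of% sq.w]⟩
      (PullbackCone.isLimitOfCompMono c c g _ sq.isLimit)
  have hsq : IsPullback r₁.left r₂.left h.left h.left := isPullback_of_yon sq'
  have : Subsingleton ↥(Over.mk str).left := inferInstanceAs (Subsingleton (PrimeSpectrum K))
  have : Nonempty ↥W.left := ⟨w⟩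
  have : IsIntegral (Over.mk str).left := inferInstanceAs (IsIntegral (Spec (CommRingCat.of K)))
  have : IsAffine (Over.mk str).left := inferInstanceAs (IsAffine (Spec (CommRingCat.of K)))
  have : Flat h.left := inferInstance
  have : Surjective h.left := surjective_of_subsingleton h.left
  have : QuasiCompact h.left := inferInstance
  have : Etale r₁.left := hc.property _ _ _ sq.flip
  have : Etale h.left := MorphismProperty.of_isPullback_of_descendsAlong
    (Q := (@Surjective ⊓ @Flat ⊓ @QuasiCompact : MorphismProperty Scheme.{u})) hsq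
    ⟨⟨‹Surjective h.left›, ‹Flat h.left›⟩, ‹QuasiCompact h.left›⟩ ‹Etale r₁.left›
  have hhE : RepWith @Etale ((yon S).map h) := (repWith_yon_map_iff _ h).2 ‹_›
  have hhS : RepWith @Surjective ((yon S).map h) := (repWith_yon_map_iff _ h).2 ‹_›
  have : Epi ((yon S).map h) := epi_of_etale_surjective hhE hhS
  have : Epi g := epi_of_epi_fac hh.symm
  exact isIso_of_mono_of_epi g

/-- A monomorphism into a reduced locally noetherian one-point space is an isomorphism unless empty. -/
theorem isIso_of_mono_of_point {Z' Z : Sp S} (hZ' : IsAlgSpace Z') (hZ : IsAlgSpace Z) [Subsingleton (Points Z)]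
    (hr : EtaleLocally (fun U => IsReduced U) Z) (hN : IsLocNoethSp Z) (f : Z' ⟶ Z) [Mono f] (z' : Points Z') :
    IsIso f := by
  have : Nonempty (Points Z) := ⟨Points.map f z'⟩
  obtain ⟨k, _, str, q, -, -, hs, he⟩ := exists_lft_rep hZ hr
  have hqe := he hN
  have sq := IsPullback.of_hasPullback f q
  have hP := isAlgSpace_pullback hZ' (IsAlgSpace.yon_obj (Over.mk str)) hZ f q
  obtain ⟨z, -, -⟩ := exists_point_of_isPullback sq (x := z')
    (y := Points.ofScheme (Over.mk str) (IsLocalRing.closedPoint k)) (Subsingleton.elim _ _)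
  have := isIso_of_mono_field hP (pullback.snd f q) z
  have : Epi q := epi_of_etale_surjective hqe (repWith_surjective_of_surjective hqe.rep hs)
  have : Epi f := epi_of_epi_fac (f := inv (pullback.snd f q) ≫ pullback.fst f q) (h := q)
    (by rw [Category.assoc, pullback.condition, IsIso.inv_hom_id_assoc])
  exact isIso_of_mono_of_epi f

theorem flat_lfp_cover_package {Z : Sp S} (hA : IsAlgSpace Z) {k : Type u} [Field k]
    {str : Spec (CommRingCat.of k) ⟶ S} (p : (yon S).obj (Over.mk str) ⟶ Z)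
    (hp : LocP @LocallyOfFinitePresentation p) (hf : LocP @Flat p) (hs : IsSurjectiveMor p) :
    EtaleLocally (fun U => IsReduced U) Z ∧ IsLocNoethSp Z ∧ Nonempty (Points Z) ∧ Subsingleton (Points Z) := by
  obtain ⟨h₁, h₂, h₃⟩ := reduced_subsingleton_of_flat hA p hf hs
  refine ⟨h₁, isLocNoethSp_of_fppf_surjective (IsAlgSpace.yon_obj _) hA p hp hf hs
    ⟨Over.mk str, 𝟙 _, repWith_id _ _, repWith_id _ _, inferInstanceAs (IsLocallyNoetherian (Spec (CommRingCat.of k)))⟩,
    h₂, h₃⟩

/-- A morphism from a reduced affine scheme to an affine scheme with image one point factors through it. -/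
theorem exists_factor_residueField {T A : Scheme.{u}} (g : T ⟶ A) [IsReduced T] (a : ↥A)
    (hg : ∀ t, g t = a) : ∃ l : T ⟶ Spec (A.residueField a), l ≫ A.fromSpecResidueField a = g := by
  obtain ⟨V, hV, haV, -⟩ := exists_isAffineOpen_mem_and_subset (U := (⊤ : A.Opens)) (x := a) trivial
  have hgV : g ⁻¹ᵁ V = ⊤ := top_unique fun t _ => show g t ∈ V from (hg t).symm ▸ haV
  obtain ⟨R, j, hj, ⟨b, hb⟩⟩ : ∃ (R : CommRingCat.{u}) (j : Spec R ⟶ A), IsOpenImmersion j ∧ a ∈ Set.range j :=
    ⟨_, hV.fromSpec, inferInstance, by rw [hV.range_fromSpec]; exact haV⟩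
  let g' : T ⟶ Spec R := IsOpenImmersion.lift j g (by
    rintro _ ⟨t, rfl⟩; rw [hg t]; exact ⟨b, hb⟩)
  have hg' : ∀ t, g' t = b := fun t => j.isOpenEmbedding.injective (by
    rw [← Scheme.Hom.comp_apply, IsOpenImmersion.lift_fac, hg t, hb])
  obtain ⟨φ, hφ⟩ : ∃ φ : R ⟶ Γ(T, ⊤), T.toSpecΓ ≫ Spec.map φ = g' :=
    ⟨(ΓSpec.adjunction.homEquiv T (op R)).symm g' |>.unop, by
      have := (ΓSpec.adjunction.homEquiv T (op R)).apply_symm_apply g'
      rw [ΓSpec.adjunction.homEquiv_unit] at this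
      exact this⟩
  let 𝔭 := (b : PrimeSpectrum R)
  have hbo : ∀ (r : R) (t : ↥T), t ∈ T.basicOpen (φ.hom r) ↔ r ∉ 𝔭.asIdeal := by
    intro r t
    have h1 : g' ⁻¹ᵁ PrimeSpectrum.basicOpen r = T.basicOpen (φ.hom r) := by
      rw [← hφ, Scheme.Hom.comp_preimage, ← Scheme.toSpecΓ_preimage_basicOpen]
      rfl
    rw [← h1]
    change g' t ∈ PrimeSpectrum.basicOpen r ↔ _
    rw [hg']
    rfl
  have hunit : ∀ r : R, r ∉ 𝔭.asIdeal → IsUnit (φ.hom r) := fun r hr =>
    T.toRingedSpace.isUnit_of_isUnit_germ ⊤ (φ.hom r) fun t ht =>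
      (T.mem_basicOpen (φ.hom r) t ht).1 ((hbo r t).2 hr)
  have hzero : ∀ r : R, r ∈ 𝔭.asIdeal → φ.hom r = 0 := fun r hr =>
    (basicOpen_eq_bot_iff _).1 (bot_unique fun t ht => ((hbo r t).1 ht hr).elim)
  let κ := 𝔭.asIdeal.ResidueField
  let ψ : κ →+* Γ(T, ⊤) := Ideal.ResidueField.lift _ φ.hom (fun r hr => hzero r hr) fun r hr => hunit r hr
  have hψ : CommRingCat.ofHom (algebraMap R κ) ≫ CommRingCat.ofHom ψ = φ := by
    ext r; exact Ideal.ResidueField.lift_algebraMap 𝔭.asIdeal φ.hom (fun r hr => hzero r hr) (fun r hr => hunit r hr) r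
  let e := Spec.map ((Scheme.Spec.residueFieldIso R b).hom)
  refine ⟨T.toSpecΓ ≫ Spec.map (CommRingCat.ofHom ψ) ≫ e ≫
    Spec.map ((A.residueFieldCongr hb.symm).hom ≫ j.residueFieldMap b), ?_⟩
  simp only [Category.assoc, Spec.map_comp]
  rw [Scheme.residueFieldCongr_fromSpecResidueField, Scheme.Hom.SpecMap_residueFieldMap_fromSpecResidueField]
  have he : e ≫ (Spec R).fromSpecResidueField b = Spec.map (CommRingCat.ofHom (algebraMap R κ)) := by
    rw [← Scheme.Spec.map_residueFieldIso_inv_eq_fromSpecResidueField]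
    change Spec.map _ ≫ _ = _
    rw [← Spec.map_comp_assoc, Iso.inv_hom_id, Spec.map_id, Category.id_comp]
  rw [reassoc_of% he, ← Spec.map_comp_assoc, hψ, reassoc_of% hφ]
  exact IsOpenImmersion.lift_fac _ _ _

theorem isOpen_singleton_fibre {α : Type*} [TopologicalSpace α] {F : Set α} (hF : F.Finite) {u : α}
    (hu : u ∈ F) (h : ∀ v ∈ F, v ⤳ u → v = u) : ∃ O : Set α, IsOpen O ∧ u ∈ O ∧ O ∩ F ⊆ {u} := by
  refine ⟨(⋃ v ∈ F \ {u}, closure {v})ᶜ, ((hF.sdiff).isClosed_biUnion fun _ _ => isClosed_closure).isOpen_compl, ?_, ?_⟩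
  · simp only [Set.mem_compl_iff, Set.mem_iUnion, not_exists]
    exact fun v hv hvu => hv.2 (h v hv.1 (specializes_iff_mem_closure.2 hvu))
  · rintro v ⟨hv, hvF⟩
    by_contra hne
    exact hv (Set.mem_biUnion ⟨hvF, hne⟩ (subset_closure rfl))

theorem isIso_snd_of_reduced {X : Sp S} (hX : IsAlgSpace X) {p : FieldPt X} [Mono p.toHom]
    (hq : RepWith @QuasiCompact p.toHom) {W : Over S} [IsReduced W.left] (g : (yon S).obj W ⟶ X)
    (hg : ∀ w, Points.ofPt g w = Points.mk p) : IsIso (hq.rep.snd g).left := by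
  obtain ⟨U, a, ha, ha'⟩ := hX.atlas
  let W' := ha.rep.pullback g
  let gU : W' ⟶ U := ha.rep.fst' g
  let π : W' ⟶ W := ha.rep.snd g
  have : Etale π.left := ha.property_snd g
  have : Surjective π.left := ha'.property _ _ _ (ha.rep.isPullback g)
  have hfp : (@Surjective ⊓ @Flat ⊓ @LocallyOfFinitePresentation : MorphismProperty Scheme.{u}) π.left :=
    ⟨⟨inferInstance, inferInstance⟩, inferInstance⟩
  have : IsReduced W'.left := isReduced_of_etaleMor π.left
  let V := hq.rep.pullback g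
  let v₁ : V ⟶ p.pt := hq.rep.fst' g
  let v₂ : V ⟶ W := hq.rep.snd g
  have sqV : IsPullback ((yon S).map v₁) ((yon S).map v₂) p.toHom g := hq.rep.isPullback' g
  have : Mono v₂ := (yon S).mono_of_mono_map (PullbackCone.mono_snd_of_is_pullback_of_mono sqV.isLimit)
  have : Mono v₂.left := inferInstanceAs (Mono ((Over.forget S).map v₂))
  refine MorphismProperty.of_pullback_fst_of_descendsAlong (P := MorphismProperty.isomorphisms Scheme.{u})
    (f := π.left) hfp ?_
  let r := pullback.fst π.left v₂.left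
  change IsIso r
  have : Mono r := inferInstance
  have key : ∀ w' : ↥W'.left, ∃ O : W'.left.Opens, w' ∈ O ∧ IsIso (r ∣_ O) := by
    intro w'
    let u := gU.left w'
    have hux : ∀ w, Points.ofPt a (gU.left w) = Points.mk p := fun w => by
      rw [← ofPt_comp, (ha.rep.isPullback' g).w, ofPt_comp, hg]
    obtain ⟨A, hA', huA, -⟩ := exists_isAffineOpen_mem_and_subset (U := (⊤ : U.left.Opens)) (x := u) trivial
    have hfinx : ∀ (V' : Over S) (b : (yon S).obj V' ⟶ X), IsAffine V'.left → RepWith @Etale b →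
        (Points.ofPt b ⁻¹' {Points.mk p}).Finite := fun V' b _ hb => finite_fibre_of_repWith hb p hq
    have hF : ((A : Set ↥U.left) ∩ Points.ofPt a ⁻¹' {Points.mk p}).Finite := by
      let j : Over.mk (A.ι ≫ U.hom) ⟶ U := Over.homMk A.ι rfl
      have : IsAffine (Over.mk (A.ι ≫ U.hom)).left := hA'
      have h1 := hfinx _ ((yon S).map j ≫ a) this
        (repWith_comp ((repWith_yon_map_iff _ j).2 (inferInstanceAs (Etale A.ι))) ha)
      refine (h1.image A.ι).subset ?_
      rintro v ⟨hvA, hv⟩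
      refine ⟨⟨v, hvA⟩, ?_, rfl⟩
      change Points.ofPt ((yon S).map j ≫ a) ⟨v, hvA⟩ = _
      rw [ofPt_comp]
      exact hv
    obtain ⟨O₁, hO₁, huO₁, hO₁F⟩ := isOpen_singleton_fibre hF (u := u) ⟨huA, hux w'⟩
      fun v hv hvu => (eq_of_specializes _ hfinx ha (hux w') hv.2 hvu).symm
    let O : W'.left.Opens := gU.left ⁻¹ᵁ (A ⊓ ⟨O₁, hO₁⟩)
    refine ⟨O, ⟨huA, huO₁⟩, ?_⟩
    have : IsReduced O.toScheme := isReduced_of_isOpenImmersion O.ι
    obtain ⟨l, hl⟩ := exists_factor_residueField (O.ι ≫ gU.left) u fun o => by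
      rw [Scheme.Hom.comp_apply]
      exact hO₁F ⟨o.2.2, o.2.1, hux _⟩
    let q := FieldPt.ofPt a u
    obtain ⟨c, hc, -⟩ := existsUnique_factor p.toHom hq.rep q.toHom (by
      rw [← mk_eq_ofPt, ← mk_eq_ofPt]
      exact (hux w').symm)
    let O' : Over S := Over.mk (O.ι ≫ W'.hom)
    let jO : O' ⟶ W' := Over.homMk O.ι rfl
    let lO : O' ⟶ q.pt := CategoryTheory.Over.homMk l (by
      change l ≫ U.left.fromSpecResidueField u ≫ U.hom = O.ι ≫ W'.hom
      rw [reassoc_of% hl, CategoryTheory.Over.w])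
    have hlO : lO ≫ (CategoryTheory.Over.homMk (U.left.fromSpecResidueField u) rfl : q.pt ⟶ U) = jO ≫ gU :=
      Over.OverMorphism.ext hl
    have hsec : (yon S).map (lO ≫ c) ≫ p.toHom = (yon S).map (jO ≫ π) ≫ g := by
      rw [Functor.map_comp, Category.assoc, hc, FieldPt.toHom_ofPt, ← Category.assoc, ← Functor.map_comp, hlO,
        Functor.map_comp, Functor.map_comp, Category.assoc, Category.assoc]
      exact congrArg ((yon S).map jO ≫ ·) (ha.rep.isPullback' g).w
    obtain ⟨σ, hσ⟩ := (yon S).map_surjective (sqV.lift _ _ hsec)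
    have hσ₂ : σ.left ≫ v₂.left = O.ι ≫ π.left :=
      congrArg CommaMorphism.left ((yon S).map_injective
        (show (yon S).map (σ ≫ v₂) = (yon S).map (jO ≫ π) by rw [Functor.map_comp, hσ, sqV.lift_snd]))
    let σ' : O.toScheme ⟶ pullback π.left v₂.left := pullback.lift O.ι σ.left hσ₂.symm
    have hσr : σ' ≫ r = O.ι := pullback.lift_fst _ _ _
    have hσO : Set.range σ' ⊆ Set.range (r ⁻¹ᵁ O).ι := by
      rw [Scheme.Opens.range_ι]
      rintro _ ⟨o, rfl⟩
      change r (σ' o) ∈ O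
      rw [← Scheme.Hom.comp_apply, hσr]
      exact o.2
    have hsplit : IsOpenImmersion.lift (r ⁻¹ᵁ O).ι σ' hσO ≫ (r ∣_ O) = 𝟙 _ := by
      rw [← cancel_mono O.ι, Category.assoc, morphismRestrict_ι, IsOpenImmersion.lift_fac_assoc, hσr,
        Category.id_comp]
    have : Mono (r ∣_ O) := by
      have : Mono ((r ⁻¹ᵁ O).ι ≫ r) := mono_comp _ _
      rw [← morphismRestrict_ι] at this
      exact mono_of_mono _ O.ι
    have : IsSplitEpi (r ∣_ O) := ⟨⟨⟨_, hsplit⟩⟩⟩
    exact isIso_of_mono_of_isSplitEpi _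
  choose O hmem hiso using key
  exact (IsZariskiLocalAtTarget.iff_of_iSup_eq_top (P := MorphismProperty.isomorphisms Scheme.{u}) O
    (top_unique fun w _ => TopologicalSpace.Opens.mem_iSup.2 ⟨w, hmem w⟩)).2 hiso

theorem exists_factor_point {X Y : Sp S} (hX : IsAlgSpace X) (f : Y ⟶ X) (p : FieldPt X) [Mono p.toHom]
    (hq : RepWith @QuasiCompact p.toHom) (hY : EtaleLocally (fun U => IsReduced U) Y)
    (hf : ∀ y, Points.map f y = Points.mk p) : ∃ g : Y ⟶ (yon S).obj p.pt, g ≫ p.toHom = f := by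
  obtain ⟨W, c, hc, hc', hW⟩ := hY
  have : IsReduced W.left := hW
  have := isIso_snd_of_reduced hX hq (c ≫ f) fun w => by rw [← Points.map_ofPt]; exact hf _
  have : IsIso ((Over.forget S).map (hq.rep.snd (c ≫ f))) := this
  have : IsIso (hq.rep.snd (c ≫ f)) := isIso_of_reflects_iso _ (Over.forget S)
  have hsq : IsPullback (pullback.fst p.toHom f) (pullback.snd p.toHom f) p.toHom f := IsPullback.of_hasPullback _ _
  have : Mono (pullback.snd p.toHom f) := inferInstance
  have : Epi c := epi_of_etale_surjective hc hc'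
  have : Epi (pullback.snd p.toHom f) := epi_of_epi_fac
    (f := hsq.lift (inv ((yon S).map (hq.rep.snd (c ≫ f))) ≫ hq.rep.fst (c ≫ f)) c (by
      rw [Category.assoc, hq.rep.w, IsIso.inv_hom_id_assoc]))
    (h := c) (hsq.lift_snd _ _ _)
  have := isIso_of_mono_of_epi (pullback.snd p.toHom f)
  exact ⟨inv (pullback.snd p.toHom f) ≫ pullback.fst p.toHom f, by
    rw [Category.assoc, pullback.condition, IsIso.inv_hom_id_assoc]⟩

end Groth.Agent.AlgSpDec
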