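import Groth.Agent.AlgSpDec.DecentMor
import Groth.Agent.AlgSpDec.MonoPoint
import Groth.Agent.AlgSpDec.LqfSplitShrink

/-!
# Elementary etale neighbourhoods in a decent space form a cofiltered category
-/

set_option backward.isDefEq.respectTransparency false
set_option backward.isDefEq.respectTransparency.types false

universe u

open CategoryTheory CategoryTheory.Limits AlgebraicGeometry AlgSp Groth.Agent.AlgSpLib Groth.Agent.AlgSpPts

namespace Groth.Agent.AlgSpDec.ElemNbhd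

variable {S : Scheme.{u}} {X : Sp S}

/-- The residue field point of a scheme over the base. -/
noncomputable abbrev kap {U : Over S} (u : ↥U.left) : Over S := Over.mk (U.left.fromSpecResidueField u ≫ U.hom)

noncomputable abbrev kapι {U : Over S} (u : ↥U.left) : kap u ⟶ U := Over.homMk (U.left.fromSpecResidueField u) rfl

instance {U : Over S} (u : ↥U.left) : Mono (kapι u) :=
  (Over.forget S).mono_of_mono_map (inferInstanceAs (Mono (U.left.fromSpecResidueField u)))

instance {U : Over S} (u : ↥U.left) : Subsingleton ↥(kap u).left :=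
  inferInstanceAs (Subsingleton ↥(Spec (U.left.residueField u)))

instance {U : Over S} (u : ↥U.left) : IsReduced (kap u).left :=
  inferInstanceAs (IsReduced (Spec (U.left.residueField u)))

theorem kapι_apply {U : Over S} (u : ↥U.left) (z : ↥(kap u).left) : (kapι u).left z = u :=
  Scheme.fromSpecResidueField_apply _ _

/-- A morphism from the spectrum of a residue field with image `v` factors through the residue field of `v`. -/
theorem exists_factor_kap {U V : Over S} {u : ↥U.left} {v : ↥V.left} (g : kap u ⟶ V)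
    (hg : ∀ z, g.left z = v) : ∃ h : kap u ⟶ kap v, h ≫ kapι v = g := by
  obtain ⟨⟨w, φ⟩, hφ⟩ := (Scheme.SpecToEquivOfField (U.left.residueField u) V.left).symm.surjective g.left
  have hw : w = v := by
    rw [← hg (IsLocalRing.closedPoint (U.left.residueField u)), ← hφ]
    exact (Scheme.fromSpecResidueField_apply _ _).symm
  subst hw
  have h1 : Spec.map φ ≫ V.left.fromSpecResidueField w = g.left := hφ
  exact ⟨Over.homMk (Spec.map φ) (by
    show Spec.map φ ≫ V.left.fromSpecResidueField w ≫ V.hom = _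
    rw [reassoc_of% h1, Over.w g]), Over.OverMorphism.ext h1⟩

/-- A map from a residue field over a monomorphic point, compared with that point. -/
theorem exists_kap_hom (hA : IsAlgSpace X) (hX : IsDecent X) {U V : Over S} (a : (yon S).obj U ⟶ X)
    (b : (yon S).obj V ⟶ X) {u : ↥U.left} {v : ↥V.left} (hb : Mono (FieldPt.ofPt b v).toHom)
    (h : Points.ofPt a u = Points.ofPt b v) :
    ∃ g : kap u ⟶ kap v, (yon S).map (g ≫ kapι v) ≫ b = (yon S).map (kapι u) ≫ a := by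
  let p := FieldPt.ofPt b v
  have hq : RepWith @QuasiCompact p.toHom := repWith_quasiCompact_toHom hA hX p
  obtain ⟨γ, hγ⟩ := exists_factor_point hA ((yon S).map (kapι u) ≫ a) p hq
    ⟨kap u, 𝟙 _, repWith_id _ _, repWith_id _ _, inferInstance⟩ fun y => by
      obtain ⟨w, rfl⟩ := (Points.schemeHomeo (kap u)).surjective y
      rw [show Points.schemeHomeo (kap u) w = Points.ofScheme (kap u) w from rfl, ← Points.ofPt_eq_map_ofScheme,
        ofPt_comp, kapι_apply, h]
      rfl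
  obtain ⟨g, rfl⟩ := (yon S).map_surjective γ
  exact ⟨g, by rw [← hγ, FieldPt.toHom_ofPt, Functor.map_comp, Category.assoc]⟩

/-- Uniqueness of lifts landing in a monomorphic point. -/
theorem eq_of_mono_point {U : Over S} {V : Over S} (b : (yon S).obj V ⟶ X) {u : ↥U.left} {v : ↥V.left}
    (hb : Mono (FieldPt.ofPt b v).toHom) (g g' : kap u ⟶ V) (hg : ∀ z, g.left z = v) (hg' : ∀ z, g'.left z = v)
    (h : (yon S).map g ≫ b = (yon S).map g' ≫ b) : g = g' := by
  obtain ⟨k, rfl⟩ := exists_factor_kap g hg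
  obtain ⟨k', rfl⟩ := exists_factor_kap g' hg'
  have hm : Mono ((yon S).map (kapι v) ≫ b) := by
    have := hb; rw [FieldPt.toHom_ofPt] at this; exact this
  rw [Functor.map_comp, Functor.map_comp, Category.assoc, Category.assoc] at h
  rw [(yon S).map_injective (hm.right_cancellation _ _ h)]

theorem exists_dominating_aux (hA : IsAlgSpace X) (hX : IsDecent X) {x : Points X} {U₁ U₂ : Over S}
    {a₁ : (yon S).obj U₁ ⟶ X} {a₂ : (yon S).obj U₂ ⟶ X} {u₁ : ↥U₁.left} {u₂ : ↥U₂.left}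
    (h₁ : IsElemEtaleNbhd a₁ u₁ x) (h₂ : IsElemEtaleNbhd a₂ u₂ x)
    {P : Over S} (f₁ : P ⟶ U₁) (f₂ : P ⟶ U₂) (sq : IsPullback ((yon S).map f₁) ((yon S).map f₂) a₁ a₂)
    (hP : RepWith @Etale ((yon S).map f₁ ≫ a₁)) :
    ∃ v : ↥P.left, IsElemEtaleNbhd ((yon S).map f₁ ≫ a₁) v x ∧ f₁.left v = u₁ ∧ f₂.left v = u₂ := by
  obtain ⟨g, hg⟩ := exists_kap_hom hA hX a₁ a₂ h₂.mono (h₁.ofPt_eq.trans h₂.ofPt_eq.symm)
  obtain ⟨l, hl₁, hl₂⟩ := sq.exists_lift ((yon S).map (kapι u₁)) ((yon S).map (g ≫ kapι u₂)) hg.symm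
  obtain ⟨l, rfl⟩ := (yon S).map_surjective l
  rw [← Functor.map_comp] at hl₁ hl₂
  replace hl₁ := (yon S).map_injective hl₁
  replace hl₂ := (yon S).map_injective hl₂
  obtain ⟨z₀⟩ : Nonempty ↥(kap u₁).left :=
    inferInstanceAs (Nonempty ↥(Spec (U₁.left.residueField u₁)))
  obtain ⟨v, hv⟩ : ∃ v : ↥P.left, ∀ z : ↥(kap u₁).left, l.left z = v :=
    ⟨l.left z₀, fun z => by rw [Subsingleton.elim z z₀]⟩
  have hv₁ : f₁.left v = u₁ := by
    rw [← hv z₀, ← Scheme.Hom.comp_apply, ← Over.comp_left, hl₁]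
    exact kapι_apply u₁ z₀
  have hv₂ : f₂.left v = u₂ := by
    rw [← hv z₀, ← Scheme.Hom.comp_apply, ← Over.comp_left, hl₂, Over.comp_left, Scheme.Hom.comp_apply]
    exact kapι_apply u₂ _
  obtain ⟨ε, hε⟩ := exists_factor_kap (v := v) l hv
  obtain ⟨δ, hδ⟩ := exists_factor_kap (v := u₁) (kapι v ≫ f₁) fun z => by
    rw [Over.comp_left, Scheme.Hom.comp_apply, kapι_apply, hv₁]
  have hδl : δ ≫ l = kapι v := by
    refine (yon S).map_injective (sq.hom_ext ?_ ?_)
    · rw [← Functor.map_comp, ← Functor.map_comp, Category.assoc, hl₁, hδ]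
    · rw [← Functor.map_comp, ← Functor.map_comp, Category.assoc, hl₂]
      refine congrArg _ (eq_of_mono_point a₂ h₂.mono _ _ (fun z => ?_) (fun z => ?_) ?_)
      · show (kapι u₂).left ((δ ≫ g).left z) = u₂
        exact kapι_apply _ _
      · show f₂.left ((kapι v).left z) = u₂
        rw [kapι_apply, hv₂]
      · rw [Functor.map_comp _ (kapι v), Category.assoc, ← sq.w, ← Functor.map_comp_assoc, ← hδ,
          Functor.map_comp, Category.assoc, hg, Functor.map_comp, Category.assoc]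
  have hδε : δ ≫ ε = 𝟙 (kap v) := by
    rw [← cancel_mono (kapι v), Category.assoc, hε, hδl, Category.id_comp]
  have hεδ : ε ≫ δ = 𝟙 (kap u₁) := by
    rw [← cancel_mono (kapι u₁), Category.assoc, hδ, reassoc_of% hε, hl₁, Category.id_comp]
  haveI : IsIso δ := ⟨ε, hδε, hεδ⟩
  refine ⟨v, ⟨hP, ?_, ?_⟩, hv₁, hv₂⟩
  · rw [ofPt_comp, hv₁, h₁.ofPt_eq]
  · rw [FieldPt.toHom_ofPt]
    have hm : Mono ((yon S).map (kapι u₁) ≫ a₁) := by
      have := h₁.mono; rw [FieldPt.toHom_ofPt] at this; exact this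
    show Mono ((yon S).map (kapι v) ≫ (yon S).map f₁ ≫ a₁)
    rw [← Functor.map_comp_assoc, ← hδ, Functor.map_comp, Category.assoc]
    exact mono_comp _ _

theorem exists_dominating (hA : IsAlgSpace X) (hX : IsDecent X) {x : Points X} {U₁ U₂ : Over S}
    {a₁ : (yon S).obj U₁ ⟶ X} {a₂ : (yon S).obj U₂ ⟶ X} {u₁ : ↥U₁.left} {u₂ : ↥U₂.left}
    (h₁ : IsElemEtaleNbhd a₁ u₁ x) (h₂ : IsElemEtaleNbhd a₂ u₂ x) :
    ∃ (U : Over S) (a : (yon S).obj U ⟶ X) (v : ↥U.left) (k₁ : U ⟶ U₁) (k₂ : U ⟶ U₂),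
      IsElemEtaleNbhd a v x ∧ (yon S).map k₁ ≫ a₁ = a ∧ (yon S).map k₂ ≫ a₂ = a ∧
        k₁.left v = u₁ ∧ k₂.left v = u₂ := by
  have sq := h₁.etale.rep.isPullback' a₂
  have hP : RepWith @Etale ((yon S).map (h₁.etale.rep.fst' a₂) ≫ a₁) :=
    repWith_comp ((repWith_yon_map_iff _ _).2 (h₂.etale.property _ _ _ sq.flip)) h₁.etale
  obtain ⟨v, hv, hv₁, hv₂⟩ := exists_dominating_aux hA hX h₁ h₂ _ _ sq hP
  exact ⟨_, _, v, _, _, hv, rfl, sq.w.symm, hv₁, hv₂⟩

theorem exists_equalizing {x : Points X} {U₁ U₂ : Over S}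
    {a₁ : (yon S).obj U₁ ⟶ X} {a₂ : (yon S).obj U₂ ⟶ X} {u₁ : ↥U₁.left} {u₂ : ↥U₂.left} {b c : U₁ ⟶ U₂}
    (h₁ : IsElemEtaleNbhd a₁ u₁ x) (h₂ : IsElemEtaleNbhd a₂ u₂ x)
    (hb : (yon S).map b ≫ a₂ = a₁) (hc : (yon S).map c ≫ a₂ = a₁) (hbu : b.left u₁ = u₂) (hcu : c.left u₁ = u₂) :
    ∃ (U : Over S) (a : (yon S).obj U ⟶ X) (v : ↥U.left) (h : U ⟶ U₁),
      IsElemEtaleNbhd a v x ∧ (yon S).map h ≫ a₁ = a ∧ h.left v = u₁ ∧ h ≫ b = h ≫ c := by
  have ha₂ := h₂.etale
  obtain ⟨R, r₁, r₂, sq, hr₂⟩ : ∃ (R : Over S) (r₁ r₂ : R ⟶ U₂),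
      IsPullback ((yon S).map r₁) ((yon S).map r₂) a₂ a₂ ∧ Etale r₂.left :=
    ⟨_, _, _, ha₂.rep.isPullback' a₂, ha₂.property_snd a₂⟩
  obtain ⟨e, he₁, he₂⟩ := sq.exists_lift ((yon S).map b) ((yon S).map c) (hb.trans hc.symm)
  obtain ⟨e, rfl⟩ := (yon S).map_surjective e
  obtain ⟨d, hd₁, hd₂⟩ := sq.exists_lift (𝟙 ((yon S).obj U₂)) (𝟙 _) rfl
  obtain ⟨d, rfl⟩ := (yon S).map_surjective d
  rw [← Functor.map_comp] at he₁ he₂
  rw [← Functor.map_comp, ← (yon S).map_id] at hd₁ hd₂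
  replace he₁ := (yon S).map_injective he₁
  replace he₂ := (yon S).map_injective he₂
  replace hd₁ := (yon S).map_injective hd₁
  replace hd₂ := (yon S).map_injective hd₂
  haveI : IsOpenImmersion d.left := by
    have he : Etale d.left := by
      have : Etale (d.left ≫ r₂.left) := by
        rw [← Over.comp_left, hd₂]; exact inferInstanceAs (Etale (𝟙 U₂.left))
      exact Etale.of_comp d.left r₂.left
    haveI : IsSplitMono d.left := ⟨⟨r₂.left, by rw [← Over.comp_left, hd₂]; rfl⟩⟩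
    exact IsOpenImmersion.of_flat_of_mono d.left
  let W : U₁.left.Opens := e.left ⁻¹ᵁ d.left.opensRange
  let U : Over S := Over.mk (W.ι ≫ U₁.hom)
  let h : U ⟶ U₁ := Over.homMk W.ι rfl
  have hbc : kapι u₁ ≫ b = kapι u₁ ≫ c := by
    refine eq_of_mono_point a₂ h₂.mono _ _ (fun z => ?_) (fun z => ?_) ?_
    · show b.left ((kapι u₁).left z) = u₂
      rw [kapι_apply, hbu]
    · show c.left ((kapι u₁).left z) = u₂
      rw [kapι_apply, hcu]
    · rw [Functor.map_comp, Functor.map_comp, Category.assoc, Category.assoc, hb, hc]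
  have hu : u₁ ∈ W := by
    refine ⟨u₂, ?_⟩
    have : kapι u₁ ≫ b ≫ d = kapι u₁ ≫ e := (yon S).map_injective (sq.hom_ext
      (by rw [← Functor.map_comp, ← Functor.map_comp]; simp only [Category.assoc, hd₁, he₁, Category.comp_id])
      (by rw [← Functor.map_comp, ← Functor.map_comp]; simp only [Category.assoc, hd₂, he₂, Category.comp_id, hbc]))
    have := congrArg (fun m : kap u₁ ⟶ R => m.left (IsLocalRing.closedPoint (U₁.left.residueField u₁))) this
    simp only [Over.comp_left, Scheme.Hom.comp_apply] at this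
    rwa [kapι_apply, hbu] at this
  obtain ⟨k, hk⟩ := exists_factor_openImm d (h ≫ e) fun w => by
    rw [Over.comp_left, Scheme.Hom.comp_apply]
    exact w.2
  have hcomm : h ≫ b = h ≫ c := by
    rw [← he₁, ← he₂, ← reassoc_of% hk, ← reassoc_of% hk, hd₁, hd₂]
  refine ⟨U, (yon S).map h ≫ a₁, ⟨u₁, hu⟩, h, ⟨repWith_comp ((repWith_yon_map_iff _ _).2 ?_) h₁.etale, ?_, ?_⟩,
    rfl, rfl, hcomm⟩
  · exact inferInstanceAs (Etale W.ι)
  · rw [ofPt_comp]; exact h₁.ofPt_eq
  · obtain ⟨u', hu'⟩ : ∃ u' : ↥U.left, u' = (⟨u₁, hu⟩ : ↥U.left) := ⟨_, rfl⟩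
    have hh : h.left u' = u₁ := by subst hu'; rfl
    rw [← hu']
    obtain ⟨γ, hγ⟩ := exists_factor_kap (v := u₁) (kapι u' ≫ h) fun z => by
      rw [Over.comp_left, Scheme.Hom.comp_apply, kapι_apply, hh]
    have : Mono h := (Over.forget S).mono_of_mono_map (inferInstanceAs (Mono W.ι))
    have : Mono γ := mono_of_mono_fac hγ
    have hm : Mono ((yon S).map (kapι u₁) ≫ a₁) := by
      have := h₁.mono; rw [FieldPt.toHom_ofPt] at this; exact this
    rw [FieldPt.toHom_ofPt]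
    show Mono ((yon S).map (kapι u') ≫ (yon S).map h ≫ a₁)
    rw [← Functor.map_comp_assoc, ← hγ, Functor.map_comp, Category.assoc]
    exact mono_comp _ _

end Groth.Agent.AlgSpDec.ElemNbhd
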