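import Groth.Agent.AlgSpDec.DecentGeneric
import Groth.Agent.AlgSpDec.ElemCofiltered
import Groth.Agent.AlgSpDec.OneFlat
import Groth.Agent.AlgSpDec.Fibres
import Groth.Agent.MorLib.Birat
import Groth.Prelude.Def_W4stk3decentspacesp2Birat

/-!
# Birational morphisms of decent spaces
-/

set_option backward.isDefEq.respectTransparency false
set_option backward.isDefEq.respectTransparency.types false

universe u

open CategoryTheory CategoryTheory.Limits AlgebraicGeometry AlgSp Groth.Agent.AlgSpLib Groth.Agent.AlgSpPts TopologicalSpace Topology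
open Groth.Agent.MorLib.Birat (exists_generic eq_of_specializes_generic fibre_generic exists_dense_iso exists_separating)

namespace Groth.Agent.AlgSpDec.Birational

section Topology

variable {α β : Type*} [TopologicalSpace α] [TopologicalSpace β]

theorem mem_genericPoints_iff {f : α → β} (hf : IsOpenEmbedding f) (x : α) :
    f x ∈ genericPoints β ↔ x ∈ genericPoints α := by
  constructor
  · intro h
    refine ⟨isIrreducible_singleton.closure, fun W hW hle => ?_⟩
    have h1 : closure {f x} ⊆ closure (f '' W) :=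
      closure_mono (Set.singleton_subset_iff.2 ⟨x, hle (subset_closure rfl), rfl⟩)
    have h2 : closure (f '' W) ⊆ closure {f x} :=
      h.2 (hW.image f hf.continuous.continuousOn).closure h1
    intro w hw
    rw [hf.isEmbedding.closure_eq_preimage_closure_image, Set.image_singleton]
    exact h2 (subset_closure ⟨w, hw, rfl⟩)
  · intro h
    refine ⟨isIrreducible_singleton.closure, fun Z hZ hle => ?_⟩
    have hx : x ∈ f ⁻¹' Z := hle (subset_closure rfl)
    have hcl : closure {x} ⊆ f ⁻¹' Z := fun w hw =>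
      hle (image_closure_subset_closure_image hf.continuous ⟨w, hw, rfl⟩ |>
        fun h' => by rwa [Set.image_singleton] at h')
    have h3 : f ⁻¹' Z ⊆ closure {x} := h.2 ⟨⟨x, hx⟩, hZ.isPreirreducible.preimage hf⟩ hcl
    intro z hz
    have h4 : z ∈ closure (Z ∩ Set.range f) :=
      subset_closure_inter_of_isPreirreducible_of_isOpen hZ.isPreirreducible hf.isOpen_range
        ⟨f x, hx, x, rfl⟩ hz
    refine closure_minimal ?_ isClosed_closure h4
    rintro _ ⟨hw, w, rfl⟩
    have := image_closure_subset_closure_image hf.continuous ⟨w, h3 hw, rfl⟩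
    rwa [Set.image_singleton] at this

theorem genericPoints_subset_of_dense (hfin : (irreducibleComponents β).Finite) {O : Set β} (hO : IsOpen O)
    (hd : Dense O) : genericPoints β ⊆ O := by
  intro y hy
  let C : Set β := ⋃₀ (irreducibleComponents β \ {closure {y}})
  have hCc : IsClosed C := by
    rw [show C = ⋃ Z ∈ irreducibleComponents β \ {closure {y}}, Z from Set.sUnion_eq_biUnion]
    exact (hfin.subset Set.sdiff_subset).isClosed_biUnion fun Z hZ => isClosed_of_mem_irreducibleComponents Z hZ.1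
  have hyC : y ∉ C := by
    rintro ⟨Z, ⟨hZ, hne⟩, hyZ⟩
    have h1 : closure {y} ⊆ Z := closure_minimal (Set.singleton_subset_iff.2 hyZ)
      (isClosed_of_mem_irreducibleComponents Z hZ)
    exact hne (Set.mem_singleton_iff.2 (Set.Subset.antisymm (hy.2 hZ.1 h1) h1))
  obtain ⟨z, hzC, hzO⟩ := hd.inter_open_nonempty Cᶜ hCc.isOpen_compl ⟨y, hyC⟩
  have hz : z ∈ closure {y} := by
    by_contra hn
    obtain ⟨Z, hZ, hzZ⟩ := exists_mem_irreducibleComponents_subset_of_isIrreducible {z} isIrreducible_singleton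
    refine hzC ⟨Z, ⟨hZ, fun h => hn ?_⟩, hzZ rfl⟩
    rw [← Set.mem_singleton_iff.1 h]; exact hzZ rfl
  exact (specializes_iff_mem_closure.2 hz).mem_open hO hzO

theorem dense_of_genericPoints_subset {O : Set β} [QuasiSober β] (h : genericPoints β ⊆ O) : Dense O :=
  Dense.mono h (dense_iff_closure_eq.mpr genericPoints.closure)

end Topology

section Scheme

theorem isIso_stalkMap_congr {X Y : Scheme.{u}} {f g : X ⟶ Y} (e : f = g) (x : X) [h : IsIso (f.stalkMap x)] :
    IsIso (g.stalkMap x) := by subst e; exact h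

theorem isIso_stalkMap_comp_iff {X Y Z : Scheme.{u}} (f : X ⟶ Y) (g : Y ⟶ Z) (x : X) [IsIso (f.stalkMap x)] :
    IsIso ((f ≫ g).stalkMap x) ↔ IsIso (g.stalkMap (f x)) := by
  rw [Scheme.Hom.stalkMap_comp]
  exact ⟨fun _ => IsIso.of_isIso_comp_right (g.stalkMap (f x)) (f.stalkMap x), fun _ => inferInstance⟩

theorem isIso_stalkMap_of_comp {X Y Z : Scheme.{u}} (f : X ⟶ Y) (g : Y ⟶ Z) (x : X) [IsIso (g.stalkMap (f x))]
    (h : IsIso ((f ≫ g).stalkMap x)) : IsIso (f.stalkMap x) := by
  rw [Scheme.Hom.stalkMap_comp] at h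
  exact IsIso.of_isIso_comp_left (g.stalkMap (f x)) (f.stalkMap x)

end Scheme

variable {S : Scheme.{u}} {X Y : Sp S}

theorem etale_of_openImm {F G : Sp S} {j : F ⟶ G} (hj : RepWith @IsOpenImmersion j) : RepWith @Etale j :=
  repWith_mono (fun A B g (_ : IsOpenImmersion g) => inferInstanceAs (Etale g)) _ hj

theorem exists_factor (hX : IsAlgSpace X) {T Z : Over S} {j : (yon S).obj T ⟶ X} (hj : RepWith @IsOpenImmersion j)
    (z : (yon S).obj Z ⟶ X) (h : ∀ p, Points.ofPt z p ∈ Set.range (Points.ofPt j)) :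
    ∃ z' : Z ⟶ T, (yon S).map z' ≫ j = z := by
  have sq := hj.rep.isPullback' z
  haveI : IsOpenImmersion (hj.rep.snd z).left := hj.property_snd z
  obtain ⟨l, hl⟩ := exists_factor_openImm (hj.rep.snd z) (𝟙 Z) fun p => by
    obtain ⟨t, ht⟩ := h p
    obtain ⟨w, -, hw⟩ := exists_ofPt_of_eq sq ht
    exact ⟨w, hw⟩
  refine ⟨l ≫ hj.rep.fst' z, ?_⟩
  rw [Functor.map_comp, Category.assoc, sq.w, ← Functor.map_comp_assoc, hl, CategoryTheory.Functor.map_id,
    Category.id_comp]

theorem mono_openImm {T : Over S} {j : (yon S).obj T ⟶ X} (hj : RepWith @IsOpenImmersion j) : Mono j :=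
  mono_of_openImmersion hj

theorem exists_dense_chart (X : Space S) (hX : IsDecent X.obj)
    (hfin : (irreducibleComponents (Points X.obj)).Finite) :
    ∃ (T : Over S) (a : (yon S).obj T ⟶ X.obj), RepWith @IsOpenImmersion a ∧
      genericPoints (Points X.obj) ⊆ Set.range (Points.ofPt a) := by
  obtain ⟨T, a, ha, hd, -⟩ := (isDecent_finite_components_iff X).1 ⟨hX, hfin⟩
  exact ⟨T, a, ha, genericPoints_subset_of_dense hfin (isOpenEmbedding_ofPt X.property ha).isOpen_range hd⟩

/-- Setting: a birational morphism read on open subschemes. -/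
structure Model (f : X ⟶ Y) {V : Over S} (b : (yon S).obj V ⟶ Y) where
  T : Over S
  a : (yon S).obj T ⟶ X
  g : T ⟶ V
  openImm : RepWith @IsOpenImmersion a
  w : a ≫ f = (yon S).map g ≫ b
  generic : ∀ x ∈ genericPoints (Points X), Points.map f x ∈ Set.range (Points.ofPt b) → x ∈ Set.range (Points.ofPt a)
  stalkIso : ∀ t ∈ genericPoints ↥T.left, IsIso (g.left.stalkMap t)
  bijOn : Set.BijOn g.left (genericPoints ↥T.left) (genericPoints ↥V.left)
  finT : (irreducibleComponents ↥T.left).Finite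
  finV : (irreducibleComponents ↥V.left).Finite

theorem isIso_stalkMap_of_charts {U V T W : Over S} {a : (yon S).obj U ⟶ X} {a' : (yon S).obj T ⟶ X}
    {b : (yon S).obj V ⟶ Y} {b' : (yon S).obj W ⟶ Y} {f : X ⟶ Y} (ha : RepWith @IsOpenImmersion a)
    (ha' : RepWith @IsOpenImmersion a') (hb : RepWith @IsOpenImmersion b) (hb' : RepWith @IsOpenImmersion b')
    (g : U ⟶ V) (g' : T ⟶ W) (hg : a ≫ f = (yon S).map g ≫ b) (hg' : a' ≫ f = (yon S).map g' ≫ b')
    (u : ↥U.left) (t : ↥T.left) (h : Points.ofPt a u = Points.ofPt a' t) (hiso : IsIso (g.left.stalkMap u)) :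
    IsIso (g'.left.stalkMap t) := by
  obtain ⟨P, p, p', sq, hp, hp'⟩ : ∃ (P : Over S) (p : P ⟶ U) (p' : P ⟶ T),
      IsPullback ((yon S).map p) ((yon S).map p') a a' ∧ IsOpenImmersion p.left ∧ IsOpenImmersion p'.left :=
    ⟨_, _, _, ha.rep.isPullback' a', ha'.property _ _ _ (ha.rep.isPullback' a').flip, ha.property_snd a'⟩
  obtain ⟨Q, q, q', sqQ, hq, hq'⟩ : ∃ (Q : Over S) (q : Q ⟶ V) (q' : Q ⟶ W),
      IsPullback ((yon S).map q) ((yon S).map q') b b' ∧ IsOpenImmersion q.left ∧ IsOpenImmersion q'.left :=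
    ⟨_, _, _, hb.rep.isPullback' b', hb'.property _ _ _ (hb.rep.isPullback' b').flip, hb.property_snd b'⟩
  obtain ⟨z, hz₁, hz₂⟩ := exists_ofPt_of_eq sq h
  obtain ⟨l, hl₁, hl₂⟩ := sqQ.exists_lift ((yon S).map (p ≫ g)) ((yon S).map (p' ≫ g')) (by
    rw [Functor.map_comp, Functor.map_comp, Category.assoc, Category.assoc, ← hg, ← hg', ← Category.assoc,
      ← Category.assoc, sq.w])
  obtain ⟨l, rfl⟩ := (yon S).map_surjective l
  rw [← Functor.map_comp] at hl₁ hl₂
  have e₁ : l.left ≫ q.left = p.left ≫ g.left := by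
    rw [← Over.comp_left, ← Over.comp_left, (yon S).map_injective hl₁]
  have e₂ : l.left ≫ q'.left = p'.left ≫ g'.left := by
    rw [← Over.comp_left, ← Over.comp_left, (yon S).map_injective hl₂]
  have h1 : IsIso ((p.left ≫ g.left).stalkMap z) := by
    rw [isIso_stalkMap_comp_iff]; subst hz₁; exact hiso
  have h2 : IsIso (l.left.stalkMap z) := isIso_stalkMap_of_comp l.left q.left z (@isIso_stalkMap_congr _ _ _ _ e₁.symm z h1)
  have h3 : IsIso ((l.left ≫ q'.left).stalkMap z) := by rw [isIso_stalkMap_comp_iff]; infer_instance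
  have h4 := @isIso_stalkMap_congr _ _ _ _ e₂ z h3
  rw [isIso_stalkMap_comp_iff] at h4
  subst hz₂; exact h4

theorem exists_model (X Y : Space S) (f : X.obj ⟶ Y.obj) (hX : IsDecent X.obj)
    (hXf : (irreducibleComponents (Points X.obj)).Finite) (hYf : (irreducibleComponents (Points Y.obj)).Finite)
    (hf : W4stk3decentspacesp2.IsBirational f) {V : Over S} (b : (yon S).obj V ⟶ Y.obj)
    (hb : RepWith @IsOpenImmersion b) : Nonempty (Model f b) := by
  obtain ⟨T₀, a₀, ha₀, hgen⟩ := exists_dense_chart X hX hXf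
  obtain ⟨T, k, g, sq, hk⟩ : ∃ (T : Over S) (k : T ⟶ T₀) (g : T ⟶ V),
      IsPullback ((yon S).map g) ((yon S).map k) b (a₀ ≫ f) ∧ IsOpenImmersion k.left :=
    ⟨_, _, _, hb.rep.isPullback' (a₀ ≫ f), hb.property_snd _⟩
  let a := (yon S).map k ≫ a₀
  have ha : RepWith @IsOpenImmersion a := repWith_comp ((repWith_yon_map_iff _ _).2 hk) ha₀
  have hw : a ≫ f = (yon S).map g ≫ b := (Category.assoc _ _ _).trans sq.w.symm
  have hgen' : ∀ x ∈ genericPoints (Points X.obj), Points.map f x ∈ Set.range (Points.ofPt b) →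
      x ∈ Set.range (Points.ofPt a) := by
    rintro x hx ⟨v, hv⟩
    obtain ⟨t₀, rfl⟩ := hgen hx
    rw [Points.map_ofPt] at hv
    obtain ⟨t, -, ht⟩ := exists_ofPt_of_eq sq hv
    exact ⟨t, by rw [ofPt_comp, ht]⟩
  have hea := isOpenEmbedding_ofPt X.property ha
  have heb := isOpenEmbedding_ofPt Y.property hb
  have hcomp : ∀ t, Points.map f (Points.ofPt a t) = Points.ofPt b (g.left t) := fun t => by
    rw [Points.map_ofPt, hw, ofPt_comp]
  refine ⟨⟨T, a, g, ha, hw, hgen', fun t ht => ?_, ⟨fun t ht => ?_, fun t ht t' ht' he => ?_, fun v hv => ?_⟩,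
    finite_components_of_isOpenEmbedding hea hXf, finite_components_of_isOpenEmbedding heb hYf⟩⟩
  · obtain ⟨U, W, a', b', g', u, ha', hb', hw', hu, hi⟩ := hf.stalkIso _ ((mem_genericPoints_iff hea t).2 ht)
    exact isIso_stalkMap_of_charts ha' ha hb' hb g' g hw' hw u t hu hi
  · rw [← mem_genericPoints_iff heb, ← hcomp]
    exact hf.bijOn.mapsTo ((mem_genericPoints_iff hea t).2 ht)
  · refine hea.injective (hf.bijOn.injOn ((mem_genericPoints_iff hea t).2 ht) ((mem_genericPoints_iff hea t').2 ht') ?_)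
    rw [hcomp, hcomp, he]
  · obtain ⟨x, hx, hxv⟩ := hf.bijOn.surjOn ((mem_genericPoints_iff heb v).2 hv)
    obtain ⟨t, rfl⟩ := hgen' x hx ⟨v, hxv.symm⟩
    exact ⟨t, (mem_genericPoints_iff hea t).1 hx, heb.injective ((hcomp t).symm.trans hxv)⟩

/-- Dense open subschemes identified by a birational morphism. -/
theorem exists_iso_opens (X Y : Space S) (f : X.obj ⟶ Y.obj) (hX : IsDecent X.obj) (hY : IsDecent Y.obj)
    (hXf : (irreducibleComponents (Points X.obj)).Finite) (hYf : (irreducibleComponents (Points Y.obj)).Finite)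
    (hf : W4stk3decentspacesp2.IsBirational f)
    (h : (LocP @LocallyOfFiniteType f ∧ EtaleLocally (fun T => IsReduced T) Y.obj) ∨
      LocP @LocallyOfFinitePresentation f) :
    ∃ (U V : Over S) (a : (yon S).obj U ⟶ X.obj) (b : (yon S).obj V ⟶ Y.obj) (g : U ⟶ V),
      RepWith @IsOpenImmersion a ∧ RepWith @IsOpenImmersion b ∧
        genericPoints (Points X.obj) ⊆ Set.range (Points.ofPt a) ∧
        genericPoints (Points Y.obj) ⊆ Set.range (Points.ofPt b) ∧
          a ≫ f = (yon S).map g ≫ b ∧ IsIso g.left := by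
  obtain ⟨V₀, b₀, hb₀, hgenY⟩ := exists_dense_chart Y hY hYf
  obtain ⟨M⟩ := exists_model X Y f hX hXf hYf hf b₀ hb₀
  have he := etale_of_openImm M.openImm
  have heb := etale_of_openImm hb₀
  haveI : LocallyOfFiniteType M.g.left := h.elim (fun h => h.1 M.a b₀ M.g he heb M.w) fun h =>
    haveI : LocallyOfFinitePresentation M.g.left := h M.a b₀ M.g he heb M.w
    inferInstance
  have hcase : IsReduced V₀.left ∨ LocallyOfFinitePresentation M.g.left :=
    h.imp (fun h => isReduced_chart h.2 heb) fun h => h M.a b₀ M.g he heb M.w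
  obtain ⟨U, V, hUV, hU, hV, hI⟩ := exists_dense_iso M.g.left M.finV M.bijOn M.stalkIso hcase
  let U' : Over S := Over.mk (U.ι ≫ M.T.hom)
  let V' : Over S := Over.mk (V.ι ≫ V₀.hom)
  let ι : U' ⟶ M.T := Over.homMk U.ι rfl
  let κ : V' ⟶ V₀ := Over.homMk V.ι rfl
  let g : U' ⟶ V' := Over.homMk (M.g.left.resLE V U hUV) (by
    show M.g.left.resLE V U hUV ≫ V.ι ≫ V₀.hom = U.ι ≫ M.T.hom
    rw [Scheme.Hom.resLE_comp_ι_assoc, Over.w M.g])
  have hg : g ≫ κ = ι ≫ M.g := Over.OverMorphism.ext (Scheme.Hom.resLE_comp_ι _ hUV)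
  refine ⟨U', V', (yon S).map ι ≫ M.a, (yon S).map κ ≫ b₀, g,
    repWith_comp ((repWith_yon_map_iff _ ι).2 (inferInstanceAs (IsOpenImmersion U.ι))) M.openImm,
    repWith_comp ((repWith_yon_map_iff _ κ).2 (inferInstanceAs (IsOpenImmersion V.ι))) hb₀, fun x hx => ?_,
    fun y hy => ?_, ?_, hI⟩
  · obtain ⟨t, rfl⟩ := M.generic x hx (hgenY (hf.bijOn.mapsTo hx))
    exact ⟨⟨t, hU ((mem_genericPoints_iff (isOpenEmbedding_ofPt X.property M.openImm) t).1 hx)⟩, ofPt_comp ι M.a _⟩
  · obtain ⟨v, rfl⟩ := hgenY hy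
    exact ⟨⟨v, hV ((mem_genericPoints_iff (isOpenEmbedding_ofPt Y.property hb₀) v).1 hy)⟩, ofPt_comp κ b₀ _⟩
  · rw [Category.assoc, M.w, ← Functor.map_comp_assoc, ← hg, Functor.map_comp, Category.assoc]

theorem exists_dense_iso_opens (X Y : Space S) (f : X.obj ⟶ Y.obj) (hX : IsDecent X.obj) (hY : IsDecent Y.obj)
    (hXf : (irreducibleComponents (Points X.obj)).Finite) (hYf : (irreducibleComponents (Points Y.obj)).Finite)
    (hf : W4stk3decentspacesp2.IsBirational f)
    (h : (LocP @LocallyOfFiniteType f ∧ EtaleLocally (fun T => IsReduced T) Y.obj) ∨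
      LocP @LocallyOfFinitePresentation f) :
    ∃ (U V : Over S) (a : (yon S).obj U ⟶ X.obj) (b : (yon S).obj V ⟶ Y.obj) (g : U ⟶ V),
      RepWith @IsOpenImmersion a ∧ RepWith @IsOpenImmersion b ∧
        Dense (Set.range (Points.ofPt a)) ∧ Dense (Set.range (Points.ofPt b)) ∧
          a ≫ f = (yon S).map g ≫ b ∧ IsIso g.left := by
  haveI := quasiSober_points X.property hX
  haveI := quasiSober_points Y.property hY
  obtain ⟨U, V, a, b, g, ha, hb, hU, hV, hw, hg⟩ := exists_iso_opens X Y f hX hY hXf hYf hf h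
  exact ⟨U, V, a, b, g, ha, hb, dense_of_genericPoints_subset hU, dense_of_genericPoints_subset hV, hw, hg⟩

/-! ### Fibres over generic points -/

theorem isLocalHom_of_algebraic {A B L : Type u} [CommRing A] [IsLocalRing A] [CommRing B] [IsLocalRing B]
    [CommRing L] [IsLocalRing L] (φ : A →+* B) (s : B →+* L) [IsLocalHom φ] [IsLocalHom (s.comp φ)]
    (h : (IsLocalRing.ResidueField.map (s.comp φ)).IsIntegral) : IsLocalHom s := by
  letI : Algebra (IsLocalRing.ResidueField A) (IsLocalRing.ResidueField L) :=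
    (IsLocalRing.ResidueField.map (s.comp φ)).toAlgebra
  refine ⟨fun b hb => ?_⟩
  by_contra hnu
  have hint : IsIntegral (IsLocalRing.ResidueField A) (IsLocalRing.residue L (s b)) := h _
  have hne : IsLocalRing.residue L (s b) ≠ 0 := (IsLocalRing.residue_ne_zero_iff_isUnit _).2 hb
  obtain ⟨P, hP⟩ := Polynomial.map_surjective (IsLocalRing.residue A) IsLocalRing.residue_surjective
    (minpoly (IsLocalRing.ResidueField A) (IsLocalRing.residue L (s b)))
  have h0 : IsUnit (P.coeff 0) := (IsLocalRing.residue_ne_zero_iff_isUnit _).1 (by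
    rw [← Polynomial.coeff_map, hP]
    exact minpoly.coeff_zero_ne_zero hint hne)
  let z := P.eval₂ φ b
  have hz : IsUnit z := by
    refine (IsLocalRing.residue_ne_zero_iff_isUnit _).1 ?_
    show IsLocalRing.residue B (P.eval₂ φ b) ≠ 0
    rw [Polynomial.hom_eval₂, (IsLocalRing.residue_eq_zero_iff b).2 hnu, Polynomial.eval₂_at_zero]
    exact (IsLocalRing.residue_ne_zero_iff_isUnit _).2 (h0.map φ)
  have h1 : IsLocalRing.residue L (s z) = 0 := by
    show IsLocalRing.residue L (s (P.eval₂ φ b)) = 0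
    rw [Polynomial.hom_eval₂, Polynomial.hom_eval₂,
      show (IsLocalRing.residue L).comp (s.comp φ) =
        (IsLocalRing.ResidueField.map (s.comp φ)).comp (IsLocalRing.residue A) from rfl,
      ← Polynomial.eval₂_map, hP]
    exact minpoly.aeval (IsLocalRing.ResidueField A) (IsLocalRing.residue L (s b))
  exact (IsLocalRing.residue_ne_zero_iff_isUnit _).2 (hz.map s) h1

theorem residueFieldMap_congr_isIntegral {X Y : Scheme.{u}} {f g : X ⟶ Y} (e : f = g) {x : X}
    (h : (f.residueFieldMap x).hom.IsIntegral) : (g.residueFieldMap x).hom.IsIntegral := by subst e; exact h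

theorem eq_of_specializes_isIntegral {U V : Scheme.{u}} (h : U ⟶ V) {u u' : U} (hs : u ⤳ u') (he : h u = h u')
    (hint : (h.residueFieldMap u).hom.IsIntegral) : u = u' := by
  obtain ⟨φ, hφ⟩ : ∃ φ : V.presheaf.stalk (h u) ⟶ U.presheaf.stalk u',
      φ = V.presheaf.stalkSpecializes (specializes_of_eq he.symm) ≫ h.stalkMap u' := ⟨_, rfl⟩
  let s := U.presheaf.stalkSpecializes hs
  have hφl : IsLocalHom φ.hom := by
    rw [hφ]
    haveI : IsIso (V.presheaf.stalkSpecializes (specializes_of_eq he.symm)) :=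
      ⟨V.presheaf.stalkSpecializes (specializes_of_eq he), by simp, by simp⟩
    infer_instance
  have hcomp : φ ≫ s = h.stalkMap u := by
    rw [hφ, Category.assoc, ← Scheme.Hom.stalkSpecializes_stalkMap, ← Category.assoc,
      TopCat.Presheaf.stalkSpecializes_comp]
    simp
  have hc : s.hom.comp φ.hom = (h.stalkMap u).hom := congrArg CommRingCat.Hom.hom hcomp
  haveI := hφl
  haveI : IsLocalHom (s.hom.comp φ.hom) := by rw [hc]; infer_instance
  have hs' : IsLocalHom s.hom := isLocalHom_of_algebraic φ.hom s.hom (by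
    rw [show IsLocalRing.ResidueField.map (s.hom.comp φ.hom) = (h.residueFieldMap u).hom by
      simp only [hc]; rfl]
    exact hint)
  haveI := hs'
  have h2 := congrArg (fun m : Spec (U.presheaf.stalk u) ⟶ U => m (IsLocalRing.closedPoint (U.presheaf.stalk u)))
    (Scheme.SpecMap_stalkSpecializes_fromSpecStalk hs)
  simp only [Scheme.Hom.comp_apply, Scheme.fromSpecStalk_closedPoint] at h2
  rw [show (Spec.map (U.presheaf.stalkSpecializes hs)) (IsLocalRing.closedPoint (U.presheaf.stalk u)) =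
    IsLocalRing.closedPoint (U.presheaf.stalk u') from IsLocalRing.comap_closedPoint s.hom,
    Scheme.fromSpecStalk_closedPoint] at h2
  exact h2.symm

theorem isIntegral_residueFieldMap_etale {X Y : Scheme.{u}} (f : X ⟶ Y) [Etale f] (x : X) :
    (f.residueFieldMap x).hom.IsIntegral := by
  algebraize [(f.residueFieldMap x).hom]
  haveI : Algebra.IsSeparable (Y.residueField (f x)) (X.residueField x) := inferInstance
  exact Algebra.IsIntegral.isIntegral

theorem isIntegral_residueFieldMap_comp {X Y Z : Scheme.{u}} (f : X ⟶ Y) (g : Y ⟶ Z) (x : X)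
    (hf : (f.residueFieldMap x).hom.IsIntegral) (hg : (g.residueFieldMap (f x)).hom.IsIntegral) :
    ((f ≫ g).residueFieldMap x).hom.IsIntegral := by
  rw [Scheme.residueFieldMap_comp]
  exact RingHom.IsIntegral.trans _ _ hg hf

theorem isIntegral_of_bijective_residueFieldMap {X Y : Scheme.{u}} (f : X ⟶ Y) (x : X) [IsIso (f.stalkMap x)] :
    (f.residueFieldMap x).hom.IsIntegral := by
  refine RingHom.isIntegral_of_surjective _ fun y => ?_
  obtain ⟨a, rfl⟩ := IsLocalRing.residue_surjective y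
  obtain ⟨c, rfl⟩ := (ConcreteCategory.isIso_iff_bijective (f.stalkMap x)).1 ‹_› |>.2 a
  exact ⟨IsLocalRing.residue _ c, rfl⟩

/-- Over a generic point of the target lies one point only. -/
theorem fibre_eq (X Y : Space S) (f : X.obj ⟶ Y.obj) (hX : IsDecent X.obj) (hY : IsDecent Y.obj)
    (hXf : (irreducibleComponents (Points X.obj)).Finite) (hYf : (irreducibleComponents (Points Y.obj)).Finite)
    (hf : W4stk3decentspacesp2.IsBirational f) {x x' : Points X.obj} (hx : x ∈ genericPoints (Points X.obj))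
    (he : Points.map f x' = Points.map f x) : x' = x := by
  haveI := quasiSober_points X.property hX
  haveI := t0Space_points Y.property hY
  obtain ⟨C, hC, hxC⟩ := exists_mem_irreducibleComponents_subset_of_isIrreducible {x'} isIrreducible_singleton
  obtain ⟨x₁, hx₁⟩ := QuasiSober.sober hC.1 (isClosed_of_mem_irreducibleComponents C hC)
  have hx₁g : x₁ ∈ genericPoints (Points X.obj) := show closure {x₁} ∈ _ from hx₁.def.symm ▸ hC
  have hsp : x₁ ⤳ x' := hx₁.specializes (hxC rfl)
  have hfx : Points.map f x₁ = Points.map f x := by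
    have h1 : Points.map f x₁ ⤳ Points.map f x := he ▸ hsp.map (Points.continuous_map f)
    have h2 := (hf.bijOn.mapsTo hx).2 isIrreducible_singleton.closure
      (specializes_iff_closure_subset.1 h1)
    exact (h1.antisymm (specializes_iff_closure_subset.2 h2)).eq
  obtain rfl : x₁ = x := hf.bijOn.injOn hx₁g hx hfx
  obtain ⟨U₀, c₀, u₀, -, hc₀, hu₀⟩ := exists_affine_chart_at X.property x'
  obtain ⟨V, b, hb, hgenY⟩ := exists_dense_chart Y hY hYf
  obtain ⟨M⟩ := exists_model X Y f hX hXf hYf hf b hb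
  obtain ⟨U, k, h, sq, hk⟩ : ∃ (U : Over S) (k : U ⟶ U₀) (h : U ⟶ V),
      IsPullback ((yon S).map h) ((yon S).map k) b (c₀ ≫ f) ∧ IsOpenImmersion k.left :=
    ⟨_, _, _, hb.rep.isPullback' (c₀ ≫ f), hb.property_snd _⟩
  let c := (yon S).map k ≫ c₀
  have hc : RepWith @Etale c := repWith_comp ((repWith_yon_map_iff _ _).2 (inferInstanceAs (Etale k.left))) hc₀
  obtain ⟨v, hv⟩ := hgenY (hf.bijOn.mapsTo hx)
  obtain ⟨u', hu'v, hu'⟩ := exists_ofPt_of_eq sq (u := v) (v := u₀) (by
    rw [hv, ← Points.map_ofPt, hu₀, he])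
  have hcu' : Points.ofPt c u' = x' := by rw [ofPt_comp, hu', hu₀]
  obtain ⟨u, hu, hus⟩ : ∃ u, Points.ofPt c u = x₁ ∧ u ⤳ u' := by
    obtain ⟨u, h1, h2⟩ := exists_specializes_lift_of_isDecent hX hc (show x₁ ⤳ Points.ofPt c u' from hcu'.symm ▸ hsp)
    exact ⟨u, h2, h1⟩
  have heb := isOpenEmbedding_ofPt Y.property hb
  have hcw : c ≫ f = (yon S).map h ≫ b := (Category.assoc _ _ _).trans sq.w.symm
  have huv : h.left u = v := heb.injective (by rw [hv, ← hu, Points.map_ofPt, hcw, ofPt_comp])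
  obtain ⟨t, ht⟩ := M.generic x₁ hx (hgenY (hf.bijOn.mapsTo hx))
  obtain ⟨P, p, q, sqP, hp, hq⟩ : ∃ (P : Over S) (p : P ⟶ U) (q : P ⟶ M.T),
      IsPullback ((yon S).map p) ((yon S).map q) c M.a ∧ IsOpenImmersion p.left ∧ Etale q.left :=
    ⟨_, _, _, hc.rep.isPullback' M.a, M.openImm.property _ _ _ (hc.rep.isPullback' M.a).flip, hc.property_snd M.a⟩
  obtain ⟨z, hz₁, hz₂⟩ := exists_ofPt_of_eq sqP (hu.trans ht.symm)
  have hpq : p.left ≫ h.left = q.left ≫ M.g.left := by
    rw [← Over.comp_left, ← Over.comp_left]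
    refine congrArg CommaMorphism.left ((yon S).map_injective ?_)
    haveI := mono_openImm hb
    rw [← cancel_mono b, Functor.map_comp, Functor.map_comp, Category.assoc, Category.assoc, ← hcw, ← M.w]
    exact ((Category.assoc _ _ _).symm.trans (congrArg (· ≫ f) sqP.w)).trans (Category.assoc _ _ _)
  haveI := M.stalkIso t ((mem_genericPoints_iff (isOpenEmbedding_ofPt X.property M.openImm) t).1 (ht.symm ▸ hx))
  have hint : (h.left.residueFieldMap u).hom.IsIntegral := by
    have h1 : ((p.left ≫ h.left).residueFieldMap z).hom.IsIntegral := by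
      refine residueFieldMap_congr_isIntegral hpq.symm (isIntegral_residueFieldMap_comp _ _ _
        (isIntegral_residueFieldMap_etale q.left z) ?_)
      subst hz₂
      exact isIntegral_of_bijective_residueFieldMap _ _
    rw [Scheme.residueFieldMap_comp] at h1
    subst hz₁
    intro y
    have hbij : Function.Bijective (p.left.residueFieldMap z).hom := by
      refine ⟨(p.left.residueFieldMap z).hom.injective, fun y => ?_⟩
      obtain ⟨a, rfl⟩ := IsLocalRing.residue_surjective y
      obtain ⟨d, rfl⟩ := (ConcreteCategory.isIso_iff_bijective (p.left.stalkMap z)).1 inferInstance |>.2 a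
      exact ⟨IsLocalRing.residue _ d, rfl⟩
    obtain ⟨P', hm, h0⟩ := h1 ((p.left.residueFieldMap z).hom y)
    refine ⟨P', hm, hbij.1 ?_⟩
    rw [Polynomial.hom_eval₂, map_zero]
    exact h0
  have := eq_of_specializes_isIntegral h.left hus (huv.trans hu'v.symm) hint
  rw [← hcu', ← this, hu]

/-- A criterion for the base change to be an isomorphism. -/
theorem isIso_snd_of_section {f : X ⟶ Y} {B : Over S} (b' : (yon S).obj B ⟶ Y) (r : (yon S).obj B ⟶ X)
    (hr : r ≫ f = b')
    (huniq : ∀ (Z : Over S) (z : (yon S).obj Z ⟶ X) (s : Z ⟶ B), z ≫ f = (yon S).map s ≫ b' → z = (yon S).map s ≫ r)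
    {P : Sp S} (fst : P ⟶ X) (snd : P ⟶ (yon S).obj B) (hP : IsPullback fst snd f b') : IsIso snd := by
  obtain ⟨l, hl₁, hl₂⟩ := hP.exists_lift r (𝟙 _) (by rw [Category.id_comp, hr])
  refine ⟨l, ?_, hl₂⟩
  refine ObjectProperty.hom_ext _ (NatTrans.ext (funext fun Z => ConcreteCategory.hom_ext _ _ fun p => ?_))
  let p' : (yon S).obj Z.unop ⟶ P := (J S).uliftYonedaEquiv.symm p
  obtain ⟨s, hs⟩ := (yon S).map_surjective (p' ≫ snd)
  have h1 : p' ≫ fst = (yon S).map s ≫ r := huniq _ _ s (by rw [Category.assoc, hP.w, hs, Category.assoc])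
  have h2 : p' ≫ snd ≫ l = p' := hP.hom_ext
    (by rw [Category.assoc, Category.assoc, hl₁, ← Category.assoc, ← hs, h1])
    (by rw [Category.assoc, Category.assoc, hl₂, Category.comp_id])
  have h3 := congrArg (J S).uliftYonedaEquiv h2
  rw [Equiv.apply_symm_apply] at h3
  refine Eq.trans ?_ h3
  exact (congrArg ((snd ≫ l).hom.app Z) ((Equiv.apply_symm_apply _ p).symm)).trans
    (GrothendieckTopology.uliftYonedaEquiv_comp (J := J S) p' (snd ≫ l)).symm

end Groth.Agent.AlgSpDec.Birational
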