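import Groth.Agent.AlgSpDec.Basic
import Groth.Agent.AlgSpDec.MonoRep
import Groth.Agent.AlgSpPts.Sep
import Groth.Agent.S9912

/-!
# Decent morphisms of algebraic spaces
-/

set_option backward.isDefEq.respectTransparency false
set_option backward.isDefEq.respectTransparency.types false
set_option autoImplicit false

universe u

open CategoryTheory CategoryTheory.Limits AlgebraicGeometry Opposite AlgSp

namespace Groth.Agent.AlgSpDec

open Groth.Agent.AlgSpLib

variable {S : Scheme.{u}}

theorem repWith_qc_of_subsingleton {W T : Over S} [Subsingleton ↥W.left] (φ : W ⟶ T) :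
    RepWith @QuasiCompact ((yon S).map φ) :=
  (repWith_yon_map_iff _ _).2 (quasiCompact_of_subsingleton _)

instance subsingleton_pt {F : Sp S} (p : FieldPt F) : Subsingleton ↥p.pt.left :=
  inferInstanceAs (Subsingleton (PrimeSpectrum p.K))

/-- A point of a representable space over a space gives a point with quasi-compact morphism. -/
theorem exists_qc_of_yon {X : Sp S} {W : Over S} (h : (yon S).obj W ⟶ X) (hh : RepWith @QuasiCompact h)
    (w : ↥W.left) : ∃ p : FieldPt X, Points.mk p = Points.ofPt h w ∧ RepWith @QuasiCompact p.toHom := by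
  refine ⟨FieldPt.ofPt h w, rfl, ?_⟩
  rw [FieldPt.toHom_ofPt]
  have : Subsingleton ↥(Over.mk (W.left.fromSpecResidueField w ≫ W.hom)).left :=
    inferInstanceAs (Subsingleton (PrimeSpectrum (W.left.residueField w)))
  exact repWith_comp (repWith_qc_of_subsingleton _) hh

theorem isDecent_yon (T : Over S) : IsDecent ((yon S).obj T) := by
  refine (isDecent_iff_exists_quasiCompact (IsAlgSpace.yon_obj T)).2 fun x => ?_
  obtain ⟨t, rfl⟩ : ∃ t, Points.ofScheme T t = x := ⟨Points.toScheme T x, Points.ofScheme_toScheme T x⟩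
  obtain ⟨p, hp, hq⟩ := exists_qc_of_yon (𝟙 ((yon S).obj T)) (repWith_id _ T) t
  exact ⟨p, hp, hq⟩

/-- A fibre product of decent spaces is decent. -/
theorem isDecent_of_isPullback {X Y Z P : Sp S} {fst : P ⟶ X} {snd : P ⟶ Z} {f : X ⟶ Y} {g : Z ⟶ Y}
    (sq : IsPullback fst snd f g) (hXs : IsAlgSpace X) (hYs : IsAlgSpace Y) (hZs : IsAlgSpace Z)
    (hX : IsDecent X) (hZ : IsDecent Z) : IsDecent P := by
  refine (isDecent_iff_exists_quasiCompact (isAlgSpace_of_isPullback sq hXs hZs hYs)).2 fun x => ?_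
  obtain ⟨p, hp, -, hpq⟩ := hX (Points.map fst x)
  obtain ⟨q, hq, -, hqq⟩ := hZ (Points.map snd x)
  let t : (yon S).obj q.pt ⟶ Y := q.toHom ≫ g
  have ht : Representable t := representable_from_yon' hYs t
  let W := ht.pullback (p.toHom ≫ f)
  have sW : IsPullback ((yon S).map (ht.snd (p.toHom ≫ f))) (ht.fst (p.toHom ≫ f)) (p.toHom ≫ f) t :=
    (ht.isPullback (p.toHom ≫ f)).flip
  let A := pullback fst p.toHom
  let B := pullback (pullback.fst fst p.toHom ≫ snd) q.toHom
  have sB : IsPullback (pullback.fst (pullback.fst fst p.toHom ≫ snd) q.toHom ≫ pullback.snd fst p.toHom)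
      (pullback.snd (pullback.fst fst p.toHom ≫ snd) q.toHom) (p.toHom ≫ f) t := by
    have sA : IsPullback (pullback.snd fst p.toHom) (pullback.fst fst p.toHom ≫ snd) (p.toHom ≫ f) g :=
      ((IsPullback.of_hasPullback fst p.toHom).paste_horiz sq.flip).flip
    exact (IsPullback.of_hasPullback _ q.toHom).flip.paste_vert sA.flip |>.flip
  let e := IsPullback.isoIsPullback _ _ sW sB
  let k : B ⟶ P := pullback.fst (pullback.fst fst p.toHom ≫ snd) q.toHom ≫ pullback.fst fst p.toHom
  have hk : RepWith @QuasiCompact k :=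
    repWith_comp (repWith_of_isPullback (IsPullback.of_hasPullback _ q.toHom).flip hqq)
      (repWith_of_isPullback (IsPullback.of_hasPullback fst p.toHom).flip hpq)
  obtain ⟨a, ha, -⟩ := exists_point_of_isPullback (IsPullback.of_hasPullback fst p.toHom) (x := x)
    (y := Points.ofScheme p.pt (IsLocalRing.closedPoint p.K))
    (by rw [← hp, mk_eq_ofPt, Points.map_ofPt, Category.id_comp])
  obtain ⟨b, hb, -⟩ := exists_point_of_isPullback (IsPullback.of_hasPullback (pullback.fst fst p.toHom ≫ snd) q.toHom)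
    (x := a) (y := Points.ofScheme q.pt (IsLocalRing.closedPoint q.K))
    (by rw [Points.map_comp, ha, ← hq, mk_eq_ofPt, Points.map_ofPt, Category.id_comp])
  obtain ⟨w, hw⟩ : ∃ w, Points.ofScheme W w = Points.map e.inv b :=
    ⟨Points.toScheme W _, Points.ofScheme_toScheme W _⟩
  obtain ⟨r, hr, hrq⟩ := exists_qc_of_yon (e.hom ≫ k) (repWith_comp (repWith_of_isIso _ e.hom) hk) w
  refine ⟨r, hr.trans ?_, hrq⟩
  rw [Points.ofPt_eq_map_ofScheme, hw, ← Points.map_comp, e.inv_hom_id_assoc, Points.map_comp, hb, ha]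

theorem isDecentMor_of_isDecent {X Y : Sp S} (hXs : IsAlgSpace X) (hYs : IsAlgSpace Y) (f : X ⟶ Y)
    (hX : IsDecent X) : IsDecentMor f :=
  fun T _ _ _ _ sq => isDecent_of_isPullback sq hXs hYs (IsAlgSpace.yon_obj T) hX (isDecent_yon T)

theorem isDecent_of_isDecentMor {X Y : Sp S} (hXs : IsAlgSpace X) (f : X ⟶ Y) (hf : IsDecentMor f)
    (hY : IsDecent Y) : IsDecent X := by
  refine (isDecent_iff_exists_quasiCompact hXs).2 fun x => ?_
  obtain ⟨q, hq, -, hqq⟩ := hY (Points.map f x)
  have hP := hf q.toHom _ _ (IsPullback.of_hasPullback f q.toHom)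
  obtain ⟨z, hz, -⟩ := exists_point_of_isPullback (IsPullback.of_hasPullback f q.toHom) (x := x)
    (y := Points.ofScheme q.pt (IsLocalRing.closedPoint q.K))
    (by rw [← hq, mk_eq_ofPt, Points.map_ofPt, Category.id_comp])
  obtain ⟨r, hr, -, hrq⟩ := hP z
  refine ⟨r.map (pullback.fst f q.toHom), ?_, ?_⟩
  · rw [← Points.map_mk, hr, hz]
  · rw [FieldPt.toHom_map]
    exact repWith_comp hrq (repWith_of_isPullback (IsPullback.of_hasPullback f q.toHom).flip hqq)

theorem isDecentMor_comp {X Y Z : Sp S} (hXs : IsAlgSpace X) (hYs : IsAlgSpace Y) (hZs : IsAlgSpace Z)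
    (f : X ⟶ Y) (g : Y ⟶ Z) (hf : IsDecentMor f) (hg : IsDecentMor g) : IsDecentMor (f ≫ g) := by
  intro T F' t fst snd sq
  let Y' := pullback g t
  let f' : F' ⟶ Y' := pullback.lift (fst ≫ f) snd (by rw [Category.assoc]; exact sq.w)
  have sqf : IsPullback fst f' f (pullback.fst g t) := by
    refine IsPullback.of_bot ?_ (pullback.lift_fst _ _ _).symm (IsPullback.of_hasPullback g t)
    rw [pullback.lift_snd]
    exact sq
  refine isDecent_of_isDecentMor (isAlgSpace_of_isPullback sq hXs (IsAlgSpace.yon_obj T) hZs) f' ?_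
    (hg t _ _ (IsPullback.of_hasPullback g t))
  intro T' F'' t' fst' snd' sq'
  exact hf (t' ≫ pullback.fst g t) (fst' ≫ fst) snd' (sq'.paste_horiz sqf)

theorem isDecentMor_of_isQuasiSeparatedMor {X Y : Sp S} (hXs : IsAlgSpace X) (hYs : IsAlgSpace Y) (f : X ⟶ Y)
    (hf : IsQuasiSeparatedMor f) : IsDecentMor f := by
  intro T F' t fst snd sq
  refine (isDecent_iff_exists_quasiCompact (isAlgSpace_of_isPullback sq hXs (IsAlgSpace.yon_obj T) hYs)).2
    fun x => ?_
  induction x using Points.ind with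
  | h p =>
  obtain ⟨φ, hφ⟩ := (yon S).map_surjective (p.toHom ≫ snd)
  let σ : (yon S).obj p.pt ⟶ pullback snd ((yon S).map φ) :=
    pullback.lift p.toHom (𝟙 _) (by rw [Category.id_comp, hφ])
  have hsnd : RepWith @QuasiCompact (pullback.diagonal (pullback.snd snd ((yon S).map φ))) :=
    AlgSpPts.isQuasiSeparatedMor_of_isPullback (IsPullback.of_hasPullback _ _)
      (AlgSpPts.isQuasiSeparatedMor_of_isPullback sq hf)
  have hσ : RepWith @QuasiCompact σ := AlgSpPts.section_property (pullback.lift_snd _ _ _) hsnd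
  refine ⟨p, rfl, ?_⟩
  rw [← show σ ≫ pullback.fst snd ((yon S).map φ) = p.toHom from pullback.lift_fst _ _ _]
  exact repWith_comp hσ (repWith_of_isPullback (IsPullback.of_hasPullback snd ((yon S).map φ)).flip
    (repWith_qc_of_subsingleton φ))

theorem isDecentMor_of_representable {X Y : Sp S} (hYs : IsAlgSpace Y) (f : X ⟶ Y) (hf : Representable f) :
    IsDecentMor f := by
  intro T F' t fst snd sq
  exact IsDecent.of_iso (isDecent_yon _) (IsPullback.isoIsPullback _ _ (hf.isPullback t) sq)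

theorem isDecentMor_of_affine {X Y : Sp S} (hXs : IsAlgSpace X) (hYs : IsAlgSpace Y) (f : X ⟶ Y)
    (h : ∀ (Z : Over S) (g : (yon S).obj Z ⟶ Y) (P : Sp S) (fst : P ⟶ X) (snd : P ⟶ (yon S).obj Z),
      IsAffine Z.left → IsPullback fst snd f g → IsDecent P) : IsDecentMor f := by
  intro T F' t fst snd sq
  have hF' := isAlgSpace_of_isPullback sq hXs (IsAlgSpace.yon_obj T) hYs
  refine (isDecent_iff_exists_quasiCompact hF').2 fun x => ?_
  induction x using Points.ind with
  | h p =>
  obtain ⟨φ, hφ⟩ := (yon S).map_surjective (p.toHom ≫ snd)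
  obtain ⟨V, hV, hxV, -⟩ := exists_isAffineOpen_mem_and_subset (U := (⊤ : T.left.Opens))
    (x := φ.left (IsLocalRing.closedPoint p.K)) trivial
  let T₁ : Over S := Over.mk (V.ι ≫ T.hom)
  let ι : T₁ ⟶ T := CategoryTheory.Over.homMk V.ι rfl
  have : IsAffine T₁.left := hV
  let φ₁ : p.pt ⟶ T₁ := CategoryTheory.Over.homMk (IsOpenImmersion.lift V.ι φ.left (by
      rintro _ ⟨y, rfl⟩
      rw [show y = IsLocalRing.closedPoint p.K from Subsingleton.elim (α := ↥p.pt.left) _ _]
      exact (Scheme.Opens.range_ι V).symm.subset hxV)) (by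
    change IsOpenImmersion.lift _ _ _ ≫ V.ι ≫ T.hom = _
    rw [IsOpenImmersion.lift_fac_assoc]
    exact Over.w φ)
  have hφ₁ : φ₁ ≫ ι = φ := Over.OverMorphism.ext (IsOpenImmersion.lift_fac _ _ _)
  let U := pullback snd ((yon S).map ι)
  have hU : IsDecent U := h T₁ ((yon S).map ι ≫ t) U (pullback.fst _ _ ≫ fst) (pullback.snd _ _) ‹_›
    ((IsPullback.of_hasPullback snd ((yon S).map ι)).paste_horiz sq)
  have hUs : IsAlgSpace U := isAlgSpace_pullback hF' (IsAlgSpace.yon_obj _) (IsAlgSpace.yon_obj _) _ _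
  let u : (yon S).obj p.pt ⟶ U := pullback.lift p.toHom ((yon S).map φ₁)
    (by rw [← Functor.map_comp, hφ₁, hφ])
  let a := pullback.snd snd ((yon S).map ι)
  let pU : FieldPt U := ⟨p.K, p.str, (J S).uliftYonedaEquiv u⟩
  have hpU : pU.toHom = u := (J S).uliftYonedaEquiv.injective ((FieldPt.uliftYonedaEquiv_toHom _).trans rfl)
  have hu : RepWith @QuasiCompact u := hpU ▸ repWith_quasiCompact_toHom hUs hU pU
  let σ : (yon S).obj p.pt ⟶ pullback a ((yon S).map φ₁) :=
    pullback.lift u (𝟙 _) (by rw [Category.id_comp]; exact pullback.lift_snd _ _ _)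
  have hd : RepWith @QuasiCompact (pullback.diagonal (pullback.fst a ((yon S).map φ₁))) := by
    refine AlgSpPts.isQuasiSeparatedMor_of_isPullback (IsPullback.of_hasPullback a ((yon S).map φ₁)).flip
      ((isQuasiSeparatedMor_yon_map_iff φ₁).2 ?_)
    have : IsAffine p.pt.left := inferInstanceAs (IsAffine (Spec (CommRingCat.of p.K)))
    exact inferInstance
  have hσ : RepWith @QuasiCompact σ := AlgSpLib.of_comp_of_diagonal (RepWith @QuasiCompact) σ
    (pullback.fst a ((yon S).map φ₁)) (by rw [pullback.lift_fst]; exact hu) hd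
  refine ⟨p, rfl, ?_⟩
  have sQ : IsPullback (pullback.fst a ((yon S).map φ₁) ≫ pullback.fst snd ((yon S).map ι))
      (pullback.snd a ((yon S).map φ₁)) snd ((yon S).map φ) := by
    rw [← hφ₁, Functor.map_comp]
    exact (IsPullback.of_hasPullback a _).paste_horiz (IsPullback.of_hasPullback snd _)
  rw [← show σ ≫ pullback.fst a ((yon S).map φ₁) ≫ pullback.fst snd ((yon S).map ι) = p.toHom by
    rw [pullback.lift_fst_assoc, pullback.lift_fst]]
  exact repWith_comp hσ (repWith_of_isPullback sQ.flip (repWith_qc_of_subsingleton φ))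

end Groth.Agent.AlgSpDec

namespace Groth.Agent.AlgSpDec

open Groth.Agent.AlgSpLib

variable {S : Scheme.{u}}

/-- Decency descends along quasi-compact etale surjective morphisms. -/
theorem isDecent_of_qc_surjective {X Y : Sp S} (hXs : IsAlgSpace X) (hYs : IsAlgSpace Y) (f : X ⟶ Y) (hq : IsQuasiCompactMor f)
    (hs : IsSurjectiveMor f) (hX : IsDecent X) : IsDecent Y := by
  refine (isDecent_iff_exists_quasiCompact hYs).2 fun y => ?_
  obtain ⟨x, rfl⟩ := hs y
  obtain ⟨p, rfl, -, hp⟩ := hX x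
  refine ⟨p.map f, (Points.map_mk f p).symm, ?_⟩
  rw [FieldPt.toHom_map]
  exact (Groth.Agent.S9912.result (S := S) (X := ⟨_, IsAlgSpace.yon_obj p.pt⟩) (Y := ⟨Y, hYs⟩)
    (ObjectProperty.homMk (p.toHom ≫ f)) (representable_from_yon' hYs _)).2
    (AlgSpPts.isQuasiCompactMor_comp hXs hYs (AlgSpPts.isQuasiCompactMor_of_repWith hp) hq)

end Groth.Agent.AlgSpDec
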