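import Groth.Agent.AlgSpDec.BirationalIso
import Groth.Agent.S10395
import Groth.Agent.S10383

/-!
# Birational morphisms and etale base change
-/

set_option backward.isDefEq.respectTransparency false
set_option backward.isDefEq.respectTransparency.types false

universe u

open CategoryTheory CategoryTheory.Limits AlgebraicGeometry AlgSp Groth.Agent.AlgSpLib Groth.Agent.AlgSpPts TopologicalSpace Topology
open Groth.Agent.MorLib.Birat (eq_of_specializes_generic)

namespace Groth.Agent.AlgSpDec.Birational

variable {S : Scheme.{u}}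

theorem existsUnique_baseChange_generic {W W₀ T V : Scheme.{u}} {h : W ⟶ T} {q : W ⟶ W₀} {g : T ⟶ V} {k : W₀ ⟶ V}
    (sq : IsPullback h q g k) (t : T) [IsIso (g.stalkMap t)]
    (huniq : ∀ t', g t' = g t → t' = t) (hgen : ∀ y : V, y ⤳ g t → y = g t) (w₀ : W₀) (hw : k w₀ = g t) :
    (∃! w, q w = w₀) ∧ ∀ w, q w = w₀ → IsIso (q.stalkMap w) := by
  haveI := isIso_pullback_snd_fromSpecStalk g t huniq hgen
  let ι := V.fromSpecStalk (g t)
  haveI : Flat ι := flat_fromSpecStalk _
  let r := pullback.fst k ι
  haveI : Flat r := MorphismProperty.of_isPullback (P := @Flat) (IsPullback.of_hasPullback k ι).flip ‹Flat ι›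
  haveI : IsPreimmersion r :=
    MorphismProperty.of_isPullback (P := @IsPreimmersion) (IsPullback.of_hasPullback k ι).flip inferInstance
  let p := pullback.fst q r
  let π := pullback.snd q r
  haveI : Flat p := MorphismProperty.of_isPullback (P := @Flat) (IsPullback.of_hasPullback q r).flip ‹Flat r›
  haveI : IsPreimmersion p :=
    MorphismProperty.of_isPullback (P := @IsPreimmersion) (IsPullback.of_hasPullback q r).flip ‹IsPreimmersion r›
  have sq2 : IsPullback (p ≫ h) π g (pullback.snd k ι ≫ ι) := by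
    have := (IsPullback.of_hasPullback q r).paste_horiz sq
    rwa [pullback.condition] at this
  let l : pullback q r ⟶ pullback g ι := pullback.lift (p ≫ h) (π ≫ pullback.snd k ι) (by
    rw [sq2.w, Category.assoc])
  have sq3 : IsPullback l π (pullback.snd g ι) (pullback.snd k ι) := by
    refine IsPullback.of_right ?_ (pullback.lift_snd _ _ _) (IsPullback.of_hasPullback g ι)
    rw [pullback.lift_fst]
    exact sq2
  haveI hπ : IsIso π := MorphismProperty.of_isPullback (P := MorphismProperty.isomorphisms Scheme.{u}) sq3 ‹_›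
  have hι : g t = ι (IsLocalRing.closedPoint (V.presheaf.stalk (g t))) := Scheme.fromSpecStalk_closedPoint.symm
  obtain ⟨z₀, hz₀, -⟩ := Scheme.exists_preimage_of_isPullback (IsPullback.of_hasPullback k ι) w₀
    (IsLocalRing.closedPoint (V.presheaf.stalk (g t))) (hw.trans hι)
  obtain ⟨z, hz⟩ := π.homeomorph.surjective z₀
  have hz' : π z = z₀ := hz
  have key : ∀ w, q w = w₀ → w = p z := fun w hw' => by
    obtain ⟨y, hy₁, hy₂⟩ := Scheme.exists_preimage_of_isPullback (IsPullback.of_hasPullback q r) w z₀
      (hw'.trans hz₀.symm)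
    rw [← hy₁]
    exact congrArg p (π.homeomorph.injective (hy₂.trans hz'.symm))
  have hqz : q (p z) = w₀ := by
    rw [← Scheme.Hom.comp_apply, pullback.condition, Scheme.Hom.comp_apply]
    exact (congrArg r hz').trans hz₀
  refine ⟨⟨p z, hqz, key⟩, fun w hw' => ?_⟩
  rw [key w hw']
  haveI := isIso_stalkMap_of_flat_preimmersion p z
  haveI := isIso_stalkMap_of_flat_preimmersion r (π z)
  have h1 : IsIso ((π ≫ r).stalkMap z) := by
    rw [Scheme.Hom.stalkMap_comp]; infer_instance
  have h2 := @isIso_stalkMap_congr _ _ _ _ pullback.condition.symm z h1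
  rwa [isIso_stalkMap_comp_iff] at h2

theorem mem_genericPoints_of_etale (X Y : Space S) (hX : IsDecent X.obj) (f : Y.obj ⟶ X.obj) (hf : IsEtaleMor f)
    (y : Points Y.obj) : y ∈ genericPoints (Points Y.obj) ↔ Points.map f y ∈ genericPoints (Points X.obj) := by
  have h := Groth.Agent.S10395.result hX (ObjectProperty.homMk f : Y ⟶ X) hf y
  have key : ∀ {α : Type (u + 1)} [TopologicalSpace α] (z : α),
      z ∈ genericPoints α ↔ ∃ T ∈ irreducibleComponents α, IsGenericPoint z T := fun z =>
    ⟨fun hz => ⟨_, hz, isGenericPoint_closure⟩, fun ⟨T, hT, hz⟩ => show closure {z} ∈ _ from hz.def.symm ▸ hT⟩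
  rw [key, key]
  exact h

theorem finite_irreducibleComponents_of_genericPoints {α : Type*} [TopologicalSpace α] [QuasiSober α]
    (h : (genericPoints α).Finite) : (irreducibleComponents α).Finite := by
  haveI := h.to_subtype
  haveI : Finite (irreducibleComponents α) := Finite.of_surjective _ genericPoints.component_surjective
  exact Set.toFinite _

/-- Etale base change of a birational morphism along an affine scheme. -/
theorem birational_baseChange (X Y : Space S) (f : X.obj ⟶ Y.obj) (hX : IsDecent X.obj) (hY : IsDecent Y.obj)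
    (hXf : (irreducibleComponents (Points X.obj)).Finite) (hYf : (irreducibleComponents (Points Y.obj)).Finite)
    (hf : W4stk3decentspacesp2.IsBirational f) {V : Over S} [IsAffine V.left] (b : (yon S).obj V ⟶ Y.obj)
    (hb : RepWith @Etale b) {P : Sp S} (fst : P ⟶ X.obj) (snd : P ⟶ (yon S).obj V)
    (hP : IsPullback fst snd f b) :
    IsDecent P ∧ (irreducibleComponents (Points P)).Finite ∧
      (irreducibleComponents (Points ((yon S).obj V))).Finite ∧ W4stk3decentspacesp2.IsBirational snd := by
  have hPA : IsAlgSpace P :=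
    IsAlgSpace.of_iso (isAlgSpace_pullback X.property (IsAlgSpace.yon_obj V) Y.property f b) hP.isoPullback.symm
  let PS : Space S := ⟨P, hPA⟩
  let VS : Space S := ⟨(yon S).obj V, IsAlgSpace.yon_obj V⟩
  have hfst : RepWith @Etale fst := repWith_of_isPullback hP.flip hb
  have hfe : IsEtaleMor fst := isEtaleMor_of_repWith hfst
  have hbe : IsEtaleMor b := isEtaleMor_of_repWith hb
  have hPd : IsDecent P :=
    Groth.Agent.AlgSpDec.isDecent_of_isEtaleMor hPA X.property fst hfe hX
  have hVd : IsDecent ((yon S).obj V) := isDecent_yon V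
  haveI := quasiSober_points hPA hPd
  haveI := quasiSober_points (IsAlgSpace.yon_obj V) hVd
  haveI := t0Space_points hPA hPd
  haveI := t0Space_points Y.property hY
  have gP : ∀ p : Points P, p ∈ genericPoints (Points P) ↔ Points.map fst p ∈ genericPoints (Points X.obj) :=
    fun p => mem_genericPoints_of_etale X PS hX fst hfe p
  have gV : ∀ v : Points ((yon S).obj V), v ∈ genericPoints (Points ((yon S).obj V)) ↔
      Points.map b v ∈ genericPoints (Points Y.obj) :=
    fun v => mem_genericPoints_of_etale Y VS hY b hbe v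
  have hcomm : ∀ p : Points P, Points.map b (Points.map snd p) = Points.map f (Points.map fst p) := fun p => by
    rw [← Points.map_comp, ← Points.map_comp, hP.w]
  obtain ⟨V₀, b₀, hb₀, hgenY⟩ := exists_dense_chart Y hY hYf
  obtain ⟨M⟩ := exists_model X Y f hX hXf hYf hf b₀ hb₀
  obtain ⟨W₀, ρ, k₀, sq₀, hk₀⟩ : ∃ (W₀ : Over S) (ρ : W₀ ⟶ V₀) (k₀ : W₀ ⟶ V),
      IsPullback ((yon S).map ρ) ((yon S).map k₀) b₀ b ∧ IsOpenImmersion k₀.left :=
    ⟨_, _, _, hb₀.rep.isPullback' b, hb₀.property_snd b⟩
  let W := pullback M.g ρ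
  let h : W ⟶ M.T := pullback.fst M.g ρ
  let q : W ⟶ W₀ := pullback.snd M.g ρ
  have sqW : IsPullback h q M.g ρ := IsPullback.of_hasPullback _ _
  have sqTV : IsPullback ((yon S).map h) ((yon S).map (q ≫ k₀)) (M.a ≫ f) b := by
    rw [M.w, Functor.map_comp]
    exact ((sqW.map (yon S)).flip.paste_horiz sq₀.flip).flip
  obtain ⟨m, hm₁, hm₂⟩ := hP.exists_lift ((yon S).map h ≫ M.a) ((yon S).map (q ≫ k₀)) (by
    rw [Category.assoc]; exact sqTV.w)
  have sqm : IsPullback ((yon S).map h) m M.a fst := by
    refine IsPullback.of_bot ?_ hm₁.symm hP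
    rw [hm₂]; exact sqTV
  have hm : RepWith @IsOpenImmersion m := repWith_of_isPullback sqm M.openImm
  have hmpts : ∀ p : Points P, Points.map fst p ∈ Set.range (Points.ofPt M.a) → ∃ w, Points.ofPt m w = p := by
    rintro p ⟨t, ht⟩
    obtain ⟨z, -, hz⟩ := exists_point_of_isPullback sqm (x := Points.ofScheme M.T t) (y := p)
      ((Points.ofPt_eq_map_ofScheme M.a t).symm.trans ht)
    exact ⟨Points.toScheme W z, by rw [Points.ofPt_eq_map_ofScheme, Points.ofScheme_toScheme, hz]⟩
  have hea := isOpenEmbedding_ofPt X.property M.openImm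
  have heb := isOpenEmbedding_ofPt Y.property hb₀
  have hgX : ∀ p ∈ genericPoints (Points P), ∃ w, Points.ofPt m w = p ∧
      (h.left w) ∈ genericPoints ↥M.T.left := by
    intro p hp
    have hx := (gP p).1 hp
    obtain ⟨w, hw⟩ := hmpts p (M.generic _ hx (hgenY (hf.bijOn.mapsTo hx)))
    refine ⟨w, hw, (mem_genericPoints_iff hea _).1 ?_⟩
    rw [← ofPt_comp, sqm.w, ← Points.map_ofPt, hw]
    exact hx
  have hloc : ∀ t ∈ genericPoints ↥M.T.left, ∀ w₀, ρ.left w₀ = M.g.left t →
      (∃! w, q.left w = w₀) ∧ ∀ w, q.left w = w₀ → IsIso (q.left.stalkMap w) := by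
    intro t ht w₀ hw₀
    haveI : IsIso (((Over.forget S).map M.g).stalkMap t) := M.stalkIso t ht
    have hv := M.bijOn.mapsTo ht
    refine existsUnique_baseChange_generic (sqW.map (Over.forget S)) t (fun t' he => ?_)
      (fun y hy => eq_of_specializes_generic hv hy) w₀ hw₀
    refine hea.injective (fibre_eq X Y f hX hY hXf hYf hf ((mem_genericPoints_iff hea t).2 ht) ?_)
    rw [Points.map_ofPt, Points.map_ofPt, M.w, ofPt_comp, ofPt_comp]
    exact congrArg _ he
  have hVfin : (genericPoints (Points ((yon S).obj V))).Finite := by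
    have hfib : ∀ y : Points Y.obj, (Points.map b ⁻¹' {y}).Finite := fun y => by
      obtain ⟨p, hp, -, hq⟩ := hY y
      refine ((finite_fibre_of_repWith hb p hq).image (Points.ofScheme V)).subset fun v hv => ?_
      refine ⟨Points.toScheme V v, ?_, Points.ofScheme_toScheme V v⟩
      show Points.ofPt b _ = Points.mk p
      rw [Points.ofPt_eq_map_ofScheme, Points.ofScheme_toScheme, hp]
      exact hv
    exact (Set.Finite.preimage' (genericPoints.finite hYf) fun y _ => hfib y).subset fun v hv => (gV v).1 hv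
  have hbij : Set.BijOn (Points.map snd) (genericPoints (Points P)) (genericPoints (Points ((yon S).obj V))) := by
    refine ⟨fun p hp => (gV _).2 ?_, fun p hp p' hp' he => ?_, fun v hv => ?_⟩
    · rw [hcomm]; exact hf.bijOn.mapsTo ((gP p).1 hp)
    · have hxe : Points.map fst p = Points.map fst p' :=
        hf.bijOn.injOn ((gP p).1 hp) ((gP p').1 hp') (by rw [← hcomm, ← hcomm, he])
      obtain ⟨w, rfl, hwt⟩ := hgX p hp
      obtain ⟨w', rfl, -⟩ := hgX p' hp'
      have hk : k₀.left (q.left w) = k₀.left (q.left w') := by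
        have e : ∀ z, Points.map snd (Points.ofPt m z) = Points.ofScheme V (k₀.left (q.left z)) := fun z => by
          rw [Points.map_ofPt, hm₂, Points.ofPt_eq_map_ofScheme]
          exact Points.map_yon_map_apply (q ≫ k₀) z
        exact (Points.schemeHomeo V).injective ((e w).symm.trans (he.trans (e w')))
      have hw0 : q.left w = q.left w' := k₀.left.isOpenEmbedding.injective hk
      obtain ⟨h₁, -⟩ := hloc _ hwt (q.left w)
        (by rw [← Scheme.Hom.comp_apply, ← Over.comp_left, ← sqW.w]; rfl)
      rw [h₁.unique rfl hw0.symm]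
    · obtain ⟨x, hx, hxy⟩ := hf.bijOn.surjOn ((gV v).1 hv)
      obtain ⟨p, hp₁, hp₂⟩ := exists_point_of_isPullback hP hxy
      exact ⟨p, (gP p).2 (hp₁ ▸ hx), hp₂⟩
  refine ⟨hPd, finite_irreducibleComponents_of_genericPoints (Set.Finite.of_finite_image ?_ hbij.injOn),
    finite_irreducibleComponents_of_genericPoints hVfin, ⟨hbij, fun p hp => ?_⟩⟩
  · exact hVfin.subset (Set.image_subset_iff.2 fun p hp => hbij.mapsTo hp)
  · obtain ⟨w, hw, hwt⟩ := hgX p hp
    obtain ⟨-, h₂⟩ := hloc _ hwt (q.left w)
      (by rw [← Scheme.Hom.comp_apply, ← Over.comp_left, ← sqW.w]; rfl)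
    exact ⟨W, W₀, m, (yon S).map k₀, q, w, hm,
      (repWith_yon_map_iff _ k₀).2 hk₀, by rw [hm₂, Functor.map_comp], hw, h₂ w rfl⟩

end Groth.Agent.AlgSpDec.Birational
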