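import Groth.Agent.AlgSpDec.Birational
import Groth.Agent.FDescent.QuasiFlat
import Mathlib.AlgebraicGeometry.IdealSheaf.Functorial

/-!
# Birational morphisms are isomorphisms over dense opens
-/

set_option backward.isDefEq.respectTransparency false
set_option backward.isDefEq.respectTransparency.types false

universe u

open CategoryTheory CategoryTheory.Limits AlgebraicGeometry AlgSp Groth.Agent.AlgSpLib Groth.Agent.AlgSpPts TopologicalSpace Topology
open Groth.Agent.MorLib.Birat (eq_of_specializes_generic)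

namespace Groth.Agent.AlgSpDec.Birational

variable {S : Scheme.{u}}

theorem isIso_stalkMap_of_flat_preimmersion {X Y : Scheme.{u}} (f : X ⟶ Y) [Flat f] [IsPreimmersion f] (x : X) :
    IsIso (f.stalkMap x) := by
  refine (ConcreteCategory.isIso_iff_bijective _).2 ⟨?_, f.stalkMap_surjective x⟩
  algebraize [(f.stalkMap x).hom]
  haveI : Module.Flat (Y.presheaf.stalk (f x)) (X.presheaf.stalk x) := Flat.stalkMap f x
  haveI : IsLocalHom (algebraMap (Y.presheaf.stalk (f x)) (X.presheaf.stalk x)) :=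
    inferInstanceAs (IsLocalHom (f.stalkMap x).hom)
  haveI := Module.FaithfullyFlat.of_flat_of_isLocalHom (A := Y.presheaf.stalk (f x)) (B := X.presheaf.stalk x)
  exact (FaithfulSMul.algebraMap_injective (Y.presheaf.stalk (f x)) (X.presheaf.stalk x) :)

theorem flat_fromSpecStalk {X : Scheme.{u}} (x : X) : Flat (X.fromSpecStalk x) := by
  obtain ⟨U, hU, hxU, -⟩ := exists_isAffineOpen_mem_and_subset (show x ∈ (⊤ : X.Opens) from trivial)
  rw [← hU.fromSpecStalk_eq_fromSpecStalk hxU, IsAffineOpen.fromSpecStalk]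
  have : Flat (Spec.map (X.presheaf.germ U x hxU)) := by
    rw [HasRingHomProperty.Spec_iff (P := @Flat)]
    let : Algebra Γ(X, U) (X.presheaf.stalk x) := (X.presheaf.germ U x hxU).hom.toAlgebra
    have := hU.isLocalization_stalk ⟨x, hxU⟩
    exact IsLocalization.flat (X.presheaf.stalk x) (hU.primeIdealOf ⟨x, hxU⟩).asIdeal.primeCompl
  infer_instance

theorem isIso_pullback_snd_fromSpecStalk {T V : Scheme.{u}} (g : T ⟶ V) (t : T) [IsIso (g.stalkMap t)]
    (huniq : ∀ t', g t' = g t → t' = t) (hgen : ∀ y : V, y ⤳ g t → y = g t) :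
    IsIso (pullback.snd g (V.fromSpecStalk (g t))) := by
  let ι := V.fromSpecStalk (g t)
  let p := pullback.fst g ι
  let q := pullback.snd g ι
  haveI : Flat ι := flat_fromSpecStalk _
  haveI : Flat p := MorphismProperty.of_isPullback (P := @Flat) (IsPullback.of_hasPullback g ι).flip ‹Flat ι›
  haveI : IsPreimmersion p :=
    MorphismProperty.of_isPullback (P := @IsPreimmersion) (IsPullback.of_hasPullback g ι).flip inferInstance
  have hι : ∀ s, ι s = g t := fun s => hgen _ ((Scheme.range_fromSpecStalk (X := V) (x := g t)).subset ⟨s, rfl⟩)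
  have hp : ∀ w, p w = t := fun w => huniq _ (by rw [← Scheme.Hom.comp_apply, pullback.condition]; exact hι _)
  haveI : Subsingleton ↥(pullback g ι) := ⟨fun a b => p.isEmbedding.injective ((hp a).trans (hp b).symm)⟩
  haveI : Subsingleton ↥(Spec (V.presheaf.stalk (g t))) :=
    ⟨fun a b => ι.isEmbedding.injective ((hι a).trans (hι b).symm)⟩
  obtain ⟨w, -, -⟩ := Scheme.exists_preimage_of_isPullback (IsPullback.of_hasPullback g ι) t
    (IsLocalRing.closedPoint (V.presheaf.stalk (g t))) (hι _).symm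
  have hstalk : ∀ x, IsIso (q.stalkMap x) := fun x => by
    haveI := isIso_stalkMap_of_flat_preimmersion p x
    have h1 : IsIso ((p ≫ g).stalkMap x) := by
      rw [isIso_stalkMap_comp_iff]
      have : ∀ t', t' = t → IsIso (g.stalkMap t') := by rintro t' rfl; infer_instance
      exact this _ (hp x)
    haveI := isIso_stalkMap_of_flat_preimmersion ι (q x)
    exact isIso_stalkMap_of_comp q ι x (@isIso_stalkMap_congr _ _ _ _ pullback.condition x h1)
  rw [isIso_iff_isIso_stalkMap]
  refine ⟨?_, hstalk⟩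
  let e : ↥(pullback g ι) ≃ₜ ↥(Spec (V.presheaf.stalk (g t))) :=
    { toFun := q
      invFun := fun _ => w
      left_inv := fun a => Subsingleton.elim _ _
      right_inv := fun a => Subsingleton.elim _ _
      continuous_toFun := q.continuous
      continuous_invFun := continuous_const }
  exact (TopCat.isIso_iff_isHomeomorph q.base).2 e.isHomeomorph

theorem isIso_baseChange_stalk (X Y : Space S) (f : X.obj ⟶ Y.obj) (hX : IsDecent X.obj) (hY : IsDecent Y.obj)
    (hXf : (irreducibleComponents (Points X.obj)).Finite) (hYf : (irreducibleComponents (Points Y.obj)).Finite)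
    (hf : W4stk3decentspacesp2.IsBirational f) {V : Over S} (b : (yon S).obj V ⟶ Y.obj)
    (hb : RepWith @IsOpenImmersion b) (v : ↥V.left) (hv : Points.ofPt b v ∈ genericPoints (Points Y.obj))
    {P : Sp S} (fst : P ⟶ X.obj) (snd : P ⟶ (yon S).obj (Over.mk (V.left.fromSpecStalk v ≫ V.hom)))
    (hP : IsPullback fst snd f ((yon S).map (Over.homMk (V.left.fromSpecStalk v) rfl) ≫ b)) :
    IsIso snd := by
  obtain ⟨x, hx, hfx⟩ := hf.bijOn.surjOn hv
  obtain ⟨M⟩ := exists_model X Y f hX hXf hYf hf b hb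
  obtain ⟨t, rfl⟩ := M.generic x hx ⟨v, hfx.symm⟩
  have heb := isOpenEmbedding_ofPt Y.property hb
  have hea := isOpenEmbedding_ofPt X.property M.openImm
  have hcomp : ∀ t, Points.map f (Points.ofPt M.a t) = Points.ofPt b (M.g.left t) := fun t => by
    rw [Points.map_ofPt, M.w, ofPt_comp]
  obtain rfl : M.g.left t = v := heb.injective ((hcomp t).symm.trans hfx)
  haveI := M.stalkIso t ((mem_genericPoints_iff hea t).1 hx)
  have hfib : ∀ x', Points.map f x' = Points.map f (Points.ofPt M.a t) → x' = Points.ofPt M.a t := fun x' he =>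
    fibre_eq X Y f hX hY hXf hYf hf hx he
  have hgen : ∀ y : ↥V.left, y ⤳ M.g.left t → y = M.g.left t :=
    fun y hy => eq_of_specializes_generic ((mem_genericPoints_iff heb _).1 hv) hy
  have huniq : ∀ t', M.g.left t' = M.g.left t → t' = t :=
    fun t' he => hea.injective (hfib _ (by rw [hcomp, hcomp, he]))
  haveI := isIso_pullback_snd_fromSpecStalk M.g.left t huniq hgen
  obtain ⟨B, ι, hBι, hBr⟩ : ∃ (B : Over S) (ι : B ⟶ V), B = Over.mk (V.left.fromSpecStalk (M.g.left t) ≫ V.hom) ∧
      HEq ι (Over.homMk (V.left.fromSpecStalk (M.g.left t)) rfl :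
        Over.mk (V.left.fromSpecStalk (M.g.left t) ≫ V.hom) ⟶ V) := ⟨_, _, rfl, HEq.rfl⟩
  subst hBι
  obtain rfl := eq_of_heq hBr
  let σ' := inv (pullback.snd M.g.left (V.left.fromSpecStalk (M.g.left t))) ≫
    pullback.fst M.g.left (V.left.fromSpecStalk (M.g.left t))
  have hσ' : σ' ≫ M.g.left = V.left.fromSpecStalk (M.g.left t) := by
    rw [Category.assoc, pullback.condition, IsIso.inv_hom_id_assoc]
  let σ : Over.mk (V.left.fromSpecStalk (M.g.left t) ≫ V.hom) ⟶ M.T := Over.homMk σ' (by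
    show σ' ≫ M.T.hom = _
    rw [← Over.w M.g, reassoc_of% hσ']; rfl)
  have hσ : σ ≫ M.g = Over.homMk (V.left.fromSpecStalk (M.g.left t)) rfl := Over.OverMorphism.ext hσ'
  refine isIso_snd_of_section _ ((yon S).map σ ≫ M.a) ?_ (fun Z z s hz => ?_) fst snd hP
  · rw [Category.assoc, M.w, ← Functor.map_comp_assoc, hσ]
  · have hpts : ∀ p, Points.ofPt z p = Points.ofPt M.a t := fun p => hfib _ (by
      rw [hcomp, Points.map_ofPt, hz, ofPt_comp, ofPt_comp]
      refine congrArg _ (hgen _ ?_)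
      exact (Scheme.range_fromSpecStalk (X := V.left) (x := M.g.left t)).subset ⟨s.left p, rfl⟩)
    obtain ⟨z', hz'⟩ := exists_factor X.property M.openImm z fun p => ⟨t, (hpts p).symm⟩
    have h1 : z' ≫ M.g = s ≫ Over.homMk (V.left.fromSpecStalk (M.g.left t)) rfl := by
      haveI := mono_openImm hb
      refine (yon S).map_injective ((cancel_mono b).1 ?_)
      rw [Functor.map_comp, Functor.map_comp, Category.assoc, Category.assoc, ← M.w, ← Category.assoc, hz', hz]
    have h2 : z' = s ≫ σ := by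
      refine Over.OverMorphism.ext ?_
      let l := pullback.lift z'.left s.left (congrArg CommaMorphism.left h1)
      have hl : l = s.left ≫ inv (pullback.snd M.g.left (V.left.fromSpecStalk (M.g.left t))) := by
        rw [IsIso.eq_comp_inv]; exact pullback.lift_snd _ _ _
      show z'.left = s.left ≫ σ'
      rw [← Category.assoc, ← hl]
      exact (pullback.lift_fst _ _ _).symm
    rw [← hz', h2, Functor.map_comp, Category.assoc]

theorem isIso_snd_of_preimage_subset (X Y : Space S) (f : X.obj ⟶ Y.obj) {U V : Over S}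
    {a : (yon S).obj U ⟶ X.obj} {b : (yon S).obj V ⟶ Y.obj} (ha : RepWith @IsOpenImmersion a)
    (hb : RepWith @IsOpenImmersion b) (g : U ⟶ V) (hw : a ≫ f = (yon S).map g ≫ b) [IsIso g.left]
    {W : Over S} (κ : W ⟶ V)
    (hpre : ∀ x, Points.map f x ∈ Set.range (Points.ofPt ((yon S).map κ ≫ b)) → x ∈ Set.range (Points.ofPt a))
    {P : Sp S} (fst : P ⟶ X.obj) (snd : P ⟶ (yon S).obj W)
    (hP : IsPullback fst snd f ((yon S).map κ ≫ b)) : IsIso snd := by
  haveI : IsIso ((Over.forget S).map g) := ‹IsIso g.left›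
  haveI : IsIso g := isIso_of_reflects_iso _ (Over.forget S)
  refine isIso_snd_of_section _ ((yon S).map (κ ≫ inv g) ≫ a) ?_ (fun Z z s hz => ?_) fst snd hP
  · rw [Category.assoc, hw, ← Functor.map_comp_assoc, Category.assoc, IsIso.inv_hom_id, Category.comp_id]
  · obtain ⟨z', hz'⟩ := exists_factor X.property ha z fun p => hpre _ ⟨s.left p, by
      rw [Points.map_ofPt, hz, ofPt_comp, ofPt_comp, ofPt_comp]⟩
    haveI := mono_openImm hb
    have h1 : z' ≫ g = s ≫ κ := (yon S).map_injective ((cancel_mono b).1 (by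
      rw [Functor.map_comp, Category.assoc, ← hw, ← Category.assoc, hz', hz, Functor.map_comp, Category.assoc]))
    rw [← hz', ← Functor.map_comp_assoc, ← Category.assoc, ← h1, Category.assoc, IsIso.hom_inv_id, Category.comp_id]

theorem generic_not_mem_closure_image (X Y : Space S) (f : X.obj ⟶ Y.obj) (hq : IsQuasiCompactMor f)
    {V : Over S} {b : (yon S).obj V ⟶ Y.obj} (hb : RepWith @IsOpenImmersion b) (v : ↥V.left)
    (hv : v ∈ genericPoints ↥V.left) {Z : Set (Points X.obj)} (hZ : IsClosed Z)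
    (hfib : ∀ x ∈ Z, Points.map f x ≠ Points.ofPt b v) :
    Points.ofPt b v ∉ closure (Points.map f '' Z) := by
  intro hcl
  obtain ⟨O, hO, hvO, -⟩ := exists_isAffineOpen_mem_and_subset (U := (⊤ : V.left.Opens)) (x := v) trivial
  let V₁ : Over S := Over.mk (O.ι ≫ V.hom)
  let κ : V₁ ⟶ V := Over.homMk O.ι rfl
  haveI : IsAffine V₁.left := hO
  haveI : IsOpenImmersion κ.left := inferInstanceAs (IsOpenImmersion O.ι)
  let b₁ := (yon S).map κ ≫ b
  have heb₁ : IsOpenEmbedding (Points.ofPt b₁) :=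
    isOpenEmbedding_ofPt Y.property (repWith_comp ((repWith_yon_map_iff _ κ).2 inferInstance) hb)
  obtain ⟨P, fst, snd, sq⟩ : ∃ (P : Sp S) (fst : P ⟶ X.obj) (snd : P ⟶ (yon S).obj V₁), IsPullback fst snd f b₁ :=
    ⟨_, _, _, IsPullback.of_hasPullback f b₁⟩
  obtain ⟨T, c, hc, hcs, hT⟩ := hq (IsAlgSpace.yon_obj V₁) (AlgSpLib.isQuasiCompactSp_yon V₁) b₁ fst snd sq
  obtain ⟨k, hk⟩ := (yon S).map_surjective (c ≫ snd)
  have hA : IsClosed (Points.ofPt (c ≫ fst) ⁻¹' Z) := hZ.preimage (Points.continuous_ofPt _)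
  let I := Scheme.IdealSheafData.vanishingIdeal ⟨Points.ofPt (c ≫ fst) ⁻¹' Z, hA⟩
  have hr : Set.range I.subschemeι = Points.ofPt (c ≫ fst) ⁻¹' Z := by
    rw [Scheme.IdealSheafData.range_subschemeι, Scheme.IdealSheafData.coe_support_vanishingIdeal]
    rfl
  haveI : QuasiCompact k.left := HasAffineProperty.iff_of_isAffine.2 hT
  have hcond : ∀ τ, Points.map f (Points.ofPt (c ≫ fst) τ) = Points.ofPt b₁ (k.left τ) := fun τ => by
    rw [Points.map_ofPt, Category.assoc, sq.w, ← Category.assoc, ← hk, ofPt_comp]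
  let v₁ : ↥V₁.left := ⟨v, hvO⟩
  have hv₁ : Points.ofPt b₁ v₁ = Points.ofPt b v := ofPt_comp κ b v₁
  have hv₁g : v₁ ∈ genericPoints ↥V₁.left := (mem_genericPoints_iff O.ι.isOpenEmbedding v₁).1 hv
  have hmem : v₁ ∈ closure (Set.range (I.subschemeι ≫ k.left)) := by
    have h1 : v₁ ∈ closure (Points.ofPt b₁ ⁻¹' (Points.map f '' Z)) := by
      rw [← heb₁.isOpenMap.preimage_closure_eq_closure_preimage heb₁.continuous]
      show Points.ofPt b₁ v₁ ∈ closure _
      rwa [hv₁]
    refine closure_mono ?_ h1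
    rintro w ⟨x, hxZ, hxw⟩
    obtain ⟨z, hz₁, -⟩ := exists_point_of_isPullback sq (x := x) (y := Points.ofScheme V₁ w)
      (hxw.trans (Points.ofPt_eq_map_ofScheme b₁ w))
    obtain ⟨τ, rfl⟩ := surjective_ofPt hcs z
    have hτZ : τ ∈ Points.ofPt (c ≫ fst) ⁻¹' Z := by
      show Points.ofPt (c ≫ fst) τ ∈ Z
      rw [← Points.map_ofPt, hz₁]; exact hxZ
    obtain ⟨q, hq'⟩ := hr.symm.subset hτZ
    refine ⟨q, heb₁.injective ?_⟩
    rw [Scheme.Hom.comp_apply, hq', ← hcond, ← hxw, ← Points.map_ofPt, hz₁]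
  obtain ⟨q, hq'⟩ := FDescent.exists_specializes_of_mem_closure_range (f := I.subschemeι ≫ k.left) hmem
  have h2 := eq_of_specializes_generic hv₁g hq'
  refine hfib _ (show Points.ofPt (c ≫ fst) (I.subschemeι q) ∈ Z from hr.subset ⟨q, rfl⟩) ?_
  rw [hcond, ← hv₁, ← Scheme.Hom.comp_apply]
  exact congrArg _ h2

theorem subset_range_of_separated (X Y : Space S) (f : X.obj ⟶ Y.obj) (hX : IsDecent X.obj) (hs : IsSeparatedMor f)
    {U V : Over S} {a : (yon S).obj U ⟶ X.obj} {b : (yon S).obj V ⟶ Y.obj} (ha : RepWith @IsOpenImmersion a)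
    (hb : RepWith @IsOpenImmersion b) (g : U ⟶ V) (hw : a ≫ f = (yon S).map g ≫ b) [IsIso g.left]
    (hgen : genericPoints (Points X.obj) ⊆ Set.range (Points.ofPt a)) (x' : Points X.obj)
    (hx' : Points.map f x' ∈ Set.range (Points.ofPt b)) : x' ∈ Set.range (Points.ofPt a) := by
  haveI : IsIso ((Over.forget S).map g) := ‹IsIso g.left›
  haveI : IsIso g := isIso_of_reflects_iso _ (Over.forget S)
  haveI := quasiSober_points X.property hX
  obtain ⟨C, hC, hxC⟩ := exists_mem_irreducibleComponents_subset_of_isIrreducible {x'} isIrreducible_singleton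
  obtain ⟨x, hx⟩ := QuasiSober.sober hC.1 (isClosed_of_mem_irreducibleComponents C hC)
  have hxg : x ∈ genericPoints (Points X.obj) := show closure {x} ∈ _ from hx.def.symm ▸ hC
  have hsp : x ⤳ x' := hx.specializes (hxC rfl)
  obtain ⟨u₀, hu₀⟩ := hgen hxg
  obtain ⟨U₁, c₁, u₁, -, hc₁, hu₁⟩ := exists_affine_chart_at X.property x'
  obtain ⟨W, k, h, sq, hk⟩ : ∃ (W : Over S) (k : W ⟶ U₁) (h : W ⟶ V),
      IsPullback ((yon S).map h) ((yon S).map k) b (c₁ ≫ f) ∧ IsOpenImmersion k.left :=
    ⟨_, _, _, hb.rep.isPullback' (c₁ ≫ f), hb.property_snd _⟩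
  let c := (yon S).map k ≫ c₁
  have hc : RepWith @Etale c := repWith_comp ((repWith_yon_map_iff _ _).2 (inferInstanceAs (Etale k.left))) hc₁
  obtain ⟨v, hv⟩ := hx'
  obtain ⟨w', -, hw'⟩ := exists_ofPt_of_eq sq (u := v) (v := u₁) (by rw [hv, ← Points.map_ofPt, hu₁])
  have hcw' : Points.ofPt c w' = x' := by rw [ofPt_comp, hw', hu₁]
  obtain ⟨w, hw₁, hw₂⟩ := exists_specializes_lift_of_isDecent hX hc (show x ⤳ Points.ofPt c w' from hcw'.symm ▸ hsp)
  let σ : W ⟶ U := h ≫ inv g
  have hcf : c ≫ f = (yon S).map h ≫ b := (Category.assoc _ _ _).trans sq.w.symm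
  have hσf : ((yon S).map σ ≫ a) ≫ f = c ≫ f := by
    rw [Category.assoc, hw, ← Functor.map_comp_assoc, Category.assoc, IsIso.inv_hom_id, Category.comp_id, hcf]
  let d : (yon S).obj W ⟶ pullback f f := pullback.lift c ((yon S).map σ ≫ a) hσf.symm
  have sqE := hs.rep.isPullback d
  haveI : IsClosedImmersion (hs.rep.snd d).left := hs.property_snd d
  let E := Set.range (hs.rep.snd d).left
  have hE : IsClosed E := (hs.rep.snd d).left.isClosedEmbedding.isClosed_range
  -- the equalizer contains the points over `U`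
  have hwE : w ∈ E := by
    obtain ⟨Q, q, q', sqQ⟩ : ∃ (Q : Over S) (q : Q ⟶ U) (q' : Q ⟶ W),
        IsPullback ((yon S).map q) ((yon S).map q') a c := ⟨_, _, _, ha.rep.isPullback' c⟩
    obtain ⟨z, -, hz⟩ := exists_ofPt_of_eq sqQ (hu₀.trans hw₂.symm)
    have hqσ : q' ≫ σ = q := by
      rw [← Category.assoc, IsIso.comp_inv_eq]
      haveI := mono_openImm hb
      refine (yon S).map_injective ((cancel_mono b).1 ?_)
      rw [Functor.map_comp, Functor.map_comp, Category.assoc, Category.assoc, ← hw, ← hcf]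
      exact ((Category.assoc _ _ _).symm.trans (congrArg (· ≫ f) sqQ.w.symm)).trans (Category.assoc _ _ _)
    have e : (yon S).map q' ≫ d = ((yon S).map q ≫ a) ≫ pullback.diagonal f := by
      refine pullback.hom_ext ?_ ?_
      · rw [Category.assoc, pullback.lift_fst, Category.assoc, pullback.diagonal_fst, Category.comp_id, sqQ.w]
      · rw [Category.assoc, pullback.lift_snd, Category.assoc, pullback.diagonal_snd, Category.comp_id,
          ← Functor.map_comp_assoc, hqσ]
    obtain ⟨l, -, hl⟩ := sqE.exists_lift ((yon S).map q ≫ a) ((yon S).map q') e.symm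
    obtain ⟨l, rfl⟩ := (yon S).map_surjective l
    rw [← Functor.map_comp] at hl
    refine ⟨l.left z, ?_⟩
    rw [← Scheme.Hom.comp_apply, ← Over.comp_left, (yon S).map_injective hl, hz]
  obtain ⟨e, he⟩ : w' ∈ E := hw₁.mem_closed hE hwE
  refine ⟨σ.left w', ?_⟩
  have h1 := sqE.w
  have h2 : (yon S).map (hs.rep.snd d) ≫ c = (yon S).map (hs.rep.snd d) ≫ (yon S).map σ ≫ a := by
    have h3 := congrArg (· ≫ pullback.fst f f) h1
    have h4 := congrArg (· ≫ pullback.snd f f) h1
    simp only [Category.assoc, pullback.diagonal_fst, pullback.diagonal_snd, d, pullback.lift_fst,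
      pullback.lift_snd, Category.comp_id] at h3 h4
    exact h3.symm.trans h4
  have h5 := congrArg (fun m => Points.ofPt m e) h2
  simp only [ofPt_comp, he] at h5
  rw [← h5, ← hcw', ofPt_comp]

theorem exists_iso_over_open (X Y : Space S) (f : X.obj ⟶ Y.obj) (hX : IsDecent X.obj) (hY : IsDecent Y.obj)
    (hXf : (irreducibleComponents (Points X.obj)).Finite) (hYf : (irreducibleComponents (Points Y.obj)).Finite)
    (hf : W4stk3decentspacesp2.IsBirational f) (h₁ : IsQuasiCompactMor f ∨ IsSeparatedMor f)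
    (h₂ : (LocP @LocallyOfFiniteType f ∧ EtaleLocally (fun T => IsReduced T) Y.obj) ∨
      LocP @LocallyOfFinitePresentation f) :
    ∃ (V : Over S) (b : (yon S).obj V ⟶ Y.obj), RepWith @IsOpenImmersion b ∧
      Dense (Set.range (Points.ofPt b)) ∧
        ∀ ⦃P : Sp S⦄ (fst : P ⟶ X.obj) (snd : P ⟶ (yon S).obj V), IsPullback fst snd f b → IsIso snd := by
  haveI := quasiSober_points Y.property hY
  obtain ⟨U, V, a, b, g, ha, hb, hU, hV, hw, hg⟩ := exists_iso_opens X Y f hX hY hXf hYf hf h₂
  rcases h₁ with hq | hs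
  · have heb := isOpenEmbedding_ofPt Y.property hb
    have hea := isOpenEmbedding_ofPt X.property ha
    let Z : Set (Points X.obj) := (Set.range (Points.ofPt a))ᶜ
    let O : V.left.Opens := ⟨Points.ofPt b ⁻¹' (closure (Points.map f '' Z))ᶜ,
      isClosed_closure.isOpen_compl.preimage (Points.continuous_ofPt b)⟩
    let W : Over S := Over.mk (O.ι ≫ V.hom)
    let κ : W ⟶ V := Over.homMk O.ι rfl
    have hWgen : ∀ y ∈ genericPoints (Points Y.obj), y ∈ Set.range (Points.ofPt ((yon S).map κ ≫ b)) := by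
      intro y hy
      obtain ⟨v, rfl⟩ := hV hy
      have hnot := generic_not_mem_closure_image X Y f hq hb v ((mem_genericPoints_iff heb v).1 hy)
        hea.isOpen_range.isClosed_compl fun x hx he => by
          obtain ⟨x₁, hx₁, hfx₁⟩ := hf.bijOn.surjOn hy
          exact hx (hU (by rw [fibre_eq X Y f hX hY hXf hYf hf hx₁ (he.trans hfx₁.symm)]; exact hx₁))
      exact ⟨⟨v, hnot⟩, ofPt_comp κ b _⟩
    refine ⟨W, (yon S).map κ ≫ b, repWith_comp ((repWith_yon_map_iff _ κ).2 (inferInstanceAs (IsOpenImmersion O.ι))) hb,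
      dense_of_genericPoints_subset hWgen, fun P fst snd sq =>
        isIso_snd_of_preimage_subset X Y f ha hb g hw κ (fun x hx => ?_) fst snd sq⟩
    obtain ⟨w, hw'⟩ := hx
    by_contra hn
    have hmem : Points.ofPt b w.1 ∈ closure (Points.map f '' Z) :=
      subset_closure ⟨x, hn, by rw [← hw']; exact ofPt_comp κ b w⟩
    exact w.2 hmem
  · refine ⟨V, b, hb, dense_of_genericPoints_subset hV, fun P fst snd sq =>
      isIso_snd_of_preimage_subset X Y f ha hb g hw (𝟙 V) (fun x hx => ?_) fst snd (by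
        rwa [CategoryTheory.Functor.map_id, Category.id_comp])⟩
    rw [CategoryTheory.Functor.map_id, Category.id_comp] at hx
    exact subset_range_of_separated X Y f hX hs ha hb g hw hU x hx

end Groth.Agent.AlgSpDec.Birational
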