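import Groth.Agent.AlgSpDec.BirationalBC
import Groth.Agent.AlgSpDec.AffineRep
import Groth.Agent.AlgSpLib.FpqcDescent
import Groth.Agent.AlgSpLib.Descent2
import Mathlib.RingTheory.Polynomial.ScaleRoots
import Mathlib.RingTheory.IntegralClosure.IntegrallyClosed

/-!
# An integral birational morphism to a normal space is an isomorphism
-/

set_option backward.isDefEq.respectTransparency false
set_option backward.isDefEq.respectTransparency.types false
set_option linter.style.haveILetI false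

universe u

open CategoryTheory CategoryTheory.Limits AlgebraicGeometry AlgSp Groth.Agent.AlgSpLib Groth.Agent.AlgSpPts TopologicalSpace Topology

namespace Groth.Agent.AlgSpDec.Birational

section Algebra

variable {A B : Type u} [CommRing A] [CommRing B]

theorem ker_algebraMap_atPrime_le (P : Ideal A) [P.IsPrime] {p : Ideal A} [p.IsPrime] (h : p ≤ P) :
    RingHom.ker (algebraMap A (Localization.AtPrime P)) ≤ p := by
  intro x hx
  obtain ⟨⟨s, hs⟩, hsx⟩ := (IsLocalization.map_eq_zero_iff P.primeCompl (Localization.AtPrime P) x).1 hx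
  exact ((Ideal.IsPrime.mem_or_mem ‹p.IsPrime› (show s * x ∈ p from hsx.symm ▸ p.zero_mem)).resolve_left
    fun hsp => hs (h hsp))

theorem bijective_of_integral_birational [IsReduced B] (h : A →+* B) (hint : h.IsIntegral)
    (hfin : (minimalPrimes A).Finite)
    (hd : ∀ (P : Ideal A) [P.IsPrime], IsDomain (Localization.AtPrime P))
    (hc : ∀ (P : Ideal A) [P.IsPrime], IsIntegrallyClosed (Localization.AtPrime P))
    (hmaps : ∀ q ∈ minimalPrimes B, q.comap h ∈ minimalPrimes A)
    (hinj : Set.InjOn (Ideal.comap h) (minimalPrimes B))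
    (hsurj : ∀ p ∈ minimalPrimes A, ∃ q ∈ minimalPrimes B, q.comap h = p)
    (hres : ∀ q ∈ minimalPrimes B, ∀ b : B, ∃ a c : A, h c ∉ q ∧ h c * b - h a ∈ q) :
    Function.Bijective h := by
  classical
  have hker : ∀ x, h x = 0 → x = 0 := by
    intro x hx
    have hmem : x ∈ sInf (⊥ : Ideal A).minimalPrimes := Submodule.mem_sInf.2 fun p hp => by
      obtain ⟨q, hq, rfl⟩ := hsurj p hp
      rw [Ideal.mem_comap, hx]; exact q.zero_mem
    rw [Ideal.sInf_minimalPrimes] at hmem
    obtain ⟨n, hn⟩ := hmem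
    let I : Ideal A := LinearMap.ker (LinearMap.toSpanSingleton A A x)
    by_contra hne
    have hI : I ≠ ⊤ := fun hI => hne (by
      have : (1 : A) ∈ I := hI ▸ trivial
      simpa [I, LinearMap.mem_ker] using this)
    obtain ⟨P, hP, hIP⟩ := I.exists_le_maximal hI
    haveI := hd P
    have h0 : algebraMap A (Localization.AtPrime P) x = 0 :=
      eq_zero_of_pow_eq_zero (n := n) (by rw [← map_pow, Ideal.mem_bot.1 hn, map_zero])
    obtain ⟨⟨s, hs⟩, hsx⟩ := (IsLocalization.map_eq_zero_iff P.primeCompl (Localization.AtPrime P) x).1 h0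
    exact hs (hIP (by simpa [I, LinearMap.mem_ker] using hsx))
  refine ⟨(injective_iff_map_eq_zero h).2 hker, fun b => ?_⟩
  let I : Ideal A :=
    { carrier := {a | ∃ a', h a * b = h a'}
      add_mem' := fun ⟨u, hu⟩ ⟨v, hv⟩ => ⟨u + v, by rw [map_add, map_add, add_mul, hu, hv]⟩
      zero_mem' := ⟨0, by simp⟩
      smul_mem' := fun r x ⟨u, hu⟩ => ⟨r * u, by rw [smul_eq_mul, map_mul, map_mul, mul_assoc, hu]⟩ }
  suffices hI : I = ⊤ by
    obtain ⟨a', ha'⟩ : (1 : A) ∈ I := hI ▸ trivial
    exact ⟨a', by rw [← ha', map_one, one_mul]⟩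
  by_contra hI
  obtain ⟨P, hP, hIP⟩ := I.exists_le_maximal hI
  haveI := hd P
  haveI := hc P
  let r := algebraMap A (Localization.AtPrime P)
  let p₀ : Ideal A := RingHom.ker r
  haveI hp₀P : p₀.IsPrime := RingHom.ker_isPrime r
  have hp₀le : p₀ ≤ P := ker_algebraMap_atPrime_le P le_rfl
  have hp₀ : p₀ ∈ minimalPrimes A :=
    ⟨⟨hp₀P, bot_le⟩, fun p hp hle => by
      haveI := hp.1
      exact ker_algebraMap_atPrime_le P (hle.trans hp₀le)⟩
  obtain ⟨q, hq, hqp⟩ := hsurj p₀ hp₀
  haveI : q.IsPrime := hq.1.1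
  obtain ⟨a, c, hcq, hac⟩ := hres q hq b
  have hr : ∀ {x}, r x = 0 ↔ h x ∈ q := fun {x} => by
    rw [← RingHom.mem_ker, ← Ideal.mem_comap (f := h), hqp]
  have hrc : r c ≠ 0 := fun h0 => hcq (hr.1 h0)
  let K := FractionRing (Localization.AtPrime P)
  let rK : A →+* K := (algebraMap (Localization.AtPrime P) K).comp r
  have hrcK : rK c ≠ 0 := fun h0 => hrc ((map_eq_zero_iff _ (IsFractionRing.injective _ K)).1 h0)
  obtain ⟨f, hf, hf0⟩ := hint b
  have h1 : h ((f.scaleRoots c).eval a) ∈ q := by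
    rw [← Ideal.Quotient.eq_zero_iff_mem, ← Polynomial.eval₂_at_apply, Polynomial.hom_eval₂,
      ← Ideal.Quotient.mk_eq_mk_iff_sub_mem (h c * b) (h a) |>.2 hac, ← Polynomial.hom_eval₂,
      Polynomial.scaleRoots_eval₂_eq_zero h hf0, map_zero]
  have h2 : (f.map r).eval₂ (algebraMap (Localization.AtPrime P) K) (rK a / rK c) = 0 := by
    rw [Polynomial.eval₂_map]
    have h3 : (f.scaleRoots c).eval₂ rK (rK c * (rK a / rK c)) = 0 := by
      rw [mul_div_cancel₀ _ hrcK, Polynomial.eval₂_at_apply]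
      refine (congrArg (algebraMap (Localization.AtPrime P) K) (hr.2 ?_)).trans (map_zero _)
      simpa using h1
    rw [Polynomial.scaleRoots_eval₂_mul] at h3
    exact (mul_eq_zero.1 h3).resolve_left (pow_ne_zero _ hrcK)
  obtain ⟨y, hy⟩ := (IsIntegrallyClosed.isIntegral_iff (R := Localization.AtPrime P) (K := K)).1
    (show IsIntegral (Localization.AtPrime P) (rK a / rK c) from ⟨f.map r, hf.map r, h2⟩)
  obtain ⟨a', ⟨s', hs'⟩, rfl⟩ := IsLocalization.exists_mk'_eq P.primeCompl y
  have h4 : r (s' * a - a' * c) = 0 := by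
    refine (map_eq_zero_iff _ (IsFractionRing.injective _ K)).1 ?_
    have h5 : rK s' * (rK a / rK c) = rK a' := by
      rw [← hy]
      show algebraMap _ K (r s') * _ = algebraMap _ K (r a')
      rw [← map_mul]
      exact congrArg (algebraMap (Localization.AtPrime P) K) (by rw [mul_comm, IsLocalization.mk'_spec])
    show rK (s' * a - a' * c) = 0
    rw [map_sub, map_mul, map_mul, ← h5, mul_assoc, div_mul_cancel₀ _ hrcK, sub_self]
  have hx : h s' * b - h a' ∈ q := by
    refine (Ideal.IsPrime.mem_or_mem ‹q.IsPrime› (x := h c) ?_).resolve_left hcq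
    have h6 : h c * (h s' * b - h a') = h s' * (h c * b - h a) + h (s' * a - a' * c) := by
      rw [map_sub, map_mul, map_mul]; ring
    rw [h6]
    exact q.add_mem (q.mul_mem_left _ hac) (hr.1 h4)
  have hother : ∀ p ∈ minimalPrimes A, p ≠ p₀ → ¬ p ≤ P := fun p hp hne hle => hne (by
    haveI := hp.1.1
    exact le_antisymm (hp.2 ⟨hp₀P, bot_le⟩ (ker_algebraMap_atPrime_le P hle)) (ker_algebraMap_atPrime_le P hle))
  choose! t ht htP using fun p hp hne => SetLike.not_le_iff_exists.1 (hother p hp hne)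
  let T := ∏ p ∈ hfin.toFinset.filter (· ≠ p₀), t p
  have hT : T ∉ P := by
    intro hT
    obtain ⟨p, hp, hpt⟩ := (hP.isPrime.prod_mem_iff).1 hT
    obtain ⟨hp1, hp2⟩ := Finset.mem_filter.1 hp
    exact htP p (hfin.mem_toFinset.1 hp1) hp2 hpt
  have hTx : h T * (h s' * b - h a') = 0 := by
    refine IsReduced.eq_zero _ ?_
    have hmem : h T * (h s' * b - h a') ∈ sInf (⊥ : Ideal B).minimalPrimes :=
      Submodule.mem_sInf.2 fun (q' : Ideal B) hq' => by
        rcases eq_or_ne (Ideal.comap h q') p₀ with he | hne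
        · obtain rfl : q' = q := hinj hq' hq (he.trans hqp.symm)
          exact Ideal.mul_mem_left q' _ hx
        · refine Ideal.mul_mem_right _ q' ?_
          have hle : T ∈ Ideal.comap h q' := Ideal.mem_of_dvd _ (Finset.dvd_prod_of_mem t
            (Finset.mem_filter.2 ⟨hfin.mem_toFinset.2 (hmaps _ hq'), hne⟩)) (ht _ (hmaps _ hq') hne)
          exact hle
    rw [Ideal.sInf_minimalPrimes] at hmem
    exact mem_nilradical.1 hmem
  have hTI : T * s' ∈ I := ⟨T * a', by
    rw [map_mul, map_mul, mul_assoc, ← sub_eq_zero, ← mul_sub]; exact hTx⟩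
  exact (hP.isPrime.mem_or_mem (hIP hTI)).elim hT hs'

theorem exists_residual (h : A →+* B) (q : Ideal B) [q.IsPrime]
    (hbij : Function.Bijective (Localization.localRingHom (q.comap h) q h rfl)) (b : B) :
    ∃ a c : A, h c ∉ q ∧ h c * b - h a ∈ q := by
  obtain ⟨z, hz⟩ := hbij.2 (algebraMap B _ b)
  obtain ⟨a, ⟨c, hc⟩, rfl⟩ := IsLocalization.exists_mk'_eq (q.comap h).primeCompl z
  rw [Localization.localRingHom_mk', eq_comm, IsLocalization.eq_mk'_iff_mul_eq, ← map_mul,
    IsLocalization.eq_iff_exists q.primeCompl] at hz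
  obtain ⟨⟨s, hs⟩, hsz⟩ := hz
  refine ⟨a, c, hc, (Ideal.IsPrime.mem_or_mem ‹q.IsPrime› (x := s) ?_).resolve_left hs⟩
  have h0 : s * (h c * b - h a) = 0 := by
    rw [mul_sub, sub_eq_zero, ← hsz]
    ring
  rw [h0]; exact q.zero_mem

end Algebra

section Schemes

theorem bijOn_genericPoints_of_homeomorph {α β α' β' : Type*} [TopologicalSpace α] [TopologicalSpace β]
    [TopologicalSpace α'] [TopologicalSpace β'] (e : α ≃ₜ α') (e' : β ≃ₜ β') {f : α → β} {f' : α' → β'}
    (hc : ∀ x, f' (e x) = e' (f x)) (h : Set.BijOn f (genericPoints α) (genericPoints β)) :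
    Set.BijOn f' (genericPoints α') (genericPoints β') := by
  refine ⟨fun x hx => ?_, fun x hx y hy he => ?_, fun y hy => ?_⟩
  · obtain ⟨x, rfl⟩ := e.surjective x
    rw [hc, mem_genericPoints_iff e'.isOpenEmbedding]
    exact h.mapsTo ((mem_genericPoints_iff e.isOpenEmbedding x).1 hx)
  · obtain ⟨x, rfl⟩ := e.surjective x
    obtain ⟨y, rfl⟩ := e.surjective y
    rw [hc, hc] at he
    rw [h.injOn ((mem_genericPoints_iff e.isOpenEmbedding x).1 hx) ((mem_genericPoints_iff e.isOpenEmbedding y).1 hy)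
      (e'.injective he)]
  · obtain ⟨y, rfl⟩ := e'.surjective y
    obtain ⟨x, hx, rfl⟩ := h.surjOn ((mem_genericPoints_iff e'.isOpenEmbedding y).1 hy)
    exact ⟨e x, (mem_genericPoints_iff e.isOpenEmbedding x).2 hx, hc x⟩

theorem genericPoints_Spec_iff {R : Type u} [CommRing R] (x : PrimeSpectrum R) :
    x ∈ genericPoints (PrimeSpectrum R) ↔ x.asIdeal ∈ minimalPrimes R := by
  rw [← PrimeSpectrum.vanishingIdeal_singleton, PrimeSpectrum.vanishingIdeal_mem_minimalPrimes]
  rfl

theorem isIso_SpecMap_of_birational {A B : CommRingCat.{u}} (φ : A ⟶ B) (hint : φ.hom.IsIntegral)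
    [_root_.IsReduced B] (hfin : (genericPoints (PrimeSpectrum A)).Finite)
    (hA : ∀ p : ↥(Spec A), IsDomain ((Spec A).presheaf.stalk p) ∧ IsIntegrallyClosed ((Spec A).presheaf.stalk p))
    (hbij : Set.BijOn (PrimeSpectrum.comap φ.hom) (genericPoints (PrimeSpectrum B)) (genericPoints (PrimeSpectrum A)))
    (hst : ∀ x ∈ genericPoints (PrimeSpectrum B), IsIso ((Spec.map φ).stalkMap x)) : IsIso φ := by
  have hloc : ∀ (P : Ideal A) [P.IsPrime], IsDomain (Localization.AtPrime P) ∧
      IsIntegrallyClosed (Localization.AtPrime P) := fun P _ => by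
    have e := (Spec.stalkIso A ⟨P, ‹_›⟩).commRingCatIsoToRingEquiv
    obtain ⟨h1, h2⟩ := hA ⟨P, ‹_›⟩
    exact ⟨e.symm.toMulEquiv.isDomain _, IsIntegrallyClosed.of_equiv e⟩
  refine (ConcreteCategory.isIso_iff_bijective φ).2 (bijective_of_integral_birational φ.hom hint
    ((hfin.image PrimeSpectrum.asIdeal).subset fun p hp => ⟨⟨p, hp.1.1⟩, (genericPoints_Spec_iff _).2 hp, rfl⟩)
    (fun P _ => (hloc P).1) (fun P _ => (hloc P).2) (fun q hq => ?_) (fun q hq q' hq' he => ?_) (fun p hp => ?_)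
    fun q hq b => ?_)
  · exact (genericPoints_Spec_iff _).1 (hbij.mapsTo (x := ⟨q, hq.1.1⟩) ((genericPoints_Spec_iff _).2 hq))
  · exact congrArg PrimeSpectrum.asIdeal (hbij.injOn (x₁ := ⟨q, hq.1.1⟩) ((genericPoints_Spec_iff _).2 hq)
      (x₂ := ⟨q', hq'.1.1⟩) ((genericPoints_Spec_iff _).2 hq') (PrimeSpectrum.ext he))
  · obtain ⟨x, hx, hxp⟩ := hbij.surjOn (a := ⟨p, hp.1.1⟩) ((genericPoints_Spec_iff _).2 hp)
    exact ⟨x.asIdeal, (genericPoints_Spec_iff _).1 hx, congrArg PrimeSpectrum.asIdeal hxp⟩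
  · haveI := hq.1.1
    have h := (MorphismProperty.arrow_mk_iso_iff (MorphismProperty.isomorphisms CommRingCat.{u})
      (Scheme.arrowStalkMapSpecIso φ ⟨q, hq.1.1⟩)).1 (hst ⟨q, hq.1.1⟩ ((genericPoints_Spec_iff _).2 hq))
    exact exists_residual φ.hom q ((ConcreteCategory.isIso_iff_bijective _).1 h) b

theorem isIso_of_birational_affine {W V : Scheme.{u}} (i : W ⟶ V) [IsAffine V] [IsIntegralHom i]
    [IsReduced W] (hfin : (irreducibleComponents ↥V).Finite)
    (hV : ∀ t : ↥V, IsDomain (V.presheaf.stalk t) ∧ IsIntegrallyClosed (V.presheaf.stalk t))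
    (hbij : Set.BijOn i (genericPoints ↥W) (genericPoints ↥V))
    (hst : ∀ w ∈ genericPoints ↥W, IsIso (i.stalkMap w)) : IsIso i := by
  haveI : IsAffine W := isAffine_of_isAffineHom i
  have hint : i.appTop.hom.IsIntegral :=
    ((HasAffineProperty.iff_of_isAffine (P := @IsIntegralHom)).1 ‹_›).2
  haveI : _root_.IsReduced Γ(W, ⊤) := inferInstance
  have hfinA : (genericPoints (PrimeSpectrum Γ(V, ⊤))).Finite :=
    ((genericPoints.finite hfin).image V.isoSpec.hom.homeomorph).subset fun x hx => by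
      obtain ⟨y, rfl⟩ := V.isoSpec.hom.homeomorph.surjective x
      exact ⟨y, (mem_genericPoints_iff V.isoSpec.hom.homeomorph.isOpenEmbedding y).1 hx, rfl⟩
  haveI : IsIso i.appTop := by
    refine isIso_SpecMap_of_birational i.appTop hint hfinA (fun p => ?_) ?_ fun x hx => ?_
    · have e := (asIso (V.isoSpec.inv.stalkMap p)).commRingCatIsoToRingEquiv
      obtain ⟨h1, h2⟩ := hV (V.isoSpec.inv p)
      exact ⟨e.symm.toMulEquiv.isDomain _, IsIntegrallyClosed.of_equiv e⟩
    · refine bijOn_genericPoints_of_homeomorph W.isoSpec.hom.homeomorph V.isoSpec.hom.homeomorph (fun w => ?_) hbij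
      show (Spec.map i.appTop) (W.isoSpec.hom w) = V.isoSpec.hom (i w)
      rw [← Scheme.Hom.comp_apply, Scheme.isoSpec_hom_naturality, Scheme.Hom.comp_apply]
    · obtain ⟨w, rfl⟩ := W.isoSpec.hom.homeomorph.surjective x
      have h1 : IsIso ((i ≫ V.isoSpec.hom).stalkMap w) := by
        haveI := hst w ((mem_genericPoints_iff W.isoSpec.hom.homeomorph.isOpenEmbedding w).1 hx)
        rw [isIso_stalkMap_comp_iff]; infer_instance
      have h2 := @isIso_stalkMap_congr _ _ _ _ (Scheme.isoSpec_hom_naturality i).symm w h1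
      rwa [isIso_stalkMap_comp_iff] at h2
  have he : i = W.isoSpec.hom ≫ Spec.map i.appTop ≫ V.isoSpec.inv := by
    rw [← Category.assoc, Scheme.isoSpec_hom_naturality, Category.assoc, Iso.hom_inv_id, Category.comp_id]
  rw [he]; infer_instance

end Schemes

variable {S : Scheme.{u}}

theorem isIso_of_birational_yon {W V : Over S} (i : W ⟶ V) [IsAffine V.left] [IsIntegralHom i.left]
    [IsReduced W.left] (hfin : (irreducibleComponents (Points ((yon S).obj V))).Finite)
    (hV : ∀ t : ↥V.left, IsDomain (V.left.presheaf.stalk t) ∧ IsIntegrallyClosed (V.left.presheaf.stalk t))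
    (hb : W4stk3decentspacesp2.IsBirational ((yon S).map i)) : IsIso i.left := by
  refine isIso_of_birational_affine i.left
    (finite_components_of_isOpenEmbedding (Points.schemeHomeo V).isOpenEmbedding hfin) hV ?_ fun w hw => ?_
  · refine bijOn_genericPoints_of_homeomorph (Points.schemeHomeo W).symm (Points.schemeHomeo V).symm
      (fun x => ?_) hb.bijOn
    obtain ⟨w, rfl⟩ := (Points.schemeHomeo W).surjective x
    rw [Homeomorph.symm_apply_apply, Homeomorph.eq_symm_apply]
    exact (Points.map_yon_map_apply i w).symm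
  · obtain ⟨U, T, a, b, g, u, ha, hb', hg, hu, hiso⟩ := hb.stalkIso (Points.ofScheme W w)
      ((mem_genericPoints_iff (Points.schemeHomeo W).isOpenEmbedding w).2 hw)
    refine isIso_stalkMap_of_charts ha (repWith_id (P := @IsOpenImmersion) W) hb'
      (repWith_id (P := @IsOpenImmersion) V) g i hg (by rw [Category.id_comp, Category.comp_id]) u w ?_ hiso
    rw [hu, Points.ofPt_eq_map_ofScheme]
    exact (Points.map_id _).symm

theorem isIso_of_integral_birational (X Y : Space S) (f : X.obj ⟶ Y.obj) (hX : IsDecent X.obj) (hY : IsDecent Y.obj)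
    (hXf : (irreducibleComponents (Points X.obj)).Finite) (hYf : (irreducibleComponents (Points Y.obj)).Finite)
    (hi : IsIntegralMor f) (hf : W4stk3decentspacesp2.IsBirational f)
    (hYn : EtaleLocally (fun T => ∀ t : ↥T, IsDomain ↥(T.presheaf.stalk t) ∧
      IsIntegrallyClosed ↥(T.presheaf.stalk t)) Y.obj)
    (hXr : EtaleLocally (fun T => IsReduced T) X.obj) : IsIso f := by
  obtain ⟨V₀, b, hb, hbs, hn⟩ := hYn
  have hr := isIntegralMor_iff_repWith.1 hi
  obtain ⟨W₀, i, fst, sq, hint⟩ : ∃ (W₀ : Over S) (i : W₀ ⟶ V₀) (fst : (yon S).obj W₀ ⟶ X.obj),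
      IsPullback fst ((yon S).map i) f b ∧ IsIntegralHom i.left :=
    ⟨_, _, _, hr.rep.isPullback b, hr.property_snd b⟩
  have hiso : IsIso i.left := by
    change MorphismProperty.isomorphisms Scheme.{u} i.left
    rw [IsZariskiLocalAtTarget.iff_of_iSup_eq_top (P := MorphismProperty.isomorphisms Scheme.{u})
      (fun U : V₀.left.affineOpens => U.1) (iSup_affineOpens_eq_top _)]
    intro U
    let V : Over S := Over.mk (U.1.ι ≫ V₀.hom)
    let κ : V ⟶ V₀ := Over.homMk U.1.ι rfl
    let W : Over S := Over.mk ((i.left ⁻¹ᵁ U.1).ι ≫ W₀.hom)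
    let r : W ⟶ V := Over.homMk (i.left ∣_ U.1) (by
      change _ ≫ U.1.ι ≫ V₀.hom = _ ≫ W₀.hom
      rw [← Category.assoc, (isPullback_morphismRestrict i.left U.1).w, Category.assoc, Over.w i])
    let k : W ⟶ W₀ := Over.homMk (i.left ⁻¹ᵁ U.1).ι rfl
    have hw : k ≫ i = r ≫ κ := Over.OverMorphism.ext (isPullback_morphismRestrict i.left U.1).w.symm
    have sqk : IsPullback k r i κ :=
      IsPullback.of_map (Over.forget S) hw (isPullback_morphismRestrict i.left U.1).flip
    have sqW : IsPullback ((yon S).map k ≫ fst) ((yon S).map r) f ((yon S).map κ ≫ b) :=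
      (sqk.map (yon S)).paste_horiz sq
    haveI : IsAffine V.left := U.2
    haveI : IsOpenImmersion κ.left := inferInstanceAs (IsOpenImmersion U.1.ι)
    have hbV : RepWith @Etale ((yon S).map κ ≫ b) :=
      repWith_comp ((repWith_yon_map_iff _ κ).2 (inferInstanceAs (Etale κ.left))) hb
    haveI : IsIntegralHom r.left :=
      MorphismProperty.of_isPullback (P := @IsIntegralHom) (isPullback_morphismRestrict i.left U.1).flip hint
    haveI : IsReduced W.left := isReduced_chart hXr (repWith_of_isPullback sqW.flip hbV)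
    obtain ⟨-, -, hfin, hbir⟩ := birational_baseChange X Y f hX hY hXf hYf hf _ hbV _ _ sqW
    refine isIso_of_birational_yon r hfin (fun t => ?_) hbir
    have e := (asIso (κ.left.stalkMap t)).commRingCatIsoToRingEquiv
    obtain ⟨h1, h2⟩ := hn (κ.left t)
    exact ⟨e.symm.toMulEquiv.isDomain _, IsIntegrallyClosed.of_equiv e⟩
  haveI : IsIso ((Over.forget S).map i) := hiso
  haveI : IsIso i := isIso_of_reflects_iso i (Over.forget S)
  exact isIso_of_fpqc (p := fun _ : PUnit.{u + 1} => (yon S).map i) (q := fun _ => fst) X.property Y.property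
    (fun _ => IsAlgSpace.yon_obj V₀) (fun _ => IsAlgSpace.yon_obj W₀)
    (isFpqcCover_of_isEtaleMor (IsAlgSpace.yon_obj V₀) Y.property (isEtaleMor_of_repWith hb)
      (surjective_map_of_repWith hbs)) (fun _ => sq) fun _ => inferInstance

end Groth.Agent.AlgSpDec.Birational
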