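import Groth.Agent.AlgSpDec.More
import Groth.Agent.AlgSpPts.FppfTarget
import Mathlib.AlgebraicGeometry.Limits

/-!
# Flat generalisation lifting, finite fibres from covers, factorisation through points
-/

set_option backward.isDefEq.respectTransparency false
set_option backward.isDefEq.respectTransparency.types false

open CategoryTheory Limits Opposite AlgebraicGeometry MorphismProperty AlgSp Groth.Agent.AlgSpLib
  Groth.Agent.AlgSpPts Topology

namespace Groth.Agent.AlgSpDec

universe u

variable {S : Scheme.{u}} {X Y : Sp S}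

theorem exists_specializes_lift_flat (hX : IsAlgSpace X) (hY : IsAlgSpace Y) (f : Y ⟶ X) (hf : LocP @Flat f)
    {x x' : Points X} (h : x' ⤳ x) (p : FieldPt X) (hp : Points.mk p = x') (hq : RepWith @QuasiCompact p.toHom)
    {y : Points Y} (hy : Points.map f y = x) : ∃ y', y' ⤳ y ∧ Points.map f y' = x' := by
  obtain ⟨U, V, a, b, g, hw, ha', hb, -, w⟩ := exists_chart hY hX f
  obtain ⟨u, rfl⟩ := surjective_ofPt ha' y
  have he : Points.map f (Points.ofPt a u) = Points.ofPt b (g.left u) := by
    rw [Points.map_ofPt, w, ofPt_comp]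
  obtain ⟨v', hv', hv'x⟩ := exists_specializes_lift x' (fun V' c _ hc => by
    rw [← hp]; exact finite_fibre_of_repWith hc p hq) hb (u := g.left u) (by rw [← he, hy]; exact h)
  have : Flat g.left := hf a b g hw hb w
  obtain ⟨u', hu', hgu'⟩ := Flat.generalizingMap g.left hv'
  exact ⟨Points.ofPt a u', hu'.map (Points.continuous_ofPt a), by
    rw [Points.map_ofPt, w, ofPt_comp, hgu', hv'x]⟩

/-- Locally quasi-finite morphisms out of quasi-compact schemes have finite fibres. -/
theorem finite_fibre_of_compactSpace {A B : Scheme.{u}} (f : A ⟶ B) [LocallyQuasiFinite f] [CompactSpace ↥A]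
    (b : ↥B) : (f ⁻¹' {b}).Finite := by
  have : Subsingleton ↥(Spec (B.residueField b)) := inferInstanceAs (Subsingleton (PrimeSpectrum _))
  have : QuasiCompact (B.fromSpecResidueField b) := quasiCompact_of_subsingleton _
  have : QuasiCompact (f.fiberι b) := MorphismProperty.pullback_fst _ _ ‹_›
  have : CompactSpace ↥(f.fiber b) := QuasiCompact.compactSpace_of_compactSpace (f.fiberι b)
  rw [← f.range_fiberι b, ← Set.image_univ]
  exact (Set.finite_univ_iff.2 finite_of_compact_of_discrete).image _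

theorem finite_fibre_of_cover (x : Points X) {ι : Type u} {U : ι → Over S} (φ : ∀ i, (yon S).obj (U i) ⟶ X)
    (hφ : ∀ i, RepWith @Etale (φ i)) (hsurj : ∀ y, ∃ (i : ι) (v : ↥(U i).left), Points.ofPt (φ i) v = y)
    (hfin : ∀ i, (Points.ofPt (φ i) ⁻¹' {x}).Finite) {V : Over S} [CompactSpace ↥V.left]
    (ψ : (yon S).obj V ⟶ X) (hψ : RepWith @Etale ψ) : (Points.ofPt ψ ⁻¹' {x}).Finite := by
  have key : ∀ v : ↥V.left, ∃ O : Set ↥V.left, IsOpen O ∧ v ∈ O ∧ (O ∩ Points.ofPt ψ ⁻¹' {x}).Finite := by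
    intro v
    obtain ⟨i, u, hu⟩ := hsurj (Points.ofPt ψ v)
    have sq := (hφ i).rep.isPullback' ψ
    obtain ⟨w, -, hw⟩ := exists_ofPt_of_eq sq hu
    obtain ⟨A, hA, hwA, -⟩ := exists_isAffineOpen_mem_and_subset
      (U := (⊤ : ((hφ i).rep.pullback ψ).left.Opens)) (x := w) trivial
    have : Etale ((hφ i).rep.snd ψ).left := (hφ i).property_snd ψ
    have : Etale ((hφ i).rep.fst' ψ).left := hψ.property _ _ _ sq.flip
    refine ⟨((hφ i).rep.snd ψ).left '' A, ((hφ i).rep.snd ψ).left.isOpenMap _ A.2, ⟨w, hwA, hw⟩, ?_⟩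
    have : CompactSpace ↥A.toScheme := isCompact_iff_compactSpace.1 hA.isCompact
    let g := A.ι ≫ ((hφ i).rep.fst' ψ).left
    have : LocallyQuasiFinite g := AlgSpLib.locallyQuasiFinite_of_formallyUnramified g
    have hF : (g ⁻¹' (Points.ofPt (φ i) ⁻¹' {x})).Finite :=
      (hfin i).preimage' fun b _ => finite_fibre_of_compactSpace g b
    refine (hF.image (A.ι ≫ ((hφ i).rep.snd ψ).left)).subset ?_
    rintro _ ⟨⟨r, hr, rfl⟩, hrx⟩
    refine ⟨⟨r, hr⟩, ?_, rfl⟩
    change Points.ofPt (φ i) (((hφ i).rep.fst' ψ).left r) = x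
    rw [← ofPt_comp, sq.w, ofPt_comp]
    exact hrx
  choose O hO hvO hOfin using key
  obtain ⟨t, ht⟩ := isCompact_univ.elim_finite_subcover O hO fun v _ => Set.mem_iUnion.2 ⟨v, hvO v⟩
  refine (t.finite_toSet.biUnion fun v _ => hOfin v).subset fun v hv => ?_
  obtain ⟨v', hv', hvv'⟩ := Set.mem_iUnion₂.1 (ht (Set.mem_univ v))
  exact Set.mem_iUnion₂.2 ⟨v', hv', hvv', hv⟩

/-- The criterion for quasi-compact representatives through finiteness of fibres. -/
theorem exists_rep_of_finite (hA : IsAlgSpace X) (x : Points X)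
    (h : ∀ (U : Over S) (φ : (yon S).obj U ⟶ X), IsAffine U.left → RepWith @Etale φ →
      ∀ (R : Over S) (s t : R ⟶ U), IsPullback ((yon S).map t) ((yon S).map s) φ φ →
        (Points.ofPt ((yon S).map t ≫ φ) ⁻¹' {x}).Finite) :
    ∃ p : FieldPt X, Points.mk p = x ∧ Mono p.toHom ∧ RepWith @QuasiCompact p.toHom := by
  obtain ⟨V, c, hc, hc'⟩ := hA.atlas
  obtain ⟨v, hv⟩ := surjective_ofPt hc' x
  let q := FieldPt.ofPt c v
  suffices hq : RepWith @QuasiCompact q.toHom by
    obtain ⟨p, hp, hm, hpq⟩ := exists_mono_rep hA q hq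
    exact ⟨p, hp.trans hv, hm, hpq⟩
  have : MorphismProperty.IsLocalAtTarget (@QuasiCompact : MorphismProperty Scheme.{u}) Scheme.fppfPrecoverage :=
    isLocalAtTarget_fppf _
  have := isLocallySurjective_of_etale_surjective hc hc'
  have hr : Representable q.toHom := representable_from_yon' hA _
  refine repWith_of_locallySurjective hr c (hr.isPullback c) _ ((repWith_yon_map_iff _ _).2 ?_)
  let G := hr.pullback c
  let gq : G ⟶ q.pt := hr.fst' c
  let gV : G ⟶ V := hr.snd c
  have sqG : IsPullback ((yon S).map gq) ((yon S).map gV) q.toHom c := hr.isPullback' c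
  refine ⟨fun W hW hWc => ?_⟩
  suffices hfin : ∀ B : V.left.Opens, IsAffineOpen B → (gV.left ⁻¹' (B : Set ↥V.left)).Finite by
    choose B hB hvB _ using fun x : ↥V.left =>
      exists_isAffineOpen_mem_and_subset (U := (⊤ : V.left.Opens)) (x := x) trivial
    obtain ⟨t, ht⟩ := hWc.elim_finite_subcover (fun x => (B x : Set ↥V.left)) (fun x => (B x).2)
      fun x _ => Set.mem_iUnion.2 ⟨x, hvB x⟩
    refine ((t.finite_toSet.biUnion fun x _ => hfin (B x) (hB x)).subset fun g hg => ?_).isCompact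
    obtain ⟨x, hx, hgx⟩ := Set.mem_iUnion₂.1 (ht hg)
    exact Set.mem_iUnion₂.2 ⟨x, hx, hgx⟩
  intro B hB
  -- an affine scheme containing `v` and `B`
  obtain ⟨A, hA', hvA, -⟩ := exists_isAffineOpen_mem_and_subset (U := (⊤ : V.left.Opens)) (x := v) trivial
  let U : Over S := Over.mk (coprod.desc (A.ι ≫ V.hom) (B.ι ≫ V.hom))
  let j : U ⟶ V := Over.homMk (coprod.desc A.ι B.ι) (by
    change coprod.desc A.ι B.ι ≫ V.hom = coprod.desc (A.ι ≫ V.hom) (B.ι ≫ V.hom)
    exact coprod.hom_ext (by simp) (by simp))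
  have : IsAffine A.toScheme := hA'
  have : IsAffine B.toScheme := hB
  have hUa : IsAffine U.left := inferInstanceAs (IsAffine (A.toScheme ⨿ B.toScheme))
  have hjE : Etale j.left := by
    change Etale (coprod.desc A.ι B.ι)
    refine IsZariskiLocalAtSource.of_openCover (coprodOpenCover.{u, u} A.toScheme B.toScheme) fun i => ?_
    rcases i with i | i
    · change Etale (coprod.inl ≫ coprod.desc A.ι B.ι); rw [coprod.inl_desc]; infer_instance
    · change Etale (coprod.inr ≫ coprod.desc A.ι B.ι); rw [coprod.inr_desc]; infer_instance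
  have hφ : RepWith @Etale ((yon S).map j ≫ c) := repWith_comp ((repWith_yon_map_iff _ j).2 hjE) hc
  let R := hφ.rep.pullback ((yon S).map j ≫ c)
  let tR : R ⟶ U := hφ.rep.fst' ((yon S).map j ≫ c)
  let sR : R ⟶ U := hφ.rep.snd ((yon S).map j ≫ c)
  have sqR : IsPullback ((yon S).map tR) ((yon S).map sR) ((yon S).map j ≫ c) ((yon S).map j ≫ c) :=
    hφ.rep.isPullback' _
  have hfinR := h U _ hUa hφ R sR tR sqR
  -- the part of `G` over `B` injects
  let fv : Spec (V.left.residueField v) ⟶ V.left := V.left.fromSpecResidueField v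
  have hfv : Set.range fv ⊆ Set.range A.ι := by
    rw [Scheme.range_fromSpecResidueField, Scheme.Opens.range_ι]; simpa using hvA
  let iA : q.pt ⟶ U := CategoryTheory.Over.homMk (IsOpenImmersion.lift A.ι fv hfv ≫ coprod.inl) (by
      change (_ ≫ coprod.inl) ≫ coprod.desc (A.ι ≫ V.hom) (B.ι ≫ V.hom) = _
      rw [Category.assoc, coprod.inl_desc, ← Category.assoc, IsOpenImmersion.lift_fac]
      rfl)
  have hiA : iA ≫ j = (CategoryTheory.Over.homMk (V.left.fromSpecResidueField v) rfl : q.pt ⟶ V) := Over.OverMorphism.ext (by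
    change (IsOpenImmersion.lift A.ι fv hfv ≫ coprod.inl) ≫ coprod.desc A.ι B.ι = _
    rw [Category.assoc, coprod.inl_desc, IsOpenImmersion.lift_fac]
    rfl)
  let O := gV.left ⁻¹ᵁ B
  let G₀ : Over S := Over.mk (O.ι ≫ G.hom)
  let i₀ : G₀ ⟶ G := Over.homMk O.ι rfl
  let iB : G₀ ⟶ U := Over.homMk ((gV.left ∣_ B) ≫ coprod.inr) (by
    change (_ ≫ coprod.inr) ≫ coprod.desc (A.ι ≫ V.hom) (B.ι ≫ V.hom) = O.ι ≫ G.hom
    rw [Category.assoc, coprod.inr_desc, morphismRestrict_ι_assoc, CategoryTheory.Over.w])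
  have hiB : iB ≫ j = i₀ ≫ gV := Over.OverMorphism.ext (by
    change (_ ≫ coprod.inr) ≫ coprod.desc A.ι B.ι = O.ι ≫ gV.left
    rw [Category.assoc, coprod.inr_desc, morphismRestrict_ι])
  obtain ⟨k, hk⟩ := (yon S).map_surjective (sqR.lift ((yon S).map (i₀ ≫ gq ≫ iA)) ((yon S).map iB) (by
    rw [← Functor.map_comp_assoc, ← Functor.map_comp_assoc, hiB, Category.assoc, Category.assoc, hiA,
      (yon S).map_comp i₀, (yon S).map_comp i₀, (yon S).map_comp gq, Category.assoc, Category.assoc, Category.assoc,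
      ← FieldPt.toHom_ofPt c v]
    exact congrArg ((yon S).map i₀ ≫ ·) sqG.w))
  have hk₁ : k ≫ tR = i₀ ≫ gq ≫ iA := (yon S).map_injective (by rw [Functor.map_comp, hk, sqR.lift_fst])
  have hk₂ : k ≫ sR = iB := (yon S).map_injective (by rw [Functor.map_comp, hk, sqR.lift_snd])
  -- `k` is a monomorphism, hence injective
  have hiAmono : Mono iA := by
    refine (Over.forget S).mono_of_mono_map ?_
    have : Mono (iA.left ≫ j.left) := by
      rw [← Over.comp_left, hiA]
      exact inferInstanceAs (Mono (V.left.fromSpecResidueField v))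
    exact mono_of_mono iA.left j.left
  have hkmono : Mono k := ⟨fun {Z} y z h => by
    have : Mono i₀ := (Over.forget S).mono_of_mono_map (inferInstanceAs (Mono O.ι))
    rw [← cancel_mono i₀]
    apply (yon S).map_injective
    refine sqG.hom_ext ?_ ?_
    · rw [← Functor.map_comp, ← Functor.map_comp]
      congr 1
      rw [← cancel_mono iA, Category.assoc, Category.assoc, Category.assoc, Category.assoc, ← hk₁, reassoc_of% h]
    · rw [← Functor.map_comp, ← Functor.map_comp]
      congr 1
      rw [Category.assoc, Category.assoc, ← hiB, ← hk₂]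
      simp only [← Category.assoc, h]⟩
  have : Mono k.left := inferInstanceAs (Mono ((Over.forget S).map k))
  have hfinO : Finite ↥O.toScheme := Set.finite_univ_iff.1 <| (hfinR.preimage k.left.injective.injOn).subset fun g _ => by
    change Points.ofPt ((yon S).map tR ≫ (yon S).map j ≫ c) (k.left g) = x
    have e1 : (k ≫ tR ≫ j) = (i₀ ≫ gq) ≫ (CategoryTheory.Over.homMk (V.left.fromSpecResidueField v) rfl : q.pt ⟶ V) := by
      rw [← Category.assoc, hk₁, Category.assoc, Category.assoc, hiA, Category.assoc]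
    rw [← Category.assoc, ← Functor.map_comp, ← ofPt_comp, ← Category.assoc, ← Functor.map_comp, e1, ofPt_comp]
    change Points.ofPt c (V.left.fromSpecResidueField v _) = x
    rw [Scheme.fromSpecResidueField_apply, hv]
  have : (gV.left ⁻¹' (B : Set ↥V.left)) = Set.range O.ι := (Scheme.Opens.range_ι O).symm
  rw [this]
  exact Set.finite_range _

end Groth.Agent.AlgSpDec
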