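import Groth.Agent.AlgSpDec.DecentDense
import Groth.Agent.AlgSpDec.Factor
import Groth.Agent.AlgSpDec.PointsSpectral
import Groth.Agent.AlgSpDec.Glue

/-!
# Decent spaces with finitely many irreducible components
-/

set_option backward.isDefEq.respectTransparency false
set_option backward.isDefEq.respectTransparency.types false

universe u

open CategoryTheory CategoryTheory.Limits AlgebraicGeometry AlgSp Groth.Agent.AlgSpLib Groth.Agent.AlgSpPts TopologicalSpace Topology
open Groth.Agent.EtCount (Lifts)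

namespace Groth.Agent.AlgSpDec

variable {S : Scheme.{u}}

theorem isOpenEmbedding_ofPt {X : Sp S} (hX : IsAlgSpace X) {T : Over S} {j : (yon S).obj T ⟶ X}
    (hj : RepWith @IsOpenImmersion j) : IsOpenEmbedding (Points.ofPt j) := by
  have h : Points.ofPt j = Points.map j ∘ Points.schemeHomeo T :=
    funext fun t => Points.ofPt_eq_map_ofScheme j t
  rw [h]
  exact (isOpenEmbedding_map' hX hj).comp (Points.schemeHomeo T).isOpenEmbedding

/-- Irreducible components of an open subspace are finitely many if the ambient space has finitely many. -/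
theorem finite_components_of_isOpenEmbedding {α β : Type*} [TopologicalSpace α] [TopologicalSpace β]
    {f : α → β} (hf : IsOpenEmbedding f) (h : (irreducibleComponents β).Finite) :
    (irreducibleComponents α).Finite := by
  refine (h.image fun Z => f ⁻¹' Z).subset fun T hT => ?_
  obtain ⟨Z, hZ, hTZ⟩ := exists_preirreducible (f '' T) (hT.1.isPreirreducible.image f hf.continuous.continuousOn)
  obtain ⟨t, ht⟩ := hT.1.nonempty
  have hne : Z.Nonempty := ⟨f t, hTZ.1 ⟨t, ht, rfl⟩⟩
  have hZc : Z ∈ irreducibleComponents β := ⟨⟨hne, hZ⟩, fun W hW hWZ => (hTZ.2 W hW.2 hWZ).le⟩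
  refine ⟨Z, hZc, ?_⟩
  have hsub : T ⊆ f ⁻¹' Z := fun x hx => hTZ.1 ⟨x, hx, rfl⟩
  refine Set.Subset.antisymm (hT.2 ⟨⟨t, hsub ht⟩, hZ.preimage hf⟩ hsub) hsub

/-- A space covered densely by the image of a space with finitely many components has finitely many components. -/
theorem finite_components_of_denseRange {α β : Type*} [TopologicalSpace α] [TopologicalSpace β]
    {f : α → β} (hf : Continuous f) (hd : DenseRange f) (h : (irreducibleComponents α).Finite) :
    (irreducibleComponents β).Finite := by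
  classical
  refine (h.image fun T => closure (f '' T)).subset fun Z hZ => ?_
  have hcov : Z ⊆ ⋃₀ ((fun T => closure (f '' T)) '' irreducibleComponents α) := by
    intro z _
    rw [Set.sUnion_image, ← h.closure_biUnion, ← Set.image_iUnion₂, ← Set.sUnion_eq_biUnion, sUnion_irreducibleComponents, Set.image_univ]
    exact hd z
  obtain ⟨W, hW, hZW⟩ := (isIrreducible_iff_sUnion_isClosed.1 hZ.1) (h.image (fun T => closure (f '' T))).toFinset
    (by intro W hW; rw [Set.Finite.mem_toFinset] at hW; obtain ⟨T, -, rfl⟩ := hW; exact isClosed_closure)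
    (by rw [Set.Finite.coe_toFinset]; exact hcov)
  rw [Set.Finite.mem_toFinset] at hW
  obtain ⟨T, hT, rfl⟩ := hW
  exact ⟨T, hT, le_antisymm (hZ.2 (hT.1.image f hf.continuousOn).closure hZW) hZW⟩

theorem isDecent_of_dense_generic (X : Space S) (G : Set (Points X.obj)) (hG : G.Finite)
    (hd : ∀ O : Set (Points X.obj), IsOpen O → O.Nonempty → ∃ x ∈ G, x ∈ O)
    (hqc : ∀ x ∈ G, ∃ p : FieldPt X.obj, Points.mk p = x ∧ RepWith @QuasiCompact p.toHom) :
    IsDecent X.obj := by
  intro x
  refine exists_rep_of_finite X.property x fun U φ hU hφ R s t sq => ?_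
  have : IsAffine U.left := hU
  let c := (hφ.rep.snd φ).left
  haveI : Etale c := hφ.property_snd φ
  haveI : IsSeparated c := isSeparated_snd_of_isAffine hφ
  let cnt : U.left → ℕ∞ := fun u => ENat.card ↥(MoreMor.geomFiber c u)
  let A : Set U.left := Points.ofPt φ ⁻¹' G
  have hA : A.Finite := by
    have : A ⊆ ⋃ g ∈ G, Points.ofPt φ ⁻¹' {g} := fun u hu => Set.mem_iUnion₂.2 ⟨_, hu, rfl⟩
    refine (hG.biUnion fun g hg => ?_).subset this
    obtain ⟨p, rfl, hp⟩ := hqc g hg
    exact finite_fibre_of_repWith hφ p hp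
  have hAfin : ∀ η ∈ A, cnt η ≠ ⊤ := fun η hη => by
    obtain ⟨p, hp, hqcp⟩ := hqc _ hη
    haveI := finite_geomFiber_of_finite_preimage c (finite_preimage_snd_of_rep hφ η p hp hqcp)
    exact (ENat.card_lt_top.2 this).ne
  have hbound : ∀ u, cnt u ≠ ⊤ := by
    intro u htop
    let N : ℕ := ∑ η ∈ hA.toFinset, (cnt η).toNat
    let O : Set U.left := {v | ((N + 1 : ℕ) : ℕ∞) ≤ cnt v}
    have hO : IsOpen O := EtCount.isOpen_le_card (N + 1) c
    have hne : (Points.ofPt φ '' O).Nonempty := ⟨_, u, show _ ≤ cnt u by rw [htop]; exact le_top, rfl⟩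
    obtain ⟨g, hg, η, hη, rfl⟩ := hd _ (isOpenMap_ofPt hφ O hO) hne
    have h1 : ((cnt η).toNat : ℕ∞) = cnt η := ENat.natCast_toNat (hAfin η hg)
    have h2 : N + 1 ≤ (cnt η).toNat := by
      have : ((N + 1 : ℕ) : ℕ∞) ≤ cnt η := hη
      rw [← h1] at this
      exact_mod_cast this
    have h3 : (cnt η).toNat ≤ N :=
      Finset.single_le_sum (f := fun η => (cnt η).toNat) (fun _ _ => Nat.zero_le _) (hA.mem_toFinset.2 hg)
    omega
  have hpre : ∀ u, (c ⁻¹' {u}).Finite := fun u => by
    haveI : Finite (Lifts c (EtCount.geomPt u)) := by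
      rw [← ENat.card_lt_top, ← EtCount.card_geomFiber]
      exact lt_top_iff_ne_top.2 (hbound u)
    exact (Set.finite_range fun l : Lifts c (EtCount.geomPt u) => l.1 (IsLocalRing.closedPoint _)).subset
      fun z hz => exists_lift_through c hz
  have hFx : (Points.ofPt φ ⁻¹' {x}).Finite := by
    rcases (Points.ofPt φ ⁻¹' {x}).eq_empty_or_nonempty with h | ⟨u₀, h₀⟩
    · simp [h]
    refine ((hpre u₀).image (hφ.rep.fst' φ).left).subset fun u hu => ?_
    obtain ⟨w, hw₁, hw₂⟩ := exists_ofPt_of_eq (hφ.rep.isPullback' φ)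
      ((show Points.ofPt φ u = x from hu).trans (show Points.ofPt φ u₀ = x from h₀).symm)
    exact ⟨w, hw₂, hw₁⟩
  -- compare the given kernel pair with the chosen one
  obtain ⟨e, he⟩ := (yon S).map_surjective (sq.isoIsPullback _ _ (hφ.rep.isPullback' φ).flip).hom
  have het : e ≫ hφ.rep.snd φ = t := (yon S).map_injective (by
    rw [Functor.map_comp, he]; exact IsPullback.isoIsPullback_hom_fst _ _ _ _)
  have : IsIso e.left := by
    haveI : IsIso ((yon S).map e) := by rw [he]; infer_instance
    haveI := isIso_of_fully_faithful (yon S) e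
    exact inferInstanceAs (IsIso ((Over.forget S).map e))
  have hsub : Points.ofPt ((yon S).map t ≫ φ) ⁻¹' {x} ⊆ e.left ⁻¹' (c ⁻¹' (Points.ofPt φ ⁻¹' {x})) := by
    intro r hr
    have : c (e.left r) = t.left r := by
      rw [← Scheme.Hom.comp_apply]
      exact congrArg (fun m => m r) (congrArg CommaMorphism.left het)
    show Points.ofPt φ (c (e.left r)) = x
    rw [this, ← ofPt_comp]
    exact hr
  refine Set.Finite.subset ?_ hsub
  refine (Set.Finite.preimage' hFx fun u _ => hpre u).preimage ?_
  exact e.left.homeomorph.injective.injOn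

theorem isDecent_finite_components_iff (X : Space S) :
    (IsDecent X.obj ∧ (irreducibleComponents (Points X.obj)).Finite) ↔
      ∃ (X' : Over S) (j : (yon S).obj X' ⟶ X.obj), RepWith @IsOpenImmersion j ∧
        Dense (Set.range (Points.ofPt j)) ∧ (irreducibleComponents ↥X'.left).Finite ∧
        ∀ x' : ↥X'.left, (∃ T ∈ irreducibleComponents ↥X'.left, IsGenericPoint x' T) →
          RepWith @QuasiCompact (FieldPt.ofPt j x').toHom := by
  constructor
  · rintro ⟨hX, hfin⟩
    obtain ⟨X', j, hj, hrep, hd⟩ := exists_dense_open_subscheme_of_isDecent X hX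
    obtain ⟨T, ⟨r⟩⟩ := hrep.has_representation
    let e : (yon S).obj T ≅ X'.obj := AlgSp.isoOfRepresentableBy r
    have hj' : RepWith @IsOpenImmersion (e.hom ≫ j.hom) :=
      (MorphismProperty.cancel_left_of_respectsIso (RepWith @IsOpenImmersion) e.hom j.hom).2 hj
    refine ⟨T, e.hom ≫ j.hom, hj', ?_, finite_components_of_isOpenEmbedding (isOpenEmbedding_ofPt X.property hj') hfin,
      fun x' _ => repWith_quasiCompact_toHom X.property hX _⟩
    refine hd.mono ?_
    rintro _ ⟨y, rfl⟩
    refine ⟨Points.toScheme T (Points.map e.inv y), ?_⟩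
    rw [Points.ofPt_eq_map_ofScheme, Points.ofScheme_toScheme, ← Points.map_comp, Iso.inv_hom_id_assoc]
  · rintro ⟨X', j, hj, hd, hfin, hqc⟩
    refine ⟨?_, finite_components_of_denseRange (Points.continuous_ofPt j) hd hfin⟩
    let gen : Set X'.left := {x' | ∃ T ∈ irreducibleComponents ↥X'.left, IsGenericPoint x' T}
    have hgen : gen.Finite := by
      refine Set.Finite.of_finite_image (f := fun z => closure {z}) (hfin.subset ?_) ?_
      · rintro _ ⟨z, ⟨T, hT, hz⟩, rfl⟩
        exact Set.mem_of_eq_of_mem hz.def hT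
      · intro a _ b _ h
        exact (specializes_iff_closure_subset.2 h.ge).antisymm (specializes_iff_closure_subset.2 h.le) |>.eq
    refine isDecent_of_dense_generic X (Points.ofPt j '' gen) (hgen.image _) (fun O hO hne => ?_) ?_
    · obtain ⟨_, hyO, ⟨y, rfl⟩⟩ := dense_iff_inter_open.1 hd O hO hne
      have hT : irreducibleComponent y ∈ irreducibleComponents ↥X'.left := irreducibleComponent_mem_irreducibleComponents y
      obtain ⟨η, hη⟩ := QuasiSober.sober hT.1 (isClosed_of_mem_irreducibleComponents _ hT)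
      have hs : η ⤳ y := hη.specializes mem_irreducibleComponent
      exact ⟨_, ⟨η, ⟨_, hT, hη⟩, rfl⟩, (hs.map (Points.continuous_ofPt j)).mem_open hO hyO⟩
    · rintro _ ⟨x', hx', rfl⟩
      exact ⟨FieldPt.ofPt j x', rfl, hqc x' hx'⟩

end Groth.Agent.AlgSpDec
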