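import Groth.Agent.AlgSpDec.FibreDimEtale
import Groth.Agent.AlgSpDec.BaseChangeCharts
import Groth.Agent.AlgSpPts.Dim
import Groth.Agent.S0402
import Groth.Prelude.Def_AlgSpDec

/-!
The relative dimension at a point of a morphism of algebraic spaces.
-/

set_option backward.isDefEq.respectTransparency false
set_option backward.isDefEq.respectTransparency.types false

universe u

open CategoryTheory CategoryTheory.Limits AlgebraicGeometry AlgSp Groth.Agent.AlgSpLib Groth.Agent.AlgSpPts

namespace Groth.Agent.AlgSpDec.RelDimSp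

variable {S : Scheme.{u}} {F G : Sp S} {f : F ⟶ G}

/-- The fibre dimension of a chart diagram at a point depends only on the point of the space. -/
theorem fibreDimAt_congr (hf : LocP @LocallyOfFiniteType f) {U V U' V' : Over S}
    {a : (yon S).obj U ⟶ F} {b : (yon S).obj V ⟶ G} {h : U ⟶ V} {u : ↥U.left}
    {a' : (yon S).obj U' ⟶ F} {b' : (yon S).obj V' ⟶ G} {h' : U' ⟶ V'} {u' : ↥U'.left}
    (ha : RepWith @Etale a) (hb : RepWith @Etale b) (w : a ≫ f = (yon S).map h ≫ b)
    (ha' : RepWith @Etale a') (hb' : RepWith @Etale b') (w' : a' ≫ f = (yon S).map h' ≫ b')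
    (he : Points.ofPt a u = Points.ofPt a' u') :
    FlatMor.fibreDimAt h.left u = FlatMor.fibreDimAt h'.left u' := by
  have : LocallyOfFiniteType h.left := hf a b h ha hb w
  have : LocallyOfFiniteType h'.left := hf a' b' h' ha' hb' w'
  let pa : ha.rep.pullback a' ⟶ U := ha.rep.fst' a'
  let pa' : ha.rep.pullback a' ⟶ U' := ha.rep.snd a'
  let wb : hb.rep.pullback b' ⟶ V := hb.rep.fst' b'
  let wb' : hb.rep.pullback b' ⟶ V' := hb.rep.snd b'
  have sqA := ha.rep.isPullback' a'
  have sqB := hb.rep.isPullback' b'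
  obtain ⟨z, hz, hz'⟩ := exists_ofPt_of_eq sqA he
  haveI : Etale pa'.left := ha.property_snd a'
  haveI : Etale pa.left := ha'.property _ _ _ sqA.flip
  haveI : Etale wb'.left := hb.property_snd b'
  haveI : Etale wb.left := hb'.property _ _ _ sqB.flip
  have hc : (yon S).map (pa ≫ h) ≫ b = (yon S).map (pa' ≫ h') ≫ b' := by
    rw [(yon S).map_comp pa h, (yon S).map_comp pa' h', Category.assoc, Category.assoc, ← w, ← w',
      ← Category.assoc, sqA.w, Category.assoc]
  obtain ⟨k, hk⟩ := (yon S).map_surjective (sqB.lift _ _ hc)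
  have hk₁ : k ≫ wb = pa ≫ h := (yon S).map_injective (by
    rw [(yon S).map_comp k wb, hk]; exact sqB.lift_fst _ _ _)
  have hk₂ : k ≫ wb' = pa' ≫ h' := (yon S).map_injective (by
    rw [(yon S).map_comp k wb', hk]; exact sqB.lift_snd _ _ _)
  haveI : LocallyOfFiniteType k.left := by
    haveI : LocallyOfFiniteType (k.left ≫ wb.left) := by
      rw [← Over.comp_left, hk₁, Over.comp_left]; infer_instance
    exact locallyOfFiniteType_of_comp k.left wb.left
  rw [← hz, ← hz', ← fibreDimAt_etale_comp pa.left h.left z, ← fibreDimAt_etale_comp pa'.left h'.left z,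
    ← Over.comp_left, ← Over.comp_left, ← hk₁, ← hk₂, Over.comp_left, Over.comp_left,
    fibreDimAt_comp_etale, fibreDimAt_comp_etale]

theorem isOpen_le (hf : LocP @LocallyOfFiniteType f) (n : ℕ) :
    IsOpen {x : Points F |
      HasAtMor (fun _ _ h u => FlatMor.fibreDimAt h u ≤ (n : WithBot ℕ∞)) f x} := by
  rw [isOpen_iff_forall_mem_open]
  rintro x ⟨U, V, a, b, h, u, ha, hb, w, hx, hu⟩
  haveI : LocallyOfFiniteType h.left := hf a b h ha hb w
  refine ⟨Points.ofPt a '' {u' | FlatMor.fibreDimAt h.left u' ≤ n}, ?_,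
    isOpenMap_ofPt ha _ (Groth.Agent.S0402.result h.left n), u, hu, hx⟩
  rintro _ ⟨u', hu', rfl⟩
  exact ⟨U, V, a, b, h, u', ha, hb, w, rfl, hu'⟩

theorem lqf_iff (hF : IsAlgSpace F) (hG : IsAlgSpace G) (hf : LocP @LocallyOfFiniteType f) :
    LocP (@LocallyQuasiFinite ⊓ @LocallyOfFiniteType) f ↔
      ∀ x : Points F, HasAtMor (fun _ _ h u => FlatMor.fibreDimAt h u = 0) f x := by
  constructor
  · intro hq x
    obtain ⟨U, V, a, b, h, ha, ha', hb, -, w⟩ := exists_chart hF hG f
    obtain ⟨u, rfl⟩ := surjective_ofPt ha' x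
    haveI : LocallyOfFiniteType h.left := hf a b h ha hb w
    haveI : LocallyQuasiFinite h.left := (hq a b h ha hb w).1
    exact ⟨U, V, a, b, h, u, ha, hb, w, rfl, fibreDimAt_eq_zero_of_lqf h.left u⟩
  · intro H U V a b h ha hb w
    haveI : LocallyOfFiniteType h.left := hf a b h ha hb w
    refine ⟨(lqf_iff_fibreDimAt h.left).2 fun u => ?_, inferInstance⟩
    obtain ⟨U', V', a', b', h', u', ha', hb', w', hx, hu⟩ := H (Points.ofPt a u)
    rw [fibreDimAt_congr hf ha hb w ha' hb' w' hx.symm, hu]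

theorem baseChange {F' G' : Sp S} {g : G' ⟶ G} {fst : F' ⟶ F} {snd : F' ⟶ G'}
    (sq : IsPullback fst snd f g) (hF : IsAlgSpace F) (hG : IsAlgSpace G) (hG' : IsAlgSpace G')
    (hf : LocP @LocallyOfFiniteType f) (x' : Points F') (d : WithBot ℕ∞)
    (hd : HasAtMor (fun _ _ h u => FlatMor.fibreDimAt h u = d) f (Points.map fst x')) :
    HasAtMor (fun _ _ h u => FlatMor.fibreDimAt h u = d) snd x' := by
  obtain ⟨U, V, W, a, b, c, h, h₁, a', ha, hb, hc, w, ha', hs', w', w''⟩ :=
    exists_baseChange_charts sq hF hG hG'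
  obtain ⟨z, rfl⟩ := surjective_ofPt hs' x'
  obtain ⟨U₀, V₀, a₀, b₀, h₀, u₀, ha₀, hb₀, w₀, hx, hu⟩ := hd
  refine ⟨_, W, a', c, pullback.snd h h₁, z, ha', hc, w', rfl, ?_⟩
  have hx' : Points.ofPt a ((pullback.fst h h₁).left z) = Points.ofPt a₀ u₀ := by
    rw [hx, Points.map_ofPt, w'', ofPt_comp]
  rw [← hu, ← fibreDimAt_congr hf ha hb w ha₀ hb₀ w₀ hx']
  haveI hl : LocallyOfFiniteType h.left := hf a b h ha hb w
  haveI : LocallyOfFiniteType ((Over.forget S).map h) := hl
  have sq' := (IsPullback.of_hasPullback h h₁).map (Over.forget S)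
  haveI : LocallyOfFiniteType ((Over.forget S).map (pullback.snd h h₁)) :=
    MorphismProperty.of_isPullback (P := @LocallyOfFiniteType) sq' hl
  exact FibDim.fibreDimAt_baseChange sq' z

end Groth.Agent.AlgSpDec.RelDimSp
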