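import Groth.Prelude.Def_Dual3
import Groth.Agent.AlgSpDec.RelDimSp
import Groth.Agent.VarDim.Fibre
import Groth.Agent.CycLib.Finite
import Groth.Agent.FibDim.AffineSpaceFibre

/-!
# The transcendence degree of a point over its image, on charts
-/

set_option backward.isDefEq.respectTransparency false
set_option backward.isDefEq.respectTransparency.types false

universe u

open CategoryTheory CategoryTheory.Limits AlgebraicGeometry AlgSp Groth.Agent.AlgSpLib Groth.Agent.AlgSpPts

namespace Groth.Agent.AlgSpDec.ResTrdeg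

theorem rdeg_eq_zero_of_lqf {X Y : Scheme.{u}} (f : X ⟶ Y) [LocallyOfFiniteType f] [LocallyQuasiFinite f]
    (x : X) : VarDim.rdeg f x = 0 := by
  have h := CycLib.finite_residueFieldMap_of_rd_eq_zero f x (FibDim.rd_eq_zero_of_quasiFinite f x)
  letI := (f.residueFieldMap x).hom.toAlgebra
  have : Module.Finite (Y.residueField (f x)) (X.residueField x) := h
  exact trdeg_eq_zero

variable {S : Scheme.{u}} {F G : Sp S} {f : F ⟶ G}

/-- The transcendence degree of a chart diagram at a point depends only on the point of the space. -/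
theorem rdeg_congr {U V U' V' : Over S}
    {a : (yon S).obj U ⟶ F} {b : (yon S).obj V ⟶ G} {h : U ⟶ V} {u : ↥U.left}
    {a' : (yon S).obj U' ⟶ F} {b' : (yon S).obj V' ⟶ G} {h' : U' ⟶ V'} {u' : ↥U'.left}
    (ha : RepWith @Etale a) (hb : RepWith @Etale b) (w : a ≫ f = (yon S).map h ≫ b)
    (ha' : RepWith @Etale a') (hb' : RepWith @Etale b') (w' : a' ≫ f = (yon S).map h' ≫ b')
    (he : Points.ofPt a u = Points.ofPt a' u') :
    VarDim.rdeg h.left u = VarDim.rdeg h'.left u' := by
  let pa : ha.rep.pullback a' ⟶ U := ha.rep.fst' a'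
  let pa' : ha.rep.pullback a' ⟶ U' := ha.rep.snd a'
  let wb : hb.rep.pullback b' ⟶ V := hb.rep.fst' b'
  let wb' : hb.rep.pullback b' ⟶ V' := hb.rep.snd b'
  have sqA := ha.rep.isPullback' a'
  have sqB := hb.rep.isPullback' b'
  obtain ⟨z, hz, hz'⟩ := exists_ofPt_of_eq sqA he
  haveI : Etale pa'.left := ha.property_snd a'
  haveI : Etale pa.left := ha'.property _ _ _ sqA.flip
  haveI : Etale wb'.left := hb.property_snd b'
  haveI : Etale wb.left := hb'.property _ _ _ sqB.flip
  have hc : (yon S).map (pa ≫ h) ≫ b = (yon S).map (pa' ≫ h') ≫ b' := by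
    rw [(yon S).map_comp pa h, (yon S).map_comp pa' h', Category.assoc, Category.assoc, ← w, ← w',
      ← Category.assoc, sqA.w, Category.assoc]
  obtain ⟨k, hk⟩ := (yon S).map_surjective (sqB.lift _ _ hc)
  have hk₁ : k.left ≫ wb.left = pa.left ≫ h.left := by
    rw [← Over.comp_left, ← Over.comp_left]
    exact congrArg CommaMorphism.left ((yon S).map_injective (a₁ := k ≫ wb) (a₂ := pa ≫ h) (by
      rw [(yon S).map_comp k wb, hk]; exact sqB.lift_fst _ _ _))
  have hk₂ : k.left ≫ wb'.left = pa'.left ≫ h'.left := by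
    rw [← Over.comp_left, ← Over.comp_left]
    exact congrArg CommaMorphism.left ((yon S).map_injective (a₁ := k ≫ wb') (a₂ := pa' ≫ h') (by
      rw [(yon S).map_comp k wb', hk]; exact sqB.lift_snd _ _ _))
  have h₁ := VarDim.rdeg_congr hk₁ z
  have h₂ := VarDim.rdeg_congr hk₂ z
  rw [VarDim.rdeg_comp, VarDim.rdeg_comp, rdeg_eq_zero_of_lqf wb.left, rdeg_eq_zero_of_lqf pa.left, zero_add,
    add_zero] at h₁
  rw [VarDim.rdeg_comp, VarDim.rdeg_comp, rdeg_eq_zero_of_lqf wb'.left, rdeg_eq_zero_of_lqf pa'.left, zero_add,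
    add_zero] at h₂
  rw [← hz, ← hz', ← h₁, ← h₂]

theorem hasAtMor_iff {U V : Over S} {a : (yon S).obj U ⟶ F} {b : (yon S).obj V ⟶ G} {h : U ⟶ V}
    (ha : RepWith @Etale a) (hb : RepWith @Etale b) (w : a ≫ f = (yon S).map h ≫ b) (u : ↥U.left)
    (r : Cardinal.{u}) :
    HasAtMor (fun _ _ h u => Dual3.resTrdeg h u = r) f (Points.ofPt a u) ↔ VarDim.rdeg h.left u = r := by
  refine ⟨?_, fun hr => ⟨U, V, a, b, h, u, ha, hb, w, rfl, hr⟩⟩
  rintro ⟨U', V', a', b', h', u', ha', hb', w', hx, hr⟩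
  rw [rdeg_congr ha hb w ha' hb' w' hx.symm]
  exact hr

end Groth.Agent.AlgSpDec.ResTrdeg
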