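import Groth.Agent.AlgSpDec.Fibres
import Groth.Agent.AlgSpDec.ResTrdeg
import Groth.Agent.DimFormula.Scheme
import Groth.Agent.DimFormula.Stalk
import Groth.Agent.H23.SetupLFT
import Groth.Agent.S9128
import Groth.Agent.AlgSpDec.DecentGeneric
import Groth.Prelude.Def_W4stk3decentspacesp2Birat

/-!
# Decent spaces locally of finite type over universally catenary schemes are catenary
-/

set_option backward.isDefEq.respectTransparency false
set_option backward.isDefEq.respectTransparency.types false
set_option linter.style.haveILetI false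

universe u

open CategoryTheory CategoryTheory.Limits AlgebraicGeometry AlgSp Groth.Agent.AlgSpLib Groth.Agent.AlgSpPts Topology TopologicalSpace

namespace Groth.Agent.AlgSpDec.Catenary

theorem lt_of_specializes {X : Scheme.{u}} {x y : X} (h : y ⤳ x) (hne : x ≠ y) : x < y :=
  lt_of_le_not_ge (α := X) h fun h' => hne (DimFormula.eq_of_specializes_of_specializes h' h)

/-- Along an immediate generalisation the codimension in the closure grows by one. -/
theorem cd_covBy {X : Scheme.{u}} [IsLocallyNoetherian X] {v a b : X}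
    (hv : CAlg.IsCatenary (X.presheaf.stalk v)) (hav : a ⤳ v) (hbv : b ⤳ v) (h : b ⋖ a) :
    DimFormula.cd a v = DimFormula.cd b v + 1 := by
  let R : Type u := X.presheaf.stalk v
  let c : PrimeSpectrum R → X := X.fromSpecStalk v
  have hc : IsEmbedding c := (X.fromSpecStalk v).isEmbedding
  obtain ⟨(p : PrimeSpectrum R), rfl⟩ := DimFormula.fromSpecStalk_range_of_specializes hav
  obtain ⟨(q : PrimeSpectrum R), rfl⟩ := DimFormula.fromSpecStalk_range_of_specializes hbv
  have hsp : ∀ p q : PrimeSpectrum R, c p ⤳ c q ↔ p ≤ q := fun p q =>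
    hc.isInducing.specializes_iff.trans (PrimeSpectrum.le_iff_specializes p q).symm
  have hlt : p < q := lt_of_le_of_ne ((hsp p q).1 h.lt.le) fun e => h.ne (congrArg c e).symm
  have hcov : p ⋖ q := ⟨hlt, fun r hr1 hr2 => h.2
    (lt_of_specializes ((hsp r q).2 hr2.le) fun e => hr2.ne (hc.injective e).symm)
    (lt_of_specializes ((hsp p r).2 hr1.le) fun e => hr1.ne (hc.injective e).symm)⟩
  have key := ((Groth.Agent.S9128.result (X.presheaf.stalk v)).1 hv p q hlt).2 hcov
  rw [DimFormula.ringKrullDim_stalk_quotient, DimFormula.ringKrullDim_stalk_quotient] at key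
  exact_mod_cast key

theorem cd_saturated {X : Scheme.{u}} [IsLocallyNoetherian X] {v : X}
    (hv : CAlg.IsCatenary (X.presheaf.stalk v)) (m : LTSeries X) (h0 : m.head = v)
    (hm : ∀ i : Fin m.length, m i.castSucc ⋖ m i.succ) : DimFormula.cd m.last v = m.length := by
  have hle : ∀ i, m i ⤳ v := fun i => h0 ▸ (LTSeries.head_le m i : m.head ≤ m i)
  have key : ∀ i : Fin (m.length + 1), DimFormula.cd (m i) v = i.1 := fun i => by
    induction i using Fin.induction with
    | zero => rw [← h0]; exact DimFormula.cd_self _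
    | succ i ih => rw [cd_covBy hv (hle _) (hle _) (hm i), ih]; rfl
  exact key (Fin.last _)

section Lift

variable {S : Scheme.{u}}

attribute [local instance] specializationOrder

/-- Series of generalisations in a decent space lift to etale charts. -/
theorem exists_series_lift {X : Space S} [T0Space (Points X.obj)] (hX : IsDecent X.obj) {U : Over S}
    {a : (yon S).obj U ⟶ X.obj} (ha : RepWith @Etale a) (l : LTSeries (Points X.obj)) (v : ↥U.left)
    (hv : Points.ofPt a v = l.head) :
    ∃ m : LTSeries ↥U.left, m.head = v ∧ Points.ofPt a m.last = l.last ∧ m.length = l.length ∧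
      ((∀ i : Fin l.length, l i.castSucc ⋖ l i.succ) → ∀ i : Fin m.length, m i.castSucc ⋖ m i.succ) := by
  have hstep : ∀ (i : Fin l.length) (u : ↥U.left), Points.ofPt a u = l i.castSucc →
      ∃ u', u' ⤳ u ∧ Points.ofPt a u' = l i.succ := fun i u hu =>
    exists_specializes_lift_of_isDecent hX ha (hu ▸ ((l.step i).le : l.toFun i.castSucc ≤ l.toFun i.succ))
  choose nxt hn1 hn2 using hstep
  let F : ∀ i : Fin (l.length + 1), {u : ↥U.left // Points.ofPt a u = l i} := fun i =>
    Fin.induction (motive := fun i => {u : ↥U.left // Points.ofPt a u = l i}) ⟨v, hv⟩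
      (fun i prev => ⟨nxt i prev.1 prev.2, hn2 i prev.1 prev.2⟩) i
  have hF : ∀ i : Fin l.length, (F i.succ).1 ⤳ (F i.castSucc).1 := fun i => by
    show (Fin.induction (motive := fun i => {u : ↥U.left // Points.ofPt a u = l i}) ⟨v, hv⟩
      (fun i prev => ⟨nxt i prev.1 prev.2, hn2 i prev.1 prev.2⟩) i.succ).1 ⤳ _
    rw [Fin.induction_succ]
    exact hn1 _ _ _
  have hlt : ∀ i : Fin l.length, (F i.castSucc).1 < (F i.succ).1 := fun i =>
    lt_of_specializes (hF i) fun e => (l.step i : l.toFun i.castSucc < l.toFun i.succ).ne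
      (((F i.castSucc).2.symm.trans (congrArg (Points.ofPt a) e)).trans (F i.succ).2)
  refine ⟨⟨l.length, fun i => (F i).1, hlt⟩, rfl, (F (Fin.last _)).2, rfl, fun hsat i => ?_⟩
  refine ⟨hlt i, fun w hw1 hw2 => ?_⟩
  have h1 : Points.ofPt a w ⤳ l i.castSucc := (F i.castSucc).2 ▸ Specializes.map hw1.le (Points.continuous_ofPt a)
  have h2 : l i.succ ⤳ Points.ofPt a w := (F i.succ).2 ▸ Specializes.map hw2.le (Points.continuous_ofPt a)
  rcases (hsat i).wcovBy.eq_or_eq (c := Points.ofPt a w) h1 h2 with e | e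
  · exact hw1.ne (eq_of_specializes_of_isDecent hX ha ((F i.castSucc).2.trans e.symm) hw1.le)
  · exact hw2.ne (eq_of_specializes_of_isDecent hX ha (e.trans (F i.succ).2.symm) hw2.le)

end Lift

theorem isCatenarySpace {S : Scheme.{u}} [IsLocallyNoetherian S]
    (hS : ∀ s : ↥S, CAlg.IsUniversallyCatenary ↥(S.presheaf.stalk s)) (X : Space S) (hX : IsDecent X.obj)
    (p : X.obj ⟶ (yon S).obj (Over.mk (𝟙 S))) (hp : LocP @LocallyOfFiniteType p) :
    W4stk3decentspacesp2.IsCatenarySpace (Points X.obj) := by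
  haveI := quasiSober_points X.property hX
  haveI := t0Space_points X.property hX
  letI : PartialOrder (Points X.obj) := specializationOrder _
  let e : IrreducibleCloseds (Points X.obj) ≃o Points X.obj := irreducibleSetEquivPoints
  intro T T' hTT'
  obtain ⟨U, a, v, -, ha, hv⟩ := exists_affine_chart_at X.property (e T)
  obtain ⟨h, hh⟩ := (yon S).map_surjective (a ≫ p)
  have w : a ≫ p = (yon S).map h ≫ 𝟙 _ := by rw [Category.comp_id, hh]
  have hid : RepWith @Etale (𝟙 ((yon S).obj (Over.mk (𝟙 S)))) := AlgSp.repWith_id _ _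
  haveI : IsLocallyNoetherian (Over.mk (𝟙 S)).left := ‹IsLocallyNoetherian S›
  haveI : LocallyOfFiniteType h.left := hp a (𝟙 _) h ha hid w
  haveI := LocallyOfFiniteType.isLocallyNoetherian h.left
  have hcat : CAlg.IsCatenary (U.left.presheaf.stalk v) :=
    (H23.SetupLFT.isUniversallyCatenary_stalk h.left v (hS _)).2 _ inferInstance
  obtain ⟨u₀, hu₀, hu₀x⟩ := exists_specializes_lift_of_isDecent hX ha (u := v) (x' := e T')
    (hv ▸ (e.monotone hTT' : e T ≤ e T'))
  have key : ∀ u, u ⤳ v → Points.ofPt a u = e T' → DimFormula.cd u v = DimFormula.cd u₀ v := by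
    intro u hu hux
    have hσ : h.left u = h.left u₀ := by
      refine (Points.schemeHomeo (Over.mk (𝟙 S))).injective ?_
      have key : ∀ z, Points.ofScheme (Over.mk (𝟙 S)) (h.left z) = Points.map p (Points.ofPt a z) := fun z => by
        rw [Points.map_ofPt, ← hh, Points.ofPt_eq_map_ofScheme]
        exact (Points.map_yon_map_apply h z).symm
      exact (key u).trans (((congrArg (Points.map p) (hux.trans hu₀x.symm))).trans (key u₀).symm)
    have hrd : FibDim.rd h.left u = FibDim.rd h.left u₀ := by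
      have := ResTrdeg.rdeg_congr ha hid w ha hid w (hux.trans hu₀x.symm)
      rw [← FibDim.rd_eq_rdeg, ← FibDim.rd_eq_rdeg] at this
      exact_mod_cast this
    have h1 := (DimFormula.cd_formula h.left hu).2 (hS _)
    have h2 := (DimFormula.cd_formula h.left hu₀).2 (hS _)
    rw [hσ, hrd] at h1
    omega
  have lift : ∀ q : LTSeries (IrreducibleCloseds (Points X.obj)), q.head = T → q.last = T' →
      ∃ m : LTSeries ↥U.left, m.head = v ∧ DimFormula.cd m.last v = DimFormula.cd u₀ v ∧ m.length = q.length ∧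
        ((∀ i : Fin q.length, q.toFun i.castSucc ⋖ q.toFun i.succ) →
          ∀ i : Fin m.length, m i.castSucc ⋖ m i.succ) := by
    intro q hq0 hq1
    let l := q.map e e.strictMono
    obtain ⟨m, hm0, hm1, hm2, hm3⟩ := exists_series_lift hX ha l v (hv.trans (congrArg e hq0.symm))
    refine ⟨m, hm0, key _ ?_ (hm1.trans (congrArg e hq1)), hm2, fun hq => hm3 fun i => ?_⟩
    · exact hm0 ▸ (LTSeries.head_le m (Fin.last _) : m.head ≤ m.last)
    · exact (apply_covBy_apply_iff e).2 (hq i)
  refine ⟨⟨DimFormula.cd u₀ v, fun q hq0 hq1 => ?_⟩, fun q r hq0 hq1 hr0 hr1 hqs hrs => ?_⟩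
  · obtain ⟨m, hm0, hm1, hm2, -⟩ := lift q hq0 hq1
    rw [← hm2, ← hm1]
    exact DimFormula.le_cd (hm0 ▸ (LTSeries.head_le m (Fin.last _) : m.head ≤ m.last)) m hm0 specializes_rfl
  · obtain ⟨m, hm0, hm1, hm2, hm3⟩ := lift q hq0 hq1
    obtain ⟨n, hn0, hn1, hn2, hn3⟩ := lift r hr0 hr1
    rw [← hm2, ← hn2, ← cd_saturated hcat m hm0 (hm3 hqs), ← cd_saturated hcat n hn0 (hn3 hrs), hm1, hn1]

end Groth.Agent.AlgSpDec.Catenary
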