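import Groth.Agent.AlgSpDec.Fibres
import Groth.Agent.AlgSpLib.LocalBaseTop
import Groth.Agent.AlgSpPts.Field
import Groth.Agent.GrpSchLib.SmoothReduced
import Mathlib.AlgebraicGeometry.Morphisms.Integral

/-!
# Closed points, one-point spaces
-/

set_option backward.isDefEq.respectTransparency false
set_option backward.isDefEq.respectTransparency.types false

open CategoryTheory Limits Opposite AlgebraicGeometry MorphismProperty AlgSp Groth.Agent.AlgSpLib
  Groth.Agent.AlgSpPts Topology Order

namespace Groth.Agent.AlgSpDec

universe u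

variable {S : Scheme.{u}} {X : Sp S}

/-- A quasi-compact-onto-discrete preimmersion: a monomorphism from a finite etale scheme over a field onto a closed set. -/
theorem isClosedImmersion_of_mono_discrete {V U : Scheme.{u}} (f : V ⟶ U) [Mono f] [IsReduced V]
    [DiscreteTopology ↥V] [Finite ↥V] (hc : ∀ v : ↥V, IsClosed ({f v} : Set ↥U)) : IsClosedImmersion f := by
  have hclosed : ∀ s : Set ↥V, IsClosed (f '' s) := fun s => by
    rw [← Set.biUnion_of_singleton s, Set.image_iUnion₂]
    exact s.toFinite.isClosed_biUnion fun v _ => by rw [Set.image_singleton]; exact hc v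
  have : IsPreimmersion f := by
    refine { toSurjectiveOnStalks := ⟨fun v => ?_⟩, isEmbedding := ?_ }
    · have : Mono (V.fromSpecResidueField v ≫ f) := mono_comp _ _
      have : Mono (Spec.map (f.residueFieldMap v) ≫ U.fromSpecResidueField (f v)) := by
        rw [Scheme.Hom.SpecMap_residueFieldMap_fromSpecResidueField]; infer_instance
      have : Mono (Spec.map (f.residueFieldMap v)) := mono_of_mono _ (U.fromSpecResidueField (f v))
      have : Nonempty ↥(Spec (V.residueField v)) := inferInstanceAs (Nonempty (PrimeSpectrum _))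
      have : IsIso (Spec.map (f.residueFieldMap v)) :=
        isIso_of_mono_to_field (K := ↥(U.residueField (f v))) (Spec.map (f.residueFieldMap v))
      have hbij := isIso_SpecMap_iff.1 this
      intro z
      obtain ⟨y, hy⟩ := hbij.2 (V.residue v z)
      obtain ⟨y, rfl⟩ := U.residue_surjective (f v) y
      refine ⟨y, ?_⟩
      have hfield : IsField ↥(V.presheaf.stalk v) := by
        have : Ring.KrullDimLE 0 ↥(V.presheaf.stalk v) := by
          refine krullDimLE_of_coheight_le (n := 0) (le_of_eq ?_)
          exact (coheight_eq_zero (α := ↥V)).2 fun w hw => le_of_eq (Specializes.eq hw)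
        exact Ring.KrullDimLE.isField_of_isReduced
      let _ := hfield.toField
      have h2 : V.residue v (f.stalkMap v y) = V.residue v z := by
        rw [← hy]
        exact (congrArg (fun m => m.hom y) (Scheme.residue_residueFieldMap f v)).symm
      exact (V.residue v).hom.injective h2
    · exact (Topology.IsClosedEmbedding.of_continuous_injective_isClosedMap f.continuous f.injective
        (fun s _ => hclosed s)).isEmbedding
  exact .of_isPreimmersion _ (by rw [← Set.image_univ]; exact hclosed _)

theorem exists_closedImmersion_rep (hA : IsAlgSpace X) (hX : IsDecent X) (x : Points X)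
    (hx : IsClosed ({x} : Set (Points X))) :
    ∃ p : FieldPt X, Points.mk p = x ∧ RepWith @IsClosedImmersion p.toHom := by
  obtain ⟨p, hp, hm, hq⟩ := hX x
  refine ⟨p, hp, ?_⟩
  obtain ⟨U, a, ha, ha'⟩ := hA.atlas
  have hr : Representable p.toHom := representable_from_yon' hA _
  have : MorphismProperty.IsLocalAtTarget (@IsClosedImmersion : MorphismProperty Scheme.{u}) Scheme.fppfPrecoverage :=
    isLocalAtTarget_fppf _
  have := isLocallySurjective_of_etale_surjective ha ha'
  refine repWith_of_locallySurjective hr a (hr.isPullback a) _ ((repWith_yon_map_iff _ _).2 ?_)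
  let pK : hr.pullback a ⟶ p.pt := hr.fst' a
  let pU : hr.pullback a ⟶ U := hr.snd a
  have sq : IsPullback ((yon S).map pK) ((yon S).map pU) p.toHom a := hr.isPullback' a
  have : Etale pK.left := ha.property _ _ _ sq.flip
  have : QuasiCompact pU.left := hq.property_snd a
  have : Mono pU := (yon S).mono_of_mono_map (by
    have := hm
    exact PullbackCone.mono_snd_of_is_pullback_of_mono sq.isLimit)
  have : Mono pU.left := inferInstanceAs (Mono ((Over.forget S).map pU))
  have hd : DiscreteTopology ↥(hr.pullback a).left := by
    have h1 := pK.left.isDiscrete_preimage_singleton (IsLocalRing.closedPoint p.K)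
    rw [show pK.left ⁻¹' {IsLocalRing.closedPoint p.K} = Set.univ from
      Set.eq_univ_of_forall fun x => Subsingleton.elim (α := ↥p.pt.left) _ _] at h1
    exact isDiscrete_univ_iff.1 h1
  have hu : ∀ v, Points.ofPt a (pU.left v) = x := fun v => by
    have h1 : Points.ofPt a (pU.left v) = Points.ofPt p.toHom (pK.left v) := by
      rw [← ofPt_comp, ← ofPt_comp, sq.w]
    rw [h1, show pK.left v = IsLocalRing.closedPoint p.K from Subsingleton.elim (α := ↥p.pt.left) _ _,
      Points.ofPt_toHom, hp]
  have hclosed : ∀ v, IsClosed ({pU.left v} : Set ↥U.left) := fun v => by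
    refine closure_eq_iff_isClosed.1 (Set.Subset.antisymm ?_ subset_closure)
    intro w hw
    have hw' : Points.ofPt a w = x := by
      have hs : x ⤳ Points.ofPt a w := (hu v) ▸ (specializes_iff_mem_closure.2 hw).map (Points.continuous_ofPt a)
      exact hs.mem_closed hx rfl
    exact eq_of_specializes_of_isDecent hX ha (hw'.trans (hu v).symm) (specializes_iff_mem_closure.2 hw)
  have hfinV : ∀ U' : U.left.Opens, IsAffineOpen U' → (pU.left ⁻¹' (U' : Set ↥U.left)).Finite := fun U' hU' =>
    (QuasiCompact.isCompact_preimage (f := pU.left) _ U'.isOpen hU'.isCompact).finite_of_discrete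
  refine (IsZariskiLocalAtTarget.iff_of_iSup_eq_top (P := @IsClosedImmersion)
    (fun i : U.left.affineOpens => i.1) (iSup_affineOpens_eq_top _)).2 fun U' => ?_
  have : Finite ↥(pU.left ⁻¹ᵁ U'.1).toScheme := (hfinV U'.1 U'.2).to_subtype
  have : DiscreteTopology ↥(pU.left ⁻¹ᵁ U'.1).toScheme := inferInstanceAs (DiscreteTopology ↥(pU.left ⁻¹ᵁ U'.1))
  have : IsReduced (hr.pullback a).left := GrpSchLib.isReduced_of_smooth_field pK.left
  have : Mono (pU.left ∣_ U'.1) := by
    have : Mono ((pU.left ⁻¹ᵁ U'.1).ι ≫ pU.left) := mono_comp _ _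
    rw [← morphismRestrict_ι] at this
    exact mono_of_mono _ U'.1.ι
  refine isClosedImmersion_of_mono_discrete _ fun v => ?_
  have := (hclosed ((pU.left ⁻¹ᵁ U'.1).ι v)).preimage U'.1.ι.continuous
  convert! this using 1
  ext y
  simp only [Set.mem_singleton_iff, Set.mem_preimage]
  rw [← U'.1.ι.injective.eq_iff, ← Scheme.Hom.comp_apply, morphismRestrict_ι, Scheme.Hom.comp_apply]

end Groth.Agent.AlgSpDec
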