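import Groth.Agent.AlgSpDec.OpenGlue
import Groth.Prelude.Def_AlgSpCov

/-!
# Representability with a local property is Zariski local on the target
-/

set_option backward.isDefEq.respectTransparency false
set_option backward.isDefEq.respectTransparency.types false

universe u

open CategoryTheory Limits Opposite AlgebraicGeometry AlgSp Groth.Agent.AlgSpLib Groth.Agent.AlgSpPts

namespace Groth.Agent.AlgSpDec

variable {S : Scheme.{u}} {F G : Sp S} {f : F ⟶ G} {ι : Type u} {Y : ι → Sp S} {j : ∀ i, Y i ⟶ G}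
  {X : ι → Sp S} {p : ∀ i, X i ⟶ F} {q : ∀ i, X i ⟶ Y i}

theorem representable_of_zarCover (hj : IsZarCover Y j) (sq : ∀ i, IsPullback (p i) (q i) f (j i))
    (h : ∀ i, Representable (q i)) : Representable f := by
  intro T g
  have hT : ∀ i, ∃ (W : Over S) (jW : (yon S).obj W ⟶ pullback f g), RepWith @IsOpenImmersion jW ∧
      ∀ (x : Points (pullback f g)) (t : ↥((hj.1 i).rep.pullback g).left),
        Points.map (pullback.snd f g) x = Points.ofScheme T (((hj.1 i).rep.snd g).left t) →
          ∃ v, Points.ofPt jW v = x := by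
    intro i
    obtain ⟨W, s, fst, hs⟩ := h i ((hj.1 i).rep.fst g)
    let k := (hj.1 i).rep.snd g
    have : IsOpenImmersion k.left := (hj.1 i).property_snd g
    have w : (fst ≫ p i) ≫ f = ((yon S).map (s ≫ k)) ≫ g := by
      rw [Category.assoc, (sq i).w, reassoc_of% hs.w, ((hj.1 i).rep.isPullback g).w, Functor.map_comp,
        Category.assoc]
    let jW : (yon S).obj W ⟶ pullback f g := pullback.lift (fst ≫ p i) _ w
    have sqj : IsPullback jW ((yon S).map s) (pullback.snd f g) ((yon S).map k) := by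
      refine IsPullback.of_right ?_ ((pullback.lift_snd _ _ _).trans ((yon S).map_comp s k))
        (IsPullback.of_hasPullback f g)
      rw [pullback.lift_fst]
      have := hs.paste_horiz (sq i)
      rwa [((hj.1 i).rep.isPullback g).w] at this
    refine ⟨W, jW, repWith_of_isPullback sqj.flip ((repWith_yon_map_iff _ _).2 this), fun x t ht => ?_⟩
    obtain ⟨z, hz, -⟩ := exists_point_of_isPullback sqj (x := x) (y := Points.ofScheme _ t)
      (ht.trans (Points.map_yon_map_apply k _).symm)
    obtain ⟨v, rfl⟩ := (Points.schemeHomeo _).surjective z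
    exact ⟨v, (Points.ofPt_eq_map_ofScheme _ v).trans hz⟩
  choose W jW hjW hv using hT
  have hc : ∀ x, ∃ i v, Points.ofPt (jW i) v = x := fun x => by
    obtain ⟨t, ht⟩ := (Points.schemeHomeo T).surjective (Points.map (pullback.snd f g) x)
    obtain ⟨i, y, hy⟩ := hj.2 (Points.map g (Points.ofScheme T t))
    obtain ⟨z, -, hz⟩ := exists_point_of_isPullback ((hj.1 i).rep.isPullback g) hy
    obtain ⟨t', rfl⟩ := (Points.schemeHomeo _).surjective z
    refine ⟨i, hv i x t' ?_⟩
    rw [← ht]
    exact (hz.symm.trans (Points.map_yon_map_apply _ _))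
  obtain ⟨Q, ⟨e⟩, -⟩ := exists_iso_of_open_cover W jW hjW hc
  obtain ⟨s, hs⟩ := (yon S).map_surjective (e.hom ≫ pullback.snd f g)
  refine ⟨Q, s, e.hom ≫ pullback.fst f g, ?_⟩
  rw [hs]
  exact (IsPullback.of_hasPullback f g).of_iso e.symm (Iso.refl _) (Iso.refl _) (Iso.refl _)
    (by simp) (by simp) (by simp) (by simp)

theorem repWith_of_zarCover {P : MorphismProperty Scheme.{u}} [IsZariskiLocalAtTarget P]
    (hj : IsZarCover Y j) (sq : ∀ i, IsPullback (p i) (q i) f (j i)) (h : ∀ i, RepWith P (q i)) :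
    RepWith P f := by
  refine ⟨representable_of_zarCover hj sq fun i => (h i).rep, fun T W g fst snd hsq => ?_⟩
  have ho : ∀ i, IsOpenImmersion ((hj.1 i).rep.snd g).left := fun i => (hj.1 i).property_snd g
  change P snd.left
  rw [IsZariskiLocalAtTarget.iff_of_iSup_eq_top (P := P) (fun i => ((hj.1 i).rep.snd g).left.opensRange)
    (top_le_iff.1 fun t _ => by
      obtain ⟨i, y, hy⟩ := hj.2 (Points.map g (Points.ofScheme T t))
      obtain ⟨z, -, hz⟩ := exists_point_of_isPullback ((hj.1 i).rep.isPullback g) hy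
      obtain ⟨t', rfl⟩ := (Points.schemeHomeo _).surjective z
      exact TopologicalSpace.Opens.mem_iSup.2
        ⟨i, t', (Points.schemeHomeo T).injective ((Points.map_yon_map_apply _ _).symm.trans hz)⟩)]
  intro i
  let k := (hj.1 i).rep.snd g
  let P' : Over S := Over.mk (pullback.fst snd.left k.left ≫ W.hom)
  let p₁ : P' ⟶ W := CategoryTheory.Over.homMk (pullback.fst snd.left k.left) rfl
  let p₂ : P' ⟶ _ := CategoryTheory.Over.homMk (pullback.snd snd.left k.left) (by
    change _ = pullback.fst snd.left k.left ≫ W.hom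
    rw [← Over.w k, ← Over.w snd, pullback.condition_assoc])
  have sq₂ : IsPullback p₁ p₂ snd k :=
    IsPullback.of_map (Over.forget S) (Over.OverMorphism.ext pullback.condition)
      (IsPullback.of_hasPullback snd.left k.left)
  have sq₃ := (sq₂.map (yon S)).paste_horiz hsq
  rw [← ((hj.1 i).rep.isPullback g).w] at sq₃
  have hw : ((yon S).map p₁ ≫ fst) ≫ f = ((yon S).map p₂ ≫ (hj.1 i).rep.fst g) ≫ j i := by
    rw [sq₃.w, Category.assoc]
  obtain ⟨l, hl₁, hl₂⟩ : ∃ l, l ≫ p i = (yon S).map p₁ ≫ fst ∧ l ≫ q i = (yon S).map p₂ ≫ (hj.1 i).rep.fst g :=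
    ⟨(sq i).lift _ _ hw, (sq i).lift_fst _ _ _, (sq i).lift_snd _ _ _⟩
  rw [← hl₁] at sq₃
  have hP : P p₂.left := (h i).property _ _ _ (IsPullback.of_right sq₃ hl₂ (sq i))
  exact (P.arrow_mk_iso_iff (morphismRestrictOpensRange snd.left k.left)).2 hP

end Groth.Agent.AlgSpDec
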