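import Groth.Agent.AlgSpDec.ImmLocal
import Groth.Agent.AlgSpDec.ZarCover
import Groth.Agent.AlgSpLib.Descends2
import Mathlib.AlgebraicGeometry.Morphisms.Immersion

/-!
# Closed immersions, open immersions and immersions are local on the target
-/

set_option backward.isDefEq.respectTransparency false
set_option backward.isDefEq.respectTransparency.types false

universe u

open CategoryTheory Limits Opposite AlgebraicGeometry AlgSp Groth.Agent.AlgSpLib Groth.Agent.AlgSpPts

namespace Groth.Agent.AlgSpDec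

variable {S : Scheme.{u}} {F G : Sp S} {f : F ⟶ G} {V : Over S} {p : (yon S).obj V ⟶ G} {P₀ : Sp S}
  {fst : P₀ ⟶ F} {snd : P₀ ⟶ (yon S).obj V}

theorem isOpen_of_preimage {X Y : Scheme.{u}} (e : X ⟶ Y) [Etale e] [Surjective e] {R : Set Y}
    (h : IsOpen (e ⁻¹' R)) : IsOpen R := by
  rw [← Set.image_preimage_eq R e.surjective]
  exact e.isOpenMap _ h

theorem repWith_isOpenImmersion_of_etale_cover (hp : RepWith @Etale p) (hps : RepWith @Surjective p)
    (sq : IsPullback fst snd f p) (h : RepWith @IsOpenImmersion snd) : RepWith @IsOpenImmersion f := by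
  refine repWith_of_open_piece (P := MorphismProperty.isomorphisms Scheme.{u})
    (fun _ _ e (_ : IsIso e) => inferInstanceAs (IsAffineHom e))
    (fun U i (_ : IsIso i) => inferInstanceAs (IsOpenImmersion (i ≫ U.ι))) hp hps sq h ?_
  intro W T' T m e _ _ R hm hR
  have : IsOpenImmersion m := hm
  have hRo : IsOpen R := isOpen_of_preimage e (hR ▸ m.opensRange.isOpen)
  refine ⟨⟨R, hRo⟩, subset_rfl, ?_⟩
  have : Surjective (m ∣_ e ⁻¹ᵁ ⟨R, hRo⟩) := ⟨fun ⟨x, hx⟩ => by
    obtain ⟨w, hw⟩ : x ∈ Set.range m := hR ▸ hx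
    refine ⟨⟨w, show m w ∈ e ⁻¹ᵁ ⟨R, hRo⟩ from hw ▸ hx⟩, Subtype.ext ?_⟩
    rw [morphismRestrict_base]; exact hw⟩
  exact (isIso_iff_isOpenImmersion_and_surjective _).2 ⟨inferInstance, this⟩

theorem repWith_isClosedImmersion_of_etale_cover (hp : RepWith @Etale p) (hps : RepWith @Surjective p)
    (sq : IsPullback fst snd f p) (h : RepWith @IsClosedImmersion snd) : RepWith @IsClosedImmersion f :=
  repWith_of_etale_cover (fun _ _ e (_ : IsClosedImmersion e) => inferInstanceAs (IsAffineHom e)) hp hps sq h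

theorem repWith_isImmersion_of_etale_cover (hp : RepWith @Etale p) (hps : RepWith @Surjective p)
    (sq : IsPullback fst snd f p) (h : RepWith @IsImmersion snd) : RepWith @IsImmersion f := by
  refine repWith_of_open_piece (P := @IsClosedImmersion)
    (fun _ _ e (_ : IsClosedImmersion e) => inferInstanceAs (IsAffineHom e))
    (fun U i (_ : IsClosedImmersion i) => inferInstanceAs (IsImmersion (i ≫ U.ι))) hp hps sq h ?_
  intro W T' T m e _ _ R hm hR
  have : IsImmersion m := hm
  have hcb : coborder (Set.range m) = e ⁻¹' coborder R := by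
    rw [hR]; exact coborder_preimage e.isOpenMap e.continuous R
  have hRo : IsOpen (coborder R) := isOpen_of_preimage e (hcb ▸ m.isLocallyClosed_range.isOpen_coborder)
  refine ⟨⟨coborder R, hRo⟩, subset_coborder, ?_⟩
  have : IsImmersion (m ∣_ e ⁻¹ᵁ ⟨coborder R, hRo⟩) := IsZariskiLocalAtTarget.restrict (P := @IsImmersion) hm _
  refine IsClosedImmersion.of_isPreimmersion _ ?_
  have hr : Set.range (m ∣_ e ⁻¹ᵁ ⟨coborder R, hRo⟩) = (Subtype.val ⁻¹' Set.range m) := by
    rw [morphismRestrict_base]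
    exact Set.range_restrictPreimage _ m
  rw [hr]
  have hc : IsClosed ((Subtype.val : ↥(coborder (Set.range m)) → T') ⁻¹' Set.range m) :=
    isClosed_preimage_val_coborder
  have hcont : Continuous (fun x : ↥(e ⁻¹ᵁ ⟨coborder R, hRo⟩) =>
      (⟨x.1, hcb.symm ▸ x.2⟩ : ↥(coborder (Set.range m)))) := continuous_subtype_val.subtype_mk _
  exact hc.preimage hcont

theorem repWith_imm_of_etale_cover {P : MorphismProperty Scheme.{u}}
    (hP : P = @IsClosedImmersion ∨ P = @IsOpenImmersion ∨ P = @IsImmersion) (hp : RepWith @Etale p)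
    (hps : RepWith @Surjective p) (sq : IsPullback fst snd f p) (h : RepWith P snd) : RepWith P f := by
  rcases hP with rfl | rfl | rfl
  · exact repWith_isClosedImmersion_of_etale_cover hp hps sq h
  · exact repWith_isOpenImmersion_of_etale_cover hp hps sq h
  · exact repWith_isImmersion_of_etale_cover hp hps sq h

theorem repWith_of_affine_opens {P : MorphismProperty Scheme.{u}} [IsZariskiLocalAtTarget P]
    (sq : IsPullback fst snd f p)
    (h : ∀ (Z : Over S), IsAffine Z.left → ∀ (g : (yon S).obj Z ⟶ G) (Q : Sp S) (q₁ : Q ⟶ F)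
      (q₂ : Q ⟶ (yon S).obj Z), IsPullback q₁ q₂ f g → RepWith P q₂) : RepWith P snd := by
  let Z : V.left.affineOpens → Over S := fun U => Over.mk (U.1.ι ≫ V.hom)
  let j : ∀ U : V.left.affineOpens, (yon S).obj (Z U) ⟶ (yon S).obj V := fun U =>
    (yon S).map (CategoryTheory.Over.homMk U.1.ι rfl)
  have hj : IsZarCover (fun U => (yon S).obj (Z U)) j := by
    refine ⟨fun U => (repWith_yon_map_iff _ _).2 (inferInstanceAs (IsOpenImmersion U.1.ι)), fun x => ?_⟩
    obtain ⟨t, rfl⟩ := (Points.schemeHomeo V).surjective x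
    obtain ⟨U, hU, htU, -⟩ := exists_isAffineOpen_mem_and_subset (U := (⊤ : V.left.Opens)) (x := t) trivial
    exact ⟨⟨U, hU⟩, Points.ofScheme (Z ⟨U, hU⟩) ⟨t, htU⟩, Points.map_yon_map_apply _ _⟩
  exact repWith_of_zarCover hj (fun U => IsPullback.of_hasPullback snd (j U)) fun U =>
    h (Z U) U.2 _ _ _ _ ((IsPullback.of_hasPullback snd (j U)).paste_horiz sq)

end Groth.Agent.AlgSpDec
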