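import Mathlib.CategoryTheory.Sites.Subsheaf
import Groth.Agent.AlgSpDec.ImmCover
import Groth.Agent.AlgSpPts.RepByDiag
import Groth.Agent.AlgSpPts.Misc
import Groth.Agent.S9876

/-!
# Closed subspaces from closed subschemes of an atlas
-/

set_option backward.isDefEq.respectTransparency false
set_option backward.isDefEq.respectTransparency.types false

universe u

open CategoryTheory Limits Opposite AlgebraicGeometry AlgSp Groth.Agent.AlgSpLib Groth.Agent.AlgSpPts

namespace Groth.Agent.AlgSpDec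

variable {S : Scheme.{u}} {X : Sp S} {U ZU : Over S} (a : (yon S).obj U ⟶ X) (i : ZU ⟶ U)

/-- The maps whose lifts to the atlas factor through the given closed subscheme. -/
def FactorsThrough {T : Over S} (g : (yon S).obj T ⟶ X) : Prop :=
  ∀ (T' : Over S) (π : T' ⟶ T) (v : T' ⟶ U), (yon S).map π ≫ g = (yon S).map v ≫ a → ∃ l, l ≫ i = v

/-- The subfunctor cut out by the closed subscheme. -/
def closedSubfunctor : Subfunctor X.obj where
  obj T := {x | FactorsThrough a i ((J S).uliftYonedaEquiv.symm x)}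
  map {T T'} φ x hx := fun T'' π v h => by
    have e : (J S).uliftYonedaEquiv.symm (X.obj.map φ x) =
        (yon S).map φ.unop ≫ (J S).uliftYonedaEquiv.symm x := by
      apply (J S).uliftYonedaEquiv.injective
      rw [Equiv.apply_symm_apply, ← uliftYonedaEquiv_precomp φ.unop, Equiv.apply_symm_apply]
      rfl
    rw [e, ← Functor.map_comp_assoc] at h
    exact hx T'' _ v h

theorem isSheaf_closedSubfunctor [Mono i] : Presheaf.IsSheaf (J S) (closedSubfunctor a i).toFunctor := by
  rw [isSheaf_iff_isSheaf_of_type]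
  rw [Subfunctor.isSheaf_iff _ ((isSheaf_iff_isSheaf_of_type _ _).1 X.property)]
  intro T x hx T' π v h
  have hR := (J S).pullback_stable π hx
  have hfac : ∀ ⦃T''⦄ (ψ : T'' ⟶ T'), (((closedSubfunctor a i).sieveOfSection x).pullback π) ψ → ∃ l, l ≫ i = ψ ≫ v :=
    fun T'' ψ hψ => by
      have hψ' : FactorsThrough a i ((J S).uliftYonedaEquiv.symm (X.obj.map (ψ ≫ π).op x)) := hψ
      refine hψ' T'' (𝟙 _) (ψ ≫ v) ?_
      have e : (J S).uliftYonedaEquiv.symm (X.obj.map (ψ ≫ π).op x) =
          (yon S).map (ψ ≫ π) ≫ (J S).uliftYonedaEquiv.symm x := by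
        apply (J S).uliftYonedaEquiv.injective
        rw [Equiv.apply_symm_apply, ← uliftYonedaEquiv_precomp, Equiv.apply_symm_apply]
      rw [e, CategoryTheory.Functor.map_id, Category.id_comp, Functor.map_comp, Functor.map_comp,
        Category.assoc, Category.assoc, h]
  choose l hl using hfac
  obtain ⟨L, hL, -⟩ := ((isSheaf_iff_isSheaf_of_type _ _).1 ((yon S).obj ZU).property) _ hR
    (fun T'' ψ hψ => (⟨l ψ hψ⟩ : ULift.{u + 1} (T'' ⟶ ZU))) (fun Y₁ Y₂ Z g₁ g₂ f₁ f₂ h₁ h₂ hg => by
      change (⟨g₁ ≫ l f₁ h₁⟩ : ULift.{u + 1} _) = ⟨g₂ ≫ l f₂ h₂⟩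
      congr 1
      rw [← cancel_mono i, Category.assoc, Category.assoc, hl, hl, reassoc_of% hg])
  obtain ⟨L⟩ := L
  refine ⟨L, (yon S).map_injective (hom_ext_of_covering _ _ hR fun T'' ψ hψ => ?_)⟩
  have := congrArg ULift.down (hL ψ hψ)
  change ψ ≫ L = l ψ hψ at this
  rw [← Functor.map_comp, ← Functor.map_comp, reassoc_of% this, hl]

variable {a i}

theorem factorsThrough_iff
    (hcompat : ∀ (T : Over S) (x y : T ⟶ U), (yon S).map x ≫ a = (yon S).map y ≫ a →
      (∃ l, l ≫ i = x) → ∃ l, l ≫ i = y) {T : Over S} (φ : T ⟶ U) :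
    FactorsThrough a i ((yon S).map φ ≫ a) ↔ ∃ l, l ≫ i = φ := by
  refine ⟨fun h => h T (𝟙 _) φ (by rw [CategoryTheory.Functor.map_id, Category.id_comp]), ?_⟩
  rintro ⟨l, rfl⟩ T' π v hv
  exact hcompat T' (π ≫ l ≫ i) v (by rw [Functor.map_comp, Category.assoc, hv]) ⟨π ≫ l, Category.assoc _ _ _⟩

/-- A closed subscheme of an atlas invariant under the equivalence relation defines a closed subspace. -/
theorem exists_closed_subspace (hX : IsAlgSpace X) (ha : RepWith @Etale a) (has : RepWith @Surjective a)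
    [IsClosedImmersion i.left]
    (hcompat : ∀ (T : Over S) (x y : T ⟶ U), (yon S).map x ≫ a = (yon S).map y ≫ a →
      (∃ l, l ≫ i = x) → ∃ l, l ≫ i = y) :
    ∃ (Z : Space S) (j : Z.obj ⟶ X) (q : (yon S).obj ZU ⟶ Z.obj),
      RepWith @IsClosedImmersion j ∧ IsPullback q ((yon S).map i) j a ∧
      RepWith @Etale q ∧ RepWith @Surjective q := by
  have : Mono i := (Over.forget S).mono_of_mono_map (inferInstanceAs (Mono i.left))
  let Z₀ : Sp S := ⟨(closedSubfunctor a i).toFunctor, isSheaf_closedSubfunctor a i⟩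
  let j : Z₀ ⟶ X := ObjectProperty.homMk (closedSubfunctor a i).ι
  have : Mono j :=
    (sheafToPresheaf (J S) (Type (u + 1))).mono_of_mono_map (inferInstanceAs (Mono (closedSubfunctor a i).ι))
  have hfac : ∀ {T : Over S} (g : (yon S).obj T ⟶ X), FactorsThrough a i g → ∃ g₀, g₀ ≫ j = g := by
    intro T g hg
    refine ⟨(J S).uliftYonedaEquiv.symm
      (⟨(J S).uliftYonedaEquiv g, show FactorsThrough a i _ by rwa [Equiv.symm_apply_apply]⟩ :
        (closedSubfunctor a i).toFunctor.obj (op T)), ?_⟩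
    apply (J S).uliftYonedaEquiv.injective
    rw [GrothendieckTopology.uliftYonedaEquiv_comp, Equiv.apply_symm_apply]
    rfl
  obtain ⟨q, hq⟩ := hfac _ ((factorsThrough_iff hcompat i).2 ⟨𝟙 _, Category.id_comp i⟩)
  let c : (yon S).obj ZU ⟶ pullback j a := pullback.lift q ((yon S).map i) hq
  have : Mono ((yon S).map i) := (yon S).map_mono i
  have : Mono c := by
    have h : c ≫ pullback.snd j a = (yon S).map i := pullback.lift_snd _ _ _
    exact mono_of_mono_fac h
  have : Sheaf.IsLocallySurjective c := by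
    refine isLocallySurjective_of_lifts c fun T t => ?_
    obtain ⟨φ, hφ⟩ := (yon S).map_surjective (t ≫ pullback.snd j a)
    have hF : FactorsThrough a i ((yon S).map φ ≫ a) := by
      have hmem := ((J S).uliftYonedaEquiv (t ≫ pullback.fst j a)).2
      change FactorsThrough a i _ at hmem
      rw [hφ, Category.assoc, ← pullback.condition, ← Category.assoc]
      have e : ((J S).uliftYonedaEquiv (t ≫ pullback.fst j a)).1 =
          (J S).uliftYonedaEquiv ((t ≫ pullback.fst j a) ≫ j) := by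
        rw [GrothendieckTopology.uliftYonedaEquiv_comp]
        rfl
      rwa [e, Equiv.symm_apply_apply] at hmem
    obtain ⟨l, hl⟩ := (factorsThrough_iff hcompat φ).1 hF
    refine ⟨T, 𝟙 _, (yon S).map l, fppf_of_etale (𝟙 T.left), ?_⟩
    rw [CategoryTheory.Functor.map_id, Category.id_comp]
    have h2 : ((yon S).map l ≫ c) ≫ pullback.snd j a = t ≫ pullback.snd j a := by
      rw [Category.assoc, pullback.lift_snd, ← Functor.map_comp, hl, hφ]
    refine pullback.hom_ext ?_ h2
    rw [← cancel_mono j]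
    simp only [Category.assoc] at h2 ⊢
    rw [pullback.condition, reassoc_of% h2]
  have := isIso_of_mono_of_locallySurjective c
  have sq : IsPullback q ((yon S).map i) j a :=
    IsPullback.of_iso_pullback ⟨hq⟩ (asIso c) (pullback.lift_fst _ _ _) (pullback.lift_snd _ _ _)
  have hj : RepWith @IsClosedImmersion j := repWith_isClosedImmersion_of_etale_cover ha has sq
    ((repWith_yon_map_iff _ _).2 ‹IsClosedImmersion i.left›)
  obtain ⟨hs, hZ⟩ := S9876.result S ⟨X, hX⟩ _ j.hom (fun T ξ => by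
    obtain ⟨T', p, fst, hsq⟩ := hj.rep (ObjectProperty.homMk ξ : (yon S).obj T ⟶ X)
    exact ⟨T', p, fst.hom, hsq.map (sheafToPresheaf (J S) (Type (u + 1)))⟩)
  exact ⟨⟨Z₀, hZ⟩, j, q, hj, sq, repWith_of_isPullback sq.flip ha, repWith_of_isPullback sq.flip has⟩

end Groth.Agent.AlgSpDec
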