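import Groth.Agent.AlgSpDec.DecentDense
import Groth.Agent.AlgSpDec.CodimZero
import Groth.Agent.AlgSpDec.AffineClassQuot
import Groth.Agent.AlgSpDec.Fibres
import Groth.Agent.AlgSpPts.Dim

/-!
# Points of codimension zero of quasi-separated spaces lie in the schematic locus
-/

set_option backward.isDefEq.respectTransparency false
set_option backward.isDefEq.respectTransparency.types false

open CategoryTheory Limits Opposite AlgebraicGeometry MorphismProperty AlgSp Groth.Agent.AlgSpLib
  Groth.Agent.AlgSpPts Order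

namespace Groth.Agent.AlgSpDec

universe u

/-- The locus with at least `n` geometric points in the fibre is compact for quasi-compact separated etale maps. -/
theorem isCompact_card_ge (n : ℕ) : ∀ {X Y : Scheme.{u}} (f : X ⟶ Y) [Etale f] [IsSeparated f]
    [QuasiCompact f] [CompactSpace ↥Y],
    IsCompact {y : Y | (n : ℕ∞) ≤ ENat.card ↥(MoreMor.geomFiber f y)} := by
  induction n with
  | zero => intro X Y f _ _ _ _; simpa using isCompact_univ
  | succ n ih =>
    intro X Y f _ _ _ _
    rw [EtCount.setOf_succ_le]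
    have : CompactSpace ↥X := QuasiCompact.compactSpace_of_compactSpace f
    have : IsClosedImmersion (EtCount.offDiag f).ι := .of_isPreimmersion _ (by
      rw [Scheme.Opens.range_ι]
      exact ((pullback.diagonal f).isOpenEmbedding.isOpen_range).isClosed_compl)
    exact (ih (EtCount.offMap f)).image f.continuous

variable {S : Scheme.{u}} {X : Sp S}

theorem exists_subscheme_of_qc_chart (hA : IsAlgSpace X) (hd : IsDecent X) {U : Over S} [IsAffine U.left]
    {a : (yon S).obj U ⟶ X} (ha : RepWith @Etale a) [QuasiCompact (ha.rep.snd a).left] (u : ↥U.left)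
    (hu : coheight u = 0) :
    ∃ (T : Over S) (j : (yon S).obj T ⟶ X),
      RepWith @IsOpenImmersion j ∧ Points.ofPt a u ∈ Set.range (Points.map j) := by
  let s := (ha.rep.snd a).left
  haveI : Etale s := ha.property_snd a
  haveI : IsSeparated s := isSeparated_snd_of_isAffine ha
  haveI := finite_geomFiber_of_finite_preimage s (finite_preimage_snd hd ha u)
  let k := Nat.card ↥(MoreMor.geomFiber s u)
  have hk : ENat.card ↥(MoreMor.geomFiber s u) = k := ENat.card_eq_coe_natCard _
  let K : Set ↥U.left := {w | ((k + 1 : ℕ) : ℕ∞) ≤ ENat.card ↥(MoreMor.geomFiber s w)}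
  have hKu : u ∉ K := fun h => by
    change ((k + 1 : ℕ) : ℕ∞) ≤ ENat.card ↥(MoreMor.geomFiber s u) at h
    rw [hk] at h
    norm_cast at h
    omega
  have hcl : u ∉ closure K :=
    notMem_closure_of_isCompact (isCompact_card_ge _ s) (EtCount.isOpen_le_card _ s) hu hKu
  let G : Set ↥U.left := {w | (k : ℕ∞) ≤ ENat.card ↥(MoreMor.geomFiber s w)} ∩ (closure K)ᶜ
  have huG : u ∈ G := ⟨hk.ge, hcl⟩
  have hGn : ∀ w ∈ G, ENat.card ↥(MoreMor.geomFiber s w) = k := fun w hw => by
    refine le_antisymm (not_lt.1 fun h => hw.2 (subset_closure ?_)) hw.1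
    change ((k + 1 : ℕ) : ℕ∞) ≤ ENat.card ↥(MoreMor.geomFiber s w)
    rw [Nat.cast_add, Nat.cast_one]
    exact Order.add_one_le_of_lt h
  obtain ⟨X', j, V, b, ι', hX', hj, -, hι, hG, hb, hbf, hbe, hbs⟩ :=
    exists_finite_etale_of_const hA ha ((EtCount.isOpen_le_card _ s).inter isClosed_closure.isOpen_compl) k hGn
  obtain ⟨v, hv⟩ := hG huG
  have hVa : RepWith @Etale ((yon S).map ι' ≫ a) :=
    repWith_comp ((repWith_yon_map_iff _ ι').2 (inferInstanceAs (Etale ι'.left))) ha
  let T : Set ↥V.left := Points.ofPt b ⁻¹' {Points.ofPt b v}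
  have hTfin : T.Finite := by
    refine ((finite_fibre hA hd ha (Points.ofPt a u)).preimage (f := ι'.left) ι'.left.injective.injOn).subset
      fun w (hw : Points.ofPt b w = Points.ofPt b v) => ?_
    change Points.ofPt a (ι'.left w) = Points.ofPt a u
    rw [← hv, ← ofPt_comp, ← ofPt_comp, ← hb, ← Points.map_ofPt, ← Points.map_ofPt, hw]
  have hTc : ∀ w ∈ T, coheight w = 0 := fun w hw => by
    rw [coheight_eq_of_charts hbe hbe (show Points.ofPt b w = Points.ofPt b v from hw)]
    have h1 := coheight_eq_of_charts hVa ha (show Points.ofPt ((yon S).map ι' ≫ a) v = Points.ofPt a u by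
      rw [ofPt_comp, hv])
    rw [h1, hu]
  have : QuasiSeparatedSpace ↥V.left :=
    quasiSeparatedSpace_of_quasiSeparated ι'.left
  obtain ⟨W, hW, hTW⟩ := exists_affineOpen_of_codimZero hTfin hTc
  obtain ⟨Q, i, hi, y, hy⟩ := exists_open_subscheme_of_affine_class hX' b hbe hbf hbs hW v hTW
  refine ⟨Q, i ≫ j, repWith_comp hi hj, y, ?_⟩
  rw [Points.map_comp, hy, Points.map_ofPt, hb, ofPt_comp, hv]

end Groth.Agent.AlgSpDec
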