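import Groth.Agent.S10313
import Groth.Agent.AlgSpPts.Dim
import Groth.Agent.DimFormula.QuasiSection
import Groth.Agent.AlgSpDec.CodimZero

/-!
# Fibres over points of codimension zero
-/

set_option autoImplicit false
set_option backward.isDefEq.respectTransparency false
set_option backward.isDefEq.respectTransparency.types false

universe u

open CategoryTheory CategoryTheory.Limits AlgebraicGeometry AlgSp Groth.Agent.AlgSpLib Groth.Agent.AlgSpPts
open Order (coheight coheight_eq_zero)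

namespace Groth.Agent.AlgSpDec.CodimZeroFibre

open Groth.Agent.AlgSpDec

theorem coheight_eq_zero_iff {X : Scheme.{u}} (x : X) : coheight x = 0 ↔ ∀ z, z ⤳ x → z = x :=
  ⟨fun h z hz => eq_of_specializes_of_coheight h hz, fun h => coheight_eq_zero.2 fun z hz => le_of_eq (h z (Scheme.le_iff_specializes.1 hz))⟩

/-- Over a point without generizations, quasi-finiteness at all points of the fibre and maximality of
all points of the fibre agree. -/
theorem scheme_iff {U V : Scheme.{u}} (k : U ⟶ V) [LocallyOfFiniteType k] (v : V) (hv : coheight v = 0) :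
    ((∀ u, k u = v → coheight u = 0) ↔ ∀ u, k u = v → FlatMor.fibreDimAt k u = 0) ∧
      ((∀ u, k u = v → coheight u = 0 → FlatMor.fibreDimAt k u = 0) → ∀ u, k u = v → coheight u = 0) := by
  have hgen : ∀ {u z : U}, k u = v → z ⤳ u → k z = v := fun hu hz =>
    (coheight_eq_zero_iff v).1 hv _ (hu ▸ hz.map k.continuous)
  have h3 : (∀ u, k u = v → coheight u = 0 → FlatMor.fibreDimAt k u = 0) → ∀ u, k u = v → coheight u = 0 := by
    intro h u hu
    obtain ⟨η, hη, hη0⟩ := FibDim.exists_maximal_generization u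
    have hηv := hgen hu hη
    have hη1 : coheight η = 0 := (coheight_eq_zero_iff η).2 hη0
    have h0 := (FieldFibre.fibreDimAt_eq_zero_iff_rd k η).1 (h η hηv hη1) η specializes_rfl rfl
    by_contra hne
    have hne' : η ≠ u := fun e => hne (e ▸ hη1)
    have := FibDim.rd_lt k hη hne' (hηv.trans hu.symm)
    omega
  refine ⟨⟨fun h u hu => ?_, fun h => h3 fun u hu _ => h u hu⟩, h3⟩
  refine (FieldFibre.fibreDimAt_eq_zero_iff_rd k u).2 fun z _ hkz => DimFormula.rd_eq_zero_of_closed k fun x' hx' hsp => ?_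
  exact ((coheight_eq_zero_iff x').1 (h x' (hx'.trans (hkz.trans hu))) z hsp).symm

variable {S : Scheme.{u}}

theorem iff_and_imp {X Y : AlgSp.Space S} (f : X ⟶ Y) (hf : LocP @LocallyOfFiniteType f.hom) (y : Points Y.obj)
    (hy : HasAt (fun U u => ringKrullDim ↥(U.presheaf.stalk u) = 0) Y.obj y) :
    ((∀ x : Points X.obj, Points.map f.hom x = y → HasAt (fun U u => ringKrullDim ↥(U.presheaf.stalk u) = 0) X.obj x) ↔
        (∀ x : Points X.obj, Points.map f.hom x = y → HasAtMor (fun U _ h u => ∃ W : U.Opens, u ∈ W ∧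
          LocallyQuasiFinite (W.ι ≫ h) ∧ LocallyOfFiniteType (W.ι ≫ h)) f.hom x)) ∧
      ((∀ x : Points X.obj, Points.map f.hom x = y → HasAt (fun U u => ringKrullDim ↥(U.presheaf.stalk u) = 0) X.obj x →
          HasAtMor (fun U _ h u => ∃ W : U.Opens, u ∈ W ∧ LocallyQuasiFinite (W.ι ≫ h) ∧
            LocallyOfFiniteType (W.ι ≫ h)) f.hom x) →
        ∀ x : Points X.obj, Points.map f.hom x = y → HasAt (fun U u => ringKrullDim ↥(U.presheaf.stalk u) = 0) X.obj x) := by
  obtain ⟨U, V, a, b, k, ha, ha', hb, hb', w⟩ := exists_chart X.property Y.property f.hom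
  haveI : LocallyOfFiniteType k.left := hf a b k ha hb w
  obtain ⟨V', b', v', hb₁, hv', hdim⟩ := hy
  have hv : ∀ u : ↥U.left, Points.map f.hom (Points.ofPt a u) = y → coheight (k.left u) = 0 := fun u hu => by
    rw [coheight_eq_of_charts hb hb₁ (u' := v') (by rw [hv', ← hu, Points.map_ofPt, w, ofPt_comp])]
    rw [ringKrullDim_stalk_eq_coheight] at hdim
    exact_mod_cast hdim
  have hmap : ∀ u u' : ↥U.left, k.left u' = k.left u → Points.map f.hom (Points.ofPt a u) = y →
      Points.map f.hom (Points.ofPt a u') = y := fun u u' h hu => by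
    rw [← hu, Points.map_ofPt, Points.map_ofPt, w, ofPt_comp, ofPt_comp, h]
  have hA : ∀ u : ↥U.left, HasAt (fun U u => ringKrullDim ↥(U.presheaf.stalk u) = 0) X.obj (Points.ofPt a u) ↔
      coheight u = 0 := fun u => by
    refine ⟨?_, fun h => ⟨U, a, u, ha, rfl, by show ringKrullDim ↥(U.left.presheaf.stalk u) = 0; rw [ringKrullDim_stalk_eq_coheight, h]; rfl⟩⟩
    rintro ⟨U₁, a₁, u₁, ha₁, hu₁, h⟩
    rw [ringKrullDim_stalk_eq_coheight] at h
    rw [coheight_eq_of_charts ha ha₁ hu₁.symm]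
    exact_mod_cast h
  have hB : ∀ u : ↥U.left, HasAtMor (fun U _ h u => ∃ W : U.Opens, u ∈ W ∧ LocallyQuasiFinite (W.ι ≫ h) ∧
      LocallyOfFiniteType (W.ι ≫ h)) f.hom (Points.ofPt a u) ↔ FlatMor.fibreDimAt k.left u = 0 := fun u => by
    rw [S10313.qfAt_iff hf, FieldFibre.hasAtMor_iff hf ha hb w]
  refine ⟨⟨fun h x hx => ?_, fun h x hx => ?_⟩, fun h x hx => ?_⟩ <;> obtain ⟨u, rfl⟩ := surjective_ofPt ha' x
  · exact (hB u).2 ((scheme_iff k.left _ (hv u hx)).1.1
      (fun u' hu' => (hA u').1 (h _ (hmap u u' hu' hx))) u rfl)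
  · exact (hA u).2 ((scheme_iff k.left _ (hv u hx)).1.2
      (fun u' hu' => (hB u').1 (h _ (hmap u u' hu' hx))) u rfl)
  · exact (hA u).2 ((scheme_iff k.left _ (hv u hx)).2
      (fun u' hu' h0 => (hB u').1 (h _ (hmap u u' hu' hx) ((hA u').2 h0))) u rfl)

end Groth.Agent.AlgSpDec.CodimZeroFibre
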