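import Mathlib.CategoryTheory.Sites.Limits
import Mathlib.CategoryTheory.Sites.LocallyInjective
import Mathlib.CategoryTheory.Sites.LocallySurjective
import Groth.Agent.AlgSpDec.Glue
import Groth.Agent.AlgSpPts.Descent

/-!
# Coproducts of sheaves: disjointness and universality
-/

set_option backward.isDefEq.respectTransparency false
set_option backward.isDefEq.respectTransparency.types false

universe u

open CategoryTheory Limits Opposite AlgebraicGeometry AlgSp Groth.Agent.AlgSpLib Groth.Agent.AlgSpPts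

namespace Groth.Agent.AlgSpDec

variable {S : Scheme.{u}} {ι : Type u} (F : ι → Sp S)

/-- The presheaf coproduct of a family of sheaves. -/
def preSigma : (Over S)ᵒᵖ ⥤ Type (u + 1) where
  obj T := Σ i, (F i).obj.obj T
  map φ := ↾ fun x => ⟨x.1, (F x.1).obj.map φ x.2⟩
  map_id T := by
    apply ConcreteCategory.hom_ext
    rintro ⟨i, x⟩
    change (⟨i, (F i).obj.map (𝟙 T) x⟩ : Σ i, (F i).obj.obj T) = ⟨i, x⟩
    rw [show (F i).obj.map (𝟙 T) x = x from ConcreteCategory.congr_hom ((F i).obj.map_id T) x]
  map_comp {T T' T''} φ ψ := by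
    apply ConcreteCategory.hom_ext
    rintro ⟨i, x⟩
    change (⟨i, (F i).obj.map (φ ≫ ψ) x⟩ : Σ i, (F i).obj.obj T'') = ⟨i, (F i).obj.map ψ ((F i).obj.map φ x)⟩
    rw [show (F i).obj.map (φ ≫ ψ) x = (F i).obj.map ψ ((F i).obj.map φ x) from
      ConcreteCategory.congr_hom ((F i).obj.map_comp φ ψ) x]

/-- The injections of the presheaf coproduct. -/
def preSigmaι (i : ι) : (F i).obj ⟶ preSigma F where
  app T := ↾ fun x => ⟨i, x⟩

/-- The cocone of the presheaf coproduct. -/
def preSigmaCocone : Cocone (Discrete.functor F ⋙ sheafToPresheaf (J S) (Type (u + 1))) where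
  pt := preSigma F
  ι := Discrete.natTrans fun k => preSigmaι F k.as

/-- The presheaf coproduct is a colimit. -/
def isColimitPreSigma : IsColimit (preSigmaCocone F) where
  desc s := { app := fun T => ↾ fun x => (s.ι.app ⟨x.1⟩).app T x.2
              naturality := fun T T' φ => by
                ext ⟨i, x⟩
                exact NatTrans.naturality_apply (s.ι.app ⟨i⟩) φ x }
  fac s k := by
    ext T x
    rfl
  uniq s m hm := by
    ext T ⟨i, x⟩
    exact ConcreteCategory.congr_hom (congrArg (fun α => NatTrans.app α T) (hm ⟨i⟩)) x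

variable {F} (c : Cofan F)

theorem exists_preSigma_map (hc : IsColimit c) :
    ∃ η : preSigma F ⟶ c.pt.obj, Presheaf.IsLocallyInjective (J S) η ∧
      Presheaf.IsLocallySurjective (J S) η ∧ ∀ i, preSigmaι F i ≫ η = (c.inj i).hom := by
  let hE := Sheaf.isColimitSheafifyCocone (J := J S) (preSigmaCocone F) (isColimitPreSigma F)
  let e := hE.coconePointUniqueUpToIso hc
  refine ⟨toSheafify (J S) (preSigma F) ≫ e.hom.hom, ?_, ?_, fun i => ?_⟩
  · have : Presheaf.IsLocallyInjective (J S) e.hom.hom :=
      Presheaf.isLocallyInjective_of_injective (J S) _ fun T =>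
        (ConcreteCategory.bijective_of_isIso
          ((((sheafToPresheaf (J S) (Type (u + 1))).mapIso e).app T).hom)).1
    exact Presheaf.isLocallyInjective_comp (J S) _ _
  · have : Presheaf.IsLocallySurjective (J S) e.hom.hom :=
      Presheaf.isLocallySurjective_of_surjective (J S) _ fun T =>
        (ConcreteCategory.bijective_of_isIso
          ((((sheafToPresheaf (J S) (Type (u + 1))).mapIso e).app T).hom)).2
    exact Presheaf.isLocallySurjective_comp (J S) _ _
  · have h := congrArg (fun f => f.hom) (hE.comp_coconePointUniqueUpToIso_hom hc ⟨i⟩)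
    rw [ObjectProperty.FullSubcategory.comp_hom, Sheaf.sheafifyCocone_ι_app_val, Category.assoc] at h
    exact h

/-- Maps into a coproduct factor locally through the injections. -/
theorem exists_covering_inj (hc : IsColimit c) {T : Over S} (t : (yon S).obj T ⟶ c.pt) :
    ∃ R ∈ J S T, ∀ ⦃T' : Over S⦄ (φ : T' ⟶ T), R φ →
      ∃ i, ∃ s : (yon S).obj T' ⟶ F i, s ≫ c.inj i = (yon S).map φ ≫ t := by
  obtain ⟨η, -, hs, hη⟩ := exists_preSigma_map c hc
  refine ⟨_, Presheaf.imageSieve_mem (J S) η ((J S).uliftYonedaEquiv t), fun T' φ hφ => ?_⟩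
  obtain ⟨⟨i, x⟩, hx⟩ := hφ
  refine ⟨i, (J S).uliftYonedaEquiv.symm x, (J S).uliftYonedaEquiv.injective ?_⟩
  rw [GrothendieckTopology.uliftYonedaEquiv_comp, Equiv.apply_symm_apply, ← uliftYonedaEquiv_precomp,
    ← hη i]
  exact hx

/-- The injections of a coproduct of sheaves are monomorphisms. -/
theorem mono_inj (hc : IsColimit c) (i : ι) : Mono (c.inj i) := by
  obtain ⟨η, hi, -, hη⟩ := exists_preSigma_map c hc
  refine mono_of_yon_injective fun T a b hab => (J S).uliftYonedaEquiv.injective ?_
  have h := congrArg (J S).uliftYonedaEquiv hab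
  rw [GrothendieckTopology.uliftYonedaEquiv_comp, GrothendieckTopology.uliftYonedaEquiv_comp, ← hη i] at h
  have hR := Presheaf.equalizerSieve_mem (J S) η (X := op T) (⟨i, (J S).uliftYonedaEquiv a⟩ : (preSigma F).obj (op T))
    ⟨i, (J S).uliftYonedaEquiv b⟩ h
  refine (((isSheaf_iff_isSheaf_of_type _ _).1 (F i).property).isSeparated _ hR).ext fun T' φ hφ => ?_
  exact eq_of_heq (Sigma.mk.inj_iff.1 (hφ : _ = _)).2

/-- Sheaves have sections over empty schemes. -/
theorem nonempty_hom_of_isEmpty (G : Sp S) (T : Over S) [IsEmpty ↥T.left] :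
    Nonempty ((yon S).obj T ⟶ G) := by
  have hR : (⊥ : Sieve T) ∈ J S T := mem_J_of_openCover
    (Scheme.openCoverOfIsOpenCover T.left (fun i : PEmpty.{u + 1} => i.elim)
      (TopologicalSpace.Opens.ext (Set.eq_univ_of_forall fun x => isEmptyElim x).symm |>.symm)) _
    fun i => i.elim
  obtain ⟨x, -⟩ := ((isSheaf_iff_isSheaf_of_type _ _).1 G.property) _ hR
    (fun _ _ h => h.elim) (fun _ _ _ _ _ _ _ h => h.elim)
  exact ⟨(J S).uliftYonedaEquiv.symm x⟩

/-- The disjoint union of copies of the base indexed by the summands. -/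
noncomputable abbrev copies (S : Scheme.{u}) (ι : Type u) : Over S := sigmaOver fun _ : ι => Over.mk (𝟙 S)

/-- The inclusion of a copy of the base. -/
noncomputable abbrev copyι (S : Scheme.{u}) (ι : Type u) (i : ι) : Over.mk (𝟙 S) ⟶ copies S ι :=
  sigmaι (fun _ : ι => Over.mk (𝟙 S)) i

/-- The classifying map of a coproduct. -/
noncomputable def classify (hc : IsColimit c) : c.pt ⟶ (yon S).obj (copies S ι) :=
  Cofan.IsColimit.desc hc fun i => (isTerminalYon S).from (F i) ≫ (yon S).map (copyι S ι i)

/-- Each summand is the inverse image of the corresponding copy of the base. -/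
theorem isPullback_inj (hc : IsColimit c) (i : ι) :
    IsPullback (c.inj i) ((isTerminalYon S).from (F i)) (classify c hc) ((yon S).map (copyι S ι i)) := by
  have hw : ∀ j, c.inj j ≫ classify c hc = (isTerminalYon S).from (F j) ≫ (yon S).map (copyι S ι j) :=
    fun j => Cofan.IsColimit.fac hc _ j
  let k : F i ⟶ pullback (classify c hc) ((yon S).map (copyι S ι i)) := pullback.lift (c.inj i) _ (hw i)
  have := mono_inj c hc i
  have : Mono k := mono_of_mono_fac (pullback.lift_fst _ _ _ : k ≫ _ = c.inj i)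
  have : Mono (sigmaι (fun _ : ι => Over.mk (𝟙 S)) i) := (Over.forget S).mono_of_mono_map
    (inferInstanceAs (Mono (sigmaι (fun _ : ι => Over.mk (𝟙 S)) i).left))
  have : Mono ((yon S).map (sigmaι (fun _ : ι => Over.mk (𝟙 S)) i)) := (yon S).map_mono _
  have : Mono (pullback.fst (classify c hc) ((yon S).map (copyι S ι i))) := inferInstance
  have : Sheaf.IsLocallySurjective k := ⟨fun {T} x => by
    obtain ⟨t, rfl⟩ : ∃ t : (yon S).obj T ⟶ pullback (classify c hc) ((yon S).map (copyι S ι i)),
        (J S).uliftYonedaEquiv t = x := ⟨_, Equiv.apply_symm_apply _ x⟩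
    obtain ⟨R, hR, hR'⟩ := exists_covering_inj c hc (t ≫ pullback.fst _ _)
    refine (J S).superset_covering (fun T' φ hφ => ?_) hR
    obtain ⟨j, s, hs⟩ := hR' φ hφ
    suffices h : ∃ l : (yon S).obj T' ⟶ F i, l ≫ c.inj i = (yon S).map φ ≫ t ≫ pullback.fst _ _ by
      obtain ⟨l, hl⟩ := h
      refine ⟨(J S).uliftYonedaEquiv l, ?_⟩
      have h2 : l ≫ k = (yon S).map φ ≫ t := by
        rw [← cancel_mono (pullback.fst (classify c hc) ((yon S).map (copyι S ι i))), Category.assoc,
          pullback.lift_fst, hl, Category.assoc]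
      have h3 := congrArg (J S).uliftYonedaEquiv h2
      rw [GrothendieckTopology.uliftYonedaEquiv_comp, ← uliftYonedaEquiv_precomp] at h3
      exact h3
    by_cases hji : j = i
    · subst hji
      exact ⟨s, hs⟩
    have h1 := congrArg (· ≫ classify c hc) hs
    simp only [Category.assoc, hw, pullback.condition] at h1
    rw [← Category.assoc s, ← Category.assoc t] at h1
    obtain ⟨a, ha⟩ := (yon S).map_surjective (s ≫ (isTerminalYon S).from (F j))
    obtain ⟨b, hb⟩ := (yon S).map_surjective ((yon S).map φ ≫ t ≫ pullback.snd (classify c hc) ((yon S).map (copyι S ι i)))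
    have h2 : a ≫ sigmaι (fun _ : ι => Over.mk (𝟙 S)) j = b ≫ sigmaι (fun _ : ι => Over.mk (𝟙 S)) i :=
      (yon S).map_injective (by
        rw [Functor.map_comp, Functor.map_comp, ha, hb]
        simpa only [Category.assoc] using h1)
    have : IsEmpty ↥T'.left := ⟨fun z => hji (sigmaι_injective (fun _ : ι => Over.mk (𝟙 S)) (i := j) (j := i) (v := a.left z) (w := b.left z) (by
      rw [← Scheme.Hom.comp_apply, ← Scheme.Hom.comp_apply, ← Over.comp_left, ← Over.comp_left, h2]))⟩
    obtain ⟨l⟩ := nonempty_hom_of_isEmpty (F i) T'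
    exact ⟨l, hom_ext_of_isEmpty _ _⟩⟩
  have := isIso_of_mono_of_locallySurjective k
  exact IsPullback.of_iso_pullback ⟨hw i⟩ (asIso k) (pullback.lift_fst _ _ _) (pullback.lift_snd _ _ _)

end Groth.Agent.AlgSpDec
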