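import Groth.Agent.AlgSpDec.Cofan
import Groth.Agent.AlgSpPts.Misc

/-!
Points of coproducts of spaces.
-/

set_option backward.isDefEq.respectTransparency false
set_option backward.isDefEq.respectTransparency.types false

universe u

open CategoryTheory Limits AlgebraicGeometry AlgSp Groth.Agent.AlgSpLib Groth.Agent.AlgSpPts

namespace Groth.Agent.AlgSpDec

variable {S : Scheme.{u}} {ι : Type u} {F : ι → Sp S} (c : Cofan F)

theorem exists_inj_point (hc : IsColimit c) (x : Points c.pt) : ∃ i y, Points.map (c.inj i) y = x := by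
  obtain ⟨w, hw⟩ := (Points.schemeHomeo (copies S ι)).surjective (Points.map (classify c hc) x)
  obtain ⟨i, v, hv⟩ := exists_sigmaι _ w
  obtain ⟨z, hz, -⟩ := exists_point_of_isPullback (isPullback_inj c hc i) (x := x) (y := Points.ofScheme _ v)
    ((hw.symm.trans (congrArg (Points.schemeHomeo _) hv.symm)).trans (Points.map_yon_map_apply (copyι S ι i) v).symm)
  exact ⟨i, z, hz⟩

theorem isQuasiCompactSp_of_cofan [Finite ι] (hc : IsColimit c) (hF : ∀ i, IsAlgSpace (F i))
    (hA : IsAlgSpace c.pt) (hqc : ∀ i, IsQuasiCompactSp (F i)) : IsQuasiCompactSp c.pt := by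
  haveI : ∀ i, CompactSpace (Points (F i)) := fun i => (isQuasiCompactSp_iff (hF i)).1 (hqc i)
  refine (isQuasiCompactSp_iff hA).2 ⟨?_⟩
  rw [show (Set.univ : Set (Points c.pt)) = ⋃ i, Set.range (Points.map (c.inj i)) from
    (Set.eq_univ_of_forall fun x => Set.mem_iUnion.2 (exists_inj_point c hc x)).symm]
  exact isCompact_iUnion fun i => isCompact_range (Points.continuous_map _)

end Groth.Agent.AlgSpDec
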