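import Groth.Agent.AlgSpLib.Points
import Mathlib.AlgebraicGeometry.Morphisms.FinitePresentation

/-!
Local constructibility: preimages and etale descent.
-/

set_option backward.isDefEq.respectTransparency false
set_option backward.isDefEq.respectTransparency.types false

universe u

open CategoryTheory CategoryTheory.Limits AlgebraicGeometry AlgSp Groth.Agent.AlgSpLib Topology TopologicalSpace

namespace Groth.Agent.AlgSpDec

variable {X Y : Scheme.{u}}

theorem isLocallyConstructible_preimage_hom (f : X ⟶ Y) {A : Set Y} (hA : IsLocallyConstructible A) :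
    IsLocallyConstructible (f ⁻¹' A) := by
  intro x
  obtain ⟨V, hV, hxV, -⟩ := exists_isAffineOpen_mem_and_subset (U := (⊤ : Y.Opens)) (x := f x) trivial
  obtain ⟨W, hW, hxW, hWV⟩ := exists_isAffineOpen_mem_and_subset (U := f ⁻¹ᵁ V) (x := x) hxV
  refine ⟨W, W.isOpen.mem_nhds hxW, W.isOpen, ?_⟩
  haveI : IsAffine V.toScheme := hV
  haveI : IsAffine W.toScheme := hW
  let g : W.toScheme ⟶ V.toScheme := f.resLE V W hWV
  have h1 : IsConstructible (V.ι ⁻¹' A) := (hA.preimage_of_isOpenEmbedding V.ι.isOpenEmbedding).isConstructible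
  have h2 := h1.preimage g.continuous fun O hO hO' => by
    rw [QuasiSeparatedSpace.isRetrocompact_iff_isCompact hO] at hO'
    exact (QuasiSeparatedSpace.isRetrocompact_iff_isCompact (hO.preimage g.continuous)).2
      (QuasiCompact.isCompact_preimage (f := g) O hO hO')
  have e : g ⁻¹' (V.ι ⁻¹' A) = W.ι ⁻¹' (f ⁻¹' A) := by
    ext z
    have : V.ι (g z) = f (W.ι z) := by
      rw [← Scheme.Hom.comp_apply, ← Scheme.Hom.comp_apply, Scheme.Hom.resLE_comp_ι]
    show V.ι (g z) ∈ A ↔ f (W.ι z) ∈ A
    rw [this]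
  rw [e] at h2
  exact h2

theorem isLocallyConstructible_of_preimage (f : X ⟶ Y) [Etale f] [Surjective f] {A : Set Y}
    (hA : IsLocallyConstructible (f ⁻¹' A)) : IsLocallyConstructible A := by
  have key : ∀ y : Y, ∃ V : Y.Opens, y ∈ V ∧ IsLocallyConstructible (V.ι ⁻¹' A) := by
    intro y
    obtain ⟨V, hV, hyV, -⟩ := exists_isAffineOpen_mem_and_subset (U := (⊤ : Y.Opens)) (x := y) trivial
    choose x hx using fun v : V => f.surjective v.1
    choose W hW hxW hWV using fun v : V =>
      exists_isAffineOpen_mem_and_subset (U := f ⁻¹ᵁ V) (x := x v) (show f (x v) ∈ V by rw [hx]; exact v.2)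
    obtain ⟨t, ht⟩ := hV.isCompact.elim_finite_subcover (fun v : V => f '' (W v : Set X))
      (fun v => f.isOpenMap _ (W v).isOpen)
      (fun v hv => Set.mem_iUnion.2 ⟨⟨v, hv⟩, x ⟨v, hv⟩, hxW _, hx _⟩)
    let K : X.Opens := ⨆ v : t, W v
    have hK : IsCompact (K : Set X) := by
      simp only [K, Opens.coe_iSup]
      exact isCompact_iUnion fun v => (hW v).isCompact
    have hKV : K ≤ f ⁻¹ᵁ V := iSup_le fun v z hz => hWV v hz
    haveI : CompactSpace K.toScheme := isCompact_iff_compactSpace.1 hK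
    haveI : IsAffine V.toScheme := hV
    let g : K.toScheme ⟶ V.toScheme := f.resLE V K hKV
    haveI : Etale g := IsZariskiLocalAtSource.resLE hKV ‹Etale f›
    haveI : QuasiCompact g := HasAffineProperty.iff_of_isAffine.2 ‹CompactSpace K.toScheme›
    refine ⟨V, hyV, ?_⟩
    have h := g.isLocallyConstructible_image (hA.preimage_of_isOpenEmbedding K.ι.isOpenEmbedding)
    have hg : ∀ z : K.toScheme, V.ι (g z) = f (K.ι z) := fun z => by
      rw [← Scheme.Hom.comp_apply, ← Scheme.Hom.comp_apply, Scheme.Hom.resLE_comp_ι]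
    convert h using 1
    ext v
    constructor
    · intro hv
      obtain ⟨i, hi⟩ := Set.mem_iUnion.1 (ht v.2)
      obtain ⟨hit, z, hz, hzv⟩ : i ∈ t ∧ ∃ z ∈ (W i : Set X), f z = v.1 := by simpa using hi
      refine ⟨⟨z, Opens.mem_iSup.2 ⟨⟨i, hit⟩, hz⟩⟩, ?_, V.ι.isOpenEmbedding.injective ((hg _).trans hzv)⟩
      show f z ∈ A
      rw [hzv]; exact hv
    · rintro ⟨z, hz, rfl⟩
      show V.ι (g z) ∈ A
      rw [hg]; exact hz
  choose V hyV hV using key
  exact .of_isOpenCover (U := V) (Opens.ext (Set.eq_univ_of_forall fun y => by simpa using ⟨y, hyV y⟩)) hV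

theorem isLocallyConstructible_preimage_chart {S : Scheme.{u}} {F : Sp S} (E : Set (Points F)) {U V : Over S}
    (p : (yon S).obj U ⟶ F) (hp : RepWith @Etale p) (hs : RepWith @Surjective p)
    (hE : IsLocallyConstructible (Points.ofPt p ⁻¹' E)) (a : (yon S).obj V ⟶ F) :
    IsLocallyConstructible (Points.ofPt a ⁻¹' E) := by
  have sq := hp.rep.isPullback' a
  haveI : Etale (hp.rep.snd a).left := hp.property_snd a
  haveI : Surjective (hp.rep.snd a).left := hs.property _ _ _ (hp.rep.isPullback a)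
  refine isLocallyConstructible_of_preimage (hp.rep.snd a).left ?_
  convert isLocallyConstructible_preimage_hom (hp.rep.fst' a).left hE using 1
  ext r
  show Points.ofPt a _ ∈ E ↔ Points.ofPt p _ ∈ E
  rw [← ofPt_comp, ← ofPt_comp, sq.w]

end Groth.Agent.AlgSpDec
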