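import Groth.Agent.AlgSpDec.DenseNoQs
import Groth.Agent.AlgSpDec.AffineLocal
import Groth.Agent.AlgSpDec.Fibres
import Groth.Agent.AlgSpPts.OpenSub
import Groth.Agent.AlgSpDec.LqfScheme
import Groth.Agent.EtCount.Basic
import Groth.Agent.EtFound.Descent
import Groth.Prelude.Def_AlgSpDec

/-!
Decent spaces have dense open subschemes.
-/

set_option backward.isDefEq.respectTransparency false
set_option backward.isDefEq.respectTransparency.types false

universe u

open CategoryTheory CategoryTheory.Limits AlgebraicGeometry AlgSp Groth.Agent.AlgSpLib Groth.Agent.AlgSpPts TopologicalSpace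
open Groth.Agent.EtCount (Lifts)

namespace Groth.Agent.AlgSpDec

/-- A sequence of closed subsets covering a spectrum: some of them has an interior point in any given open. -/
theorem exists_interior_of_iUnion_closed {R : Type u} [CommRing R] (C : ℕ → Set (PrimeSpectrum R))
    (hC : ∀ m, IsClosed (C m)) (hcov : ∀ x, ∃ m, x ∈ C m) {O : Set (PrimeSpectrum R)} (hO : IsOpen O)
    (hne : O.Nonempty) : ∃ (m : ℕ) (G : Set (PrimeSpectrum R)), IsOpen G ∧ G.Nonempty ∧ G ⊆ O ∧ G ⊆ C m := by
  by_contra hcon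
  push Not at hcon
  let B : Set R := {f | (PrimeSpectrum.basicOpen f : Set (PrimeSpectrum R)).Nonempty ∧
    (PrimeSpectrum.basicOpen f : Set (PrimeSpectrum R)) ⊆ O}
  have hstep : ∀ (m : ℕ) (f : B), ∃ g : B, f.1 ∣ g.1 ∧
      (PrimeSpectrum.basicOpen g.1 : Set (PrimeSpectrum R)) ⊆ (C m)ᶜ := by
    rintro m ⟨f, hf, hfO⟩
    obtain ⟨x, hxf, hxC⟩ := Set.not_subset.1 (hcon m _ (PrimeSpectrum.basicOpen f).isOpen hf hfO)
    obtain ⟨_, ⟨g, rfl⟩, hxg, hg⟩ := PrimeSpectrum.isTopologicalBasis_basic_opens.exists_subset_of_mem_open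
      (show x ∈ (C m)ᶜ from hxC) (hC m).isOpen_compl
    refine ⟨⟨f * g, ⟨x, ?_⟩, fun y hy => ?_⟩, dvd_mul_right f g, fun y hy => ?_⟩
    · rw [PrimeSpectrum.basicOpen_mul]; exact ⟨hxf, hxg⟩
    · rw [PrimeSpectrum.basicOpen_mul] at hy; exact hfO hy.1
    · rw [PrimeSpectrum.basicOpen_mul] at hy; exact hg hy.2
  choose next hdvd hnext using hstep
  obtain ⟨x, hx⟩ := hne
  obtain ⟨_, ⟨f₀, rfl⟩, hxf₀, hf₀⟩ :=
    PrimeSpectrum.isTopologicalBasis_basic_opens.exists_subset_of_mem_open hx hO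
  let f : ℕ → B := fun m => Nat.rec ⟨f₀, ⟨x, hxf₀⟩, hf₀⟩ next m
  have hmono : ∀ i j, i ≤ j → (f i).1 ∣ (f j).1 := fun i j hij => by
    induction hij with
    | refl => exact dvd_rfl
    | step _ ih => exact ih.trans (hdvd _ _)
  let M : Submonoid R := {
    carrier := {r | ∃ m k : ℕ, r ∣ (f m).1 ^ k}
    one_mem' := ⟨0, 0, by simp⟩
    mul_mem' := by
      rintro r r' ⟨m, k, hr⟩ ⟨m', k', hr'⟩
      refine ⟨max m m', k + k', ?_⟩
      rw [pow_add]
      exact mul_dvd_mul (hr.trans (pow_dvd_pow_of_dvd (hmono _ _ (le_max_left _ _)) _))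
        (hr'.trans (pow_dvd_pow_of_dvd (hmono _ _ (le_max_right _ _)) _)) }
  have hdisj : Disjoint ((⊥ : Ideal R) : Set R) (M : Set R) := by
    refine Set.disjoint_left.2 fun r hr hrM => ?_
    obtain ⟨m, k, hrk⟩ := hrM
    obtain rfl : r = 0 := by simpa using hr
    obtain ⟨y, hy⟩ := (f m).2.1
    exact hy (y.isPrime.mem_of_pow_mem k (by rw [zero_dvd_iff.1 hrk]; exact zero_mem _))
  obtain ⟨P, hP, -, hPM⟩ := Ideal.exists_le_prime_disjoint (⊥ : Ideal R) M hdisj
  obtain ⟨m, hm⟩ := hcov ⟨P, hP⟩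
  refine hnext m (f m) (fun hmem => Set.disjoint_left.1 hPM hmem ⟨m + 1, 1, by rw [pow_one]⟩) hm

theorem exists_interior_of_iUnion_closed_scheme {U : Scheme.{u}} [IsAffine U] (C : ℕ → Set U)
    (hC : ∀ m, IsClosed (C m)) (hcov : ∀ x, ∃ m, x ∈ C m) {O : Set U} (hO : IsOpen O)
    (hne : O.Nonempty) : ∃ (m : ℕ) (G : Set U), IsOpen G ∧ G.Nonempty ∧ G ⊆ O ∧ G ⊆ C m := by
  let e := U.isoSpec.hom.homeomorph
  obtain ⟨m, G, hG, ⟨y, hy⟩, hGO, hGC⟩ := exists_interior_of_iUnion_closed (R := Γ(U, ⊤)) (fun m => e '' C m)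
    (fun m => e.isClosedMap _ (hC m))
    (fun x => (hcov (e.symm x)).imp fun m hm => ⟨_, hm, e.apply_symm_apply x⟩)
    (e.isOpenMap _ hO) (hne.image e)
  exact ⟨m, e ⁻¹' G, hG.preimage e.continuous, ⟨e.symm y, by simpa using hy⟩,
    fun x hx => by
      obtain ⟨z, hz, hzx⟩ := hGO hx
      exact e.injective hzx ▸ hz,
    fun x hx => by
      obtain ⟨z, hz, hzx⟩ := hGC hx
      exact e.injective hzx ▸ hz⟩

section count

variable {X Y : Scheme.{u}} (f : X ⟶ Y) [Etale f]

theorem exists_lift_through {y : Y} {x : X} (hx : f x = y) :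
    ∃ l : Lifts f (EtCount.geomPt y), l.1 (IsLocalRing.closedPoint _) = x := by
  obtain ⟨l, hl, hlx⟩ := Scheme.exists_fac_of_etale_of_isSepClosed f (EtCount.geomPt y) x
    (hx.trans (EtCount.geomPt_apply y _).symm)
  exact ⟨⟨l, hl⟩, (congrArg l (Subsingleton.elim _ _)).trans hlx⟩

theorem finite_geomFiber_of_finite_preimage {y : Y} (hy : (f ⁻¹' {y}).Finite) :
    Finite ↥(MoreMor.geomFiber f y) := by
  have := Groth.Agent.MorLib.GP.discreteTopology_geomFiber f y
  haveI := hy.to_subtype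
  haveI : Finite ↥(f.fiber y) := Finite.of_equiv _ (f.fiberHomeo y).toEquiv.symm
  have : CompactSpace ↥(f.fiber y) := Finite.compactSpace
  have : QuasiCompact (f.fiberToSpecResidueField y) := HasAffineProperty.iff_of_isAffine.2 ‹_›
  let g : Spec (CommRingCat.of (SeparableClosure (Y.residueField y))) ⟶ Spec (Y.residueField y) :=
    Spec.map (CommRingCat.ofHom (algebraMap (Y.residueField y) (SeparableClosure (Y.residueField y))))
  let q : MoreMor.geomFiber f y ⟶ Spec (CommRingCat.of (SeparableClosure (Y.residueField y))) :=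
    pullback.snd (f.fiberToSpecResidueField y) g
  have hq : QuasiCompact q :=
    quasiCompact_isStableUnderBaseChange.of_isPullback (IsPullback.of_hasPullback (f.fiberToSpecResidueField y) g) this
  have : CompactSpace ↥(MoreMor.geomFiber f y) := QuasiCompact.compactSpace_of_compactSpace q
  exact finite_of_compact_of_discrete

/-- A separated etale morphism with constant finite geometric fibre count is quasi-compact. -/
theorem quasiCompact_of_card_eq [IsSeparated f] (n : ℕ)
    (h : ∀ y, ENat.card ↥(MoreMor.geomFiber f y) = n) : QuasiCompact f := by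
  have key : ∀ y : Y, ∃ V : Y.Opens, y ∈ V ∧ IsAffineOpen V ∧ IsCompact ((f ⁻¹ᵁ V : X.Opens) : Set X) := by
    intro y
    obtain ⟨V, hV, hyV, -⟩ := exists_isAffineOpen_mem_and_subset (U := (⊤ : Y.Opens)) (x := y) trivial
    have hfy : (f ⁻¹' {y}).Finite := by
      haveI : Finite (Lifts f (EtCount.geomPt y)) := by
        have hlt : ENat.card (Lifts f (EtCount.geomPt y)) < ⊤ := by
          rw [← EtCount.card_geomFiber, h y]; exact ENat.coe_lt_top n
        exact ENat.card_lt_top.1 hlt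
      exact (Set.finite_range fun l : Lifts f (EtCount.geomPt y) => l.1 (IsLocalRing.closedPoint _)).subset
        fun x hx => exists_lift_through f hx
    choose A hA hxA hAV using fun x : f ⁻¹' {y} =>
      exists_isAffineOpen_mem_and_subset (U := f ⁻¹ᵁ V) (x := x.1)
        (show f x.1 ∈ V by rw [show f x.1 = y from x.2]; exact hyV)
    haveI := hfy.to_subtype
    let K : X.Opens := ⨆ x, A x
    have hKc : IsCompact (K : Set X) := by
      simp only [K, Opens.coe_iSup]
      exact isCompact_iUnion fun x => (hA x).isCompact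
    have hKV : K ≤ f ⁻¹ᵁ V := iSup_le fun x z hz => hAV x hz
    have hcount : ∀ z, ENat.card (Lifts (K.ι ≫ f) (EtCount.geomPt z)) ≤ n ∧
        (ENat.card (Lifts (K.ι ≫ f) (EtCount.geomPt z)) = n ↔ f ⁻¹' {z} ⊆ K) := by
      intro z
      let φ : Lifts (K.ι ≫ f) (EtCount.geomPt z) → Lifts f (EtCount.geomPt z) := fun l =>
        ⟨l.1 ≫ K.ι, by rw [Category.assoc]; exact l.2⟩
      have hφ : Function.Injective φ := fun l l' he =>
        Subtype.ext ((cancel_mono K.ι).1 (congrArg Subtype.val he))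
      have hn : ENat.card (Lifts f (EtCount.geomPt z)) = n := by rw [← EtCount.card_geomFiber, h z]
      haveI : Finite (Lifts f (EtCount.geomPt z)) :=
        ENat.card_lt_top.1 (hn ▸ ENat.coe_lt_top n)
      refine ⟨hn ▸ ENat.card_le_card_of_injective hφ, fun he x hx => ?_, fun hsub => ?_⟩
      · haveI : Finite (Lifts (K.ι ≫ f) (EtCount.geomPt z)) := Finite.of_injective φ hφ
        have hsurj : Function.Surjective φ := by
          refine (Function.Injective.bijective_of_nat_card_le hφ ?_).2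
          have := he.trans hn.symm
          rw [ENat.card_eq_coe_natCard, ENat.card_eq_coe_natCard] at this
          exact_mod_cast this.ge
        obtain ⟨l, hl⟩ := exists_lift_through f hx
        obtain ⟨l', rfl⟩ := hsurj l
        rw [← hl]
        exact (l'.1 (IsLocalRing.closedPoint _)).2
      · refine (le_antisymm (hn ▸ ENat.card_le_card_of_injective hφ) ?_)
        rw [← hn]
        refine ENat.card_le_card_of_injective (f := fun l : Lifts f (EtCount.geomPt z) =>
          (⟨IsOpenImmersion.lift K.ι l.1 ?_, by rw [IsOpenImmersion.lift_fac_assoc]; exact l.2⟩ :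
            Lifts (K.ι ≫ f) (EtCount.geomPt z))) ?_
        · rintro _ ⟨p, rfl⟩
          rw [Scheme.Opens.range_ι]
          refine hsub ?_
          show f (l.1 p) = z
          exact (congrArg (fun m : _ ⟶ Y => m p) l.2).trans (EtCount.geomPt_apply z p)
        · intro l l' he
          have := congrArg (fun m : Lifts (K.ι ≫ f) (EtCount.geomPt z) => m.1 ≫ K.ι) he
          simp only [IsOpenImmersion.lift_fac] at this
          exact Subtype.ext this
    have hmem : y ∈ {z : Y | (n : ℕ∞) ≤ ENat.card ↥(MoreMor.geomFiber (K.ι ≫ f) z)} := by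
      show (n : ℕ∞) ≤ ENat.card ↥(MoreMor.geomFiber (K.ι ≫ f) y)
      rw [EtCount.card_geomFiber]
      exact (((hcount y).2).2 fun x hx => Opens.mem_iSup.2 ⟨⟨x, hx⟩, hxA _⟩).ge
    obtain ⟨V', hV', hyV', hV'sub⟩ := exists_isAffineOpen_mem_and_subset (x := y)
      (U := V ⊓ ⟨_, EtCount.isOpen_le_card n (K.ι ≫ f)⟩) ⟨hyV, hmem⟩
    refine ⟨V', hyV', hV', ?_⟩
    haveI : CompactSpace K.toScheme := isCompact_iff_compactSpace.1 hKc
    haveI : IsAffine V.toScheme := hV
    let g : K.toScheme ⟶ V.toScheme := f.resLE V K hKV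
    have hcomp : IsCompact (g ⁻¹ᵁ (V.ι ⁻¹ᵁ V') : Set K.toScheme) :=
      QuasiCompact.isCompact_preimage (f := g) _ (V.ι ⁻¹ᵁ V').isOpen
        (V.ι.isOpenEmbedding.isInducing.isCompact_preimage' hV'.isCompact
          (by rw [Scheme.Opens.range_ι]; exact fun z hz => (hV'sub hz).1))
    have himg : K.ι '' (g ⁻¹ᵁ (V.ι ⁻¹ᵁ V') : Set K.toScheme) = ((f ⁻¹ᵁ V' : X.Opens) : Set X) := by
      have hg : ∀ z : K.toScheme, V.ι (g z) = f (K.ι z) := fun z => by
        rw [← Scheme.Hom.comp_apply, ← Scheme.Hom.comp_apply, Scheme.Hom.resLE_comp_ι]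
      ext x
      constructor
      · rintro ⟨z, hz, rfl⟩
        show f (K.ι z) ∈ V'
        rw [← hg]; exact hz
      · intro hx
        have hxK : x ∈ K := by
          have h1 := (hV'sub (hx : f x ∈ V')).2
          change (n : ℕ∞) ≤ ENat.card ↥(MoreMor.geomFiber (K.ι ≫ f) (f x)) at h1
          rw [EtCount.card_geomFiber] at h1
          exact ((hcount _).2).1 (le_antisymm (hcount _).1 h1) rfl
        exact ⟨⟨x, hxK⟩, show V.ι (g _) ∈ V' by rw [hg]; exact hx, rfl⟩
    rw [← himg]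
    exact hcomp.image K.ι.continuous
  choose V hyV hV hc using key
  refine (IsZariskiLocalAtTarget.iff_of_iSup_eq_top (P := @QuasiCompact) V
    (top_le_iff.1 fun y _ => Opens.mem_iSup.2 ⟨y, hyV y⟩)).2 fun y => ?_
  haveI : IsAffine (V y).toScheme := hV y
  exact HasAffineProperty.iff_of_isAffine.2 (isCompact_iff_compactSpace.1 (hc y))

end count

variable {S : Scheme.{u}} {X : Sp S} {U : Over S} {a : (yon S).obj U ⟶ X}

theorem mono_pullback_lift (ha : RepWith @Etale a) :
    Mono (pullback.lift (ha.rep.fst' a).left (ha.rep.snd a).left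
      ((Over.w (ha.rep.fst' a)).trans (Over.w (ha.rep.snd a)).symm) : (ha.rep.pullback a).left ⟶ pullback U.hom U.hom) := by
  refine ⟨fun {Z} g₁ g₂ h => ?_⟩
  have ht := (congrArg (· ≫ pullback.fst U.hom U.hom) h)
  have hs := (congrArg (· ≫ pullback.snd U.hom U.hom) h)
  simp only [Category.assoc, pullback.lift_fst, pullback.lift_snd] at ht hs
  let G₁ : Over.mk (g₁ ≫ (ha.rep.pullback a).hom) ⟶ ha.rep.pullback a := Over.homMk g₁ rfl
  let G₂ : Over.mk (g₁ ≫ (ha.rep.pullback a).hom) ⟶ ha.rep.pullback a := Over.homMk g₂ (by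
    have := congrArg (· ≫ U.hom) hs
    simp only [Category.assoc, Over.w] at this
    exact this.symm)
  have : G₁ = G₂ := (yon S).map_injective ((ha.rep.isPullback' a).hom_ext
    (by rw [← Functor.map_comp, ← Functor.map_comp, show G₁ ≫ ha.rep.fst' a = G₂ ≫ ha.rep.fst' a from
      Over.OverMorphism.ext ht])
    (by rw [← Functor.map_comp, ← Functor.map_comp, show G₁ ≫ ha.rep.snd a = G₂ ≫ ha.rep.snd a from
      Over.OverMorphism.ext hs]))
  exact congrArg (fun G => G.left) this

theorem isSeparated_snd_of_isAffine (ha : RepWith @Etale a) [IsAffine U.left] :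
    IsSeparated (ha.rep.snd a).left := by
  haveI : IsSeparated U.hom := inferInstance
  haveI := mono_pullback_lift ha
  rw [← pullback.lift_snd (f := U.hom) (g := U.hom) (ha.rep.fst' a).left (ha.rep.snd a).left
    ((Over.w (ha.rep.fst' a)).trans (Over.w (ha.rep.snd a)).symm)]
  infer_instance

/-- Lifts along the second projection of a kernel pair. -/
theorem card_lifts_snd (ha : RepWith @Etale a) {K : Type u} [Field K] {w : Spec (CommRingCat.of K) ⟶ S}
    (g : Over.mk w ⟶ U) :
    ENat.card (Lifts (ha.rep.snd a).left g.left) =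
      ENat.card {h : Over.mk w ⟶ U // (yon S).map h ≫ a = (yon S).map g ≫ a} := by
  have sq := ha.rep.isPullback' a
  let H : Lifts (ha.rep.snd a).left g.left → (Over.mk w ⟶ ha.rep.pullback a) := fun l =>
    Over.homMk l.1 (by rw [← Over.w (ha.rep.snd a), ← Category.assoc, l.2]; exact Over.w g)
  have hH : ∀ l, H l ≫ ha.rep.snd a = g := fun l => Over.OverMorphism.ext l.2
  refine ENat.card_congr (Equiv.ofBijective (fun l => ⟨H l ≫ ha.rep.fst' a, by
    rw [Functor.map_comp, Category.assoc, sq.w, ← Functor.map_comp_assoc, hH]⟩) ⟨?_, ?_⟩)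
  · intro l l' he
    have he' : H l ≫ ha.rep.fst' a = H l' ≫ ha.rep.fst' a := congrArg Subtype.val he
    have : H l = H l' := (yon S).map_injective (sq.hom_ext
      (by rw [← Functor.map_comp, ← Functor.map_comp, he'])
      (by rw [← Functor.map_comp, ← Functor.map_comp, hH, hH]))
    exact Subtype.ext (congrArg (fun G => G.left) this)
  · rintro ⟨h, hh⟩
    obtain ⟨r, hr₁, hr₂⟩ := sq.exists_lift ((yon S).map h) ((yon S).map g) hh
    obtain ⟨r', rfl⟩ := (yon S).map_surjective r
    rw [← Functor.map_comp] at hr₁ hr₂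
    have h1 := (yon S).map_injective hr₁
    have h2 := (yon S).map_injective hr₂
    refine ⟨⟨r'.left, congrArg (fun G => G.left) h2⟩, Subtype.ext ?_⟩
    exact (congrArg (· ≫ ha.rep.fst' a) (Over.OverMorphism.ext rfl)).trans h1

/-- The geometric fibre count of a chart is constant on classes. -/
theorem ofPt_fst_eq_snd (ha : RepWith @Etale a) (r : (ha.rep.pullback a).left) :
    Points.ofPt a ((ha.rep.fst' a).left r) = Points.ofPt a ((ha.rep.snd a).left r) := by
  rw [← ofPt_comp, ← ofPt_comp, (ha.rep.isPullback' a).w]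

/-- A pullback square refined along monomorphisms. -/
theorem isPullback_of_mono {C : Type*} [Category C] {P A A' B Y Z : C} {t : P ⟶ A'} {i : A' ⟶ A} {s : P ⟶ B}
    {a : A ⟶ Y} {b : A' ⟶ Z} {b' : B ⟶ Z} {j : Z ⟶ Y} [Mono i] (hw : t ≫ b = s ≫ b') (hb : b ≫ j = i ≫ a)
    (sq : IsPullback (t ≫ i) s a (b' ≫ j)) : IsPullback t s b b' :=
  ⟨⟨hw⟩, ⟨PullbackCone.IsLimit.mk _
    (fun c => sq.lift (c.fst ≫ i) c.snd (by rw [Category.assoc, ← hb, ← Category.assoc, c.condition, Category.assoc]))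
    (fun c => (cancel_mono i).1 (by rw [Category.assoc, sq.lift_fst]))
    (fun c => sq.lift_snd _ _ _)
    (fun c m hm₁ hm₂ => sq.hom_ext (by rw [sq.lift_fst, ← hm₁, Category.assoc]) (by rw [sq.lift_snd, hm₂]))⟩⟩

open Groth.Agent.EtCount in
theorem card_geomFiber_restrict {X Y : Scheme.{u}} (f : X ⟶ Y) [Etale f] (U : Y.Opens) (u : U.toScheme) :
    ENat.card ↥(MoreMor.geomFiber (f ∣_ U) u) = ENat.card ↥(MoreMor.geomFiber f (U.ι u)) := by
  rw [card_geomFiber]
  have h1 : ENat.card (Lifts (f ∣_ U) (geomPt u)) = ENat.card (Lifts f (geomPt u ≫ U.ι)) := by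
    refine ENat.card_congr ⟨fun a => ⟨a.1 ≫ (f ⁻¹ᵁ U).ι, ?_⟩, fun b => ⟨(isPullback_morphismRestrict f U).lift (geomPt u) b.1 b.2.symm, (isPullback_morphismRestrict f U).lift_fst _ _ _⟩, ?_, ?_⟩
    · rw [Category.assoc, ← morphismRestrict_ι, ← Category.assoc, a.2]
    · intro a
      exact Subtype.ext ((isPullback_morphismRestrict f U).hom_ext (by simp [a.2]) (by simp))
    · intro b
      exact Subtype.ext ((isPullback_morphismRestrict f U).lift_snd _ _ _)
  rw [h1, card_lifts_of_point]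
  exact congrArg (fun z => ENat.card ↥(MoreMor.geomFiber f z))
    ((Scheme.Hom.comp_apply _ _ _).trans (congrArg U.ι (geomPt_apply u _)))

theorem card_geomFiber_snd_invariant (ha : RepWith @Etale a) (r : (ha.rep.pullback a).left) :
    ENat.card ↥(MoreMor.geomFiber (ha.rep.snd a).left ((ha.rep.snd a).left r)) =
      ENat.card ↥(MoreMor.geomFiber (ha.rep.snd a).left ((ha.rep.fst' a).left r)) := by
  haveI : Etale (ha.rep.snd a).left := ha.property_snd a
  let ρ : Over.mk (EtCount.geomPt r ≫ (ha.rep.pullback a).hom) ⟶ ha.rep.pullback a :=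
    Over.homMk (EtCount.geomPt r) rfl
  have key : ∀ p : ha.rep.pullback a ⟶ U,
      ENat.card (Lifts (ha.rep.snd a).left (ρ ≫ p).left) =
      ENat.card ↥(MoreMor.geomFiber (ha.rep.snd a).left (p.left r)) := fun p => by
    rw [EtCount.card_lifts_of_point]
    refine congrArg (fun z => ENat.card ↥(MoreMor.geomFiber (ha.rep.snd a).left z)) ?_
    exact (Scheme.Hom.comp_apply _ _ _).trans (congrArg p.left (EtCount.geomPt_apply r _))
  rw [← key, ← key, card_lifts_snd ha, card_lifts_snd ha, Functor.map_comp, Category.assoc, Functor.map_comp,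
    Category.assoc, (ha.rep.isPullback' a).w]

/-- The kernel pair of a chart with quasi-compact source has finite fibres over a point with a quasi-compact
representative. -/
theorem finite_preimage_snd_of_rep (ha : RepWith @Etale a) [CompactSpace ↥U.left] (u : U.left) (p : FieldPt X)
    (hp : Points.mk p = Points.ofPt a u) (hqc : RepWith @QuasiCompact p.toHom) :
    ((ha.rep.snd a).left ⁻¹' {u}).Finite := by
  have sqP := ha.rep.isPullback' p.toHom
  obtain ⟨z, hz, -⟩ := exists_ofPt_of_eq sqP (u := u) (v := IsLocalRing.closedPoint p.K)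
    ((Points.ofPt_toHom p _).trans hp).symm
  let P := ha.rep.pullback p.toHom
  haveI : QuasiCompact (ha.rep.fst' p.toHom).left := hqc.property _ _ _ sqP.flip
  haveI : CompactSpace ↥P.left := QuasiCompact.compactSpace_of_compactSpace (ha.rep.fst' p.toHom).left
  haveI : IsAffine p.pt.left := inferInstanceAs (IsAffine (Spec (CommRingCat.of p.K)))
  haveI : QuasiCompact (ha.rep.snd p.toHom).left := HasAffineProperty.iff_of_isAffine.2 ‹CompactSpace ↥P.left›
  let L : Over S := Over.mk (P.left.fromSpecResidueField z ≫ P.hom)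
  let lam : L ⟶ P := Over.homMk (P.left.fromSpecResidueField z) rfl
  let g : (yon S).obj L ⟶ X := (yon S).map (lam ≫ ha.rep.fst' p.toHom) ≫ a
  have sqQ := ha.rep.isPullback' g
  haveI : Etale (ha.rep.snd g).left := ha.property_snd g
  -- the two comparison maps
  obtain ⟨lP, hlP₁, hlP₂⟩ := sqP.exists_lift ((yon S).map (ha.rep.fst' g))
    ((yon S).map (ha.rep.snd g ≫ lam ≫ ha.rep.snd p.toHom)) (by
      rw [sqQ.w]
      simp only [g, Functor.map_comp, Category.assoc]
      rw [sqP.w])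
  obtain ⟨lP', rfl⟩ := (yon S).map_surjective lP
  have hsqP : IsPullback ((yon S).map lP') ((yon S).map (ha.rep.snd g)) ((yon S).map (ha.rep.snd p.toHom))
      ((yon S).map (lam ≫ ha.rep.snd p.toHom)) := by
    refine IsPullback.of_right ?_ (by rw [hlP₂, Functor.map_comp]) sqP
    rw [hlP₁]
    rw [show (yon S).map (lam ≫ ha.rep.snd p.toHom) ≫ p.toHom = g by simp only [g, Functor.map_comp, Category.assoc, sqP.w]]
    exact sqQ
  obtain ⟨lR, hlR₁, hlR₂⟩ := (ha.rep.isPullback' a).exists_lift ((yon S).map (ha.rep.fst' g))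
    ((yon S).map (ha.rep.snd g ≫ lam ≫ ha.rep.fst' p.toHom)) (by
      rw [sqQ.w]
      simp only [g, Functor.map_comp, Category.assoc])
  obtain ⟨lR', rfl⟩ := (yon S).map_surjective lR
  have hsqR : IsPullback ((yon S).map lR') ((yon S).map (ha.rep.snd g)) ((yon S).map (ha.rep.snd a))
      ((yon S).map (lam ≫ ha.rep.fst' p.toHom)) := by
    refine IsPullback.of_right ?_ (by rw [hlR₂, Functor.map_comp]) (ha.rep.isPullback' a)
    rw [hlR₁]
    exact sqQ
  haveI : QuasiCompact (ha.rep.snd g).left :=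
    quasiCompact_isStableUnderBaseChange.of_isPullback ((hsqP.of_map_of_faithful (yon S)).map (Over.forget S))
      ‹QuasiCompact (ha.rep.snd p.toHom).left›
  haveI : Subsingleton ↥L.left := inferInstanceAs (Subsingleton ↥(Spec (P.left.residueField z)))
  have hQ : (Set.univ : Set ↥(ha.rep.pullback g).left).Finite :=
    ((ha.rep.snd g).left.finite_preimage_singleton (IsLocalRing.closedPoint _ : ↥(Spec (P.left.residueField z)))).subset
      fun w _ => Subsingleton.elim (α := ↥L.left) _ _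
  refine (hQ.image lR'.left).subset fun r hr => ?_
  obtain ⟨w, hw, -⟩ := Scheme.exists_preimage_of_isPullback
    ((hsqR.of_map_of_faithful (yon S)).map (Over.forget S)) r
    (IsLocalRing.closedPoint _ : ↥(Spec (P.left.residueField z))) (by
      show (ha.rep.snd a).left r = (lam ≫ ha.rep.fst' p.toHom).left _
      rw [hr, Over.comp_left, Scheme.Hom.comp_apply]
      show u = (ha.rep.fst' p.toHom).left (P.left.fromSpecResidueField z _)
      rw [Scheme.fromSpecResidueField_apply, hz])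
  exact ⟨w, Set.mem_univ _, hw⟩

/-- For a decent space the kernel pair of a chart with quasi-compact source has finite fibres. -/
theorem finite_preimage_snd (hX : IsDecent X) (ha : RepWith @Etale a) [CompactSpace ↥U.left] (u : U.left) :
    ((ha.rep.snd a).left ⁻¹' {u}).Finite := by
  obtain ⟨p, hp, -, hqc⟩ := hX (Points.ofPt a u)
  exact finite_preimage_snd_of_rep ha u p hp hqc

/-- Constant geometric fibre count on an open of a chart: a finite etale chart of its image. -/
theorem exists_finite_etale_of_const (hA : IsAlgSpace X) (ha : RepWith @Etale a) [IsAffine U.left]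
    {G : Set U.left} (hG : IsOpen G) (k : ℕ)
    (hGn : ∀ w ∈ G, ENat.card ↥(MoreMor.geomFiber (ha.rep.snd a).left w) = k) :
    ∃ (X' : Sp S) (j : X' ⟶ X) (V : Over S) (b : (yon S).obj V ⟶ X') (ι' : V ⟶ U), IsAlgSpace X' ∧
      RepWith @IsOpenImmersion j ∧ Set.range (Points.map j) = Points.ofPt a '' G ∧ IsOpenImmersion ι'.left ∧
      G ⊆ Set.range ι'.left ∧ b ≫ j = (yon S).map ι' ≫ a ∧
      RepWith @IsFinite b ∧ RepWith @Etale b ∧ RepWith @Surjective b := by
  let s := (ha.rep.snd a).left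
  let t := (ha.rep.fst' a).left
  haveI : Etale s := ha.property_snd a
  haveI : IsSeparated s := isSeparated_snd_of_isAffine ha
  -- the saturation of `G`
  obtain ⟨X', j, hX', hj, hrange⟩ := exists_open_subspace hA (isOpenMap_ofPt ha _ hG)
  let G' : U.left.Opens := ⟨Points.ofPt a ⁻¹' (Points.ofPt a '' G),
    (isOpenMap_ofPt ha _ hG).preimage (Points.continuous_ofPt a)⟩
  have hG'n : ∀ w ∈ G', ENat.card ↥(MoreMor.geomFiber s w) = k := by
    rintro w ⟨g, hg, he⟩
    obtain ⟨r, hr₁, hr₂⟩ := exists_ofPt_of_eq (ha.rep.isPullback' a) he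
    rw [← hGn g hg, ← hr₂, ← hr₁]
    exact card_geomFiber_snd_invariant ha r
  let ι' : Over.mk (G'.ι ≫ U.hom) ⟶ U := Over.homMk G'.ι rfl
  haveI : IsOpenImmersion ι'.left := inferInstanceAs (IsOpenImmersion G'.ι)
  have haι : RepWith @Etale ((yon S).map ι' ≫ a) := repWith_comp ((repWith_yon_map_iff _ ι').2
    (inferInstanceAs (Etale G'.ι))) ha
  obtain ⟨b, hb⟩ := exists_factor_open hj ((yon S).map ι' ≫ a) (fun v => by
    rw [hrange, ofPt_comp]; exact (v : ↥G'.toScheme).2)
  haveI : Mono j := mono_of_openImmersion hj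
  haveI := isIso_diagonal_of_mono j
  have hbe : RepWith @Etale b := repWith_of_postcomp (repWith_of_isIso _ _) (by rw [hb]; exact haι)
  have hinj : Function.Injective (Points.map j) := injective_map
    ⟨hj.rep, fun _ _ g fst snd sq => by
      have : IsOpenImmersion snd.left := hj.property g fst snd sq
      exact snd.left.isOpenEmbedding.injective⟩
  have hbs : RepWith @Surjective b := repWith_surjective_of_surjective hbe.rep fun p => by
    obtain ⟨g, hg, he⟩ : Points.map j p ∈ Points.ofPt a '' G := by rw [← hrange]; exact ⟨p, rfl⟩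
    refine ⟨Points.ofScheme _ (⟨g, g, hg, rfl⟩ : ↥G'.toScheme), hinj ?_⟩
    rw [← Points.map_comp, hb, ← Points.ofPt_eq_map_ofScheme, ofPt_comp, ← he]
    rfl
  -- the kernel pair of `b`
  have hsat : ∀ r : (s ⁻¹ᵁ G').toScheme, t ((s ⁻¹ᵁ G').ι r) ∈ G' := fun r => by
    show Points.ofPt a (t r.1) ∈ Points.ofPt a '' G
    rw [ofPt_fst_eq_snd ha r.1]
    exact r.2
  let R' : Over S := Over.mk ((s ⁻¹ᵁ G').ι ≫ (ha.rep.pullback a).hom)
  let ιR : R' ⟶ ha.rep.pullback a := Over.homMk (s ⁻¹ᵁ G').ι rfl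
  let s' : R' ⟶ Over.mk (G'.ι ≫ U.hom) := Over.homMk (s ∣_ G') (by
    show (s ∣_ G') ≫ G'.ι ≫ U.hom = (s ⁻¹ᵁ G').ι ≫ (ha.rep.pullback a).hom
    rw [morphismRestrict_ι_assoc, Over.w])
  have hrt : Set.range ((s ⁻¹ᵁ G').ι ≫ t) ⊆ Set.range G'.ι := by
    rintro _ ⟨r, rfl⟩
    rw [Scheme.Opens.range_ι]
    exact hsat r
  let t' : R' ⟶ Over.mk (G'.ι ≫ U.hom) := Over.homMk (IsOpenImmersion.lift G'.ι ((s ⁻¹ᵁ G').ι ≫ t) hrt) (by
    show IsOpenImmersion.lift G'.ι _ hrt ≫ G'.ι ≫ U.hom = _
    rw [IsOpenImmersion.lift_fac_assoc, Category.assoc, Over.w]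
    rfl)
  have ht' : t' ≫ ι' = ιR ≫ ha.rep.fst' a := Over.OverMorphism.ext (IsOpenImmersion.lift_fac _ _ _)
  have sq₀ : IsPullback ιR s' (ha.rep.snd a) ι' :=
    IsPullback.of_map (Over.forget S) (Over.OverMorphism.ext (morphismRestrict_ι s G').symm)
      (isPullback_morphismRestrict s G').flip
  haveI : Mono ((yon S).map ι') :=
    mono_of_openImmersion ((repWith_yon_map_iff _ _).2 (inferInstanceAs (IsOpenImmersion ι'.left)))
  have sq₁ : IsPullback ((yon S).map t' ≫ (yon S).map ι') ((yon S).map s') a (b ≫ j) := by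
    rw [hb, ← Functor.map_comp, ht', Functor.map_comp]
    exact (sq₀.map (yon S)).paste_horiz (ha.rep.isPullback' a)
  have sqb : IsPullback ((yon S).map t') ((yon S).map s') b b :=
    isPullback_of_mono ((cancel_mono j).1 (by
      rw [Category.assoc, Category.assoc, hb, ← Functor.map_comp_assoc, ← Functor.map_comp_assoc, ht', ← sq₀.w,
        Functor.map_comp_assoc, Functor.map_comp_assoc, (ha.rep.isPullback' a).w]))
      hb sq₁
  have hcard : ∀ v, ENat.card ↥(MoreMor.geomFiber (s ∣_ G') v) = k := fun v => by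
    rw [card_geomFiber_restrict]
    exact hG'n _ v.2
  haveI : QuasiCompact (s ∣_ G') := quasiCompact_of_card_eq _ _ hcard
  haveI hfin' : IsFinite (s ∣_ G') := EtCount.isFinite_of_card_eq _ _ hcard
  refine ⟨X', j, _, b, ι', hX', hj, hrange, inferInstanceAs (IsOpenImmersion G'.ι), fun g hg => ⟨⟨g, g, hg, rfl⟩, rfl⟩,
    hb, ?_, hbe, hbs⟩
  haveI := EtFound.fpqc_isFinite
  exact repWith_of_etale_cover (fun _ _ e (_ : IsFinite e) => inferInstanceAs (IsAffineHom e)) hbe hbs sqb
    ((repWith_yon_map_iff _ _).2 hfin')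

/-- A decent space has a nonempty open subspace with a finite etale chart inside any nonempty open. -/
theorem exists_finite_etale_open (hA : IsAlgSpace X) (hX : IsDecent X) {O : Set (Points X)} (hO : IsOpen O)
    (hne : O.Nonempty) :
    ∃ (X' : Sp S) (j : X' ⟶ X) (V : Over S) (b : (yon S).obj V ⟶ X'), IsAlgSpace X' ∧
      RepWith @IsOpenImmersion j ∧ Nonempty (Points X') ∧ Set.range (Points.map j) ⊆ O ∧
      RepWith @IsFinite b ∧ RepWith @Etale b ∧ RepWith @Surjective b := by
  obtain ⟨U₀, a₀, ha₀, ha₀s⟩ := hA.atlas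
  obtain ⟨x, hx⟩ := hne
  obtain ⟨u₀, rfl⟩ := surjective_ofPt ha₀s x
  obtain ⟨U, ι, u, hU, hιo, hu, ha⟩ := exists_affine_restrict ha₀ u₀
  obtain ⟨a, hadef⟩ : ∃ a, a = (yon S).map ι ≫ a₀ := ⟨_, rfl⟩
  rw [← hadef] at ha
  have hxu : Points.ofPt a u = Points.ofPt a₀ u₀ := by
    rw [← hu, hadef]; exact ofPt_comp _ _ _
  haveI := hU
  let s := (ha.rep.snd a).left
  let t := (ha.rep.fst' a).left
  haveI : Etale s := ha.property_snd a
  haveI : IsSeparated s := isSeparated_snd_of_isAffine ha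
  let n : U.left → ℕ∞ := fun w => ENat.card ↥(MoreMor.geomFiber s w)
  have hfin : ∀ w, ∃ m : ℕ, n w ≤ m := fun w => by
    haveI := finite_geomFiber_of_finite_preimage s (finite_preimage_snd hX ha w)
    exact ⟨Nat.card ↥(MoreMor.geomFiber s w), (ENat.card_eq_coe_natCard _).le⟩
  have hclosed : ∀ m : ℕ, IsClosed {w | n w ≤ m} := fun m => by
    have hh := (EtCount.isOpen_le_card (m + 1) s).isClosed_compl
    refine hh.preimage continuous_id |> fun h => ?_
    convert h using 1
    ext w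
    simp [n, ENat.add_one_le_iff]
  obtain ⟨m, G₀, hG₀, hG₀ne, hG₀O, hG₀m⟩ := exists_interior_of_iUnion_closed_scheme (fun m : ℕ => {w | n w ≤ m})
    hclosed hfin (hO.preimage (Points.continuous_ofPt a)) ⟨u, show Points.ofPt a u ∈ O by rw [hxu]; exact hx⟩
  let vals : Set ℕ := {k | ∃ w ∈ G₀, n w = k}
  have hval : ∀ w ∈ G₀, ∃ k : ℕ, n w = k ∧ k ≤ m := fun w hw => by
    obtain ⟨k, hk⟩ := ENat.ne_top_iff_exists.1 (ne_top_of_le_ne_top (ENat.coe_ne_top m) (hG₀m hw))
    refine ⟨k, hk.symm, ?_⟩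
    have := hG₀m hw
    simp only [Set.mem_setOf_eq, ← hk] at this
    exact_mod_cast this
  have hbd : BddAbove vals := ⟨m, by
    rintro k ⟨w, hw, hk⟩
    obtain ⟨k', hk', hle⟩ := hval w hw
    obtain rfl : k = k' := by exact_mod_cast hk.symm.trans hk'
    exact hle⟩
  have hvne : vals.Nonempty := by
    obtain ⟨w, hw⟩ := hG₀ne
    obtain ⟨k, hk, -⟩ := hval w hw
    exact ⟨k, w, hw, hk⟩
  obtain ⟨w₀, hw₀, hk₀⟩ := Nat.sSup_mem hvne hbd
  let G : Set U.left := G₀ ∩ {w | (sSup vals : ℕ) ≤ n w}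
  have hG : IsOpen G := hG₀.inter (EtCount.isOpen_le_card _ s)
  have hGn : ∀ w ∈ G, n w = (sSup vals : ℕ) := fun w hw => by
    obtain ⟨k, hk, -⟩ := hval w hw.1
    refine le_antisymm ?_ hw.2
    rw [hk]
    exact_mod_cast le_csSup hbd ⟨w, hw.1, hk⟩
  obtain ⟨X', j, V, b, ι', hX', hj, hrange, -, hsub, -, hbf, hbe, hbs⟩ :=
    exists_finite_etale_of_const hA ha hG _ hGn
  obtain ⟨v, -⟩ := hsub (show w₀ ∈ G from ⟨hw₀, hk₀.ge⟩)
  exact ⟨X', j, V, b, hX', hj, ⟨Points.ofPt b v⟩,
    by rw [hrange]; rintro _ ⟨g, hg, rfl⟩; exact hG₀O hg.1, hbf, hbe, hbs⟩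

theorem exists_dense_open_subscheme_of_isDecent (X : Space S) (hX : IsDecent X.obj) :
    ∃ (X' : Space S) (j : X' ⟶ X), RepWith @IsOpenImmersion j.hom ∧ X'.obj.obj.IsRepresentable ∧
      Dense (Set.range (Points.map j.hom)) := by
  obtain ⟨X', j, hj, hr, hmax⟩ := Groth.Agent.S10197.result X
  refine ⟨X', j, hj, hr, dense_iff_inter_open.2 fun O hO hne => ?_⟩
  obtain ⟨Y, i, V, b, hY, hi, hYne, hYO, hbf, hbe, hbs⟩ := exists_finite_etale_open X.property hX hO hne
  obtain ⟨Y', k, hk, hY'r, hd⟩ := exists_dense_open_subscheme_of_finite_etale ⟨Y, hY⟩ b hbf hbe hbs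
  obtain ⟨_, -, ⟨y, rfl⟩⟩ := dense_iff_inter_open.1 hd Set.univ isOpen_univ Set.univ_nonempty
  obtain ⟨l, hl⟩ := hmax Y' (ObjectProperty.homMk (k.hom ≫ i)) (repWith_comp hk hi) hY'r
  refine ⟨Points.map i (Points.map k.hom y), hYO ⟨_, rfl⟩, Points.map l.hom y, ?_⟩
  rw [← Points.map_comp, ← Points.map_comp,
    show l.hom ≫ j.hom = k.hom ≫ i from congrArg InducedCategory.Hom.hom hl]

end Groth.Agent.AlgSpDec
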