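import Groth.Agent.AlgSpDec.RedInduced
import Groth.Agent.AlgSpDec.BddFibres
import Groth.Agent.MorLib.WeightDeg
import Groth.Prelude.Def_AlgSpMor5

/-!
# The stratification of an algebraic space by the degree of a quasi-finite flat chart
-/

set_option backward.isDefEq.respectTransparency false
set_option backward.isDefEq.respectTransparency.types false
set_option linter.style.haveILetI false
set_option linter.style.longLine false

open CategoryTheory Limits Opposite AlgebraicGeometry AlgSp Groth.Agent.AlgSpLib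
open Groth.Agent.MorLib

namespace Groth.Agent.AlgSpDec

universe u

variable {S : Scheme.{u}} {X : Sp S} {W : Over S} {w : (yon S).obj W ⟶ X}

/-- The standing hypotheses on the chart. -/
structure QfData (w : (yon S).obj W ⟶ X) : Prop where
  space : IsAlgSpace X
  flat : RepWith @Flat w
  lfp : RepWith @LocallyOfFinitePresentation w
  sep : RepWith @IsSeparated w
  lqf : RepWith @LocallyQuasiFinite w
  bdd : W4dec.HasUnivBddFibres w

namespace QfData

variable (D : QfData w)

/-- The base change of the chart to a scheme. -/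
noncomputable def bc {T : Over S} (g : (yon S).obj T ⟶ X) : (D.flat.rep.pullback g).left ⟶ T.left :=
  (D.flat.rep.snd g).left

theorem isPullback {T : Over S} (g : (yon S).obj T ⟶ X) :
    IsPullback ((yon S).map (D.flat.rep.fst' g)) ((yon S).map (D.flat.rep.snd g)) w g :=
  D.flat.rep.isPullback' g

theorem flat_bc {T : Over S} (g : (yon S).obj T ⟶ X) : Flat (D.bc g) := D.flat.property_snd g

theorem lfp_bc {T : Over S} (g : (yon S).obj T ⟶ X) : LocallyOfFinitePresentation (D.bc g) :=
  D.lfp.property g _ _ (D.isPullback g)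

theorem sep_bc {T : Over S} (g : (yon S).obj T ⟶ X) : IsSeparated (D.bc g) :=
  D.sep.property g _ _ (D.isPullback g)

theorem lqf_bc {T : Over S} (g : (yon S).obj T ⟶ X) : LocallyQuasiFinite (D.bc g) :=
  D.lqf.property g _ _ (D.isPullback g)

/-- The base change to a field-valued point of the scheme. -/
theorem isPullback_point {T : Over S} (g : (yon S).obj T ⟶ X) {T' : Over S} (m : T' ⟶ T) :
    ∃ (P : Over S) (c : P ⟶ T') (s : P ⟶ D.flat.rep.pullback g),
      P.left = pullback (D.bc g) m.left ∧ HEq c.left (pullback.snd (D.bc g) m.left) ∧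
      IsPullback ((yon S).map c) ((yon S).map (s ≫ D.flat.rep.fst' g)) ((yon S).map m ≫ g) w := by
  let P : Over S := Over.mk (pullback.snd (D.bc g) m.left ≫ T'.hom)
  let c : P ⟶ T' := Over.homMk (pullback.snd (D.bc g) m.left) rfl
  let s : P ⟶ D.flat.rep.pullback g := Over.homMk (pullback.fst (D.bc g) m.left) (by
    show pullback.fst (D.bc g) m.left ≫ (D.flat.rep.pullback g).hom = pullback.snd (D.bc g) m.left ≫ T'.hom
    rw [← Over.w (D.flat.rep.snd g), ← Over.w m, ← Category.assoc, ← Category.assoc]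
    exact congrArg (· ≫ T.hom) pullback.condition)
  refine ⟨P, c, s, rfl, HEq.rfl, ?_⟩
  have h1 := (isPullback_yon_of_left s c (D.flat.rep.snd g) m (IsPullback.of_hasPullback _ _))
  have h2 := h1.paste_horiz (D.isPullback g)
  rw [← Functor.map_comp] at h2
  exact h2.flip

theorem degLE_point {n : ℕ} (hn : W4dec.DegFibresLE n w) {T : Over S} (g : (yon S).obj T ⟶ X)
    {L : Type u} [Field L] (v : Spec (.of L) ⟶ T.left) : DegLE n (pullback.snd (D.bc g) v) := by
  let T' : Over S := Over.mk (v ≫ T.hom)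
  let m : T' ⟶ T := Over.homMk v rfl
  obtain ⟨P, c, s, hP, hc, sq⟩ := D.isPullback_point g m
  have h := degFibres_apply hn (L := L) (w := v ≫ T.hom) ((yon S).map m ≫ g) c _ sq
  have key : ∀ {A B : Scheme.{u}} (hAB : A = B) (a : A ⟶ Spec (.of L)) (b : B ⟶ Spec (.of L)),
      HEq a b → DegLE n a → DegLE n b := by
    rintro A _ rfl a b hab ha
    exact eq_of_heq hab ▸ ha
  exact key hP _ _ hc h

theorem finite_fibre {T : Over S} (g : (yon S).obj T ⟶ X) (t : ↥T.left) :
    ((D.bc g) ⁻¹' {t}).Finite := by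
  obtain ⟨n, hn⟩ := D.bdd
  have h := D.degLE_point hn g (T.left.fromSpecResidueField t)
  have hr : Set.range (pullback.fst (D.bc g) (T.left.fromSpecResidueField t)) = (D.bc g) ⁻¹' {t} := by
    rw [Scheme.Pullback.range_fst]
    exact congrArg (fun A => (D.bc g) ⁻¹' A) (T.left.range_fromSpecResidueField t)
  rw [← hr]
  haveI : Finite ↥(pullback (D.bc g) (T.left.fromSpecResidueField t)) := h.space.1
  exact Set.finite_range _

/-- The degree of the fibre of the chart over a point of a scheme over the space. -/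
noncomputable def deg {T : Over S} (g : (yon S).obj T ⟶ X) (t : ↥T.left) : ℕ := WT.deg (D.bc g) t

theorem deg_le {n : ℕ} (hn : W4dec.DegFibresLE n w) {T : Over S} (g : (yon S).obj T ⟶ X) (t : ↥T.left) :
    D.deg g t ≤ n := by
  haveI := D.flat_bc g
  haveI := D.lfp_bc g
  haveI := D.sep_bc g
  haveI := D.lqf_bc g
  have h := (D.degLE_point hn g (T.left.fromSpecResidueField t)).2 (IsLocalRing.closedPoint _)
  have hv : ∀ y, T.left.fromSpecResidueField t y = t := fun y => Scheme.fromSpecResidueField_apply t y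
  rw [WT.finrank_fibre_eq_deg (D.finite_fibre g) (T.left.fromSpecResidueField t)] at h
  exact (congrArg (WT.deg (D.bc g)) (hv _)).symm.trans_le h

theorem deg_map {T T' : Over S} (g : (yon S).obj T ⟶ X) (m : T' ⟶ T) (t : ↥T'.left) :
    D.deg ((yon S).map m ≫ g) t = D.deg g (m.left t) := by
  haveI := D.flat_bc g
  haveI := D.lfp_bc g
  haveI := D.sep_bc g
  haveI := D.lqf_bc g
  let g' := (yon S).map m ≫ g
  haveI := D.flat_bc g'
  haveI := D.lfp_bc g'
  haveI := D.sep_bc g'
  haveI := D.lqf_bc g'
  let v := T'.left.fromSpecResidueField t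
  have h1 := WT.finrank_fibre_eq_deg (D.finite_fibre g') v (IsLocalRing.closedPoint _)
  have h2 := WT.finrank_fibre_eq_deg (D.finite_fibre g) (v ≫ m.left) (IsLocalRing.closedPoint _)
  have hv : ∀ y, v y = t := fun y => Scheme.fromSpecResidueField_apply t y
  replace h1 := h1.trans (congrArg (WT.deg (D.bc g')) (hv _))
  replace h2 := h2.trans (congrArg (WT.deg (D.bc g))
    ((Scheme.Hom.comp_apply v m.left _).trans (congrArg m.left (hv _))))
  obtain ⟨k, hk⟩ : ∃ k : D.flat.rep.pullback g' ⟶ D.flat.rep.pullback g,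
      IsPullback ((yon S).map k) ((yon S).map (D.flat.rep.snd g')) ((yon S).map (D.flat.rep.snd g)) ((yon S).map m) := by
    obtain ⟨k, hk⟩ := (yon S).map_surjective ((D.isPullback g).lift ((yon S).map (D.flat.rep.fst' g'))
      ((yon S).map (D.flat.rep.snd g') ≫ (yon S).map m) (by rw [Category.assoc]; exact (D.isPullback g').w))
    refine ⟨k, IsPullback.of_right ?_ ?_ (D.isPullback g)⟩
    · rw [hk, IsPullback.lift_fst]
      exact D.isPullback g'
    · rw [hk, IsPullback.lift_snd]
  have hL : IsPullback k.left (D.bc g') (D.bc g) m.left := isPullback_of_yon hk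
  have hbig := (IsPullback.of_hasPullback (D.bc g') v).paste_horiz hL
  show WT.deg (D.bc g') t = WT.deg (D.bc g) (m.left t)
  rw [← h1, ← h2, ← hbig.isoPullback_hom_snd]
  haveI := WT.isFinite_fibre (D.finite_fibre g) (v ≫ m.left)
  haveI : Flat (pullback.snd (D.bc g) (v ≫ m.left)) := MorphismProperty.pullback_snd _ _ inferInstance
  rw [Scheme.Hom.finrank_comp_left_of_isIso]

theorem deg_eq_of_ofPt_eq {T T' : Over S} (g : (yon S).obj T ⟶ X) (g' : (yon S).obj T' ⟶ X)
    (t : ↥T.left) (t' : ↥T'.left) (h : Points.ofPt g t = Points.ofPt g' t') : D.deg g t = D.deg g' t' := by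
  obtain ⟨Ω, _, ω, a, b, hab⟩ := Points.mk_eq_mk_iff.1 h
  let p := FieldPt.ofPt g t
  let p' := FieldPt.ofPt g' t'
  let z : p.pt ⟶ T := Over.homMk (T.left.fromSpecResidueField t) rfl
  let z' : p'.pt ⟶ T' := Over.homMk (T'.left.fromSpecResidueField t') rfl
  have e : (yon S).map a ≫ p.toHom = (yon S).map b ≫ p'.toHom := by
    apply (J S).uliftYonedaEquiv.injective
    refine Eq.trans (GrothendieckTopology.uliftYonedaEquiv_naturality _ p.toHom a).symm (Eq.trans ?_
      (GrothendieckTopology.uliftYonedaEquiv_naturality _ p'.toHom b))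
    rw [FieldPt.uliftYonedaEquiv_toHom, FieldPt.uliftYonedaEquiv_toHom]
    exact hab
  have hp : p.toHom = (yon S).map z ≫ g := FieldPt.toHom_ofPt g t
  have hp' : p'.toHom = (yon S).map z' ≫ g' := FieldPt.toHom_ofPt g' t'
  rw [hp, hp', ← Category.assoc, ← Category.assoc, ← Functor.map_comp, ← Functor.map_comp] at e
  let x : ↥(Over.mk ω).left := IsLocalRing.closedPoint Ω
  have ha : (a ≫ z).left x = t := by
    show (T.left.fromSpecResidueField t) (a.left x) = t
    rw [show a.left x = IsLocalRing.closedPoint _ from Subsingleton.elim (α := PrimeSpectrum _) _ _,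
      Scheme.fromSpecResidueField_apply]
  have hb : (b ≫ z').left x = t' := by
    show (T'.left.fromSpecResidueField t') (b.left x) = t'
    rw [show b.left x = IsLocalRing.closedPoint _ from Subsingleton.elim (α := PrimeSpectrum _) _ _,
      Scheme.fromSpecResidueField_apply]
  rw [← ha, ← hb, ← deg_map, ← deg_map, e]

/-- The degree at a point of the space. -/
noncomputable def degAt (x : Points X) : ℕ :=
  D.deg (exists_ofPt_eq x).choose_spec.choose (exists_ofPt_eq x).choose_spec.choose_spec.choose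

theorem degAt_ofPt {T : Over S} (g : (yon S).obj T ⟶ X) (t : ↥T.left) :
    D.degAt (Points.ofPt g t) = D.deg g t :=
  D.deg_eq_of_ofPt_eq _ _ _ _ (exists_ofPt_eq (Points.ofPt g t)).choose_spec.choose_spec.choose_spec.2

theorem isClosed_degAt_lt (k : ℕ) : IsClosed {x | D.degAt x < k} := by
  obtain ⟨U, a, ha, has⟩ := D.space.atlas
  rw [← isOpen_compl_iff, isOpen_iff_chart ha has, Set.preimage_compl, isOpen_compl_iff]
  haveI := D.flat_bc a
  haveI := D.lfp_bc a
  haveI := D.sep_bc a
  haveI := D.lqf_bc a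
  have h : Points.ofPt a ⁻¹' {x | D.degAt x < k} = {u | D.deg a u < k} := by
    ext u; simp [D.degAt_ofPt]
  rw [h]
  rcases k with _ | r
  · simp
  · have := WT.isClosed_deg_le (D.finite_fibre a) r
    simpa [Nat.lt_succ_iff, QfData.deg] using this

/-- Over a scheme the chart is finite locally free of degree `r` exactly at the points of degree `r`. -/
theorem finLocFreeOfDeg_iff {T P : Over S} (g : (yon S).obj T ⟶ X) {fst : (yon S).obj P ⟶ (yon S).obj W}
    {s : P ⟶ T} (sq : IsPullback fst ((yon S).map s) w g) (r : ℕ) :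
    Mor2.IsFinLocFreeOfDeg r s.left ↔ ∀ t : ↥T.left, D.degAt (Points.ofPt g t) = r := by
  haveI := D.flat_bc g
  haveI := D.lfp_bc g
  haveI := D.sep_bc g
  haveI := D.lqf_bc g
  obtain ⟨e, he⟩ := (yon S).map_surjective ((D.isPullback g).isoIsPullback _ _ sq).hom
  have hsq : IsPullback ((yon S).map e) ((yon S).map (D.flat.rep.snd g)) ((yon S).map s) ((yon S).map (𝟙 T)) := by
    haveI : IsIso ((yon S).map e) := by rw [he]; infer_instance
    haveI : IsIso ((yon S).map (𝟙 T)) := by rw [CategoryTheory.Functor.map_id]; infer_instance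
    refine IsPullback.of_horiz_isIso ⟨?_⟩
    rw [CategoryTheory.Functor.map_id, Category.comp_id, he, IsPullback.isoIsPullback_hom_snd]
  have hL : IsPullback e.left (D.bc g) s.left (𝟙 T.left) := isPullback_of_yon hsq
  have h1 : Mor2.IsFinLocFreeOfDeg r s.left ↔ Mor2.IsFinLocFreeOfDeg r (D.bc g) := by
    haveI : IsIso e.left := by
      have := hL
      exact this.isIso_fst_of_isIso
    have hs : IsPullback (inv e.left) s.left (D.bc g) (𝟙 T.left) := by
      refine IsPullback.of_horiz_isIso ⟨?_⟩
      rw [IsIso.inv_comp_eq]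
      simpa using hL.w.symm
    exact ⟨fun h => (finLocFreeOfDeg.{u} r).of_isPullback hL h, fun h => (finLocFreeOfDeg.{u} r).of_isPullback hs h⟩
  have h2 := WT.isFinLocFreeOfDeg_iff (D.finite_fibre g) (𝟙 T.left) r
  have h3 : Mor2.IsFinLocFreeOfDeg r (pullback.snd (D.bc g) (𝟙 T.left)) ↔ Mor2.IsFinLocFreeOfDeg r (D.bc g) :=
    ⟨fun h => (finLocFreeOfDeg.{u} r).of_isPullback
        (IsPullback.of_horiz_isIso (fst := inv (pullback.fst (D.bc g) (𝟙 T.left))) (g := 𝟙 T.left)
          ⟨by
            rw [IsIso.inv_comp_eq, Category.comp_id]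
            simpa using (pullback.condition (f := D.bc g) (g := 𝟙 T.left)).symm⟩) h,
      fun h => (finLocFreeOfDeg.{u} r).of_isPullback (IsPullback.of_hasPullback (D.bc g) (𝟙 T.left)) h⟩
  rw [h1, ← h3, h2]
  simp only [D.degAt_ofPt, QfData.deg]
  exact Iff.rfl

theorem isFinLocFreeOfDegMor_iff {T P : Sp S} (g : T ⟶ X) {fst : P ⟶ (yon S).obj W} {snd : P ⟶ T}
    (sq : IsPullback fst snd w g) (r : ℕ) :
    IsFinLocFreeOfDegMor r snd ↔ ∀ z : Points T, D.degAt (Points.map g z) = r := by
  constructor
  · intro h z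
    obtain ⟨T', a, t, -, rfl⟩ := exists_ofPt_eq z
    rw [Points.map_ofPt]
    have sq' := (h.rep.isPullback a).paste_horiz sq
    exact (D.finLocFreeOfDeg_iff (a ≫ g) sq' r).1 (h.property_snd a) t
  · intro h
    have hrep : Representable snd := MorphismProperty.of_isPullback sq D.flat.rep
    refine ⟨hrep, fun T' Q a fst' snd' sq' => ?_⟩
    exact (D.finLocFreeOfDeg_iff (a ≫ g) (sq'.paste_horiz sq) r).2 fun t => by
      rw [← Points.map_ofPt]; exact h _

theorem exists_degree_stratification {X : Space S} {W : Over S} {w : (yon S).obj W ⟶ X.obj} (D : QfData w) :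
    ∃ (n : ℕ) (Zs : ℕ → Space S) (i : ∀ r, Zs r ⟶ X),
      (∀ r, IsRedInduced (Set.range (Points.map (i r).hom)) (i r).hom) ∧
      IsEmpty (Points (Zs 0).obj) ∧ Set.range (Points.map (i (n + 1)).hom) = Set.univ ∧
      (∀ r, Set.range (Points.map (i r).hom) ⊆ Set.range (Points.map (i (r + 1)).hom)) ∧
      ∀ (r : ℕ) (T : Space S) (g : T ⟶ X) (P : Sp S) (fst : P ⟶ (yon S).obj W) (snd : P ⟶ T.obj),
        IsPullback fst snd w g.hom →
          (IsFinLocFreeOfDegMor r snd ↔
            Set.range (Points.map g.hom) ⊆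
              Set.range (Points.map (i (r + 1)).hom) \ Set.range (Points.map (i r).hom)) := by
  choose Z j hj using fun k => exists_reduced_induced D.space (D.isClosed_degAt_lt k)
  obtain ⟨n, hn⟩ := D.bdd
  have hr : ∀ k, Set.range (Points.map (j k)) = {x | D.degAt x < k} := fun k => (hj k).2.1
  refine ⟨n, Z, fun k => ObjectProperty.homMk (j k), fun k => ?_, ⟨fun z => ?_⟩, ?_, fun k => ?_, ?_⟩
  · show IsRedInduced (Set.range (Points.map (j k))) (j k)
    rw [hr k]; exact hj k
  · have h : Points.map (j 0) z ∈ Set.range (Points.map (j 0)) := ⟨z, rfl⟩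
    rw [hr 0] at h
    exact Nat.not_lt_zero _ h
  · show Set.range (Points.map (j (n + 1))) = Set.univ
    rw [hr, Set.eq_univ_iff_forall]
    intro x
    obtain ⟨T, g, t, -, rfl⟩ := exists_ofPt_eq x
    show D.degAt (Points.ofPt g t) < n + 1
    rw [D.degAt_ofPt]
    exact Nat.lt_succ_of_le (D.deg_le hn g t)
  · show Set.range (Points.map (j k)) ⊆ Set.range (Points.map (j (k + 1)))
    rw [hr, hr]
    exact fun x (hx : D.degAt x < k) => (Nat.lt_succ_of_lt hx : D.degAt x < k + 1)
  · intro r T g P fst snd sq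
    show IsFinLocFreeOfDegMor r snd ↔
      Set.range (Points.map g.hom) ⊆ Set.range (Points.map (j (r + 1))) \ Set.range (Points.map (j r))
    rw [D.isFinLocFreeOfDegMor_iff g.hom sq, hr, hr]
    simp only [Set.range_subset_iff, Set.mem_sdiff, Set.mem_ofPred_eq]
    exact ⟨fun h z => by rw [h z]; omega, fun h z => by have := h z; omega⟩

end QfData

end Groth.Agent.AlgSpDec
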