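import Groth.Agent.AlgSpDec.DenseSubscheme
import Groth.Agent.MorLib.GeomPts
import Mathlib.AlgebraicGeometry.Fiber

/-!
Finite etale charts: a codimension zero class contained in an affine open, without separation hypotheses.
-/

set_option backward.isDefEq.respectTransparency false
set_option backward.isDefEq.respectTransparency.types false

universe u

open CategoryTheory CategoryTheory.Limits AlgebraicGeometry AlgSp Groth.Agent.AlgSpLib Groth.Agent.AlgSpPts Order TopologicalSpace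

namespace Groth.Agent.AlgSpDec

/-- Finitely many points of codimension zero of a quasi-separated scheme have pairwise disjoint neighbourhoods. -/
theorem exists_disjoint_opens_of_codimZero {X : Scheme.{u}} [QuasiSeparatedSpace X] {T : Set X} (hT : T.Finite)
    (h : ∀ x ∈ T, coheight x = 0) :
    ∃ N : T → X.Opens, (∀ i : T, (i : X) ∈ N i) ∧ Pairwise fun i j => Disjoint (N i : Set X) (N j : Set X) := by
  classical
  haveI := hT.to_subtype
  have key : ∀ i j : T, i ≠ j → ∃ A B : X.Opens, (i : X) ∈ A ∧ (j : X) ∈ B ∧ Disjoint (A : Set X) (B : Set X) := by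
    intro i j hij
    have hi : i.1 ∈ (closure {j.1})ᶜ := fun hc =>
      hij (Subtype.ext (eq_of_specializes_of_coheight (h _ i.2) (specializes_iff_mem_closure.2 hc)).symm)
    obtain ⟨A, hA, hiA, hAO⟩ := exists_isAffineOpen_mem_and_subset (x := i.1)
      (U := ⟨(closure {j.1})ᶜ, isClosed_closure.isOpen_compl⟩) hi
    refine ⟨A, ⟨(closure (A : Set X))ᶜ, isClosed_closure.isOpen_compl⟩, hiA,
      notMem_closure_of_isCompact hA.isCompact A.isOpen (h _ j.2) (fun hh => hAO hh (subset_closure rfl)), ?_⟩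
    exact Set.disjoint_left.2 fun z hz hz' => hz' (subset_closure hz)
  choose A B hA hB hd using key
  refine ⟨fun i => ⟨⋂ j, ⋂ hij : i ≠ j, (A i j hij : Set X) ∩ B j i (Ne.symm hij),
    isOpen_iInter_of_finite fun j => isOpen_iInter_of_finite fun hij => (A i j hij).isOpen.inter (B j i _).isOpen⟩,
    fun i => Set.mem_iInter₂.2 fun j hij => ⟨hA i j hij, hB j i (Ne.symm hij)⟩, fun i j hij => ?_⟩
  exact Set.disjoint_left.2 fun z hz hz' =>
    Set.disjoint_left.1 (hd i j hij) (Set.mem_iInter₂.1 hz j hij).1 (Set.mem_iInter₂.1 hz' i hij.symm).2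

/-- The fibres of a finite morphism over an affine open have bounded cardinality. -/
theorem exists_bound_fibre {X Y : Scheme.{u}} (f : X ⟶ Y) [IsFinite f] {W : Y.Opens} (hW : IsAffineOpen W) :
    ∃ n : ℕ, ∀ y ∈ W, (f ⁻¹' {y}).Finite ∧ (f ⁻¹' {y}).ncard ≤ n := by
  haveI : IsAffine W.toScheme := hW
  haveI : IsAffine (f ⁻¹ᵁ W).toScheme := hW.preimage f
  haveI : IsFinite (f ∣_ W) := IsZariskiLocalAtTarget.restrict ‹IsFinite f› W
  obtain ⟨n, hn⟩ := MorLib.GP.exists_cardLE (f ∣_ W)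
  refine ⟨n, fun y hy => ⟨f.finite_preimage_singleton y, ?_⟩⟩
  let y' : W.toScheme := ⟨y, hy⟩
  have hc : ENat.card ↥((f ∣_ W).fiber y') ≤ n := hn _ _
  rw [ENat.card_congr (Scheme.Hom.fiberHomeo (f ∣_ W) y').toEquiv] at hc
  have himg : f ⁻¹' {y} ⊆ (f ⁻¹ᵁ W).ι '' ((f ∣_ W) ⁻¹' {y'}) := by
    intro x hx
    have hxW : f x ∈ W := by rw [show f x = y from hx]; exact hy
    refine ⟨⟨x, hxW⟩, ?_, rfl⟩
    apply W.ι.isOpenEmbedding.injective
    rw [← Scheme.Hom.comp_apply, morphismRestrict_ι]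
    exact hx
  have hfin := (f ∣_ W).finite_preimage_singleton y'
  refine (Set.ncard_le_ncard himg (hfin.image _)).trans ((Set.ncard_image_le hfin).trans ?_)
  rw [ENat.card_coe_set_eq, ← hfin.cast_ncard_eq] at hc
  exact_mod_cast hc

variable {S : Scheme.{u}}

/-- For a finite etale chart, every nonempty open contains a point of codimension zero whose class
lies in an affine open. -/
theorem exists_affine_class_mem {X : Sp S} {U : Over S} (a : (yon S).obj U ⟶ X) (ha : RepWith @Etale a)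
    (hf : RepWith @IsFinite a) (Ω : U.left.Opens) (hΩ : (Ω : Set U.left).Nonempty) :
    ∃ η ∈ Ω, coheight η = 0 ∧
      ∃ W : U.left.Opens, IsAffineOpen W ∧ Points.ofPt a ⁻¹' {Points.ofPt a η} ⊆ (W : Set U.left) := by
  classical
  have sq := ha.rep.isPullback' a
  let s := (ha.rep.snd a).left
  let t := (ha.rep.fst' a).left
  haveI : Etale s := ha.property a _ _ (ha.rep.isPullback a)
  haveI : IsFinite s := hf.property a _ _ (ha.rep.isPullback a)
  haveI : Etale t := ha.property a _ _ sq.flip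
  obtain ⟨x₀, hx₀⟩ := hΩ
  obtain ⟨W₀, hW₀, hxW₀, hW₀Ω⟩ := exists_isAffineOpen_mem_and_subset hx₀
  obtain ⟨n, hn⟩ := exists_bound_fibre s hW₀
  let K : U.left → U.left.Opens → Set (ha.rep.pullback a).left := fun η W => {r | s r = η ∧ t r ∈ W}
  let vals : Set ℕ := {k | ∃ η, η ∈ W₀ ∧ coheight η = 0 ∧ ∃ W : U.left.Opens, IsAffineOpen W ∧ (K η W).ncard = k}
  have hbd : BddAbove vals := ⟨n, by
    rintro k ⟨η, hη, -, W, -, rfl⟩
    exact (Set.ncard_le_ncard (fun r hr => hr.1) (hn η hη).1).trans (hn η hη).2⟩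
  have hne : vals.Nonempty := by
    obtain ⟨η, hη, hη0⟩ := exists_codimZero_mem W₀ ⟨x₀, hxW₀⟩
    exact ⟨_, η, hη, hη0, W₀, hW₀, rfl⟩
  obtain ⟨η, hη, hη0, W, hW, hk⟩ := Nat.sSup_mem hne hbd
  refine ⟨η, hW₀Ω hη, hη0, W, hW, fun w hw => ?_⟩
  obtain ⟨r₀, h₁, h₂⟩ := exists_ofPt_of_eq sq (u := w) (v := η) hw
  change t r₀ = w at h₁
  change s r₀ = η at h₂
  subst h₁
  by_contra hrW
  -- disjoint neighbourhoods of the fibre
  have hR₀ : IsAffineOpen (s ⁻¹ᵁ W₀) := hW₀.preimage s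
  haveI : IsAffine (s ⁻¹ᵁ W₀).toScheme := hR₀
  let ι := (s ⁻¹ᵁ W₀).ι
  let T : Set (s ⁻¹ᵁ W₀).toScheme := (fun z => s (ι z)) ⁻¹' {η}
  have hTfin : T.Finite := by
    change (ι ⁻¹' (s ⁻¹' {η})).Finite
    exact (hn η hη).1.preimage ι.isOpenEmbedding.injective.injOn
  have hT : ∀ z ∈ T, coheight z = 0 := by
    intro z (hz : s (ι z) = η)
    rw [coheight_eq_of_etale ι z, coheight_eq_of_etale s, hz, hη0]
  obtain ⟨N, hN, hNd⟩ := exists_disjoint_opens_of_codimZero hTfin hT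
  have hmem : ∀ r, s r = η → r ∈ s ⁻¹ᵁ W₀ := fun r hr => show s r ∈ W₀ by rw [hr]; exact hη
  let M : {r // s r = η} → Set (ha.rep.pullback a).left := fun r =>
    ι '' (N ⟨⟨r.1, hmem r.1 r.2⟩, r.2⟩ : Set _)
  have hMo : ∀ r, IsOpen (M r) := fun r => ι.isOpenEmbedding.isOpenMap _ (N _).isOpen
  have hMm : ∀ r, r.1 ∈ M r := fun r => ⟨⟨r.1, hmem r.1 r.2⟩, hN _, rfl⟩
  have hMd : ∀ r r' z, z ∈ M r → z ∈ M r' → r = r' := by
    rintro r r' z ⟨y, hy, rfl⟩ ⟨y', hy', he⟩
    obtain rfl := ι.isOpenEmbedding.injective he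
    by_contra hne
    refine Set.disjoint_left.1 (hNd ?_) hy hy'
    exact fun h => hne (Subtype.ext (congrArg (fun p => p.1.1) h))
  haveI : Finite {r // s r = η} := (hn η hη).1.to_subtype
  let G : U.left.Opens := ⟨(W₀ : Set U.left) ∩ ⋂ r : {r // s r = η}, ⋂ _ : t r.1 ∈ W, s '' (M r ∩ t ⁻¹' W),
    W₀.isOpen.inter (isOpen_iInter_of_finite fun r => isOpen_iInter_of_finite fun _ =>
      s.isOpenMap _ ((hMo r).inter (W.isOpen.preimage t.continuous)))⟩
  have hηG : η ∈ G := ⟨hη, Set.mem_iInter₂.2 fun r hr => ⟨r.1, ⟨hMm r, hr⟩, r.2⟩⟩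
  let O : Set (ha.rep.pullback a).left := M ⟨r₀, h₂⟩ ∩ s ⁻¹' G
  have hOo : IsOpen O := (hMo _).inter (G.isOpen.preimage s.continuous)
  have hr₀O : r₀ ∈ O := ⟨hMm _, show s r₀ ∈ G by rw [h₂]; exact hηG⟩
  have hdisj : ∀ z ∈ O, t z ∉ W := by
    intro z hzO hzW
    obtain ⟨r', hr', hr'0⟩ := exists_codimZero_mem ⟨O ∩ t ⁻¹' W, hOo.inter (W.isOpen.preimage t.continuous)⟩
      ⟨z, hzO, hzW⟩
    obtain ⟨⟨hr'M, hr'G⟩, hr'W⟩ := hr'
    obtain ⟨hr'W₀, hr'I⟩ := (hr'G : s r' ∈ G)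
    have hle : (K (s r') W).ncard ≤ sSup vals := le_csSup hbd
      ⟨s r', hr'W₀, by rw [← coheight_eq_of_etale s, hr'0], W, hW, rfl⟩
    choose g hg hgs using fun r : K η W => Set.mem_iInter₂.1 hr'I ⟨r.1, r.2.1⟩ r.2.2
    have hfin : (K (s r') W).Finite := (hn _ hr'W₀).1.subset fun r hr => hr.1
    have hginj : Function.Injective g := fun r r'' he => by
      have := hMd _ _ _ (hg r).1 (he ▸ (hg r'').1)
      exact Subtype.ext (congrArg (fun q => q.1) this)
    have hr'g : r' ∉ Set.range g := by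
      rintro ⟨r, hr⟩
      have := hMd ⟨r.1, r.2.1⟩ ⟨r₀, h₂⟩ (g r) (hg r).1 (hr ▸ hr'M)
      exact hrW (by rw [show r₀ = r.1 from (congrArg (fun q => q.1) this).symm]; exact r.2.2)
    have hKfin : (K η W).Finite := (hn _ hη).1.subset fun r hr => hr.1
    haveI := hKfin.to_subtype
    have hsub : insert r' (Set.range g) ⊆ K (s r') W := Set.insert_subset_iff.2
      ⟨⟨rfl, hr'W⟩, by rintro _ ⟨r, rfl⟩; exact ⟨hgs r, (hg r).2⟩⟩
    have := Set.ncard_le_ncard hsub hfin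
    rw [Set.ncard_insert_of_notMem hr'g, Set.ncard_range_of_injective hginj, Nat.card_coe_set_eq] at this
    omega
  obtain ⟨V, hV, hwV, hVO⟩ := exists_isAffineOpen_mem_and_subset (x := t r₀)
    (U := ⟨t '' O, t.isOpenMap _ hOo⟩) ⟨r₀, hr₀O, rfl⟩
  have hWV : Disjoint W V := by
    rw [← Opens.coe_disjoint]
    refine Set.disjoint_left.2 fun z hzW hzV => ?_
    obtain ⟨y, hy, rfl⟩ := hVO hzV
    exact hdisj y hy hzW
  have haff : IsAffineOpen (⨆ b : Bool, if b then W else V) :=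
    IsAffineOpen.iSup_of_disjoint (fun b => by cases b <;> simp [hW, hV]) fun b b' hb => by
      cases b <;> cases b' <;> simp_all [Function.onFun, hWV, hWV.symm]
  have hle : (K η (⨆ b : Bool, if b then W else V)).ncard ≤ sSup vals :=
    le_csSup hbd ⟨η, hη, hη0, _, haff, rfl⟩
  have hsub : insert r₀ (K η W) ⊆ K η (⨆ b : Bool, if b then W else V) := by
    refine Set.insert_subset_iff.2 ⟨⟨h₂, Opens.mem_iSup.2 ⟨false, ?_⟩⟩, fun r hr => ⟨hr.1, Opens.mem_iSup.2 ⟨true, ?_⟩⟩⟩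
    · simpa using hwV
    · simpa using hr.2
  have := Set.ncard_le_ncard hsub ((hn _ hη).1.subset fun r hr => hr.1)
  rw [Set.ncard_insert_of_notMem (fun h => hrW h.2) ((hn _ hη).1.subset fun r hr => hr.1)] at this
  omega

theorem exists_dense_open_subscheme_of_finite_etale (X : Space S) {U : Over S} (a : (yon S).obj U ⟶ X.obj)
    (hf : RepWith @IsFinite a) (he : RepWith @Etale a) (hs : RepWith @Surjective a) :
    ∃ (X' : Space S) (j : X' ⟶ X), RepWith @IsOpenImmersion j.hom ∧ X'.obj.obj.IsRepresentable ∧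
      Dense (Set.range (Points.map j.hom)) := by
  obtain ⟨X', j, hj, hr, hmax⟩ := Groth.Agent.S10197.result X
  refine ⟨X', j, hj, hr, dense_iff_inter_open.2 fun O hO hne => ?_⟩
  obtain ⟨x, hx⟩ := hne
  obtain ⟨u, rfl⟩ := surjective_ofPt hs x
  obtain ⟨η, hη, -, W, hW, hsub⟩ := exists_affine_class_mem a he hf
    ⟨Points.ofPt a ⁻¹' O, hO.preimage (Points.continuous_ofPt a)⟩ ⟨u, hx⟩
  obtain ⟨T, t, ht, hxt⟩ := exists_open_subscheme_of_affine_class X.property a he hf hs hW η hsub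
  exact ⟨_, hη, mem_range_of_openImm j hmax t ht hxt⟩

end Groth.Agent.AlgSpDec
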