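import Groth.Agent.AlgSpDec.AffineClassQuot
import Groth.Agent.AlgSpDec.CodimZero
import Groth.Agent.AlgSpPts.Dim
import Groth.Agent.S10197

/-!
Dense open subschemes of spaces with finite etale charts.
-/

set_option backward.isDefEq.respectTransparency false
set_option backward.isDefEq.respectTransparency.types false

universe u

open CategoryTheory CategoryTheory.Limits AlgebraicGeometry AlgSp Groth.Agent.AlgSpLib Groth.Agent.AlgSpPts Order

namespace Groth.Agent.AlgSpDec

variable {S : Scheme.{u}}

/-- Membership in the largest open subscheme. -/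
theorem mem_range_of_openImm {X X' : Space S} (j : X' ⟶ X)
    (hmax : ∀ (X'' : Space S) (j'' : X'' ⟶ X), RepWith @IsOpenImmersion j''.hom →
        X''.obj.obj.IsRepresentable → ∃ k : X'' ⟶ X', k ≫ j = j'')
    {T : Over S} (t : (yon S).obj T ⟶ X.obj) (ht : RepWith @IsOpenImmersion t) {x : Points X.obj}
    (hx : x ∈ Set.range (Points.map t)) : x ∈ Set.range (Points.map j.hom) := by
  obtain ⟨k, hk⟩ := hmax ⟨(yon S).obj T, IsAlgSpace.yon_obj T⟩ (ObjectProperty.homMk t) ht
    (isRepresentable_of_iso (Iso.refl _))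
  obtain ⟨z, rfl⟩ := hx
  exact ⟨Points.map k.hom z, by rw [← Points.map_comp, show k.hom ≫ j.hom = t from congrArg InducedCategory.Hom.hom hk]⟩

/-- Codimension zero points of a quasi-separated finite etale chart map to the scheme locus. -/
theorem exists_open_subscheme_of_codimZero {X : Sp S} (hX : IsAlgSpace X) {U : Over S}
    (a : (yon S).obj U ⟶ X) (ha : RepWith @Etale a) (hf : RepWith @IsFinite a) (hs : RepWith @Surjective a)
    [QuasiSeparatedSpace ↥U.left] (u : U.left) (hu : coheight u = 0) :
    ∃ (T : Over S) (j : (yon S).obj T ⟶ X),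
      RepWith @IsOpenImmersion j ∧ Points.ofPt a u ∈ Set.range (Points.map j) := by
  have sq := ha.rep.isPullback' a
  haveI : IsFinite (ha.rep.snd a).left := hf.property a _ _ (ha.rep.isPullback a)
  have hfin : (Points.ofPt a ⁻¹' {Points.ofPt a u}).Finite := by
    refine (((ha.rep.snd a).left.finite_preimage_singleton u).image (ha.rep.fst' a).left).subset ?_
    intro w hw
    obtain ⟨r, h₁, h₂⟩ := exists_ofPt_of_eq sq (u := w) (v := u) hw
    exact ⟨r, h₂, h₁⟩
  obtain ⟨V, hV, hsub⟩ := exists_affineOpen_of_codimZero hfin fun w hw => by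
    rw [coheight_eq_of_charts ha ha (show Points.ofPt a w = Points.ofPt a u from hw), hu]
  exact exists_open_subscheme_of_affine_class hX a ha hf hs hV u hsub

theorem exists_dense_open_subscheme (X : Space S) {U : Over S} (a : (yon S).obj U ⟶ X.obj)
    (hf : RepWith @IsFinite a) (he : RepWith @Etale a) (hs : RepWith @Surjective a)
    [QuasiSeparatedSpace ↥U.left] :
    ∃ (X' : Space S) (j : X' ⟶ X), RepWith @IsOpenImmersion j.hom ∧ X'.obj.obj.IsRepresentable ∧
      Dense (Set.range (Points.map j.hom)) ∧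
      ∀ x : Points X.obj, HasAt (fun U u => ringKrullDim ↥(U.presheaf.stalk u) = 0) X.obj x →
        x ∈ Set.range (Points.map j.hom) := by
  obtain ⟨X', j, hj, hr, hmax⟩ := Groth.Agent.S10197.result X
  have key : ∀ u : U.left, coheight u = 0 → Points.ofPt a u ∈ Set.range (Points.map j.hom) := fun u hu => by
    obtain ⟨T, t, ht, hx⟩ := exists_open_subscheme_of_codimZero X.property a he hf hs u hu
    exact mem_range_of_openImm j hmax t ht hx
  refine ⟨X', j, hj, hr, dense_iff_inter_open.2 fun O hO hne => ?_, ?_⟩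
  · obtain ⟨x, hx⟩ := hne
    obtain ⟨u, rfl⟩ := surjective_ofPt hs x
    obtain ⟨η, hη, hη0⟩ := exists_codimZero_mem
      ⟨Points.ofPt a ⁻¹' O, hO.preimage (Points.continuous_ofPt a)⟩ ⟨u, hx⟩
    exact ⟨_, hη, key η hη0⟩
  · rintro x ⟨V, b, v, hb, rfl, hv⟩
    obtain ⟨u, hu⟩ := surjective_ofPt hs (Points.ofPt b v)
    rw [← hu]
    refine key u ?_
    rw [coheight_eq_of_charts he hb hu]
    rw [ringKrullDim_stalk_eq_coheight] at hv
    exact_mod_cast hv

end Groth.Agent.AlgSpDec
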