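import Groth.Prelude.Def_Desc
import Groth.Agent.AlgSpDec.AffineDescent
import Groth.Agent.AlgSpPts.FppfTarget
import Groth.Agent.AlgSpDec.EtaleQuot

/-!
# Representability by effective descent
-/

set_option backward.isDefEq.respectTransparency false
set_option backward.isDefEq.respectTransparency.types false

universe u

open CategoryTheory Limits Opposite AlgebraicGeometry AlgSp Groth.Agent.AlgSpLib Groth.Agent.AlgSpPts

namespace Groth.Agent.AlgSpDec

variable {S : Scheme.{u}}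

/-- The descent datum of a sheaf over `T` which becomes representable over `T'`. -/
theorem exists_schDD {T T' V' : Over S} (π : T' ⟶ T) {G F : Sp S} {f : G ⟶ F} {g : (yon S).obj T ⟶ F}
    {a : (yon S).obj V' ⟶ G} {g' : V' ⟶ T'}
    (sq : IsPullback a ((yon S).map g') f ((yon S).map π ≫ g)) :
    ∃ D : Desc.SchDD π.left, ∃ hV : D.obj = Over.mk g'.left,
      ∀ ⦃Z : Over S⦄ (x₀ x₁ : Z.left ⟶ T'.left) (h : x₀ ≫ π.left = x₁ ≫ π.left) (v : Desc.Lifts D.obj x₀)
        (m₀ m₁ : Z ⟶ V'), m₀.left = v.1 ≫ (eqToHom (congrArg (fun o => o.left) hV)) →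
        m₁.left = (D.φ x₀ x₁ h v).1 ≫ (eqToHom (congrArg (fun o => o.left) hV)) →
        (yon S).map m₁ ≫ a = (yon S).map m₀ ≫ a := by
  -- transfer of a point
  have key : ∀ {T'' : Scheme.{u}} (x₀ x₁ : T'' ⟶ T'.left) (_ : x₀ ≫ π.left = x₁ ≫ π.left)
      (v : Desc.Lifts (Over.mk g'.left) x₀), ∃ w : Desc.Lifts (Over.mk g'.left) x₁,
      ∀ {Z : Over S} (m₀ m₁ : Z ⟶ V') (e : Z.left = T''), m₀.left = eqToHom e ≫ v.1 → m₁.left = eqToHom e ≫ w.1 →
        (yon S).map m₁ ≫ a = (yon S).map m₀ ≫ a := by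
    intro T'' x₀ x₁ h v
    let Z₀ : Over S := Over.mk (x₀ ≫ T'.hom)
    let m : Z₀ ⟶ V' := CategoryTheory.Over.homMk v.1 (by
      rw [← Over.w g']
      exact (Category.assoc _ _ _).symm.trans (congrArg (· ≫ T'.hom) v.2))
    let y₁ : Z₀ ⟶ T' := CategoryTheory.Over.homMk x₁ (by
      show x₁ ≫ T'.hom = x₀ ≫ T'.hom
      rw [← Over.w π, reassoc_of% h])
    have hm : m ≫ g' ≫ π = y₁ ≫ π := Over.OverMorphism.ext (by
      show v.1 ≫ g'.left ≫ π.left = x₁ ≫ π.left
      rw [← h]
      exact (Category.assoc _ _ _).symm.trans (congrArg (· ≫ π.left) v.2))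
    obtain ⟨n, hn⟩ := (yon S).map_surjective (sq.lift ((yon S).map m ≫ a) ((yon S).map y₁) (by
      rw [Category.assoc, sq.w, ← Functor.map_comp_assoc, ← Functor.map_comp_assoc, ← Functor.map_comp_assoc,
        ← hm, Category.assoc]))
    have hn₂ : n ≫ g' = y₁ := (yon S).map_injective (by rw [Functor.map_comp, hn, sq.lift_snd])
    refine ⟨⟨n.left, congrArg (fun e => e.left) hn₂⟩, fun {Z} m₀ m₁ e h₀ h₁ => ?_⟩
    subst e
    simp only [eqToHom_refl, Category.id_comp] at h₀ h₁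
    let r : Z ⟶ Z₀ := CategoryTheory.Over.homMk (𝟙 _) (by
      show 𝟙 _ ≫ x₀ ≫ T'.hom = Z.hom
      rw [Category.id_comp, ← v.2, Category.assoc]
      show v.1 ≫ g'.left ≫ T'.hom = Z.hom
      rw [Over.w g', ← h₀, Over.w m₀])
    have e₀ : m₀ = r ≫ m := Over.OverMorphism.ext (h₀.trans (Category.id_comp _).symm)
    have e₁ : m₁ = r ≫ n := Over.OverMorphism.ext (h₁.trans (Category.id_comp _).symm)
    rw [e₀, e₁, Functor.map_comp_assoc, Functor.map_comp_assoc, hn, sq.lift_fst]
  choose φ hφ using @key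
  -- extensionality
  have ext : ∀ {T'' : Scheme.{u}} {x : T'' ⟶ T'.left} (w w' : Desc.Lifts (Over.mk g'.left) x),
      (∀ (m m' : Over.mk (x ≫ T'.hom) ⟶ V'), m.left = w.1 → m'.left = w'.1 →
        (yon S).map m ≫ a = (yon S).map m' ≫ a) → w = w' := by
    intro T'' x w w' hw
    have hov : ∀ w : Desc.Lifts (Over.mk g'.left) x, w.1 ≫ V'.hom = x ≫ T'.hom := fun w => by
      rw [← Over.w g']; exact (Category.assoc _ _ _).symm.trans (congrArg (· ≫ T'.hom) w.2)
    let m : Over.mk (x ≫ T'.hom) ⟶ V' := CategoryTheory.Over.homMk w.1 (hov w)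
    let m' : Over.mk (x ≫ T'.hom) ⟶ V' := CategoryTheory.Over.homMk w'.1 (hov w')
    have : m = m' := (yon S).map_injective (sq.hom_ext (hw m m' rfl rfl) (by
      rw [← Functor.map_comp, ← Functor.map_comp]
      exact congrArg _ (Over.OverMorphism.ext (w.2.trans w'.2.symm))))
    exact Subtype.ext (congrArg (fun e => e.left) this)
  have hT : ∀ {T'' : Scheme.{u}} {x₀ x₁ : T'' ⟶ T'.left} (_ : x₀ ≫ π.left = x₁ ≫ π.left),
      x₁ ≫ T'.hom = x₀ ≫ T'.hom := fun {T'' x₀ x₁} h => by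
    rw [← Over.w π, ← Category.assoc, ← h, Category.assoc]
  have mk : ∀ {T'' : Scheme.{u}} (Z : Over S) (e : Z.left = T'') {x : T'' ⟶ T'.left}
      (w : Desc.Lifts (Over.mk g'.left) x) (_ : Z.hom = eqToHom e ≫ x ≫ T'.hom),
      ∃ m : Z ⟶ V', m.left = eqToHom e ≫ w.1 := fun {T''} Z e {x} w hZ => by
    refine ⟨CategoryTheory.Over.homMk (eqToHom e ≫ w.1) ?_, rfl⟩
    rw [hZ, Category.assoc, ← Over.w g']
    exact congrArg (eqToHom e ≫ ·) ((Category.assoc _ _ _).symm.trans (congrArg (· ≫ T'.hom) w.2))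
  have self : ∀ {T'' : Scheme.{u}} (x : T'' ⟶ T'.left) (v : Desc.Lifts (Over.mk g'.left) x), φ x x rfl v = v :=
    fun x v => ext _ _ fun m m' hm hm' =>
      hφ x x rfl v m' m rfl (hm'.trans (Category.id_comp _).symm) (hm.trans (Category.id_comp _).symm)
  have comp : ∀ {T'' : Scheme.{u}} (x₀ x₁ x₂ : T'' ⟶ T'.left) (h₀₁ : x₀ ≫ π.left = x₁ ≫ π.left)
      (h₁₂ : x₁ ≫ π.left = x₂ ≫ π.left) (v : Desc.Lifts (Over.mk g'.left) x₀),
      φ x₁ x₂ h₁₂ (φ x₀ x₁ h₀₁ v) = φ x₀ x₂ (h₀₁.trans h₁₂) v := by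
    intro T'' x₀ x₁ x₂ h₀₁ h₁₂ v
    refine ext _ _ fun m m' hm hm' => ?_
    have hm₁ := hm.trans (Category.id_comp _).symm
    have hm₂ := hm'.trans (Category.id_comp _).symm
    obtain ⟨n₀, hn₀⟩ := mk (Over.mk (x₂ ≫ T'.hom)) rfl v (by simp [hT (h₀₁.trans h₁₂)])
    obtain ⟨n₁, hn₁⟩ := mk (Over.mk (x₂ ≫ T'.hom)) rfl (φ x₀ x₁ h₀₁ v) (by simp [hT h₁₂])
    rw [hφ x₁ x₂ h₁₂ _ n₁ m rfl hn₁ hm₁, hφ x₀ x₁ h₀₁ v n₀ n₁ rfl hn₀ hn₁,
      hφ x₀ x₂ (h₀₁.trans h₁₂) v n₀ m' rfl hn₀ hm₂]
  refine ⟨{ obj := Over.mk g'.left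
            φ := fun T'' x₀ x₁ h =>
              { toFun := φ x₀ x₁ h
                invFun := φ x₁ x₀ h.symm
                left_inv := fun v => (comp x₀ x₁ x₀ h h.symm v).trans (self x₀ v)
                right_inv := fun v => (comp x₁ x₀ x₁ h.symm h v).trans (self x₁ v) }
            φ_natural := fun T'' T₃ r x₀ x₁ h h' v v' hv' => ?_
            φ_self := fun T'' x v => self x v
            φ_comp := fun T'' x₀ x₁ x₂ h₀₁ h₁₂ v => comp x₀ x₁ x₂ h₀₁ h₁₂ v }, rfl, ?_⟩
  · show (φ (r ≫ x₀) (r ≫ x₁) h' v').1 = r ≫ (φ x₀ x₁ h v).1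
    refine congrArg (fun w : Desc.Lifts (Over.mk g'.left) (r ≫ x₁) => w.1) (ext _ ⟨r ≫ (φ x₀ x₁ h v).1,
      (Category.assoc _ _ _).trans (congrArg (r ≫ ·) (φ x₀ x₁ h v).2)⟩ fun m m' hm hm' => ?_)
    let Z := Over.mk ((r ≫ x₁) ≫ T'.hom)
    obtain ⟨n₀, hn₀⟩ := mk Z rfl v' (by simp [Z, hT h])
    obtain ⟨k₀, hk₀⟩ := mk (Over.mk (x₁ ≫ T'.hom)) rfl v (by simp [hT h])
    obtain ⟨k₁, hk₁⟩ := mk (Over.mk (x₁ ≫ T'.hom)) rfl (φ x₀ x₁ h v) (by simp)
    let rr : Z ⟶ Over.mk (x₁ ≫ T'.hom) := CategoryTheory.Over.homMk r (Category.assoc _ _ _).symm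
    have e₀ : n₀ = rr ≫ k₀ := Over.OverMorphism.ext (by simpa [rr, hk₀, hv'] using hn₀)
    have e₁ : m' = rr ≫ k₁ := Over.OverMorphism.ext (by simpa [rr, hk₁] using hm')
    rw [hφ _ _ h' v' n₀ m rfl hn₀ (hm.trans (Category.id_comp _).symm), e₀, e₁, Functor.map_comp_assoc,
      Functor.map_comp_assoc, hφ x₀ x₁ h v k₀ k₁ rfl hk₀ hk₁]
  · intro Z x₀ x₁ h v m₀ m₁ h₀ h₁
    refine hφ x₀ x₁ h v m₀ m₁ rfl ?_ ?_
    · rw [h₀]; exact (Category.comp_id _).trans (Category.id_comp _).symm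
    · rw [h₁]; exact (Category.comp_id _).trans (Category.id_comp _).symm

/-- A sheaf over `T` which becomes a scheme with effective descent over an fppf cover is a scheme. -/
theorem exists_rep_of_effective {T T' V' : Over S} (π : T' ⟶ T) (hπ : fppf π.left) {G F : Sp S} {f : G ⟶ F}
    {g : (yon S).obj T ⟶ F} {a : (yon S).obj V' ⟶ G} {g' : V' ⟶ T'}
    (sq : IsPullback a ((yon S).map g') f ((yon S).map π ≫ g))
    (hdesc : ∀ D : Desc.SchDD π.left, D.obj = Over.mk g'.left → (Desc.toDD π.left).essImage D) :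
    ∃ (W : Over S) (h : W ⟶ T) (k : (yon S).obj W ⟶ G), IsPullback k ((yon S).map h) f g := by
  obtain ⟨D, hV, hD⟩ := exists_schDD π sq
  obtain ⟨U₀, ⟨e⟩⟩ := hdesc D hV
  let W : Over S := Over.mk (U₀.hom ≫ T.hom)
  let h : W ⟶ T := CategoryTheory.Over.homMk U₀.hom rfl
  let W' : Over S := Over.mk (pullback.fst π.left U₀.hom ≫ T'.hom)
  let πW : W' ⟶ W := CategoryTheory.Over.homMk (pullback.snd π.left U₀.hom) (by
    show pullback.snd π.left U₀.hom ≫ U₀.hom ≫ T.hom = pullback.fst π.left U₀.hom ≫ T'.hom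
    rw [← pullback.condition_assoc, Over.w π])
  let tW : W' ⟶ T' := CategoryTheory.Over.homMk (pullback.fst π.left U₀.hom) rfl
  have sqW : IsPullback tW πW π h :=
    IsPullback.of_map (Over.forget S) (Over.OverMorphism.ext pullback.condition)
      (IsPullback.of_hasPullback π.left U₀.hom)
  have hπW : fppf πW.left := MorphismProperty.pullback_snd π.left U₀.hom hπ
  let ε : W'.left ⟶ V'.left := e.hom.hom.left ≫ eqToHom (congrArg (fun o => o.left) hV)
  have hobj : eqToHom (congrArg (fun o => o.left) hV) ≫ g'.left = D.obj.hom := by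
    have := Over.eqToHom_left hV
    rw [← this]
    exact Over.w (eqToHom hV)
  have hε : ε ≫ g'.left = pullback.fst π.left U₀.hom := by
    show (e.hom.hom.left ≫ _) ≫ g'.left = _
    rw [Category.assoc, hobj]
    exact Over.w e.hom.hom
  let εo : W' ⟶ V' := CategoryTheory.Over.homMk ε (by
    rw [← Over.w g', reassoc_of% hε]; rfl)
  have hεo : εo ≫ g' = tW := Over.OverMorphism.ext hε
  have : IsIso εo := by
    have : IsIso ε := by
      have : IsIso e.hom.hom.left :=
        ⟨e.inv.hom.left, by rw [← Over.comp_left, ← Desc.SchDD.comp_hom, e.hom_inv_id]; rfl,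
          by rw [← Over.comp_left, ← Desc.SchDD.comp_hom, e.inv_hom_id]; rfl⟩
      infer_instance
    have : IsIso ((Over.forget S).map εo) := this
    exact isIso_of_reflects_iso εo (Over.forget S)
  let t := (yon S).map εo ≫ a
  -- descend the map to `G`
  have compat : ∀ ⦃Z : Over S⦄ (b b' : Z ⟶ W'), b ≫ πW = b' ≫ πW → (yon S).map b ≫ t = (yon S).map b' ≫ t := by
    intro Z b b' hb
    let x₀ := b.left ≫ pullback.fst π.left U₀.hom
    let x₁ := b'.left ≫ pullback.fst π.left U₀.hom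
    have hbl : b.left ≫ pullback.snd π.left U₀.hom = b'.left ≫ pullback.snd π.left U₀.hom :=
      congrArg (fun o => o.left) hb
    have hx : x₀ ≫ π.left = x₁ ≫ π.left := by
      show (_ ≫ _) ≫ _ = (_ ≫ _) ≫ _
      rw [Category.assoc, Category.assoc, pullback.condition, reassoc_of% hbl]
    let v : Desc.Lifts (Desc.canonicalDD π.left U₀).obj x₀ := ⟨b.left, rfl⟩
    let w := Desc.SchDD.Hom.push e.hom v
    have hw := e.hom.comm x₀ x₁ hx v w rfl
    have hcan : (Desc.canMap π.left U₀ x₀ x₁ hx v).1 = b'.left := by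
      apply pullback.hom_ext
      · exact pullback.lift_fst _ _ _
      · exact (pullback.lift_snd _ _ _).trans hbl
    have := hD x₀ x₁ hx w (b ≫ εo) (b' ≫ εo) (Category.assoc _ _ _).symm (by
      rw [hw]
      show b'.left ≫ ε = _
      rw [show ((((Desc.toDD π.left).obj U₀).φ x₀ x₁ hx) v).1 = b'.left from hcan]
      exact (Category.assoc _ _ _).symm)
    simp only [t, ← Category.assoc, ← Functor.map_comp]
    exact this.symm
  have hR : Sieve.generate (Presieve.singleton πW) ∈ J S W :=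
    mem_J_of_fppf πW hπW _ ⟨_, 𝟙 _, πW, Presieve.singleton_self πW, Category.id_comp _⟩
  obtain ⟨k₀, hk₀, -⟩ := Presieve.isSheafFor_singleton.1
    ((Presieve.isSheafFor_iff_generate _).2 (((isSheaf_iff_isSheaf_of_type _ _).1 G.property) _ hR))
    ((J S).uliftYonedaEquiv t) fun {Z} b b' hb => by
      rw [uliftYonedaEquiv_precomp, uliftYonedaEquiv_precomp, compat b b' hb]
  let k : (yon S).obj W ⟶ G := (J S).uliftYonedaEquiv.symm k₀
  have hk : (yon S).map πW ≫ k = t := (J S).uliftYonedaEquiv.injective (by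
    rw [← uliftYonedaEquiv_precomp, Equiv.apply_symm_apply, hk₀])
  have hkw : k ≫ f = (yon S).map h ≫ g := hom_ext_of_fppf πW hπW _ _ (by
    rw [← Category.assoc, hk]
    show ((yon S).map εo ≫ a) ≫ f = _
    rw [Category.assoc, sq.w, ← Functor.map_comp_assoc, hεo, ← Functor.map_comp_assoc, ← Functor.map_comp_assoc,
      sqW.w])
  -- the comparison map
  let m := pullback.lift k ((yon S).map h) hkw
  have : Mono m := by
    refine mono_of_yon_injective fun Z b b' hbb => ?_
    obtain ⟨b, rfl⟩ := (yon S).map_surjective b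
    obtain ⟨b', rfl⟩ := (yon S).map_surjective b'
    have hh : b ≫ h = b' ≫ h := (yon S).map_injective (by
      have := congrArg (· ≫ pullback.snd f g) hbb
      simpa [m] using this)
    have hbk : (yon S).map b ≫ k = (yon S).map b' ≫ k := by
      have := congrArg (· ≫ pullback.fst f g) hbb
      simpa [m] using this
    let ρ := pullback.snd π (b ≫ h)
    have hρ : fppf ρ.left :=
      MorphismProperty.of_isPullback ((IsPullback.of_hasPullback π (b ≫ h)).map (Over.forget S)) hπ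
    obtain ⟨c, hc₁, hc₂⟩ := sqW.exists_lift (pullback.fst π (b ≫ h)) (ρ ≫ b)
      (by rw [pullback.condition, Category.assoc])
    obtain ⟨c', hc₁', hc₂'⟩ := sqW.exists_lift (pullback.fst π (b ≫ h)) (ρ ≫ b')
      (by rw [pullback.condition, Category.assoc]; exact congrArg (ρ ≫ ·) hh)
    have hcc : c ≫ εo = c' ≫ εo := (yon S).map_injective (sq.hom_ext (by
        simp only [Functor.map_comp, Category.assoc]
        show (yon S).map c ≫ t = (yon S).map c' ≫ t
        rw [← hk, ← Functor.map_comp_assoc, ← Functor.map_comp_assoc, hc₂, hc₂', Functor.map_comp_assoc,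
          Functor.map_comp_assoc, hbk]) (by
        rw [← Functor.map_comp, ← Functor.map_comp, Category.assoc, Category.assoc, hεo, hc₁, hc₁']))
    refine hom_ext_of_fppf ρ hρ _ _ ?_
    rw [← Functor.map_comp, ← Functor.map_comp, ← hc₂, ← hc₂', (cancel_mono εo).1 hcc]
  have : Sheaf.IsLocallySurjective m := isLocallySurjective_of_lifts m fun Z z => by
    obtain ⟨x, hx⟩ := (yon S).map_surjective (z ≫ pullback.snd f g)
    let ρ := pullback.snd π x
    have hρ : fppf ρ.left :=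
      MorphismProperty.of_isPullback ((IsPullback.of_hasPullback π x).map (Over.forget S)) hπ
    obtain ⟨n, hn⟩ := (yon S).map_surjective (sq.lift ((yon S).map ρ ≫ z ≫ pullback.fst f g)
      ((yon S).map (pullback.fst π x)) (by
        rw [Category.assoc, Category.assoc, pullback.condition, ← reassoc_of% hx, ← Functor.map_comp_assoc,
          ← Functor.map_comp_assoc, pullback.condition]))
    have e₁ : (yon S).map (n ≫ inv εo) ≫ t = (yon S).map ρ ≫ z ≫ pullback.fst f g := by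
      simp only [t]
      rw [← Functor.map_comp_assoc, Category.assoc, IsIso.inv_hom_id, Category.comp_id, hn, sq.lift_fst]
    have e₂ : n ≫ g' = pullback.fst π x := (yon S).map_injective (by rw [Functor.map_comp, hn, sq.lift_snd])
    refine ⟨_, ρ, (yon S).map (n ≫ inv εo ≫ πW), hρ, pullback.hom_ext ?_ ?_⟩
    · rw [Category.assoc, pullback.lift_fst, Category.assoc, ← e₁, ← hk, ← Functor.map_comp_assoc,
        Category.assoc]
    · rw [Category.assoc, pullback.lift_snd, Category.assoc, ← hx, ← Functor.map_comp, ← Functor.map_comp]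
      congr 1
      rw [Category.assoc, Category.assoc, ← sqW.w, reassoc_of% (show inv εo ≫ tW = g' by rw [← hεo, IsIso.inv_hom_id_assoc]),
        reassoc_of% e₂, pullback.condition]
  have := isIso_of_mono_of_locallySurjective m
  exact ⟨W, h, k, IsPullback.of_iso_pullback ⟨hkw⟩ (asIso m) (pullback.lift_fst _ _ _) (pullback.lift_snd _ _ _)⟩

theorem algSpace_of_effective (P : MorphismProperty Scheme.{u}) [P.IsStableUnderBaseChange]
    [P.IsLocalAtTarget Scheme.fppfPrecoverage]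
    (hdesc : ∀ ⦃X' S' : Scheme.{u}⦄ (p : X' ⟶ S'), Surjective p → Flat p → LocallyOfFinitePresentation p →
      ∀ D : Desc.SchDD p, P D.obj.hom → (Desc.toDD p).essImage D)
    {F G : Sp S} (hF : IsAlgSpace F) (f : G ⟶ F) {U V : Over S} (q : (yon S).obj U ⟶ F)
    (hqe : RepWith @Etale q) (hqs : RepWith @Surjective q) (fst : (yon S).obj V ⟶ G) (g : V ⟶ U)
    (sq : IsPullback fst ((yon S).map g) f q) (hP : P g.left) : IsAlgSpace G ∧ RepWith P f := by
  have hf : Representable f := fun T t => by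
    let π := hqe.rep.snd t
    have : Etale π.left := hqe.property_snd t
    have : Surjective π.left := hqs.2 t _ _ (hqe.rep.isPullback t)
    obtain ⟨x, hx⟩ := (yon S).map_surjective (hqe.rep.fst t)
    have sV := (IsPullback.of_hasPullback g x).map (yon S)
    have hsq : IsPullback ((yon S).map (pullback.fst g x) ≫ fst) ((yon S).map (pullback.snd g x)) f
        ((yon S).map π ≫ t) := by
      rw [← hqe.rep.w t, ← hx]
      exact sV.paste_horiz sq
    obtain ⟨W, h, k, sW⟩ := exists_rep_of_effective π (fppf_of π.left) hsq fun D hD =>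
      hdesc π.left inferInstance inferInstance inferInstance D (by
        rw [hD]
        exact MorphismProperty.of_isPullback ((IsPullback.of_hasPullback g x).map (Over.forget S)) hP)
    exact ⟨W, h, k, sW⟩
  have := isLocallySurjective_of_etale_surjective hqe hqs
  exact ⟨Groth.Agent.AlgSpLib.isAlgSpace_of_representable f hf hF,
    repWith_of_locallySurjective hf q sq P ((repWith_yon_map_iff _ _).2 hP)⟩

end Groth.Agent.AlgSpDec
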