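import Groth.Agent.AlgSpDec.AffineRep
import Groth.Agent.AlgSpDec.EtCompact
import Groth.Agent.AlgSpDec.Fibres
import Groth.Agent.AlgSpPts.Univ

/-!
# Finite morphisms of decent spaces and specializations
-/

set_option backward.isDefEq.respectTransparency false
set_option backward.isDefEq.respectTransparency.types false

universe u

open CategoryTheory CategoryTheory.Limits AlgebraicGeometry AlgSp Groth.Agent.AlgSpLib Groth.Agent.AlgSpPts Topology

namespace Groth.Agent.AlgSpDec

variable {S : Scheme.{u}}

/-- No specialisations within a fibre of an integral morphism to a decent space. -/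
theorem eq_of_specializes_integral {X Y : Space S} {f : Y.obj ⟶ X.obj} (hf : RepWith @IsIntegralHom f)
    (hX : IsDecent X.obj) (hY : IsDecent Y.obj) {c d : Points Y.obj} (h : c ⤳ d)
    (he : Points.map f c = Points.map f d) : c = d := by
  obtain ⟨U, a, u, -, ha, hu⟩ := exists_affine_chart_at X.property (Points.map f d)
  obtain ⟨W, g, fst, sq, hg, hfst⟩ : ∃ (W : Over S) (g : W ⟶ U) (fst : (yon S).obj W ⟶ Y.obj),
      IsPullback fst ((yon S).map g) f a ∧ IsIntegralHom g.left ∧ RepWith @Etale fst :=
    ⟨_, _, _, hf.rep.isPullback a, hf.property_snd a, repWith_of_isPullback (hf.rep.isPullback a).flip ha⟩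
  obtain ⟨w, rfl, hw⟩ := exists_lift sq (x := d) hu.symm
  obtain ⟨w', hs, rfl⟩ := exists_specializes_lift_of_isDecent hY hfst h
  have key : ∀ z, Points.ofPt a (g.left z) = Points.map f (Points.ofPt fst z) := fun z => by
    rw [← ofPt_comp, Points.map_ofPt, sq.w]
  have h1 : g.left w = g.left w' := eq_of_specializes_of_isDecent hX ha
    (by rw [key, key, he]) (hs.map g.left.continuous)
  rw [eq_of_specializes_of_isIntegralHom g.left hs h1.symm]

theorem dimensionFunction_of_comp_finite {X Y : Space S} (f : Y.obj ⟶ X.obj) (hf : IsFiniteMor f)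
    (hs : Function.Surjective (Points.map f)) (hX : IsDecent X.obj) (hY : IsDecent Y.obj)
    (δ : Points X.obj → ℤ)
    (hδ : ∀ a b : Points Y.obj, a ⤳ b → a ≠ b → δ (Points.map f b) < δ (Points.map f a) ∧
      ((∀ c : Points Y.obj, a ⤳ c → c ⤳ b → c = a ∨ c = b) → δ (Points.map f a) = δ (Points.map f b) + 1))
    (a b : Points X.obj) (hab : a ⤳ b) (hne : a ≠ b) :
    δ b < δ a ∧ ((∀ c : Points X.obj, a ⤳ c → c ⤳ b → c = a ∨ c = b) → δ a = δ b + 1) := by
  have hr := isFiniteMor_iff_repWith.1 hf
  have hi : RepWith @IsIntegralHom f := repWith_mono (fun _ _ g (_ : IsFinite g) => inferInstanceAs (IsIntegralHom g)) _ hr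
  have hc : IsClosedMap (Points.map f) :=
    isClosedMap_map (repWith_mono (fun _ _ g (_ : IsFinite g) => inferInstanceAs (UniversallyClosed g)) _ hr)
  obtain ⟨a', rfl⟩ := hs a
  obtain ⟨b', hb', rfl⟩ : b ∈ Points.map f '' closure {a'} := by
    have h1 : closure {Points.map f a'} ⊆ Points.map f '' closure {a'} :=
      closure_minimal (Set.singleton_subset_iff.2 ⟨a', subset_closure rfl, rfl⟩) (hc _ isClosed_closure)
    exact h1 (specializes_iff_mem_closure.1 hab)
  have hsp : a' ⤳ b' := specializes_iff_mem_closure.2 hb'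
  obtain ⟨h1, h2⟩ := hδ a' b' hsp (fun h => hne (congrArg _ h))
  refine ⟨h1, fun hz => h2 fun c h3 h4 => ?_⟩
  rcases hz (Points.map f c) (h3.map (Points.continuous_map f)) (h4.map (Points.continuous_map f)) with h | h
  · exact Or.inl (eq_of_specializes_integral hi hX hY h3 h.symm).symm
  · exact Or.inr (eq_of_specializes_integral hi hX hY h4 h)

end Groth.Agent.AlgSpDec
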