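import Groth.Agent.AlgSpDec.MonoPts
import Groth.Agent.AlgSpPts.Univ
import Groth.Agent.AlgSpPts.Misc

/-!
# Monomorphic representatives descend along quasi-compact etale morphisms; charts over points
-/

set_option backward.isDefEq.respectTransparency false
set_option backward.isDefEq.respectTransparency.types false

open CategoryTheory Limits Opposite AlgebraicGeometry MorphismProperty AlgSp Groth.Agent.AlgSpLib
  Groth.Agent.AlgSpPts Topology

namespace Groth.Agent.AlgSpDec

universe u

variable {S : Scheme.{u}} {X Y : Sp S}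

theorem subsingleton_over'_of_mono {U : Over S} {φ : (yon S).obj U ⟶ X} (hφ : RepWith @Etale φ)
    (p : FieldPt X) [Mono p.toHom] (u : ↥U.left) : (over' hφ p u).Subsingleton := fun v hv v' hv' => by
  have : Mono ((yon S).map (hφ.rep.fst' p.toHom)) := (hφ.rep.isPullback' p.toHom).mono_fst_of_mono
  have : Mono (hφ.rep.fst' p.toHom) := (yon S).mono_of_mono_map this
  exact (hφ.rep.fst' p.toHom).left.injective (hv.trans hv'.symm)

theorem discreteTopology_over_field {V : Over S} {K : Type u} [Field K] {str : Spec (CommRingCat.of K) ⟶ S}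
    (v : V ⟶ Over.mk str) [Etale v.left] : DiscreteTopology ↥V.left := by
  have h1 := v.left.isDiscrete_preimage_singleton (IsLocalRing.closedPoint K)
  rw [show v.left ⁻¹' {IsLocalRing.closedPoint K} = Set.univ from
    Set.eq_univ_of_forall fun x => Subsingleton.elim (α := PrimeSpectrum K) _ _] at h1
  exact isDiscrete_univ_iff.1 h1

/-- Monomorphic representatives descend along quasi-compact etale surjections. -/
theorem exists_mono_of_qc_etale (hX : IsAlgSpace X) (hY : IsAlgSpace Y) (f : X ⟶ Y)
    (hq : IsQuasiCompactMor f) (he : IsEtaleMor f) (x : Points X)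
    (hx : ∃ p : FieldPt X, Points.mk p = x ∧ Mono p.toHom) :
    ∃ q : FieldPt Y, Points.mk q = Points.map f x ∧ Mono q.toHom := by
  obtain ⟨p, rfl, hp⟩ := hx
  obtain ⟨U, a, ha, has⟩ := hX.atlas
  obtain ⟨u, hu⟩ := surjective_ofPt has (Points.mk p)
  have hψ : RepWith @Etale (a ≫ f) := he a ha
  let q := FieldPt.ofPt (a ≫ f) u
  have sqV := hψ.rep.isPullback' q.toHom
  -- the fibre of `f`
  let Xq := pullback f q.toHom
  have sqX := IsPullback.of_hasPullback f q.toHom
  have hXq : IsAlgSpace Xq := isAlgSpace_of_isPullback sqX hX (IsAlgSpace.yon_obj _) hY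
  let c : (yon S).obj (hψ.rep.pullback q.toHom) ⟶ Xq :=
    sqX.lift ((yon S).map (hψ.rep.fst' q.toHom) ≫ a) ((yon S).map (hψ.rep.snd q.toHom))
      (by rw [Category.assoc]; exact sqV.w)
  have sqc : IsPullback ((yon S).map (hψ.rep.fst' q.toHom)) c a (pullback.fst f q.toHom) := by
    refine IsPullback.of_bot ?_ (sqX.lift_fst _ _ _).symm sqX
    rw [sqX.lift_snd]
    exact sqV
  have hc : RepWith @Etale c := repWith_of_isPullback sqc ha
  have hcs : RepWith @Surjective c := repWith_of_isPullback sqc has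
  have : Etale (hψ.rep.snd q.toHom).left := hψ.property_snd q.toHom
  have hd : DiscreteTopology ↥(hψ.rep.pullback q.toHom).left :=
    discreteTopology_over_field (hψ.rep.snd q.toHom)
  have hfin : Finite (Points Xq) := by
    have hqc : IsQuasiCompactSp Xq := hq (IsAlgSpace.yon_obj _)
      ((isQuasiCompactSp_yon_iff _).2 (inferInstanceAs (CompactSpace ↥(Spec (CommRingCat.of q.K))))) _ _ _ sqX
    have : CompactSpace (Points Xq) := (isQuasiCompactSp_iff hXq).1 hqc
    have : DiscreteTopology (Points Xq) := discreteTopology_iff_forall_isOpen.2 fun s => by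
      rw [← Set.image_preimage_eq s (surjective_ofPt hcs)]
      exact AlgSpLib.isOpenMap_ofPt hc _ (isOpen_discrete _)
    exact finite_of_compact_of_discrete
  refine exists_mono_of_finite_pair hψ hY u u rfl (fun R s t sq => ?_) |>.imp fun p' hp' =>
    ⟨hp'.1.trans ?_, hp'.2⟩
  swap
  · rw [← hu, Points.map_ofPt]
  -- finiteness
  have hfin' : (over' hψ q u).Finite := by
    have key : ∀ w : Points Xq, Points.map (pullback.fst f q.toHom) w = Points.mk p →
        {v ∈ over' hψ q u | Points.ofPt c v = w}.Finite := by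
      intro w hw
      obtain ⟨ω, rfl⟩ := Points.mk_surjective w
      let ω' := ω.map (pullback.fst f q.toHom)
      have hω' : Points.mk ω' = Points.mk p := hw
      have hω'fin : (over' ha ω' u).Finite :=
        finite_over'_of_rel ha p ω' hω' u (subsingleton_over'_of_mono ha p u).finite
      have sqZ := ha.rep.isPullback' ω'.toHom
      have e : ω'.toHom = ω.toHom ≫ pullback.fst f q.toHom := FieldPt.toHom_map _ _
      obtain ⟨j, hj⟩ := (yon S).map_surjective (ω.toHom ≫ pullback.snd f q.toHom)
      obtain ⟨Ψ, hΨ⟩ := (yon S).map_surjective (sqV.lift ((yon S).map (ha.rep.fst' ω'.toHom))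
        ((yon S).map (ha.rep.snd ω'.toHom ≫ j)) (by
          rw [Functor.map_comp, hj, Category.assoc, Category.assoc, ← sqX.w, ← Category.assoc,
            sqZ.w, e, Category.assoc, Category.assoc]))
      have hΨ₁ : Ψ ≫ hψ.rep.fst' q.toHom = ha.rep.fst' ω'.toHom :=
        (yon S).map_injective (by rw [Functor.map_comp, hΨ, sqV.lift_fst])
      have hΨ₂ : (yon S).map Ψ ≫ c = (yon S).map (ha.rep.snd ω'.toHom) ≫ ω.toHom := by
        refine sqX.hom_ext ?_ ?_
        · rw [Category.assoc, sqX.lift_fst, ← Category.assoc, hΨ, sqV.lift_fst, sqZ.w, e, Category.assoc]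
        · rw [Category.assoc, sqX.lift_snd, hΨ, sqV.lift_snd, Functor.map_comp, hj, Category.assoc]
      have sqΨ : IsPullback ((yon S).map Ψ) ((yon S).map (ha.rep.snd ω'.toHom)) c ω.toHom := by
        refine IsPullback.of_right ?_ hΨ₂ sqc
        rw [← Functor.map_comp, hΨ₁, ← e]
        exact sqZ
      refine (hω'fin.image Ψ.left).subset fun v ⟨hv, hvw⟩ => ?_
      obtain ⟨z, hz, -⟩ := exists_ofPt_of_eq sqΨ
        (show Points.ofPt c v = Points.ofPt ω.toHom (IsLocalRing.closedPoint ω.K) by
          rw [Points.ofPt_toHom]; exact hvw)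
      refine ⟨z, ?_, hz⟩
      change (ha.rep.fst' ω'.toHom).left z = u
      rw [← hΨ₁, Over.comp_left, Scheme.Hom.comp_apply, hz]
      exact hv
    refine (Set.finite_iUnion fun w : {w : Points Xq // Points.map (pullback.fst f q.toHom) w = Points.mk p} =>
      key w.1 w.2).subset fun v hv => Set.mem_iUnion.2 ⟨⟨Points.ofPt c v, ?_⟩, hv, rfl⟩
    rw [Points.map_ofPt, sqX.lift_fst, ofPt_comp, show (hψ.rep.fst' q.toHom).left v = u from hv, hu]
  let ι : q.pt ⟶ U := Over.homMk (U.left.fromSpecResidueField u) rfl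
  have hι : q.toHom = (yon S).map ι ≫ a ≫ f := FieldPt.toHom_ofPt _ u
  obtain ⟨l, hl⟩ := (yon S).map_surjective (sq.lift ((yon S).map (hψ.rep.fst' q.toHom))
    ((yon S).map (hψ.rep.snd q.toHom ≫ ι)) (by rw [Functor.map_comp, Category.assoc, ← hι]; exact sqV.w))
  have hl₁ : l ≫ t = hψ.rep.fst' q.toHom := (yon S).map_injective (by rw [Functor.map_comp, hl, sq.lift_fst])
  have hl₂ : l ≫ s = hψ.rep.snd q.toHom ≫ ι := (yon S).map_injective (by rw [Functor.map_comp, hl, sq.lift_snd])
  have sl : IsPullback ((yon S).map (hψ.rep.snd q.toHom)) ((yon S).map l) ((yon S).map ι) ((yon S).map s) := by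
    refine IsPullback.of_bot ?_ (by rw [← Functor.map_comp, ← Functor.map_comp, hl₂]) sq.flip
    rw [← Functor.map_comp, hl₁, ← hι]
    exact sqV.flip
  refine (hfin'.image l.left).subset fun r ⟨hrs, hrt⟩ => ?_
  obtain ⟨v, -, hv⟩ := Scheme.exists_preimage_of_isPullback (isPullback_of_yon sl)
    (IsLocalRing.closedPoint q.K) r (by rw [hrs]; exact U.left.fromSpecResidueField_apply u _)
  refine ⟨v, ?_, hv⟩
  change (hψ.rep.fst' q.toHom).left v = u
  rw [← hl₁, Over.comp_left, Scheme.Hom.comp_apply, hv, hrt]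

/-- The fibre condition for a chart at a point with finite fibre in the chart and its square. -/
theorem finite_fibres_iff_mono (hX : IsAlgSpace X) (x : Points X) {U : Over S} (φ : (yon S).obj U ⟶ X)
    (hφ : RepWith @Etale φ) :
    (x ∈ Set.range (Points.ofPt φ) ∧ (Points.ofPt φ ⁻¹' {x}).Finite ∧
        ∀ (R : Over S) (s t : R ⟶ U), IsPullback ((yon S).map t) ((yon S).map s) φ φ →
          (Points.ofPt ((yon S).map t ≫ φ) ⁻¹' {x}).Finite) ↔
      ∃ p : FieldPt X, Points.mk p = x ∧ Mono p.toHom ∧
        ∀ (T : Over S) (c : T ⟶ p.pt) (snd : (yon S).obj T ⟶ (yon S).obj U),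
          IsPullback ((yon S).map c) snd p.toHom φ → Nonempty ↥T.left ∧ IsFinite c.left := by
  constructor
  · rintro ⟨⟨u, rfl⟩, hfib, hR⟩
    obtain ⟨p, hp, hm⟩ := exists_mono_of_finite_pair hφ hX u u rfl fun R s t sq =>
      (hR R s t sq).subset fun r hr => by
        change Points.ofPt ((yon S).map t ≫ φ) r = _
        rw [ofPt_comp, hr.2]
    refine ⟨p, hp, hm, fun T c snd sq => ?_⟩
    obtain ⟨d, rfl⟩ := (yon S).map_surjective snd
    obtain ⟨v, -, -⟩ := exists_ofPt_of_eq sq
      (show Points.ofPt p.toHom (IsLocalRing.closedPoint p.K) = Points.ofPt φ u by rw [Points.ofPt_toHom, hp])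
    refine ⟨⟨v⟩, ?_⟩
    have : Mono ((yon S).map d) := sq.mono_snd_of_mono
    have : Mono d := (yon S).mono_of_mono_map this
    have : Etale c.left := hφ.property _ _ _ sq.flip
    have : Finite ↥T.left := by
      refine Set.finite_univ_iff.1 ((hfib.preimage (f := d.left) d.left.injective.injOn).subset fun z _ => ?_)
      change Points.ofPt φ (d.left z) = _
      rw [← ofPt_comp, ← sq.w, ofPt_comp, ← hp]
      exact Points.ofPt_toHom p _
    have : IsAffine p.pt.left := inferInstanceAs (IsAffine (Spec (CommRingCat.of p.K)))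
    have : QuasiCompact c.left := HasAffineProperty.iff_of_isAffine.2 (inferInstance : CompactSpace ↥T.left)
    have : IsArtinianScheme p.pt.left :=
      inferInstanceAs (IsArtinianScheme (Spec (CommRingCat.of p.K)))
    exact IsFinite.of_locallyQuasiFinite c.left
  · rintro ⟨p, rfl, hm, hT⟩
    have sqV := hφ.rep.isPullback' p.toHom
    obtain ⟨hne, hfinV⟩ := hT _ _ _ sqV.flip
    have hfin : (Set.univ : Set ↥(hφ.rep.pullback p.toHom).left).Finite := by
      refine ((hφ.rep.snd p.toHom).left.finite_preimage_singleton (IsLocalRing.closedPoint p.K)).subset ?_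
      intro w _
      exact Subsingleton.elim (α := ↥p.pt.left) _ _
    have hfib : (Points.ofPt φ ⁻¹' {Points.mk p}).Finite := by
      refine (hfin.image (hφ.rep.fst' p.toHom).left).subset fun w hw => ?_
      obtain ⟨v, hv, -⟩ := exists_ofPt_of_eq sqV
        (show Points.ofPt φ w = Points.ofPt p.toHom (IsLocalRing.closedPoint p.K) by
          rw [Points.ofPt_toHom]; exact hw)
      exact ⟨v, Set.mem_univ _, hv⟩
    obtain ⟨v⟩ := hne
    refine ⟨⟨(hφ.rep.fst' p.toHom).left v, ?_⟩, hfib, fun R s t sq => ?_⟩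
    · rw [← ofPt_comp, sqV.w, ofPt_comp]
      exact Points.ofPt_toHom p _
    · refine ((hfib.prod hfib).biUnion fun w hw => finite_pair_of_mono hφ p w.1 w.2 hw.1 hw.2 sq).subset
        fun r hr => ?_
      have h1 : Points.ofPt φ (t.left r) = Points.mk p := by rw [← ofPt_comp]; exact hr
      have h2 : Points.ofPt φ (s.left r) = Points.mk p := by rw [← ofPt_comp, ← sq.w]; exact hr
      exact Set.mem_iUnion₂.2 ⟨(s.left r, t.left r), ⟨h2, h1⟩, rfl, rfl⟩

end Groth.Agent.AlgSpDec
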