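import Groth.Agent.AlgSpPts.Dim
import Groth.Agent.AlgSpDec.AffineRep
import Groth.Agent.AlgSpDec.MonoPtsDescend
import Groth.Agent.DimLift.Basic
import Groth.Agent.GrpSchLib.FieldDim
import Groth.Agent.SchTop.Closed

/-!
# Dimension of algebraic spaces: integral morphisms, locally quasi-finite spaces over a field
-/

set_option backward.isDefEq.respectTransparency false
set_option backward.isDefEq.respectTransparency.types false

open CategoryTheory Limits Opposite AlgebraicGeometry MorphismProperty AlgSp Groth.Agent.AlgSpLib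
  Groth.Agent.AlgSpPts Order TopologicalSpace

namespace Groth.Agent.AlgSpDec

universe u

variable {S : Scheme.{u}} {X Y : Sp S}

theorem dim_le_of_integral (hY : IsAlgSpace Y) {f : X ⟶ Y} (hf : IsIntegralMor f) :
    AlgSp.dim X ≤ AlgSp.dim Y := by
  have hr := isIntegralMor_iff_repWith.1 hf
  obtain ⟨V, b, hb, hbs⟩ := hY.atlas
  have sq := hr.rep.isPullback b
  let W := hr.rep.pullback b
  have haW : RepWith @Etale (hr.rep.fst b) := repWith_of_isPullback sq.flip hb
  have hsW : RepWith @Surjective (hr.rep.fst b) := repWith_of_isPullback sq.flip hbs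
  have : IsIntegralHom (hr.rep.snd b).left := hr.property_snd b
  have hWV : topologicalKrullDim ↥W.left ≤ topologicalKrullDim ↥V.left :=
    DimLift.le_of_incomparable (hr.rep.snd b).left (hr.rep.snd b).left.continuous fun w w' h e =>
      GrpSchLib.eq_of_specializes_of_isIntegralHom _ h e
  have hV : topologicalKrullDim ↥V.left ≤ AlgSp.dim Y := le_iSup₂_of_le V b (le_iSup_of_le hb le_rfl)
  refine dim_le_iff.2 fun U a ha u => ?_
  obtain ⟨w, hw⟩ := surjective_ofPt hsW (Points.ofPt a u)
  rw [← coheight_eq_of_charts haW ha hw]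
  refine le_trans (coheight_le_krullDim w) ?_
  rw [← topologicalKrullDim_eq_krullDim]
  exact hWV.trans hV

theorem le_dim_of_integral_surjective (hY : IsAlgSpace Y) {f : X ⟶ Y} (hf : IsIntegralMor f)
    (hs : IsSurjectiveMor f) : AlgSp.dim Y ≤ AlgSp.dim X := by
  have hr := isIntegralMor_iff_repWith.1 hf
  refine dim_le_iff.2 fun V b hb v => le_trans (coheight_le_krullDim v) ?_
  rw [← topologicalKrullDim_eq_krullDim]
  have sq := hr.rep.isPullback b
  have haW : RepWith @Etale (hr.rep.fst b) := repWith_of_isPullback sq.flip hb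
  have : IsIntegralHom (hr.rep.snd b).left := hr.property_snd b
  have hsurj : Function.Surjective (hr.rep.snd b).left := fun v' => by
    obtain ⟨x, hx⟩ := hs (Points.ofPt b v')
    obtain ⟨w, -, hw⟩ := exists_point_of_isPullback sq (x := x) (y := Points.ofScheme V v')
      (hx.trans (Points.ofPt_eq_map_ofScheme b v'))
    obtain ⟨t, rfl⟩ := (Points.schemeHomeo _).surjective w
    exact ⟨t, (Points.schemeHomeo V).injective ((Points.map_yon_map_apply _ t).symm.trans hw)⟩
  refine le_trans (DimLift.le_of_specializing _ hsurj (hr.rep.snd b).left.isClosedMap.specializingMap) ?_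
  exact le_iSup₂_of_le _ (hr.rep.fst b) (le_iSup_of_le haW le_rfl)

section Field

variable {k : Type u} [Field k] {X : Sp (Spec (CommRingCat.of k))}

theorem discrete_of_lft_dim_zero {U : Scheme.{u}} (g : U ⟶ Spec (CommRingCat.of k)) [LocallyOfFiniteType g]
    (hd : topologicalKrullDim ↥U ≤ 0) : DiscreteTopology ↥U := by
  refine discreteTopology_iff_isOpen_singleton.2 fun u => ?_
  obtain ⟨W, hW, huW, -⟩ := exists_isAffineOpen_mem_and_subset (U := (⊤ : U.Opens)) (x := u) trivial
  have : IsAffine W.toScheme := hW
  have : IsLocallyNoetherian U := LocallyOfFiniteType.isLocallyNoetherian g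
  have : IsLocallyNoetherian W.toScheme := isLocallyNoetherian_of_isOpenImmersion W.ι
  have : IsNoetherian W.toScheme := {}
  have hdW : topologicalKrullDim ↥W.toScheme ≤ 0 :=
    (DimLift.le_of_incomparable W.ι W.ι.continuous fun _ _ _ e => W.ι.injective e).trans hd
  have h := W.ι.isOpenEmbedding.isOpenMap _ (SchTop.isOpen_singleton_of_dim_le_zero hdW ⟨u, huW⟩)
  rwa [Set.image_singleton] at h

theorem lqf_iff_lft_dim_le_zero (hA : IsAlgSpace X)
    (p : X ⟶ (yon _).obj (Over.mk (𝟙 (Spec (CommRingCat.of k))))) :
    LocP (@LocallyQuasiFinite ⊓ @LocallyOfFiniteType : MorphismProperty Scheme.{u}) p ↔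
      LocP @LocallyOfFiniteType p ∧ AlgSp.dim X ≤ 0 := by
  constructor
  · refine fun h => ⟨locP_mono (fun _ _ g hg => hg.2) h, iSup₂_le fun U a => iSup_le fun ha => ?_⟩
    obtain ⟨c, hc⟩ := (yon _).map_surjective (a ≫ p)
    obtain ⟨hq, -⟩ := h a (𝟙 _) c ha (repWith_id _ _) (by rw [Category.comp_id, hc])
    have := hq
    have : DiscreteTopology ↥U.left := discreteTopology_iff_isOpen_singleton.2 fun u => by
      have h1 := c.left.isDiscrete_preimage_singleton (IsLocalRing.closedPoint k)
      rw [show c.left ⁻¹' {IsLocalRing.closedPoint k} = Set.univ from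
        Set.eq_univ_of_forall fun x => Subsingleton.elim (α := PrimeSpectrum k) _ _] at h1
      have := isDiscrete_univ_iff.1 h1
      exact isOpen_discrete _
    rw [topologicalKrullDim_eq_krullDim]
    refine krullDim_nonpos_iff_forall_isMax.2 fun a b hab => ?_
    have : b = a := ((Scheme.le_iff_specializes.1 hab).eq)
    exact this.le
  · rintro ⟨hl, hd⟩ U V a b h ha hb w
    have : LocallyOfFiniteType h.left := hl a b h ha hb w
    obtain ⟨v, hv⟩ := (yon _).map_surjective b
    have hbv : Etale v.left := (repWith_yon_map_iff @Etale v).1 (by rw [hv]; exact hb)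
    have : LocallyOfFiniteType (h.left ≫ v.left) := inferInstance
    have hU : topologicalKrullDim ↥U.left ≤ 0 := (le_iSup₂_of_le U a (le_iSup (fun _ : RepWith @Etale a => topologicalKrullDim ↥U.left) ha)).trans hd
    have := discrete_of_lft_dim_zero (k := k) (h.left ≫ v.left) hU
    have : LocallyQuasiFinite (h.left ≫ v.left) := locallyQuasiFinite_iff_isDiscrete_preimage_singleton.2
      fun _ => IsDiscrete.univ.mono (Set.subset_univ _)
    exact ⟨LocallyQuasiFinite.of_comp h.left v.left, inferInstance⟩

end Field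

end Groth.Agent.AlgSpDec
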