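import Groth.Agent.AlgSpDec.Fibres
import Groth.Agent.AlgSpDec.ResTrdeg
import Groth.Agent.AlgSpPts.Dim
import Groth.Agent.DimFormula.Fibre

/-!
# Dimension and transcendence degree
-/

set_option autoImplicit false
set_option linter.style.haveILetI false
set_option backward.isDefEq.respectTransparency false
set_option backward.isDefEq.respectTransparency.types false

universe u

open CategoryTheory CategoryTheory.Limits AlgebraicGeometry AlgSp Groth.Agent.AlgSpLib Groth.Agent.AlgSpPts
open Groth.Agent.DimFormula (cd fb codim)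

namespace Groth.Agent.AlgSpDec.DimTrdeg

open Groth.Agent.AlgSpDec

variable {S : Scheme.{u}}

theorem dim_le {X Y : Sp S} (hXa : IsAlgSpace X) (hYa : IsAlgSpace Y) (f : X ⟶ Y) (hY : IsLocNoethSp Y)
    (hXd : IsDecent X) (hf : LocP @LocallyOfFiniteType f) {x : Points X}
    (hx : IsGenericPoint x (Set.univ : Set (Points X))) (r : ℕ)
    (hr : HasAtMor (fun _ _ h u => Dual3.resTrdeg h u = (r : Cardinal.{u})) f x) :
    AlgSp.dim X ≤ AlgSp.dim Y + ((r : ℕ∞) : WithBot ℕ∞) := by
  haveI := t0Space_points hXa hXd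
  refine dim_le_iff.2 fun U₀ a₀ ha₀ u₀ => ?_
  obtain ⟨U, V, a, b, h, ha, ha', hb, -, w⟩ := exists_chart hXa hYa f
  obtain ⟨u, hu⟩ := surjective_ofPt ha' (Points.ofPt a₀ u₀)
  rw [coheight_eq_of_charts ha₀ ha hu.symm]
  haveI : LocallyOfFiniteType h.left := hf a b h ha hb w
  haveI : IsLocallyNoetherian V.left := isLocallyNoetherian_chart hb hY
  haveI := LocallyOfFiniteType.isLocallyNoetherian h.left
  obtain ⟨η, hη, hmax, hcd⟩ := DimFormula.exists_maximal_cd_eq_codim u
  have hηx : Points.ofPt a η = x := by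
    obtain ⟨η', hs, he⟩ := exists_specializes_lift_of_isDecent hXd ha
      (u := η) (x' := x) (hx.specializes (Set.mem_univ _))
    rw [← hmax η' hs, he]
  have hrd : FibDim.rd h.left η = r := by
    rw [← hηx] at hr
    have h1 := (ResTrdeg.hasAtMor_iff ha hb w η _).1 hr
    rw [← FibDim.rd_eq_rdeg] at h1
    exact_mod_cast h1
  have h1 := (DimFormula.cd_formula h.left hη).1
  have h2 := DimFormula.cd_le_codim (hη.map h.left.continuous)
  have h3 : codim u ≤ codim (h.left u) + r := by omega
  refine le_trans ?_ (add_le_add (coheight_le_dim hb (h.left u)) le_rfl)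
  rw [← DimFormula.coe_codim, ← DimFormula.coe_codim]
  exact_mod_cast h3

end Groth.Agent.AlgSpDec.DimTrdeg
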