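import Groth.Agent.AlgSpDec.MonoRep
import Groth.Agent.AlgSpDec.Fibres
import Groth.Agent.AlgSpPts.Field

/-!
# Monomorphic representatives of points and finiteness in charts
-/

set_option backward.isDefEq.respectTransparency false
set_option backward.isDefEq.respectTransparency.types false

open CategoryTheory Limits Opposite AlgebraicGeometry MorphismProperty AlgSp Groth.Agent.AlgSpLib
  Groth.Agent.AlgSpPts

namespace Groth.Agent.AlgSpDec

universe u

variable {S : Scheme.{u}} {X : Sp S}

/-- Only finitely many points of a fibre product lie over a given pair when one leg is locally quasi-finite and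
the base is affine. -/
theorem finite_pullback_over {A B C P : Scheme.{u}} [IsAffine C] {p₁ : P ⟶ A} {p₂ : P ⟶ B} {f : A ⟶ C}
    {g : B ⟶ C} (sq : IsPullback p₁ p₂ f g) [LocallyQuasiFinite g] (a : A) (b : B) :
    {z : P | p₁ z = a ∧ p₂ z = b}.Finite := by
  obtain ⟨W, hW, hbW, -⟩ := exists_isAffineOpen_mem_and_subset (U := (⊤ : B.Opens)) (x := b) trivial
  have : IsAffine W.toScheme := hW
  have : LocallyQuasiFinite (W.ι ≫ g) := inferInstance
  let m : pullback f (W.ι ≫ g) ⟶ P := sq.lift (pullback.fst _ _) (pullback.snd _ _ ≫ W.ι)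
    (by rw [Category.assoc]; exact pullback.condition)
  refine (((pullback.fst f (W.ι ≫ g)).finite_preimage_singleton a).image m).subset fun z ⟨hz₁, hz₂⟩ => ?_
  have hsq : IsPullback (pullback.snd f (W.ι ≫ g)) m W.ι p₂ := by
    refine IsPullback.of_bot ?_ (sq.lift_snd _ _ _).symm sq.flip
    rw [sq.lift_fst]
    exact (IsPullback.of_hasPullback _ _).flip
  obtain ⟨z', -, rfl⟩ := Scheme.exists_preimage_of_isPullback hsq (⟨b, hbW⟩ : W.toScheme) z hz₂.symm
  refine ⟨z', ?_, rfl⟩
  rw [← hz₁, ← Scheme.Hom.comp_apply, sq.lift_fst]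
  rfl


/-- A field valued point with finite self fibre product gives a monomorphic representative. -/
theorem exists_mono_of_finite_self (hX : IsAlgSpace X) (q : FieldPt X) {G : Over S} {g₁ g₂ : G ⟶ q.pt}
    (sq : IsPullback ((yon S).map g₁) ((yon S).map g₂) q.toHom q.toHom) [LocallyQuasiFinite g₂.left]
    [CompactSpace ↥G.left] : ∃ p : FieldPt X, Points.mk p = Points.mk q ∧ Mono p.toHom := by
  have : IsArtinianScheme q.pt.left :=
    inferInstanceAs (IsArtinianScheme (Spec (CommRingCat.of q.K)))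
  have : IsAffine q.pt.left := inferInstanceAs (IsAffine (Spec (CommRingCat.of q.K)))
  have : QuasiCompact g₂.left := HasAffineProperty.iff_of_isAffine.2 ‹CompactSpace ↥G.left›
  have : IsFinite g₂.left := IsFinite.of_locallyQuasiFinite g₂.left
  have : IsAffine G.left := isAffine_of_isAffineHom g₂.left
  let e : Over.mk (G.left.isoSpec.inv ≫ G.hom) ≅ G := Over.isoMk G.left.isoSpec.symm rfl
  have hfin : IsFinite (e.hom ≫ g₂).left := by
    change IsFinite (G.left.isoSpec.inv ≫ g₂.left)
    infer_instance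
  obtain ⟨p', i, hi, hs, hm⟩ := exists_mono_of_isPullback q.toHom hX (a₁ := e.hom ≫ g₁) (a₂ := e.hom ≫ g₂)
    (by
      rw [Functor.map_comp, Functor.map_comp]
      exact IsPullback.of_iso sq ((yon S).mapIso e).symm (Iso.refl _) (Iso.refl _) (Iso.refl _)
        (by
          erw [Category.comp_id, ← Category.assoc, show ((yon S).mapIso e).symm.hom ≫ (yon S).map e.hom = 𝟙 _ from ((yon S).mapIso e).inv_hom_id, Category.id_comp])
        (by
          erw [Category.comp_id, ← Category.assoc, show ((yon S).mapIso e).symm.hom ≫ (yon S).map e.hom = 𝟙 _ from ((yon S).mapIso e).inv_hom_id, Category.id_comp])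
        (by simp) (by simp))
    hfin
  refine ⟨p', ?_, hm⟩
  refine Eq.symm (Points.sound ?_)
  refine ⟨q.K, inferInstance, q.str, 𝟙 _, i, ?_⟩
  have := congrArg (J S).uliftYonedaEquiv hi
  rw [← uliftYonedaEquiv_precomp, FieldPt.uliftYonedaEquiv_toHom, FieldPt.uliftYonedaEquiv_toHom] at this
  erw [op_id, Functor.map_id_apply]
  exact this.symm

section Chart

variable {U : Over S} {φ : (yon S).obj U ⟶ X} (hφ : RepWith @Etale φ)

include hφ

/-- The points of the fibre of a chart over a field valued point which lie over a given point of the chart. -/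
def over' (p : FieldPt X) (u' : ↥U.left) : Set ↥(hφ.rep.pullback p.toHom).left :=
  {v | (hφ.rep.fst' p.toHom).left v = u'}

theorem finite_over'_of_rel (p q : FieldPt X) (h : Points.mk q = Points.mk p) (u' : ↥U.left)
    (hp : (over' hφ p u').Finite) : (over' hφ q u').Finite := by
  obtain ⟨Ω, _, w, a, b, hab⟩ := Points.mk_eq_mk_iff.1 h
  have e : (yon S).map a ≫ q.toHom = (yon S).map b ≫ p.toHom := by
    apply (J S).uliftYonedaEquiv.injective
    rw [← uliftYonedaEquiv_precomp, ← uliftYonedaEquiv_precomp, FieldPt.uliftYonedaEquiv_toHom,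
      FieldPt.uliftYonedaEquiv_toHom]
    exact hab
  let g := (yon S).map b ≫ p.toHom
  let W := hφ.rep.pullback g
  have sqW : IsPullback ((yon S).map (hφ.rep.fst' g)) ((yon S).map (hφ.rep.snd g)) φ g := hφ.rep.isPullback' g
  have sqp := hφ.rep.isPullback' p.toHom
  have sqq := hφ.rep.isPullback' q.toHom
  obtain ⟨mp, hmp⟩ := (yon S).map_surjective (sqp.lift ((yon S).map (hφ.rep.fst' g))
    ((yon S).map (hφ.rep.snd g ≫ b)) (by rw [Functor.map_comp, Category.assoc]; exact sqW.w))
  obtain ⟨mq, hmq⟩ := (yon S).map_surjective (sqq.lift ((yon S).map (hφ.rep.fst' g))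
    ((yon S).map (hφ.rep.snd g ≫ a)) (by rw [Functor.map_comp, Category.assoc, e]; exact sqW.w))
  have hmp₁ : mp ≫ hφ.rep.fst' p.toHom = hφ.rep.fst' g :=
    (yon S).map_injective (by rw [Functor.map_comp, hmp, sqp.lift_fst])
  have hmq₁ : mq ≫ hφ.rep.fst' q.toHom = hφ.rep.fst' g :=
    (yon S).map_injective (by rw [Functor.map_comp, hmq, sqq.lift_fst])
  have hmp₂ : mp ≫ hφ.rep.snd p.toHom = hφ.rep.snd g ≫ b :=
    (yon S).map_injective (by rw [Functor.map_comp, hmp, sqp.lift_snd])
  have hmq₂ : mq ≫ hφ.rep.snd q.toHom = hφ.rep.snd g ≫ a :=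
    (yon S).map_injective (by rw [Functor.map_comp, hmq, sqq.lift_snd])
  have sb : IsPullback ((yon S).map (hφ.rep.snd g)) ((yon S).map mp) ((yon S).map b)
      ((yon S).map (hφ.rep.snd p.toHom)) := by
    refine IsPullback.of_bot ?_ (by rw [← Functor.map_comp, ← Functor.map_comp, hmp₂]) sqp.flip
    rw [← Functor.map_comp, hmp₁]
    exact sqW.flip
  have sa : IsPullback ((yon S).map (hφ.rep.snd g)) ((yon S).map mq) ((yon S).map a)
      ((yon S).map (hφ.rep.snd q.toHom)) := by
    refine IsPullback.of_bot ?_ (by rw [← Functor.map_comp, ← Functor.map_comp, hmq₂]) sqq.flip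
    rw [← Functor.map_comp, hmq₁, e]
    exact sqW.flip
  have : Etale (hφ.rep.snd p.toHom).left := hφ.property_snd p.toHom
  have : IsAffine p.pt.left := inferInstanceAs (IsAffine (Spec (CommRingCat.of p.K)))
  have hW : (mp.left ⁻¹' over' hφ p u').Finite := by
    refine hp.preimage' fun z _ => ?_
    refine (finite_pullback_over (isPullback_of_yon sb)
      (IsLocalRing.closedPoint Ω) z).subset fun x hx => ⟨?_, hx⟩
    exact Subsingleton.elim (α := PrimeSpectrum Ω) _ _
  refine (hW.image mq.left).subset fun v hv => ?_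
  obtain ⟨x, -, hx⟩ := Scheme.exists_preimage_of_isPullback (isPullback_of_yon sa) (IsLocalRing.closedPoint Ω) v
    (Subsingleton.elim (α := PrimeSpectrum q.K) _ _)
  refine ⟨x, ?_, hx⟩
  change (hφ.rep.fst' p.toHom).left (mp.left x) = u'
  rw [← Scheme.Hom.comp_apply, ← Over.comp_left, hmp₁, ← hmq₁, Over.comp_left, Scheme.Hom.comp_apply, hx]
  exact hv

theorem finite_over'_of_pair (u u' : ↥U.left)
    (hfin : ∀ (R : Over S) (s t : R ⟶ U), IsPullback ((yon S).map t) ((yon S).map s) φ φ →
      {r : ↥R.left | s.left r = u ∧ t.left r = u'}.Finite) :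
    (over' hφ (FieldPt.ofPt φ u) u').Finite := by
  let q := FieldPt.ofPt φ u
  let ι : q.pt ⟶ U := Over.homMk (U.left.fromSpecResidueField u) rfl
  have hq : q.toHom = (yon S).map ι ≫ φ := FieldPt.toHom_ofPt φ u
  have sqR := hφ.rep.isPullback' φ
  have sqq := hφ.rep.isPullback' q.toHom
  obtain ⟨l, hl⟩ := (yon S).map_surjective (sqR.lift ((yon S).map (hφ.rep.fst' q.toHom))
    ((yon S).map (hφ.rep.snd q.toHom ≫ ι)) (by rw [Functor.map_comp, Category.assoc, ← hq]; exact sqq.w))
  have hl₁ : l ≫ hφ.rep.fst' φ = hφ.rep.fst' q.toHom :=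
    (yon S).map_injective (by rw [Functor.map_comp, hl, sqR.lift_fst])
  have hl₂ : l ≫ hφ.rep.snd φ = hφ.rep.snd q.toHom ≫ ι :=
    (yon S).map_injective (by rw [Functor.map_comp, hl, sqR.lift_snd])
  have sl : IsPullback ((yon S).map (hφ.rep.snd q.toHom)) ((yon S).map l) ((yon S).map ι)
      ((yon S).map (hφ.rep.snd φ)) := by
    refine IsPullback.of_bot ?_ (by rw [← Functor.map_comp, ← Functor.map_comp, hl₂]) sqR.flip
    rw [← Functor.map_comp, hl₁, ← hq]
    exact sqq.flip
  have : IsPreimmersion ι.left := inferInstanceAs (IsPreimmersion (U.left.fromSpecResidueField u))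
  have : IsPreimmersion l.left := MorphismProperty.of_isPullback (isPullback_of_yon sl) ‹_›
  refine ((hfin _ _ _ sqR).preimage (f := l.left) (l.left.injective.injOn)).subset fun v hv => ⟨?_, ?_⟩
  · rw [← Scheme.Hom.comp_apply, ← Over.comp_left, hl₂, Over.comp_left, Scheme.Hom.comp_apply]
    exact U.left.fromSpecResidueField_apply u _
  · rw [← Scheme.Hom.comp_apply, ← Over.comp_left, hl₁]
    exact hv

/-- Finiteness over one pair of points in a chart gives a monomorphic representative. -/
theorem exists_mono_of_finite_pair (hX : IsAlgSpace X) (u u' : ↥U.left)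
    (he : Points.ofPt φ u = Points.ofPt φ u')
    (hfin : ∀ (R : Over S) (s t : R ⟶ U), IsPullback ((yon S).map t) ((yon S).map s) φ φ →
      {r : ↥R.left | s.left r = u ∧ t.left r = u'}.Finite) :
    ∃ p : FieldPt X, Points.mk p = Points.ofPt φ u ∧ Mono p.toHom := by
  let q := FieldPt.ofPt φ u'
  have hE : (over' hφ q u').Finite :=
    finite_over'_of_rel hφ (FieldPt.ofPt φ u) q he.symm u' (finite_over'_of_pair hφ u u' hfin)
  let ι : q.pt ⟶ U := Over.homMk (U.left.fromSpecResidueField u') rfl
  have hq : q.toHom = (yon S).map ι ≫ φ := FieldPt.toHom_ofPt φ u'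
  have hr : Representable q.toHom := representable_from_yon' hX _
  have sqG := hr.isPullback' q.toHom
  have sqV := hφ.rep.isPullback' q.toHom
  let g₁ := hr.fst' q.toHom
  let g₂ := hr.snd q.toHom
  obtain ⟨l, hl⟩ := (yon S).map_surjective (sqV.lift ((yon S).map (g₁ ≫ ι)) ((yon S).map g₂) (by
    rw [Functor.map_comp, Category.assoc, ← hq]; exact sqG.w))
  have hl₁ : l ≫ hφ.rep.fst' q.toHom = g₁ ≫ ι :=
    (yon S).map_injective (by rw [Functor.map_comp, hl, sqV.lift_fst])
  have hl₂ : l ≫ hφ.rep.snd q.toHom = g₂ :=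
    (yon S).map_injective (by rw [Functor.map_comp, hl, sqV.lift_snd])
  have sl : IsPullback ((yon S).map g₁) ((yon S).map l) ((yon S).map ι)
      ((yon S).map (hφ.rep.fst' q.toHom)) := by
    refine IsPullback.of_bot ?_ (by rw [← Functor.map_comp, ← Functor.map_comp, hl₁]) sqV
    rw [← Functor.map_comp, hl₂, ← hq]
    exact sqG
  have : IsPreimmersion ι.left := inferInstanceAs (IsPreimmersion (U.left.fromSpecResidueField u'))
  have : IsPreimmersion l.left := MorphismProperty.of_isPullback (isPullback_of_yon sl) ‹_›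
  have : Finite ↥(hr.pullback q.toHom).left := by
    refine Set.finite_univ_iff.1 ((hE.preimage (f := l.left) l.left.injective.injOn).subset fun x _ => ?_)
    change (hφ.rep.fst' q.toHom).left (l.left x) = u'
    rw [← Scheme.Hom.comp_apply, ← Over.comp_left, hl₁, Over.comp_left, Scheme.Hom.comp_apply]
    exact U.left.fromSpecResidueField_apply u' _
  have : Etale (hφ.rep.snd q.toHom).left := hφ.property_snd q.toHom
  have hd : DiscreteTopology ↥(hφ.rep.pullback q.toHom).left := by
    have h1 := (hφ.rep.snd q.toHom).left.isDiscrete_preimage_singleton (IsLocalRing.closedPoint q.K)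
    rw [show (hφ.rep.snd q.toHom).left ⁻¹' {IsLocalRing.closedPoint q.K} = Set.univ from
      Set.eq_univ_of_forall fun x => Subsingleton.elim (α := ↥q.pt.left) _ _] at h1
    exact isDiscrete_univ_iff.1 h1
  have : IsClosedImmersion l.left := .of_isPreimmersion _ (isClosed_discrete _)
  have : LocallyQuasiFinite g₂.left := by
    rw [← hl₂]
    change LocallyQuasiFinite (l.left ≫ (hφ.rep.snd q.toHom).left)
    infer_instance
  obtain ⟨p, hp, hm⟩ := exists_mono_of_finite_self hX q (g₁ := g₁) (g₂ := g₂) sqG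
  exact ⟨p, hp.trans he.symm, hm⟩

/-- A monomorphic representative bounds the pairs in a chart. -/
theorem finite_pair_of_mono (p : FieldPt X) [Mono p.toHom] (u u' : ↥U.left)
    (hu : Points.ofPt φ u = Points.mk p) (hu' : Points.ofPt φ u' = Points.mk p)
    {R : Over S} {s t : R ⟶ U} (sq : IsPullback ((yon S).map t) ((yon S).map s) φ φ) :
    {r : ↥R.left | s.left r = u ∧ t.left r = u'}.Finite := by
  have sqV := hφ.rep.isPullback' p.toHom
  let vU := hφ.rep.fst' p.toHom
  let vK := hφ.rep.snd p.toHom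
  have : Mono ((yon S).map vU) := sqV.mono_fst_of_mono
  have : Mono vU := (yon S).mono_of_mono_map this
  have : Etale vK.left := hφ.property_snd p.toHom
  have : IsAffine p.pt.left := inferInstanceAs (IsAffine (Spec (CommRingCat.of p.K)))
  have hpt : ∀ w : ↥U.left, Points.ofPt φ w = Points.mk p →
      ∃ v, vU.left v = w := fun w hw => by
    obtain ⟨v, hv, -⟩ := exists_ofPt_of_eq sqV
      (show Points.ofPt φ w = Points.ofPt p.toHom (IsLocalRing.closedPoint p.K) by
        rw [Points.ofPt_toHom]; exact hw)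
    exact ⟨v, hv⟩
  obtain ⟨v, hv⟩ := hpt u hu
  obtain ⟨v', hv'⟩ := hpt u' hu'
  let hk := representable_yon_map (S := S) vK
  have sqQ := hk.isPullback' ((yon S).map vK)
  obtain ⟨Ψ, hΨ⟩ := (yon S).map_surjective (sq.lift
    ((yon S).map (hk.fst' ((yon S).map vK) ≫ vU)) ((yon S).map (hk.snd ((yon S).map vK) ≫ vU)) (by
      rw [Functor.map_comp, Functor.map_comp, Category.assoc, Category.assoc, sqV.w, ← Category.assoc,
        ← Category.assoc, sqQ.w]))
  refine ((finite_pullback_over (isPullback_of_yon sqQ) v' v).image Ψ.left).subset fun r ⟨hrs, hrt⟩ => ?_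
  let hsa := representable_yon_map (S := S) s
  have sqs := hsa.isPullback' ((yon S).map vU)
  have hrV : s.left r = vU.left v := by rw [hrs, hv]
  obtain ⟨x, hx₁, hx₂⟩ := Scheme.exists_preimage_of_isPullback (isPullback_of_yon sqs) r v hrV
  have hcomm : (yon S).map (hsa.fst' ((yon S).map vU) ≫ t) ≫ φ =
      (yon S).map (hsa.snd ((yon S).map vU) ≫ vK) ≫ p.toHom := by
    rw [Functor.map_comp, Category.assoc, sq.w, ← Category.assoc, sqs.w, Category.assoc, sqV.w,
      ← Category.assoc, Functor.map_comp]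
  obtain ⟨lt, hlt⟩ := (yon S).map_surjective (sqV.lift _ _ hcomm)
  have hlt₁ : lt ≫ vU = hsa.fst' ((yon S).map vU) ≫ t :=
    (yon S).map_injective (by rw [Functor.map_comp, hlt, sqV.lift_fst])
  have hlt₂ : lt ≫ vK = hsa.snd ((yon S).map vU) ≫ vK :=
    (yon S).map_injective (by rw [Functor.map_comp, hlt, sqV.lift_snd])
  obtain ⟨m, hm⟩ := (yon S).map_surjective (sqQ.lift ((yon S).map lt) ((yon S).map (hsa.snd ((yon S).map vU)))
    (by rw [← Functor.map_comp, ← Functor.map_comp, hlt₂]))
  have hm₁ : m ≫ hk.fst' ((yon S).map vK) = lt :=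
    (yon S).map_injective (by rw [Functor.map_comp, hm, sqQ.lift_fst])
  have hm₂ : m ≫ hk.snd ((yon S).map vK) = hsa.snd ((yon S).map vU) :=
    (yon S).map_injective (by rw [Functor.map_comp, hm, sqQ.lift_snd])
  have hmΨ : m ≫ Ψ = hsa.fst' ((yon S).map vU) := by
    apply (yon S).map_injective
    refine sq.hom_ext ?_ ?_
    · rw [Functor.map_comp, Category.assoc, hΨ, sq.lift_fst, ← Functor.map_comp, ← Category.assoc, hm₁, hlt₁,
        Functor.map_comp]
    · rw [Functor.map_comp, Category.assoc, hΨ, sq.lift_snd, ← Functor.map_comp, ← Category.assoc, hm₂, sqs.w,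
        Functor.map_comp]
  have hinj : Function.Injective vU.left := vU.left.injective
  refine ⟨m.left x, ⟨hinj ?_, ?_⟩, ?_⟩
  · rw [← Scheme.Hom.comp_apply (hk.fst' _).left, ← Scheme.Hom.comp_apply, ← Over.comp_left, hv',
      ← Over.comp_left, ← Category.assoc, hm₁, hlt₁, Over.comp_left, Scheme.Hom.comp_apply, hx₁, hrt]
  · rw [← Scheme.Hom.comp_apply, ← Over.comp_left, hm₂, hx₂]
  · rw [← Scheme.Hom.comp_apply, ← Over.comp_left, hmΨ, hx₁]

end Chart

end Groth.Agent.AlgSpDec
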