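import Groth.Agent.AlgSpDec.CodimNhd
import Groth.Agent.AlgSpDec.ArtinAffine
import Groth.Agent.AlgSpDec.LqfScheme
import Groth.Agent.AlgSpDec.More
import Groth.Agent.AlgSpDec.Basic
import Groth.Agent.AlgSpPts.Dim
import Groth.Agent.SchTop.ZeroDim
import Groth.Agent.S9795
import Groth.Agent.S9797
import Groth.Agent.S10360
import Groth.Agent.AlgSpDec.MonoPts

/-!
# Algebraic spaces of dimension zero
-/

set_option backward.isDefEq.respectTransparency false
set_option backward.isDefEq.respectTransparency.types false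

open CategoryTheory Limits Opposite AlgebraicGeometry MorphismProperty AlgSp Groth.Agent.AlgSpLib
  Groth.Agent.AlgSpPts Order TopologicalSpace

namespace Groth.Agent.AlgSpDec

universe u

variable {S : Scheme.{u}} {X : Sp S}

theorem coheight_eq_zero_of_dim (h : AlgSp.dim X = 0) {U : Over S} {a : (yon S).obj U ⟶ X}
    (ha : RepWith @Etale a) (u : ↥U.left) : coheight u = 0 :=
  nonpos_iff_eq_zero.1 (WithBot.coe_le_coe.1 ((coheight_le_dim ha u).trans h.le))

theorem exists_scheme_of_dim_zero (hA : IsAlgSpace X) (hd : IsDecent X) (hdim : AlgSp.dim X = 0)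
    (hq : ∀ (U : Over S) (a : (yon S).obj U ⟶ X) (ha : RepWith @Etale a), IsAffine U.left →
      QuasiCompact (ha.rep.snd a).left) :
    ∃ (T : Over S) (e : (yon S).obj T ≅ X), topologicalKrullDim ↥T.left ≤ 0 := by
  obtain ⟨T, ⟨e⟩⟩ := exists_rep_of_points hA fun x => by
    obtain ⟨U, a, u, hU, ha, hu⟩ := exists_affine_chart_at hA x
    have := hq U a ha hU
    obtain ⟨Q, j, hj, y, hy⟩ := exists_subscheme_of_qc_chart hA hd ha u (coheight_eq_zero_of_dim hdim ha u)
    refine ⟨Q, j, Points.toScheme Q y, hj, ?_⟩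
    rw [Points.ofPt_eq_map_ofScheme, Points.ofScheme_toScheme, hy, hu]
  refine ⟨T, e, ?_⟩
  rw [← hdim]
  exact le_iSup₂_of_le T e.hom (le_iSup_of_le (repWith_of_isIso _ _) le_rfl)

/-- A space isomorphic to a scheme with quasi-compact fibre products of affines is a quasi-separated scheme. -/
theorem quasiSeparatedSpace_of_fibreProd {T : Over S} (e : (yon S).obj T ≅ X)
    (hq : ∀ (U V R : Over S) (a : (yon S).obj U ⟶ X) (b : (yon S).obj V ⟶ X) (t : R ⟶ V) (s : R ⟶ U),
      IsAffine U.left → IsAffine V.left → IsPullback ((yon S).map t) ((yon S).map s) b a →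
      QuasiCompact s.left) : QuasiSeparatedSpace ↥T.left := by
  refine quasiSeparatedSpace_iff_forall_affineOpens.2 fun A B => ?_
  let ιA : Over.mk (A.1.ι ≫ T.hom) ⟶ T := Over.homMk A.1.ι rfl
  let ιB : Over.mk (B.1.ι ≫ T.hom) ⟶ T := Over.homMk B.1.ι rfl
  have sq := IsPullback.of_hasPullback ιB ιA
  have sq' : IsPullback ((yon S).map (pullback.fst ιB ιA)) ((yon S).map (pullback.snd ιB ιA))
      ((yon S).map ιB ≫ e.hom) ((yon S).map ιA ≫ e.hom) :=
    IsPullback.of_iso (sq.map (yon S)) (Iso.refl _) (Iso.refl _) (Iso.refl _) e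
      (by simp) (by simp) (by simp) (by simp)
  have hAa : IsAffine (Over.mk (A.1.ι ≫ T.hom)).left := A.2
  have hBa : IsAffine (Over.mk (B.1.ι ≫ T.hom)).left := B.2
  have := hq _ _ _ _ _ _ _ hAa hBa sq'
  have : CompactSpace ↥(pullback ιB ιA).left :=
    QuasiCompact.compactSpace_of_compactSpace (pullback.snd ιB ιA).left
  have hr : Set.range ((pullback.snd ιB ιA).left ≫ A.1.ι) = (A.1 : Set ↥T.left) ∩ B.1 := by
    have sqL := sq.map (CategoryTheory.Over.forget S)
    ext z
    constructor
    · rintro ⟨w, rfl⟩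
      refine ⟨?_, ?_⟩
      · rw [Scheme.Hom.comp_apply]; exact ((pullback.snd ιB ιA).left w).2
      · rw [show (pullback.snd ιB ιA).left ≫ A.1.ι = (pullback.fst ιB ιA).left ≫ B.1.ι from sqL.w.symm,
          Scheme.Hom.comp_apply]
        exact ((pullback.fst ιB ιA).left w).2
    · rintro ⟨hzA, hzB⟩
      obtain ⟨w, -, hw⟩ := Scheme.exists_preimage_of_isPullback sqL (⟨z, hzB⟩ : B.1.toScheme)
        (⟨z, hzA⟩ : A.1.toScheme) rfl
      refine ⟨w, ?_⟩
      rw [Scheme.Hom.comp_apply]
      exact congrArg A.1.ι hw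
  rw [← hr]
  exact isCompact_range (Scheme.Hom.continuous _)

theorem exists_separated_of_dim_zero {T : Over S} [QuasiSeparatedSpace ↥T.left]
    (hT : topologicalKrullDim ↥T.left ≤ 0) :
    T.left.IsSeparated ∧ ∀ V : T.left.Opens, IsCompact (V : Set ↥T.left) → IsAffineOpen V := by
  have h := S9795.result T.left hT
  exact ⟨h, fun V hV => @S9797.result T.left h hT V hV⟩

theorem quasiSeparated_dim_zero [QuasiSeparatedSpace ↥S] (hA : IsAlgSpace X) (hqs : IsQuasiSeparatedSp X)
    (hdim : AlgSp.dim X = 0) :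
    ∃ (U : Over S) (_ : (yon S).obj U ≅ X), U.left.IsSeparated ∧
      ∀ V : U.left.Opens, IsCompact (V : Set ↥U.left) → IsAffineOpen V := by
  obtain ⟨T, e, hT⟩ := exists_scheme_of_dim_zero hA (isDecent_of_isQuasiSeparatedSp hA hqs) hdim
    (fun U a ha _ => quasiCompact_fibreProd hqs (ha.rep.isPullback' a))
  have := quasiSeparatedSpace_of_fibreProd e fun U V R a b t s _ _ sq => quasiCompact_fibreProd hqs sq
  exact ⟨T, e, exists_separated_of_dim_zero hT⟩

section Field

variable {k : Type u} [Field k] {X : Sp (Spec (CommRingCat.of k))}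

theorem finite_chart (p : X ⟶ (yon _).obj (Over.mk (𝟙 (Spec (CommRingCat.of k)))))
    (hp : LocP @LocallyOfFiniteType p) (hdim : AlgSp.dim X = 0) {U : Over (Spec (CommRingCat.of k))}
    [IsAffine U.left] {a : (yon _).obj U ⟶ X} (ha : RepWith @Etale a) :
    LocallyOfFiniteType U.hom ∧ LocallyQuasiFinite U.hom ∧ Finite ↥U.left := by
  obtain ⟨c, hc⟩ := (yon _).map_surjective (a ≫ p)
  have : LocallyOfFiniteType c.left := hp a (𝟙 _) c ha (repWith_id _ _) (by rw [Category.comp_id, hc])
  have hUh : U.hom = c.left := ((Over.w c).symm.trans (Category.comp_id _))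
  have hl : LocallyOfFiniteType U.hom := by rw [hUh]; exact this
  have : IsLocallyNoetherian U.left := LocallyOfFiniteType.isLocallyNoetherian U.hom
  have : IsNoetherian U.left := {}
  have hd : topologicalKrullDim ↥U.left ≤ 0 := by
    rw [← hdim]
    exact le_iSup₂_of_le U a (le_iSup_of_le ha le_rfl)
  have : DiscreteTopology ↥U.left :=
    discreteTopology_iff_isOpen_singleton.2 fun u => SchTop.isOpen_singleton_of_dim_le_zero hd u
  exact ⟨hl, locallyQuasiFinite_iff_isDiscrete_preimage_singleton.2 fun _ =>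
    IsDiscrete.univ.mono (Set.subset_univ _), finite_of_compact_of_discrete⟩

theorem finite_relation (p : X ⟶ (yon _).obj (Over.mk (𝟙 (Spec (CommRingCat.of k)))))
    (hp : LocP @LocallyOfFiniteType p) (hdim : AlgSp.dim X = 0) {U R : Over (Spec (CommRingCat.of k))}
    [IsAffine U.left] {a : (yon _).obj U ⟶ X} (ha : RepWith @Etale a) {t s : R ⟶ U}
    (sq : IsPullback ((yon _).map t) ((yon _).map s) a a) : Finite ↥R.left := by
  obtain ⟨hl, hq, hf⟩ := finite_chart p hp hdim ha
  let e := Over.prodLeftIsoPullback U U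
  have hmono : Mono ((prod.lift t s).left ≫ e.hom) := by
    have := mono_prod_lift sq
    have : Mono (prod.lift t s).left := inferInstanceAs (Mono ((CategoryTheory.Over.forget _).map (prod.lift t s)))
    exact mono_comp _ _
  have : Finite ↥(pullback U.hom U.hom) := Set.finite_univ_iff.1 <|
    ((Set.finite_univ (α := ↥U.left × ↥U.left)).biUnion fun w _ =>
      finite_pullback_over (IsPullback.of_hasPullback U.hom U.hom) w.1 w.2).subset
      fun z _ => Set.mem_iUnion₂.2 ⟨(pullback.fst U.hom U.hom z, pullback.snd U.hom U.hom z),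
        Set.mem_univ _, rfl, rfl⟩
  exact Finite.of_injective _ ((prod.lift t s).left ≫ e.hom).injective

theorem field_dim_zero (hA : IsAlgSpace X) (p : X ⟶ (yon _).obj (Over.mk (𝟙 (Spec (CommRingCat.of k)))))
    (hp : LocP @LocallyOfFiniteType p) (hdim : AlgSp.dim X = 0) :
    ∃ (U : Over (Spec (CommRingCat.of k))) (_ : (yon _).obj U ≅ X), U.left.IsSeparated ∧
      ∀ V : U.left.Opens, IsCompact (V : Set ↥U.left) → IsAffineOpen V := by
  have hd : IsDecent X := fun x => (S10360.result ⟨X, hA⟩ x).1 fun U φ hU hφ R s t sq => by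
    obtain ⟨-, -, hf⟩ := finite_chart p hp hdim hφ
    have := finite_relation p hp hdim hφ sq
    exact ⟨Set.toFinite _, Set.toFinite _⟩
  obtain ⟨T, e, hT⟩ := exists_scheme_of_dim_zero hA hd hdim fun U a ha hU => by
    have : Finite ↥(ha.rep.pullback a).left := finite_relation p hp hdim ha (ha.rep.isPullback' a)
    exact HasAffineProperty.iff_of_isAffine.2 (inferInstance : CompactSpace ↥(ha.rep.pullback a).left)
  obtain ⟨c, hc⟩ := (yon _).map_surjective (e.hom ≫ p)
  have : LocallyOfFiniteType c.left :=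
    hp e.hom (𝟙 _) c (repWith_of_isIso _ _) (repWith_id _ _) (by rw [Category.comp_id, hc])
  have : IsLocallyNoetherian (Over.mk (𝟙 (Spec (CommRingCat.of k)))).left :=
    inferInstanceAs (IsLocallyNoetherian (Spec (CommRingCat.of k)))
  have : IsLocallyNoetherian T.left := LocallyOfFiniteType.isLocallyNoetherian c.left
  exact ⟨T, e, exists_separated_of_dim_zero hT⟩

end Field

end Groth.Agent.AlgSpDec
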