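import Groth.Agent.Hensel.Henselization
import Mathlib.RingTheory.Etale.Basic
import Mathlib.RingTheory.Unramified.Finite
import Mathlib.RingTheory.Unramified.Field
import Mathlib.FieldTheory.IsAlgClosed.Basic

/-!
# The universal etale neighbourhood of a geometric point is a strict henselization

For a ring `A`, a localization `R` of `A` which is local, and an algebraically closed field `K` under the
residue field of `R`, the colimit `Henz A K` of the etale `A`-algebras with a map to `K` is a strict
henselization of `R`.
-/

noncomputable section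

universe u

open IsLocalRing TensorProduct

namespace Groth.Agent.AlgSpDec.EtHenz

open Groth.Agent.Hensel (Henz)
open Groth.Agent

section sep

variable (κ : Type u) [Field κ] {K : Type u} [Field K] [Algebra κ K] {A : Type u} [CommRing A] [Algebra A κ]
  [Algebra A K] [IsScalarTower A κ K]

/-- The values of an etale algebra in a field are separable over the residue field. -/
theorem isSeparable_of_etale {B : Type u} [CommRing B] [Algebra A B] [Algebra.Etale A B] (τ : B →ₐ[A] K) (b : B) :
    IsSeparable κ (τ b) := by
  let C := κ ⊗[A] B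
  let g : C →ₐ[κ] K := Algebra.TensorProduct.lift (Algebra.ofId κ K) τ fun _ _ => .all _ _
  let P := RingHom.ker g
  have : P.IsPrime := RingHom.ker_isPrime g
  have : Module.Finite κ C := Algebra.FormallyUnramified.finite_of_free κ C
  have : IsArtinianRing C := IsArtinianRing.of_finite κ C
  have : P.IsMaximal := IsArtinianRing.isMaximal_of_isPrime P
  let _ : Field (C ⧸ P) := Ideal.Quotient.field P
  have : Algebra.FormallyUnramified κ (C ⧸ P) := Algebra.FormallyUnramified.comp κ C (C ⧸ P)
  have : Algebra.IsSeparable κ (C ⧸ P) := Algebra.FormallyUnramified.isSeparable κ (C ⧸ P)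
  let g' : C ⧸ P →ₐ[κ] K := Ideal.Quotient.liftₐ P g fun a ha => ha
  have e : g' (Ideal.Quotient.mk P (1 ⊗ₜ b)) = τ b := by
    show g (1 ⊗ₜ b) = τ b
    exact (Algebra.TensorProduct.lift_tmul (Algebra.ofId κ K) τ _ 1 b).trans (by rw [map_one, one_mul])
  rw [← e, IsSeparable, minpoly.algHom_eq g' (RingHom.injective g'.toRingHom)]
  exact Algebra.IsSeparable.isSeparable κ _

end sep

variable (A : Type u) [CommRing A] (R : Type u) [CommRing R] [IsLocalRing R] [Algebra A R]
  (K : Type u) [Field K] [Algebra A K] [Algebra R K] [IsScalarTower A R K] [IsLocalHom (algebraMap R K)]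

variable {A K} in
/-- An element outside the kernel of `proj` is a unit. -/
theorem isUnit_iff {z : Henz A K} : IsUnit z ↔ Henz.proj A K z ≠ 0 :=
  Henz.isUnit_iff.trans isUnit_iff_ne_zero

instance : Nontrivial (Henz A K) := (Henz.proj A K).toRingHom.domain_nontrivial

instance isLocalRing : IsLocalRing (Henz A K) :=
  .of_nonunits_add fun a b ha hb => by
    simp only [mem_nonunits_iff, isUnit_iff, ne_eq, not_not] at ha hb ⊢
    rw [map_add, ha, hb, add_zero]

theorem maximalIdeal_eq : maximalIdeal (Henz A K) = RingHom.ker (Henz.proj A K) := by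
  ext x
  rw [mem_maximalIdeal, mem_nonunits_iff, isUnit_iff, not_not, RingHom.mem_ker]

instance henselian : HenselianLocalRing (Henz A K) :=
  have : HenselianRing (Henz A K) (maximalIdeal (Henz A K)) := by
    rw [maximalIdeal_eq]; exact Henz.henselianRing
  Hensel.henselianLocalRing_of_henselianRing _

variable (M : Submonoid A) [IsLocalization M R]

include R in
theorem isUnit_algebraMap (s : M) : IsUnit (algebraMap A (Henz A K) s) := by
  rw [isUnit_iff, AlgHom.commutes, IsScalarTower.algebraMap_apply A R K]
  exact ((IsLocalization.map_units R s).map (algebraMap R K)).ne_zero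

/-- The structure map from the local ring. -/
def fromLocal : R →ₐ[A] Henz A K :=
  { IsLocalization.lift (M := M) (g := algebraMap A (Henz A K)) (isUnit_algebraMap A R K M) with
    commutes' := fun a => IsLocalization.lift_eq _ a }

theorem proj_fromLocal (r : R) : Henz.proj A K (fromLocal A R K M r) = algebraMap R K r := by
  have h : (Henz.proj A K).toRingHom.comp (fromLocal A R K M).toRingHom = algebraMap R K :=
    IsLocalization.ringHom_ext M (RingHom.ext fun a => by
      simp only [RingHom.comp_apply, AlgHom.toRingHom_eq_coe, RingHom.coe_coe, AlgHom.commutes]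
      exact IsScalarTower.algebraMap_apply A R K a)
  exact congr($h r)

/-- The universal etale neighbourhood is a strict henselization of the local ring. -/
theorem isStrictHenselization [IsAlgClosed K] :
    letI := (fromLocal A R K M).toRingHom.toAlgebra
    ∃ _ : IsLocalHom (algebraMap R (Henz A K)), Hensel.IsStrictHenselization R (Henz A K) := by
  let _ := (fromLocal A R K M).toRingHom.toAlgebra
  have hpR : ∀ r, Henz.proj A K (algebraMap R (Henz A K) r) = algebraMap R K r := proj_fromLocal A R K M
  have hl : IsLocalHom (algebraMap R (Henz A K)) := ⟨fun r hr => by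
    refine (isUnit_map_iff (algebraMap R K) r).1 ?_
    rw [← hpR]
    exact hr.map _⟩
  refine ⟨hl, ?_⟩
  let H := Henz A K
  let kH := ResidueField H
  let κ := ResidueField R
  -- the residue field inside `K`
  let ι : kH →+* K := Ideal.Quotient.lift (maximalIdeal H) (Henz.proj A K).toRingHom fun a ha => by
    rw [maximalIdeal_eq] at ha; exact ha
  have hι : ∀ z, ι (residue H z) = Henz.proj A K z := fun z => rfl
  let _ : Algebra κ K := (Ideal.Quotient.lift (maximalIdeal R) (algebraMap R K) fun r hr =>
    by_contra fun h => hr ((isUnit_map_iff (algebraMap R K) r).1 (isUnit_iff_ne_zero.2 h))).toAlgebra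
  have : IsScalarTower R κ K := .of_algebraMap_eq' rfl
  have : IsScalarTower A κ K := .of_algebraMap_eq' (by
    rw [IsScalarTower.algebraMap_eq A R κ, ← RingHom.comp_assoc, ← IsScalarTower.algebraMap_eq R κ K,
      ← IsScalarTower.algebraMap_eq A R K])
  let ιₐ : kH →ₐ[κ] K :=
    { ι with
      commutes' := fun c => by
        obtain ⟨r, rfl⟩ := residue_surjective c
        show ι (residue H (algebraMap R H r)) = _
        rw [hι, hpR]
        rfl }
  refine ⟨inferInstance, ⟨?_, ?_⟩, ?_⟩
  · -- separably closed
    refine IsSepClosed.of_exists_root _ fun p hp hirr hsep => ?_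
    obtain ⟨x, hx⟩ := IsAlgClosed.exists_root (p.map ι) (by
      rw [Polynomial.degree_map]; exact (Polynomial.degree_pos_of_irreducible hirr).ne')
    have hl : p ∈ Polynomial.lifts (residue H) :=
      (Polynomial.mem_lifts p).mpr (Polynomial.map_surjective _ residue_surjective p)
    obtain ⟨f, hf, -, hfm⟩ := Polynomial.lifts_and_natDegree_eq_and_monic hl hp
    have hmap : ∀ q : Polynomial H, q.eval₂ (Henz.proj A K).toRingHom x = ((q.map (residue H)).map ι).eval x := by
      intro q
      rw [Polynomial.map_map, Polynomial.eval_map]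
      rfl
    obtain ⟨a, ha, ha'⟩ := Henz.exists_root_proj f hfm x (by rw [hmap, hf]; exact hx) (by
      rw [hmap, ← Polynomial.derivative_map, hf, isUnit_iff_ne_zero, Polynomial.eval_map]
      exact hsep.eval₂_derivative_ne_zero ι (by rw [← Polynomial.eval_map]; exact hx))
    refine ⟨residue H a, ι.injective ?_⟩
    rw [map_zero, ← Polynomial.eval₂_at_apply, ← Polynomial.eval_map, hι, ha']
    exact hx
  · -- separable
    refine ⟨fun c => ?_⟩
    obtain ⟨z, rfl⟩ := residue_surjective c
    obtain ⟨N, b, s, hzs⟩ := Henz.exists_fraction z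
    have h1 := congr(Henz.proj A K $hzs)
    simp only [map_mul, Henz.proj_of, Hensel.Nbhd.ρ_algebraMap] at h1
    have hs0 : N.toK s ≠ 0 := IsUnit.ne_zero (s.2 : IsUnit (N.toK s))
    have h2 : ιₐ (residue H z) = N.toK b / N.toK s := by
      rw [eq_div_iff hs0, ← h1]
      rfl
    have hb : IsSeparable κ (N.toK b) := isSeparable_of_etale κ N.toK b
    have hs : IsSeparable κ (N.toK (s : N.B)) := isSeparable_of_etale κ N.toK (s : N.B)
    have h3 : IsSeparable κ (N.toK b / N.toK s) := by
      rw [div_eq_mul_inv]
      exact Field.isSeparable_mul hb (Field.isSeparable_inv hs)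
    rw [IsSeparable, ← minpoly.algHom_eq ιₐ ιₐ.toRingHom.injective, h2]
    exact h3
  · intro T _ _ f _ τ hτ
    let _ : Algebra A T := (f.comp (algebraMap A R)).toAlgebra
    let p := (Henz.proj A K)
    let e : (Henz A K ⧸ RingHom.ker p.toRingHom) ≃+* p.range :=
      (RingHom.quotientKerEquivRange p.toRingHom)
    have hle : RingHom.ker p.toRingHom ≤ maximalIdeal H := (maximalIdeal_eq A K).ge
    let θ₀ : p.range →+* T ⧸ maximalIdeal T :=
      τ.comp ((Ideal.Quotient.factor hle).comp e.symm.toRingHom)
    have hθ : ∀ z, θ₀ (p.rangeRestrict z) = τ (residue H z) := fun z => by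
      show τ (Ideal.Quotient.factor hle (e.symm (p.rangeRestrict z))) = _
      rw [show p.rangeRestrict z = e (Ideal.Quotient.mk _ z) from Subtype.ext rfl, e.symm_apply_apply]
      rfl
    have hc : ∀ a : A, τ (residue H (algebraMap A H a)) = residue T (f (algebraMap A R a)) := fun a => by
      rw [← (fromLocal A R K M).commutes a]
      exact congr($hτ (residue R (algebraMap A R a)))
    let θ : p.range →ₐ[A] T ⧸ maximalIdeal T :=
      { θ₀ with
        commutes' := fun a => by
          show θ₀ (algebraMap A p.range a) = _
          rw [show algebraMap A p.range a = p.rangeRestrict (algebraMap A H a) from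
            Subtype.ext (p.commutes a).symm, hθ, hc]
          rfl }
    obtain ⟨g, hg, hguniq⟩ := Henz.existsUnique_lift (R := A) (K := K) (maximalIdeal T) θ
    refine ⟨g.toRingHom, ⟨IsLocalization.ringHom_ext M (RingHom.ext fun a => ?_),
      fun z => (hg z).trans (hθ z)⟩, fun g' hg' => ?_⟩
    · show g (fromLocal A R K M (algebraMap A R a)) = f (algebraMap A R a)
      rw [AlgHom.commutes, AlgHom.commutes]
      rfl
    let g'' : Henz A K →ₐ[A] T :=
      { g' with
        commutes' := fun a => by
          show g' (algebraMap A H a) = f (algebraMap A R a)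
          rw [← (fromLocal A R K M).commutes a]
          exact congr($(hg'.1) (algebraMap A R a)) }
    exact congrArg AlgHom.toRingHom (hguniq g'' fun z => ((hg'.2 z).trans (hθ z).symm :))

end Groth.Agent.AlgSpDec.EtHenz
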