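import Groth.Agent.AlgSpDec.ElemHenz
import Groth.Agent.AlgSpDec.EtHenzField
import Groth.Agent.BrnchLib.NormBij
import Groth.Agent.BrnchLib.ComplMin
import Groth.Agent.BrnchLib.Unibranch
import Groth.Agent.S2284

/-!
# Branches of a decent space at a point through elementary etale neighbourhoods
-/

set_option backward.isDefEq.respectTransparency false
set_option backward.isDefEq.respectTransparency.types false

noncomputable section

universe u

open CategoryTheory CategoryTheory.Limits AlgebraicGeometry IsLocalRing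

namespace Groth.Agent.AlgSpDec.ElemBranches

open Groth.Agent.AlgSpDec.ElemHenz

theorem encard_components_eq (X : Scheme.{u}) (x : X) :
    {Z : Set ↥X | Z ∈ irreducibleComponents ↥X ∧ x ∈ Z}.encard =
      (minimalPrimes ↥(X.presheaf.stalk x)).encard := by
  have h := Groth.Agent.S2284.result X x
  rw [← h.image_eq, h.injOn.encard_image]
  let f : ↥(Spec (X.presheaf.stalk x)) → Ideal ↥(X.presheaf.stalk x) := fun z => PrimeSpectrum.asIdeal z
  have hf : Function.Injective f := fun a b hab => PrimeSpectrum.ext hab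
  have himg : f '' {z | closure ({z} : Set (Spec (X.presheaf.stalk x))) ∈
        irreducibleComponents (Spec (X.presheaf.stalk x) : Type u)} = minimalPrimes ↥(X.presheaf.stalk x) := by
    have key : ∀ z : PrimeSpectrum ↥(X.presheaf.stalk x),
        closure ({z} : Set _) ∈ irreducibleComponents (PrimeSpectrum ↥(X.presheaf.stalk x)) ↔
          z.asIdeal ∈ minimalPrimes ↥(X.presheaf.stalk x) := fun z => by
      rw [← PrimeSpectrum.vanishingIdeal_mem_minimalPrimes, PrimeSpectrum.vanishingIdeal_singleton]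
    ext I
    constructor
    · rintro ⟨z, hz, rfl⟩
      exact (key z).1 hz
    · intro hI
      exact ⟨(⟨I, hI.1.1⟩ : PrimeSpectrum _), (key _).2 hI, rfl⟩
  rw [← himg, hf.injOn.encard_image]

theorem encard_minimalPrimes_henselization (A : Type u) [CommRing A] [IsLocalRing A] (S : Type u) [CommRing S]
    [IsLocalRing S] [Algebra A S] [IsLocalHom (algebraMap A S)] [_root_.Hensel.IsHenselization A S] :
    (minimalPrimes S).encard = Brnch.numBranches A :=
  BrnchLib.card_minimalPrimes_henselization A S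

theorem encard_le_numBranches (A : Type u) [CommRing A] [IsLocalRing A] :
    (minimalPrimes A).encard ≤ Brnch.numBranches A := by
  rw [← encard_minimalPrimes_henselization A (Hensel.LocalHenz A)]
  have hff : letI := (algebraMap A (Hensel.LocalHenz A)).toAlgebra
      Module.FaithfullyFlat A (Hensel.LocalHenz A) := by
    rw [show (algebraMap A (Hensel.LocalHenz A)).toAlgebra = (inferInstance : Algebra A (Hensel.LocalHenz A)) from
      Algebra.algebra_ext _ _ fun _ => rfl]
    exact Hensel.faithfullyFlat_of_isHenselization A (Hensel.LocalHenz A)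
  exact (Set.encard_le_encard (BrnchLib.surjOn_minimalPrimes (algebraMap A (Hensel.LocalHenz A)) hff)).trans
    (Set.encard_image_le _ _)

theorem numBranches_eq_of_etale {U' U : Scheme.{u}} (g : U' ⟶ U) (u' : U') [Etale g]
    (hκ : Function.Bijective (g.residueFieldMap u').hom) :
    Brnch.numBranches ↥(U.presheaf.stalk (g u')) = Brnch.numBranches ↥(U'.presheaf.stalk u') := by
  let R := Hensel.LocalHenz ↥(U'.presheaf.stalk u')
  letI : Algebra ↥(U.presheaf.stalk (g u')) R :=
    ((algebraMap ↥(U'.presheaf.stalk u') R).comp (g.stalkMap u').hom).toAlgebra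
  obtain ⟨_, _⟩ := isHenselization_comp g u' hκ R
  rw [← encard_minimalPrimes_henselization ↥(U.presheaf.stalk (g u')) R,
    ← encard_minimalPrimes_henselization ↥(U'.presheaf.stalk u') R]

/-- Finitely many elements of a henselization come from the local ring of one etale neighbourhood. -/
theorem exists_nbhd_range {U : Scheme.{u}} (u : U) (R : Type u) [CommRing R] [IsLocalRing R]
    [Algebra ↥(U.presheaf.stalk u) R] [IsLocalHom (algebraMap ↥(U.presheaf.stalk u) R)]
    [hR : _root_.Hensel.IsHenselization ↥(U.presheaf.stalk u) R] (Z : Finset R) :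
    ∃ (U' : Scheme.{u}) (g : U' ⟶ U) (t : Spec (CommRingCat.of R) ⟶ U'), Etale g ∧
      t ≫ g = Spec.map (CommRingCat.ofHom (algebraMap ↥(U.presheaf.stalk u) R)) ≫ U.fromSpecStalk u ∧
      ∀ z ∈ Z, z ∈ Set.range (Scheme.stalkClosedPointTo t).hom := by
  classical
  obtain ⟨V, hV, huV, -⟩ := exists_isAffineOpen_mem_and_subset (U := (⊤ : U.Opens)) (x := u) trivial
  haveI : HenselianLocalRing R := hR.henselian
  let A := Γ(U, V)
  let O := U.presheaf.stalk u
  let p := hV.primeIdealOf ⟨u, huV⟩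
  letI : Algebra A O := TopCat.Presheaf.algebra_section_stalk U.presheaf (⟨u, huV⟩ : V)
  haveI : IsLocalization.AtPrime O p.asIdeal := hV.isLocalization_stalk ⟨u, huV⟩
  letI : Algebra A R := ((algebraMap O R).comp (algebraMap A O)).toAlgebra
  haveI : IsScalarTower A O R := .of_algebraMap_eq' rfl
  let K := ResidueField R
  letI : Algebra A K := ((residue R).comp (algebraMap A R)).toAlgebra
  letI : Algebra O K := ((residue R).comp (algebraMap O R)).toAlgebra
  haveI : IsScalarTower A O K := .of_algebraMap_eq' rfl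
  haveI : IsLocalHom (algebraMap O K) := RingHom.isLocalHom_comp (residue R) (algebraMap O R)
  let H := Hensel.Henz A K
  let θ₀ : K →ₐ[A] R ⧸ maximalIdeal R := { RingHom.id K with commutes' := fun _ => rfl }
  obtain ⟨F, -, -⟩ := Hensel.Henz.existsUnique_lift (R := A) (K := K) (maximalIdeal R)
    (θ₀.comp (Hensel.Henz.proj A K).range.val)
  let fl := EtHenz.fromLocal A O K p.asIdeal.primeCompl
  have hfl : IsLocalHom fl.toRingHom := ⟨fun r hr => by
    refine (isUnit_map_iff (algebraMap O K) r).1 ?_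
    rw [← EtHenz.proj_fromLocal A O K p.asIdeal.primeCompl r]
    exact hr.map (Hensel.Henz.proj A K)⟩
  obtain ⟨G, hG, -⟩ := hR.universal H fl.toRingHom hfl
  have hFG : F.toRingHom.comp G = RingHom.id R := by
    refine (hR.universal R (algebraMap O R) inferInstance).unique ?_ (RingHom.id_comp _)
    rw [RingHom.comp_assoc, hG]
    exact IsLocalization.ringHom_ext p.asIdeal.primeCompl (RingHom.ext fun a => by
      show F (fl (algebraMap A O a)) = algebraMap O R (algebraMap A O a)
      rw [fl.commutes, F.commutes]; rfl)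
  obtain ⟨N, -, hN⟩ := Hensel.Henz.exists_of_finset (R := A) (K := K) (Classical.arbitrary _) (Z.image G)
  let χ : N.B →+* R := (F.comp (Hensel.Henz.of N)).toRingHom.comp (algebraMap N.B N.Stage)
  have hχA : χ.comp (algebraMap A N.B) = (algebraMap O R).comp (algebraMap A O) := RingHom.ext fun a => by
    show F (Hensel.Henz.of N (algebraMap N.B N.Stage (algebraMap A N.B a))) = algebraMap A R a
    rw [← IsScalarTower.algebraMap_apply A N.B N.Stage, AlgHom.commutes, F.commutes]
  have he : Etale (Spec.map (CommRingCat.ofHom (algebraMap A N.B))) :=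
    (HasRingHomProperty.Spec_iff (P := @Etale)).2 (RingHom.etale_algebraMap.2 inferInstance)
  refine ⟨Spec (CommRingCat.of N.B), Spec.map (CommRingCat.ofHom (algebraMap A N.B)) ≫ hV.fromSpec,
    Spec.map (CommRingCat.ofHom χ), inferInstance, ?_, fun z hz => ?_⟩
  · rw [← Spec.map_comp_assoc, ← hV.fromSpecStalk_eq_fromSpecStalk huV]
    show _ = Spec.map _ ≫ Spec.map (U.presheaf.germ V u huV) ≫ hV.fromSpec
    rw [← Spec.map_comp_assoc]
    congr 2
    exact CommRingCat.hom_ext hχA
  · obtain ⟨x, hx⟩ := hN (G z) (Finset.mem_image_of_mem G hz)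
    obtain ⟨⟨b, s⟩, e⟩ := IsLocalization.surj N.S x
    have hz' : F (Hensel.Henz.of N x) = z := by
      rw [hx]; exact congr($hFG z)
    let t := Spec.map (CommRingCat.ofHom χ)
    let σ := (Scheme.stalkClosedPointTo t).hom
    let gm : N.B →+* (Spec (CommRingCat.of N.B)).presheaf.stalk (t (closedPoint R)) :=
      ((Scheme.ΓSpecIso (CommRingCat.of N.B)).inv ≫
        (Spec (CommRingCat.of N.B)).presheaf.germ ⊤ (t (closedPoint R)) trivial).hom
    have hσ : ∀ c, σ (gm c) = χ c := fun c => by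
      have h2 := congrArg (fun m => m.hom ((Scheme.ΓSpecIso (CommRingCat.of N.B)).inv.hom c))
        (Scheme.germ_stalkClosedPointTo_Spec (CommRingCat.ofHom χ))
      refine (show σ _ = _ from h2).trans ?_
      show χ ((Scheme.ΓSpecIso (CommRingCat.of N.B)).hom.hom ((Scheme.ΓSpecIso (CommRingCat.of N.B)).inv.hom c)) = χ c
      rw [← CommRingCat.comp_apply, Iso.inv_hom_id]; rfl
    have hs : IsUnit (χ s) := ((IsLocalization.map_units N.Stage s).map (Hensel.Henz.of N)).map F
    rw [← hσ] at hs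
    haveI : IsLocalHom σ := Scheme.isLocalHom_stalkClosedPointTo' t
    obtain ⟨w, hw⟩ := IsUnit.of_map σ _ hs
    refine ⟨gm b * ↑w⁻¹, ?_⟩
    have h3 : z * χ s = χ b := by
      rw [← hz']
      show F (Hensel.Henz.of N x) * F (Hensel.Henz.of N (algebraMap N.B N.Stage s)) = _
      rw [← map_mul, ← map_mul, e]; rfl
    show σ _ = z
    rw [map_mul, hσ, ← h3, ← hσ s, ← hw, mul_assoc, ← map_mul, Units.mul_inv, map_one, mul_one]

/-- Finitely many minimal primes of a henselization stay distinct in the local ring of an etale neighbourhood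
with trivial residue field extension. -/
theorem exists_nbhd_card_le {U : Scheme.{u}} (u : U) (R : Type u) [CommRing R] [IsLocalRing R]
    [Algebra ↥(U.presheaf.stalk u) R] [IsLocalHom (algebraMap ↥(U.presheaf.stalk u) R)]
    [hR : _root_.Hensel.IsHenselization ↥(U.presheaf.stalk u) R] (T : Finset (Ideal R)) (hT : ↑T ⊆ minimalPrimes R) :
    ∃ (U' : Scheme.{u}) (g : U' ⟶ U) (u' : U'), Etale g ∧ g u' = u ∧
      Function.Bijective (g.residueFieldMap u').hom ∧
      (T.card : ℕ∞) ≤ (minimalPrimes ↥(U'.presheaf.stalk u')).encard := by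
  classical
  let P := (T ×ˢ T).filter fun x => ¬ x.1 ≤ x.2
  have hsep : ∀ x : P, ∃ z, z ∈ x.1.1 ∧ z ∉ x.1.2 := fun x =>
    SetLike.not_le_iff_exists.1 (Finset.mem_filter.1 x.2).2
  choose z hz₁ hz₂ using hsep
  obtain ⟨U', g, t, hg, htg, hrange⟩ := exists_nbhd_range u R (Finset.univ.image z)
  let u' := t (closedPoint R)
  have hgu : g u' = u := by
    show g (t (closedPoint R)) = u
    rw [← Scheme.Hom.comp_apply, htg, Scheme.Hom.comp_apply]
    exact (congrArg (U.fromSpecStalk u) (IsLocalRing.comap_closedPoint (algebraMap ↥(U.presheaf.stalk u) R))).trans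
      Scheme.fromSpecStalk_closedPoint
  subst hgu
  haveI := hR.henselian
  let O := U.presheaf.stalk (g u')
  let O' := U'.presheaf.stalk u'
  let φ := g.stalkMap u'
  let ψ : O' ⟶ CommRingCat.of R := Scheme.stalkClosedPointTo t
  haveI hψl : IsLocalHom ψ.hom := Scheme.isLocalHom_stalkClosedPointTo' t
  have hψ : ψ.hom.comp φ.hom = algebraMap O R := by
    haveI : IsLocalHom (φ ≫ ψ).hom := RingHom.isLocalHom_comp ψ.hom φ.hom
    refine congrArg CommRingCat.Hom.hom (specToLocal_inj (φ ≫ ψ) (CommRingCat.ofHom (algebraMap O R)) ?_)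
    rw [Spec.map_comp, Category.assoc, Scheme.SpecMap_stalkMap_fromSpecStalk, ← Category.assoc,
      Scheme.Spec_stalkClosedPointTo_fromSpecStalk, htg]
  have hκ : Function.Bijective (g.residueFieldMap u').hom := by
    have hb := Hensel.bijective_residueFieldMap_of_isHenselization O R
    have hc : (ResidueField.map ψ.hom).comp (g.residueFieldMap u').hom = ResidueField.map (algebraMap O R) := by
      refine RingHom.ext fun y => ?_
      obtain ⟨a, rfl⟩ := residue_surjective y
      show residue R (ψ.hom (φ.hom a)) = residue R (algebraMap O R a)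
      rw [← hψ]; rfl
    refine ⟨(g.residueFieldMap u').hom.injective, fun y => ?_⟩
    obtain ⟨a, ha⟩ := hb.2 (ResidueField.map ψ.hom y)
    exact ⟨a, (ResidueField.map ψ.hom).injective ((congr($hc a)).trans ha)⟩
  -- the henselization is one of the local ring of the neighbourhood
  let R' := Hensel.LocalHenz O'
  letI : Algebra O R' := ((algebraMap O' R').comp φ.hom).toAlgebra
  obtain ⟨hl', hR'⟩ := isHenselization_comp g u' hκ R'
  obtain ⟨e₁⟩ := Hensel.exists_algEquiv_localHenz O R'
  obtain ⟨e₂⟩ := Hensel.exists_algEquiv_localHenz O R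
  let e : R' ≃ₐ[O] R := e₁.symm.trans e₂
  have hψe : ψ.hom = e.toRingEquiv.toRingHom.comp (algebraMap O' R') := by
    haveI : IsLocalHom e.toRingEquiv.toRingHom := ⟨fun a ha => by
      have h9 := ha.map e.symm.toRingEquiv.toRingHom
      simpa using h9⟩
    have hle : IsLocalHom (e.toRingEquiv.toRingHom.comp (algebraMap O' R')) := RingHom.isLocalHom_comp _ _
    refine (existsUnique_extend g u' hκ R (algebraMap O R) inferInstance).unique ⟨hψl, hψ⟩ ⟨hle, ?_⟩
    exact RingHom.ext fun a => e.commutes a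
  letI : Algebra O' R := ψ.hom.toAlgebra
  let e' : R' ≃ₐ[O'] R := AlgEquiv.ofRingEquiv (f := e.toRingEquiv) fun a => (congr($hψe a)).symm
  have hff : letI := ψ.hom.toAlgebra; Module.FaithfullyFlat O' R := by
    haveI := Hensel.faithfullyFlat_of_isHenselization O' R'
    exact Module.FaithfullyFlat.of_linearEquiv O' R' e'.toLinearEquiv.symm
  refine ⟨U', g, u', hg, rfl, hκ, ?_⟩
  let f : Ideal R → Ideal O' := fun I => I.comap ψ.hom
  have hinj : ∀ I ∈ T, ∀ J ∈ T, f I = f J → I ≤ J := fun I hI J hJ h => by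
    by_contra hne
    let x : P := ⟨(I, J), Finset.mem_filter.2 ⟨Finset.mem_product.2 ⟨hI, hJ⟩, hne⟩⟩
    obtain ⟨b, hb⟩ := hrange (z x) (Finset.mem_image.2 ⟨x, Finset.mem_univ _, rfl⟩)
    refine hz₂ x ?_
    have h5 : b ∈ f I := show ψ.hom b ∈ I from hb.symm ▸ hz₁ x
    rw [h] at h5
    rw [← hb]
    exact h5
  calc (T.card : ℕ∞) = ((f '' ↑T) : Set (Ideal O')).encard := by
        rw [Set.InjOn.encard_image fun I hI J hJ h => le_antisymm (hinj I hI J hJ h) (hinj J hJ I hI h.symm),
          Set.encard_coe_eq_coe_finsetCard]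
    _ ≤ _ := Set.encard_le_encard fun J ⟨I, hI, hIJ⟩ =>
        hIJ ▸ BrnchLib.comap_mem_minimalPrimes ψ.hom hff (hT hI)

section Space

open AlgSp Groth.Agent.AlgSpLib Groth.Agent.AlgSpPts Groth.Agent.AlgSpDec.ElemNbhd

variable {S : Scheme.{u}} {X : Sp S} {x : Points X}

theorem numBranches_eq_of_elem (hA : IsAlgSpace X) (hX : IsDecent X) {U₁ U₂ : Over S}
    {a₁ : (yon S).obj U₁ ⟶ X} {a₂ : (yon S).obj U₂ ⟶ X} {u₁ : ↥U₁.left} {u₂ : ↥U₂.left}
    (h₁ : IsElemEtaleNbhd a₁ u₁ x) (h₂ : IsElemEtaleNbhd a₂ u₂ x) :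
    Brnch.numBranches ↥(U₁.left.presheaf.stalk u₁) = Brnch.numBranches ↥(U₂.left.presheaf.stalk u₂) := by
  obtain ⟨P, a, v, k₁, k₂, hv, hk₁, hk₂, e₁, e₂⟩ := exists_dominating hA hX h₁ h₂
  subst e₁ e₂
  have := etale_left_of_hom k₁ hk₁ h₁.etale hv.etale
  have := etale_left_of_hom k₂ hk₂ h₂.etale hv.etale
  rw [numBranches_eq_of_etale k₁.left v (bijective_residueFieldMap hA hX k₁ v hk₁ h₁ hv),
    numBranches_eq_of_etale k₂.left v (bijective_residueFieldMap hA hX k₂ v hk₂ h₂ hv)]

theorem exists_elem_card_le {U : Over S} {a : (yon S).obj U ⟶ X} {u : ↥U.left} (h : IsElemEtaleNbhd a u x)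
    (R : Type u) [CommRing R] [IsLocalRing R]
    [Algebra ↥(U.left.presheaf.stalk u) R] [IsLocalHom (algebraMap ↥(U.left.presheaf.stalk u) R)]
    [_root_.Hensel.IsHenselization ↥(U.left.presheaf.stalk u) R] (T : Finset (Ideal R)) (hT : ↑T ⊆ minimalPrimes R) :
    ∃ (U' : Over S) (a' : (yon S).obj U' ⟶ X) (u' : ↥U'.left), IsElemEtaleNbhd a' u' x ∧
      (T.card : ℕ∞) ≤ (minimalPrimes ↥(U'.left.presheaf.stalk u')).encard := by
  obtain ⟨V, g, v, hg, hgv, hκ, hle⟩ := exists_nbhd_card_le u R T hT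
  subst hgv
  let U' : Over S := Over.mk (g ≫ U.hom)
  let k : U' ⟶ U := Over.homMk g rfl
  refine ⟨U', (yon S).map k ≫ a, v, ⟨repWith_comp ((repWith_yon_map_iff _ _).2 hg) h.etale, ?_, ?_⟩, hle⟩
  · exact (ofPt_comp k a v).trans h.ofPt_eq
  · let σ : kap (U := U') v ⟶ kap (g v) := Over.homMk (Spec.map (g.residueFieldMap v)) (by
      show Spec.map (g.residueFieldMap v) ≫ U.left.fromSpecResidueField (g v) ≫ U.hom = _
      rw [Scheme.Hom.SpecMap_residueFieldMap_fromSpecResidueField_assoc]; rfl)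
    have hσ : σ ≫ kapι (g v) = kapι (U := U') v ≫ k :=
      Over.OverMorphism.ext (Scheme.Hom.SpecMap_residueFieldMap_fromSpecResidueField g v)
    haveI : IsIso (g.residueFieldMap v) := (ConcreteCategory.isIso_iff_bijective _).2 hκ
    haveI : IsIso ((Over.forget S).map σ) := inferInstanceAs (IsIso (Spec.map (g.residueFieldMap v)))
    haveI : IsIso σ := isIso_of_reflects_iso _ (Over.forget S)
    have hm : Mono ((yon S).map (kapι (g v)) ≫ a) := by
      have := h.mono; rw [FieldPt.toHom_ofPt] at this; exact this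
    rw [FieldPt.toHom_ofPt]
    show Mono ((yon S).map (kapι (U := U') v) ≫ (yon S).map k ≫ a)
    rw [← Functor.map_comp_assoc, ← hσ, Functor.map_comp, Category.assoc]
    exact mono_comp _ _

theorem encard_iff (hA : IsAlgSpace X) (hX : IsDecent X) (n : ℕ) {U₀ : Over S}
    {a₀ : (yon S).obj U₀ ⟶ X} {u₀ : ↥U₀.left} (h₀ : IsElemEtaleNbhd a₀ u₀ x)
    (R : Type u) [CommRing R] [IsLocalRing R]
    [Algebra ↥(U₀.left.presheaf.stalk u₀) R] [IsLocalHom (algebraMap ↥(U₀.left.presheaf.stalk u₀) R)]
    [_root_.Hensel.IsHenselization ↥(U₀.left.presheaf.stalk u₀) R] :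
    ((∀ (U : Over S) (a : (yon S).obj U ⟶ X) (u : ↥U.left), IsElemEtaleNbhd a u x →
        (minimalPrimes ↥(U.left.presheaf.stalk u)).encard ≤ n) ∧
      (∃ (U : Over S) (a : (yon S).obj U ⟶ X) (u : ↥U.left), IsElemEtaleNbhd a u x ∧
        (minimalPrimes ↥(U.left.presheaf.stalk u)).encard = n)) ↔ (minimalPrimes R).encard = n := by
  classical
  have hR := encard_minimalPrimes_henselization ↥(U₀.left.presheaf.stalk u₀) R
  have hle : ∀ (U : Over S) (a : (yon S).obj U ⟶ X) (u : ↥U.left), IsElemEtaleNbhd a u x →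
      (minimalPrimes ↥(U.left.presheaf.stalk u)).encard ≤ (minimalPrimes R).encard := fun U a u h => by
    rw [hR, numBranches_eq_of_elem hA hX h₀ h]
    exact encard_le_numBranches _
  constructor
  · rintro ⟨h1, U, a, u, h, h2⟩
    refine le_antisymm ?_ (h2 ▸ hle U a u h)
    by_contra hlt
    obtain ⟨t, ht, hc⟩ := Set.exists_subset_encard_eq (k := (n : ℕ∞) + 1) (s := minimalPrimes R)
      (Order.add_one_le_of_lt (not_le.1 hlt))
    have htf : t.Finite := Set.finite_of_encard_eq_coe (k := n + 1) (by exact_mod_cast hc)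
    obtain ⟨U', a', u', h', hc'⟩ := exists_elem_card_le h₀ R htf.toFinset (by simpa using ht)
    have h3 := hc'.trans (h1 U' a' u' h')
    rw [← htf.encard_eq_coe_toFinset_card, hc] at h3
    exact absurd h3 (by exact_mod_cast Nat.not_succ_le_self n)
  · intro h
    have hfin : (minimalPrimes R).Finite := Set.finite_of_encard_eq_coe h
    refine ⟨fun U a u hu => (hle U a u hu).trans h.le, ?_⟩
    obtain ⟨U', a', u', h', hc'⟩ := exists_elem_card_le h₀ R hfin.toFinset (by simp)
    rw [← hfin.encard_eq_coe_toFinset_card, h] at hc'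
    exact ⟨U', a', u', h', le_antisymm ((hle U' a' u' h').trans h.le) hc'⟩

theorem numBranchesAt_iff (hA : IsAlgSpace X) (hX : IsDecent X) (n : ℕ) {U₀ : Over S}
    {a₀ : (yon S).obj U₀ ⟶ X} {u₀ : ↥U₀.left} (h₀ : IsElemEtaleNbhd a₀ u₀ x)
    (R : Type u) [CommRing R] [IsLocalRing R]
    [Algebra ↥(U₀.left.presheaf.stalk u₀) R] [IsLocalHom (algebraMap ↥(U₀.left.presheaf.stalk u₀) R)]
    [_root_.Hensel.IsHenselization ↥(U₀.left.presheaf.stalk u₀) R] :
    ((∀ (U : Over S) (a : (yon S).obj U ⟶ X) (u : ↥U.left), IsElemEtaleNbhd a u x →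
        Brnch.numBranchesAt U.left u ≤ n) ∧
      (∃ (U : Over S) (a : (yon S).obj U ⟶ X) (u : ↥U.left), IsElemEtaleNbhd a u x ∧
        Brnch.numBranchesAt U.left u = n)) ↔ (minimalPrimes R).encard = n := by
  rw [encard_minimalPrimes_henselization ↥(U₀.left.presheaf.stalk u₀) R]
  constructor
  · rintro ⟨-, U, a, u, h, h2⟩
    exact (numBranches_eq_of_elem hA hX h₀ h).trans h2
  · intro h
    exact ⟨fun U a u hu => ((numBranches_eq_of_elem hA hX h₀ hu).symm.trans h).le, U₀, a₀, u₀, h₀, h⟩

theorem hasUniqueMinimalPrime_iff_encard (A : Type u) [CommRing A] :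
    CAlgX.HasUniqueMinimalPrime A ↔ (minimalPrimes A).encard = 1 := by
  rw [Set.encard_eq_one]
  refine exists_congr fun P => ⟨fun h => Set.ext fun Q => ⟨h.2 Q, fun hQ => (Set.mem_singleton_iff.1 hQ) ▸ h.1⟩,
    fun h => ⟨h ▸ rfl, fun Q hQ => by simpa [h] using hQ⟩⟩

end Space

end Groth.Agent.AlgSpDec.ElemBranches
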