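import Groth.Agent.AlgSpDec.ElemCofiltered
import Groth.Agent.EtFound.Henselian
import Groth.Agent.Hensel.HenselizationProps
import Mathlib.RingTheory.Unramified.LocalRing

/-!
# Henselizations and morphisms of elementary etale neighbourhoods
-/

set_option backward.isDefEq.respectTransparency false
set_option backward.isDefEq.respectTransparency.types false

universe u

open CategoryTheory CategoryTheory.Limits AlgebraicGeometry IsLocalRing

namespace Groth.Agent.AlgSpDec.ElemHenz

theorem specToLocal_inj {X : Scheme.{u}} {x : X} {T : CommRingCat.{u}} [IsLocalRing T]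
    (f g : X.presheaf.stalk x ⟶ T) [hf : IsLocalHom f.hom] [hg : IsLocalHom g.hom]
    (h : Spec.map f ≫ X.fromSpecStalk x = Spec.map g ≫ X.fromSpecStalk x) : f = g := by
  have := (SpecToEquivOfLocalRing X T).symm.injective
    (a₁ := ⟨x, ⟨f, hf⟩⟩) (a₂ := ⟨x, ⟨g, hg⟩⟩) h
  rw [Sigma.mk.inj_iff] at this
  exact congrArg Subtype.val (eq_of_heq this.2)

variable {U' U : Scheme.{u}} (g : U' ⟶ U) (u' : U')

/-- Unique extension of local maps to henselian rings along an etale map with trivial residue extension. -/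
theorem existsUnique_extend [Etale g] (hκ : Function.Bijective (g.residueFieldMap u').hom)
    (T : Type u) [CommRing T] [HenselianLocalRing T] (f : ↥(U.presheaf.stalk (g u')) →+* T) (hf : IsLocalHom f) :
    ∃! h : ↥(U'.presheaf.stalk u') →+* T, IsLocalHom h ∧ h.comp (g.stalkMap u').hom = f := by
  let R := U.presheaf.stalk (g u')
  let R' := U'.presheaf.stalk u'
  haveI : IsLocalHom (CommRingCat.ofHom f).hom := hf
  let q : Spec (CommRingCat.of T) ⟶ U := Spec.map (CommRingCat.ofHom f) ≫ U.fromSpecStalk (g u')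
  let eκ := RingEquiv.ofBijective (g.residueFieldMap u').hom hκ
  let τ : U'.residueField u' ⟶ CommRingCat.of (ResidueField T) :=
    CommRingCat.ofHom ((ResidueField.map f).comp eκ.symm.toRingHom)
  have hτ : g.residueFieldMap u' ≫ τ = CommRingCat.ofHom (ResidueField.map f) :=
    CommRingCat.hom_ext (RingHom.ext fun x => by
      show ResidueField.map f (eκ.symm ((g.residueFieldMap u').hom x)) = _
      exact congrArg _ (eκ.symm_apply_apply x))
  let e : Spec (CommRingCat.of (ResidueField T)) ⟶ U' := Spec.map τ ≫ U'.fromSpecResidueField u'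
  have hres : U.residue (g u') ≫ CommRingCat.ofHom (ResidueField.map f) =
      CommRingCat.ofHom f ≫ CommRingCat.ofHom (IsLocalRing.residue T) := rfl
  have he : e ≫ g = EtFound.cpt T ≫ q := by
    show (Spec.map τ ≫ _) ≫ g = _
    rw [Category.assoc, ← Scheme.Hom.SpecMap_residueFieldMap_fromSpecResidueField, ← Spec.map_comp_assoc, hτ]
    show Spec.map _ ≫ Spec.map (U.residue (g u')) ≫ U.fromSpecStalk _ = _
    rw [← Spec.map_comp_assoc, hres, Spec.map_comp, Category.assoc]
  haveI : Etale (pullback.snd g q) := MorphismProperty.pullback_snd (P := @Etale) g q ‹_›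
  obtain ⟨σ, ⟨hσ₁, hσ₂⟩, huniq⟩ := EtFound.existsUnique_section T (pullback.snd g q)
    (pullback.lift e (EtFound.cpt T) he) (pullback.lift_snd _ _ _)
  let s := σ ≫ pullback.fst g q
  have hs : s ≫ g = q := by
    show (σ ≫ pullback.fst g q) ≫ g = q
    rw [Category.assoc, pullback.condition, ← Category.assoc, hσ₁, Category.id_comp]
  have hse : EtFound.cpt T ≫ s = e := by
    show _ ≫ σ ≫ pullback.fst g q = e
    rw [← Category.assoc, hσ₂, pullback.lift_fst]
  have hs0 : s (closedPoint T) = u' := by
    have := congrArg (fun m : Spec (CommRingCat.of (ResidueField T)) ⟶ U' => m (closedPoint (ResidueField T))) hse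
    simp only [Scheme.Hom.comp_apply, e, Scheme.fromSpecResidueField_apply] at this
    rwa [EtFound.cpt_base] at this
  obtain ⟨h, hloc, hhs⟩ : ∃ h : R' ⟶ CommRingCat.of T, IsLocalHom h.hom ∧
      Spec.map h ≫ U'.fromSpecStalk u' = s := by
    have : ∀ x, s (closedPoint T) = x → ∃ h : U'.presheaf.stalk x ⟶ CommRingCat.of T,
        IsLocalHom h.hom ∧ Spec.map h ≫ U'.fromSpecStalk x = s := by
      rintro x rfl
      exact ⟨Scheme.stalkClosedPointTo s, inferInstance, Scheme.Spec_stalkClosedPointTo_fromSpecStalk s⟩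
    exact this u' hs0
  have hh : h.hom.comp (g.stalkMap u').hom = f := by
    haveI : IsLocalHom (g.stalkMap u' ≫ h).hom := RingHom.isLocalHom_comp h.hom (g.stalkMap u').hom
    refine congrArg CommRingCat.Hom.hom (specToLocal_inj (g.stalkMap u' ≫ h) (CommRingCat.ofHom f) ?_)
    rw [Spec.map_comp, Category.assoc, Scheme.SpecMap_stalkMap_fromSpecStalk, ← Category.assoc, hhs, hs]
  refine ⟨h.hom, ⟨hloc, hh⟩, fun k ⟨hk, hkf⟩ => ?_⟩
  haveI : IsLocalHom (CommRingCat.ofHom k).hom := hk
  have hkf' : g.stalkMap u' ≫ CommRingCat.ofHom k = CommRingCat.ofHom f := CommRingCat.hom_ext hkf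
  have key : Spec.map (CommRingCat.ofHom k) ≫ U'.fromSpecStalk u' = s := by
    let t := pullback.lift (f := g) (g := q) (Spec.map (CommRingCat.ofHom k) ≫ U'.fromSpecStalk u') (𝟙 _) (by
      rw [Category.id_comp, Category.assoc, ← Scheme.SpecMap_stalkMap_fromSpecStalk, ← Spec.map_comp_assoc, hkf'])
    have ht : t = σ := by
      refine huniq t ⟨pullback.lift_snd _ _ _, ?_⟩
      refine pullback.hom_ext ?_ ?_
      · rw [Category.assoc, pullback.lift_fst, pullback.lift_fst, ← Category.assoc, ← Spec.map_comp]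
        show _ = Spec.map τ ≫ Spec.map (U'.residue u') ≫ U'.fromSpecStalk u'
        rw [← Spec.map_comp_assoc]
        congr 2
        have hk2 : τ = CommRingCat.ofHom (ResidueField.map k) := by
          refine CommRingCat.hom_ext (RingHom.ext fun y => ?_)
          obtain ⟨x, rfl⟩ := hκ.2 y
          obtain ⟨x, rfl⟩ := IsLocalRing.residue_surjective x
          have := congrArg (fun m => (CommRingCat.Hom.hom m) (IsLocalRing.residue _ x)) hτ
          refine this.trans ?_
          show IsLocalRing.residue T (f x) = IsLocalRing.residue T (k ((g.stalkMap u').hom x))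
          rw [← hkf]; rfl
        rw [hk2]; rfl
      · rw [Category.assoc, pullback.lift_snd, pullback.lift_snd, Category.comp_id]
    show _ = σ ≫ pullback.fst g q
    rw [← ht]
    exact (pullback.lift_fst _ _ _).symm
  haveI := hloc
  exact congrArg CommRingCat.Hom.hom (specToLocal_inj (CommRingCat.ofHom k) h (key.trans hhs.symm))

/-- A henselization of the source of such a map is one of the target. -/
theorem isHenselization_comp [Etale g] (hκ : Function.Bijective (g.residueFieldMap u').hom)
    (R : Type u) [CommRing R] [IsLocalRing R] [Algebra ↥(U'.presheaf.stalk u') R]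
    [IsLocalHom (algebraMap ↥(U'.presheaf.stalk u') R)] [hR : Hensel.IsHenselization ↥(U'.presheaf.stalk u') R] :
    letI : Algebra ↥(U.presheaf.stalk (g u')) R :=
      ((algebraMap ↥(U'.presheaf.stalk u') R).comp (g.stalkMap u').hom).toAlgebra
    ∃ (_ : IsLocalHom (algebraMap ↥(U.presheaf.stalk (g u')) R)),
      Hensel.IsHenselization ↥(U.presheaf.stalk (g u')) R := by
  letI : Algebra ↥(U.presheaf.stalk (g u')) R :=
    ((algebraMap ↥(U'.presheaf.stalk u') R).comp (g.stalkMap u').hom).toAlgebra
  have hl : IsLocalHom (algebraMap ↥(U.presheaf.stalk (g u')) R) :=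
    RingHom.isLocalHom_comp (algebraMap ↥(U'.presheaf.stalk u') R) (g.stalkMap u').hom
  haveI := hl
  refine ⟨hl, ⟨hR.henselian, fun T _ _ f hf => ?_⟩⟩
  obtain ⟨h, ⟨hhl, hh⟩, huniq⟩ := existsUnique_extend g u' hκ T f hf
  obtain ⟨G, hG, hGu⟩ := hR.universal T h hhl
  refine ⟨G, ?_, fun G' hG' => hGu G' ?_⟩
  · show G.comp ((algebraMap _ R).comp (g.stalkMap u').hom) = f
    rw [← RingHom.comp_assoc, hG, hh]
  · refine huniq _ ⟨?_, ?_⟩
    · have h1 : (maximalIdeal ↥(U.presheaf.stalk (g u'))).map (g.stalkMap u').hom =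
          maximalIdeal ↥(U'.presheaf.stalk u') := by
        algebraize [(g.stalkMap u').hom]
        have : IsLocalHom (algebraMap (U.presheaf.stalk (g u')) (U'.presheaf.stalk u')) :=
          inferInstanceAs <| IsLocalHom (g.stalkMap u').hom
        have : Algebra.EssFiniteType (U.presheaf.stalk (g u')) (U'.presheaf.stalk u') := by
          rw [← RingHom.essFiniteType_algebraMap, RingHom.algebraMap_toAlgebra]
          exact LocallyOfFiniteType.stalkMap g u'
        have : Algebra.FormallyUnramified (U.presheaf.stalk (g u')) (U'.presheaf.stalk u') := by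
          rw [← RingHom.formallyUnramified_algebraMap, RingHom.algebraMap_toAlgebra]
          exact FormallyUnramified.stalkMap g u'
        exact Algebra.FormallyUnramified.map_maximalIdeal
      refine ((IsLocalRing.local_hom_TFAE _).out 0 2).2 ?_
      rw [← h1, Ideal.map_map, show (G'.comp (algebraMap _ R)).comp (g.stalkMap u').hom = f from
        (RingHom.comp_assoc _ _ _).trans hG']
      exact ((IsLocalRing.local_hom_TFAE f).out 0 2).1 hf
    · exact (RingHom.comp_assoc _ _ _).trans hG'

section Space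

open AlgSp Groth.Agent.AlgSpLib Groth.Agent.AlgSpPts Groth.Agent.AlgSpDec.ElemNbhd

variable {S : Scheme.{u}} {X : Sp S}

theorem etale_left_of_hom {U₁ U₂ : Over S} {a : (yon S).obj U₂ ⟶ X} {a' : (yon S).obj U₁ ⟶ X} (f : U₁ ⟶ U₂)
    (hf : (yon S).map f ≫ a = a') (ha : RepWith @Etale a) (ha' : RepWith @Etale a') : Etale f.left := by
  obtain ⟨P, p, r, sq, hp, hr⟩ : ∃ (P : Over S) (p : P ⟶ U₂) (r : P ⟶ U₁),
      IsPullback ((yon S).map p) ((yon S).map r) a a' ∧ Etale p.left ∧ Etale r.left :=
    ⟨_, _, _, ha.rep.isPullback' a', ha'.property _ _ _ (ha.rep.isPullback' a').flip, ha.property_snd a'⟩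
  obtain ⟨l, h1, h2⟩ := sq.exists_lift ((yon S).map f) (𝟙 _) (hf.trans (Category.id_comp _).symm)
  obtain ⟨l, rfl⟩ := (yon S).map_surjective l
  rw [← Functor.map_comp] at h1 h2
  rw [← (yon S).map_id] at h2
  replace h1 := (yon S).map_injective h1
  replace h2 := (yon S).map_injective h2
  have : Etale (l.left ≫ r.left) := by
    rw [← Over.comp_left, h2]; exact inferInstanceAs (Etale (𝟙 U₁.left))
  have : Etale l.left := Etale.of_comp l.left r.left
  rw [← h1]
  exact inferInstanceAs (Etale (l.left ≫ p.left))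

theorem bijective_residueFieldMap {U₁ U₂ : Over S} {a : (yon S).obj U₂ ⟶ X} {a' : (yon S).obj U₁ ⟶ X}
    (hA : IsAlgSpace X) (hX : IsDecent X) {x : Points X} (f : U₁ ⟶ U₂) (u' : ↥U₁.left)
    (hf : (yon S).map f ≫ a = a') (ha : IsElemEtaleNbhd a (f.left u') x) (ha' : IsElemEtaleNbhd a' u' x) :
    Function.Bijective (f.left.residueFieldMap u').hom := by
  let σ : kap u' ⟶ kap (f.left u') := Over.homMk (Spec.map (f.left.residueFieldMap u')) (by
    show Spec.map (f.left.residueFieldMap u') ≫ U₂.left.fromSpecResidueField (f.left u') ≫ U₂.hom = _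
    rw [Scheme.Hom.SpecMap_residueFieldMap_fromSpecResidueField_assoc, Over.w f]
    rfl)
  have hσ : σ ≫ kapι (f.left u') = kapι u' ≫ f :=
    Over.OverMorphism.ext (Scheme.Hom.SpecMap_residueFieldMap_fromSpecResidueField f.left u')
  obtain ⟨δ, hδ⟩ := exists_kap_hom hA hX a a' ha'.mono (ha.ofPt_eq.trans ha'.ofPt_eq.symm)
  have m1 : Mono ((yon S).map (kapι (f.left u')) ≫ a) := by
    have := ha.mono; rw [FieldPt.toHom_ofPt] at this; exact this
  have m2 : Mono ((yon S).map (kapι u') ≫ a') := by
    have := ha'.mono; rw [FieldPt.toHom_ofPt] at this; exact this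
  have hσX : (yon S).map σ ≫ (yon S).map (kapι (f.left u')) ≫ a = (yon S).map (kapι u') ≫ a' := by
    rw [← Functor.map_comp_assoc, hσ, Functor.map_comp, Category.assoc, hf]
  rw [Functor.map_comp, Category.assoc] at hδ
  have h1 : σ ≫ δ = 𝟙 _ := (yon S).map_injective (m2.right_cancellation _ _ (by
    rw [Functor.map_comp, Category.assoc, hδ, hσX, CategoryTheory.Functor.map_id, Category.id_comp]))
  have h2 : δ ≫ σ = 𝟙 _ := (yon S).map_injective (m1.right_cancellation _ _ (by
    rw [Functor.map_comp, Category.assoc, hσX, hδ, CategoryTheory.Functor.map_id, Category.id_comp]))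
  haveI : IsIso σ := ⟨δ, h1, h2⟩
  haveI : IsIso (Spec.map (f.left.residueFieldMap u')) := inferInstanceAs (IsIso ((Over.forget S).map σ))
  haveI : IsIso (Scheme.Spec.map (f.left.residueFieldMap u').op) :=
    (inferInstance : IsIso (Spec.map (f.left.residueFieldMap u')))
  haveI : IsIso (f.left.residueFieldMap u').op := isIso_of_reflects_iso _ Scheme.Spec
  haveI : IsIso (f.left.residueFieldMap u') := isIso_of_op _
  exact (ConcreteCategory.isIso_iff_bijective (f.left.residueFieldMap u')).1 inferInstance

end Space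

end Groth.Agent.AlgSpDec.ElemHenz
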