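import Groth.Agent.AlgSpDec.Glue
import Mathlib.AlgebraicGeometry.ResidueField
import Mathlib.AlgebraicGeometry.Morphisms.Flat
import Mathlib.CategoryTheory.Limits.Preserves.Shapes.Products

/-!
# The relation of a free group action
-/

set_option backward.isDefEq.respectTransparency false
set_option backward.isDefEq.respectTransparency.types false

universe u

open CategoryTheory Limits AlgebraicGeometry AlgSp

namespace Groth.Agent.AlgSpDec.FreeAction

variable {S : Scheme.{u}} {U : Over S} {G : Type u}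

section coproduct

variable {c : Cofan (fun _ : G => U)} (hc : IsColimit c)
include hc

theorem exists_iso : ∃ e : ((∐ fun _ : G => U.left) : Scheme.{u}) ≅ c.pt.left,
    ∀ g, Sigma.ι (fun _ : G => U.left) g ≫ e.hom = (c.inj g).left := by
  let c' : Cofan (fun _ : G => U) := Cofan.mk c.pt c.inj
  have hc' : IsColimit c' := IsColimit.ofIsoColimit hc (Cofan.ext (Iso.refl _) fun g => Category.comp_id _)
  have h2 := isColimitCofanMkObjOfIsColimit (Over.forget S) (fun _ : G => U) c.inj hc'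
  exact ⟨(coproductIsCoproduct fun _ : G => U.left).coconePointUniqueUpToIso h2,
    fun g => (coproductIsCoproduct fun _ : G => U.left).comp_coconePointUniqueUpToIso_hom h2 ⟨g⟩⟩

theorem isOpenImmersion_inj (g : G) : IsOpenImmersion (c.inj g).left := by
  obtain ⟨e, he⟩ := exists_iso hc
  rw [← he g]
  infer_instance

theorem exists_inj (w : c.pt.left) : ∃ g v, (c.inj g).left v = w := by
  obtain ⟨e, he⟩ := exists_iso hc
  obtain ⟨z, rfl⟩ := e.hom.homeomorph.surjective w
  obtain ⟨⟨g, v⟩, rfl⟩ := (sigmaMk fun _ : G => U.left).surjective z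
  refine ⟨g, v, ?_⟩
  rw [sigmaMk_mk, ← he, Scheme.Hom.comp_apply]
  rfl

theorem eq_of_inj_eq {g h : G} {v w : U.left} (e' : (c.inj g).left v = (c.inj h).left w) : g = h := by
  obtain ⟨e, he⟩ := exists_iso hc
  rw [← he g, ← he h, Scheme.Hom.comp_apply, Scheme.Hom.comp_apply] at e'
  have h2 := e.hom.homeomorph.injective e'
  have := (sigmaMk fun _ : G => U.left).injective
    (a₁ := ⟨g, v⟩) (a₂ := ⟨h, w⟩) (by rw [sigmaMk_mk, sigmaMk_mk]; exact h2)
  exact congrArg Sigma.fst this

theorem etale_of_comp_inj (t : c.pt ⟶ U) (h : ∀ g, Etale (c.inj g ≫ t).left) : Etale t.left := by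
  haveI := fun g => isOpenImmersion_inj hc g
  refine (IsZariskiLocalAtSource.iff_of_iSup_eq_top (P := @Etale) (fun g => (c.inj g).left.opensRange) ?_).2 fun g => ?_
  · refine top_le_iff.1 fun w _ => ?_
    obtain ⟨g, v, rfl⟩ := exists_inj hc w
    exact TopologicalSpace.Opens.mem_iSup.2 ⟨g, v, rfl⟩
  · have e : (c.inj g).left.opensRange.ι ≫ t.left = (c.inj g).left.isoOpensRange.inv ≫ (c.inj g ≫ t).left := by
      rw [Over.comp_left, ← Category.assoc, Scheme.Hom.isoOpensRange_inv_comp]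
    rw [e]
    haveI := h g
    infer_instance

end coproduct

variable [Group G] {ρ : G →* Aut U}
  (hfree : ∀ (g : G) (x : U.left), g ≠ 1 →
    U.left.fromSpecResidueField x ≫ (ρ g).hom.left ≠ U.left.fromSpecResidueField x)

theorem hom_mul (g h : G) : (ρ (g * h)).hom = (ρ h).hom ≫ (ρ g).hom := by
  rw [map_mul]; rfl

include hfree in
theorem eq_of_comp_eq {T : Over S} (z : T.left) (b : T ⟶ U) {g h : G}
    (e : T.left.fromSpecResidueField z ≫ b.left ≫ (ρ g).hom.left = T.left.fromSpecResidueField z ≫ b.left ≫ (ρ h).hom.left) :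
    g = h := by
  by_contra hne
  refine hfree (h⁻¹ * g) (b.left z) (fun hh => hne (inv_mul_eq_one.1 hh).symm) ?_
  rw [← Scheme.Hom.SpecMap_residueFieldMap_fromSpecResidueField_assoc,
    ← Scheme.Hom.SpecMap_residueFieldMap_fromSpecResidueField_assoc] at e
  haveI : Flat (Spec.map (b.left.residueFieldMap z)) := by
    rw [HasRingHomProperty.Spec_iff (P := @Flat)]
    letI := (b.left.residueFieldMap z).hom.toAlgebra
    exact inferInstanceAs (Module.Flat (U.left.residueField (b.left z)) (T.left.residueField z))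
  haveI : Surjective (Spec.map (b.left.residueFieldMap z)) := ⟨fun p => ⟨IsLocalRing.closedPoint _, Subsingleton.elim _ _⟩⟩
  haveI := Flat.epi_of_flat_of_surjective (Spec.map (b.left.residueFieldMap z))
  have e' := (cancel_epi _).1 e
  rw [hom_mul, Over.comp_left, ← Category.assoc, e', Category.assoc, ← Over.comp_left, ← hom_mul,
    inv_mul_cancel, map_one]
  exact Category.comp_id _

variable {c : Cofan (fun _ : G => U)} (hc : IsColimit c) {s t : c.pt ⟶ U}
  (hs : ∀ g, c.inj g ≫ s = 𝟙 U) (ht : ∀ g, c.inj g ≫ t = (ρ g).hom)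

include hc in
/-- Gluing along pieces on which two sections have constant index. -/
theorem exists_glue {T : Over S} (r r' : T ⟶ c.pt) (a b : T ⟶ U) (b₀ : T ⟶ U) (k : G → G → G)
    (h₁ : ∀ (Z : Over S) (π : Z ⟶ T) (g h : G) (x y : Z ⟶ U), x ≫ c.inj g = π ≫ r → y ≫ c.inj h = π ≫ r' →
      (π ≫ b₀) ≫ (ρ (k g h)).hom = π ≫ a ∧ π ≫ b₀ = π ≫ b)
    (hs : ∀ g, c.inj g ≫ s = 𝟙 U) (ht : ∀ g, c.inj g ≫ t = (ρ g).hom) :
    ∃ r'' : T ⟶ c.pt, r'' ≫ t = a ∧ r'' ≫ s = b := by
  haveI := fun g => isOpenImmersion_inj hc g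
  let W : G × G → T.left.Opens := fun p =>
    (r.left ⁻¹ᵁ (c.inj p.1).left.opensRange) ⊓ (r'.left ⁻¹ᵁ (c.inj p.2).left.opensRange)
  have hW : ∀ z, ∃ p, z ∈ W p := fun z => by
    obtain ⟨g, v, hv⟩ := exists_inj hc (r.left z)
    obtain ⟨h, w, hw⟩ := exists_inj hc (r'.left z)
    exact ⟨(g, h), ⟨v, hv⟩, w, hw⟩
  let 𝒰 := Scheme.openCoverOfIsOpenCover T.left W
    (TopologicalSpace.Opens.ext (Set.eq_univ_of_forall fun z => by simpa using hW z))
  let Z : G × G → Over S := fun p => Over.mk ((W p).ι ≫ T.hom)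
  let π : ∀ p, Z p ⟶ T := fun p => Over.homMk (W p).ι rfl
  have hlift : ∀ p, ∃ (x y : Z p ⟶ U), x ≫ c.inj p.1 = π p ≫ r ∧ y ≫ c.inj p.2 = π p ≫ r' := by
    intro p
    have hx : Set.range ((W p).ι ≫ r.left) ⊆ Set.range (c.inj p.1).left := by
      rintro _ ⟨z, rfl⟩
      exact z.2.1
    have hy : Set.range ((W p).ι ≫ r'.left) ⊆ Set.range (c.inj p.2).left := by
      rintro _ ⟨z, rfl⟩
      exact z.2.2
    refine ⟨Over.homMk (IsOpenImmersion.lift (c.inj p.1).left _ hx) ?_,
      Over.homMk (IsOpenImmersion.lift (c.inj p.2).left _ hy) ?_, Over.OverMorphism.ext ?_, Over.OverMorphism.ext ?_⟩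
    · show IsOpenImmersion.lift _ _ hx ≫ U.hom = (W p).ι ≫ T.hom
      rw [← Over.w (c.inj p.1), IsOpenImmersion.lift_fac_assoc, Category.assoc]
      erw [Over.w r]
    · show IsOpenImmersion.lift _ _ hy ≫ U.hom = (W p).ι ≫ T.hom
      rw [← Over.w (c.inj p.2), IsOpenImmersion.lift_fac_assoc, Category.assoc]
      erw [Over.w r']
    · exact IsOpenImmersion.lift_fac _ _ _
    · exact IsOpenImmersion.lift_fac _ _ _
  let f : ∀ p, 𝒰.X p ⟶ c.pt.left := fun p => (π p ≫ b₀ ≫ c.inj (k p.1 p.2)).left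
  have hf : ∀ (p q : G × G), pullback.fst (𝒰.f p) (𝒰.f q) ≫ f p = pullback.snd (𝒰.f p) (𝒰.f q) ≫ f q := by
    intro p q
    by_cases hpq : p = q
    · subst hpq
      have : pullback.fst (𝒰.f p) (𝒰.f p) = pullback.snd (𝒰.f p) (𝒰.f p) :=
        (cancel_mono (W p).ι).1 pullback.condition
      rw [this]
    · have : IsEmpty ↥(pullback (𝒰.f p) (𝒰.f q)) := ⟨fun z => by
        have hz : (W p).ι (pullback.fst (𝒰.f p) (𝒰.f q) z) = (W q).ι (pullback.snd (𝒰.f p) (𝒰.f q) z) := by
          exact (Scheme.Hom.comp_apply _ _ _).symm.trans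
            ((congrArg (fun m : pullback (𝒰.f p) (𝒰.f q) ⟶ T.left => m z) pullback.condition).trans
              (Scheme.Hom.comp_apply _ _ _))
        obtain ⟨⟨v, hv⟩, w, hw⟩ := (pullback.fst (𝒰.f p) (𝒰.f q) z : ↥(W p).toScheme).2
        obtain ⟨⟨v', hv'⟩, w', hw'⟩ := (pullback.snd (𝒰.f p) (𝒰.f q) z : ↥(W q).toScheme).2
        refine hpq (Prod.ext (eq_of_inj_eq hc (v := v) (w := v') ?_) (eq_of_inj_eq hc (v := w) (w := w') ?_))
        · exact hv.trans ((congrArg r.left hz).trans hv'.symm)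
        · exact hw.trans ((congrArg r'.left hz).trans hw'.symm)⟩
      exact isInitialOfIsEmpty.hom_ext _ _
  let R : T.left ⟶ c.pt.left := Scheme.Cover.glueMorphisms 𝒰 f hf
  have hR : ∀ p, (W p).ι ≫ R = f p := fun p => Scheme.Cover.ι_glueMorphisms 𝒰 f hf p
  refine ⟨Over.homMk R (Scheme.Cover.hom_ext 𝒰 _ _ fun p => ?_), Over.OverMorphism.ext (Scheme.Cover.hom_ext 𝒰 _ _ fun p => ?_),
    Over.OverMorphism.ext (Scheme.Cover.hom_ext 𝒰 _ _ fun p => ?_)⟩
  · show (W p).ι ≫ R ≫ c.pt.hom = (W p).ι ≫ T.hom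
    rw [reassoc_of% hR p]
    exact Over.w (π p ≫ b₀ ≫ c.inj (k p.1 p.2))
  · show (W p).ι ≫ R ≫ t.left = (W p).ι ≫ a.left
    rw [reassoc_of% hR p]
    obtain ⟨x, y, hx, hy⟩ := hlift p
    have := (h₁ _ (π p) p.1 p.2 x y hx hy).1
    rw [← ht] at this
    exact congrArg (fun m => m.left) ((by simpa only [Category.assoc] using this : (π p ≫ b₀ ≫ c.inj (k p.1 p.2)) ≫ t = π p ≫ a))
  · show (W p).ι ≫ R ≫ s.left = (W p).ι ≫ b.left
    rw [reassoc_of% hR p]
    obtain ⟨x, y, hx, hy⟩ := hlift p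
    have : (π p ≫ b₀ ≫ c.inj (k p.1 p.2)) ≫ s = π p ≫ b := by
      rw [Category.assoc, Category.assoc, hs, Category.comp_id]
      exact (h₁ _ (π p) p.1 p.2 x y hx hy).2
    exact congrArg (fun m => m.left) this

include hfree hc hs ht in
theorem isEtaleEqvRel : IsEtaleEqvRel s t := by
  haveI := fun g => isOpenImmersion_inj hc g
  have hval : ∀ {Z : Over S} {g : G} (x : Z ⟶ U) (π : Z ⟶ c.pt), x ≫ c.inj g = π →
      π ≫ s = x ∧ π ≫ t = x ≫ (ρ g).hom := by
    rintro Z g x π rfl
    rw [Category.assoc, Category.assoc, hs, ht, Category.comp_id]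
    exact ⟨rfl, rfl⟩
  refine { injective := ?_, equivalence := ?_, etale_left := ?_, etale_right := ?_ }
  · intro T r r' het hes
    have hidx : ∀ z : T.left, ∃ g, r.left z ∈ Set.range (c.inj g).left ∧ r'.left z ∈ Set.range (c.inj g).left := by
      intro z
      obtain ⟨g, v, hv⟩ := exists_inj hc (r.left z)
      obtain ⟨h, w, hw⟩ := exists_inj hc (r'.left z)
      let P : Over S := Over.mk (T.left.fromSpecResidueField z ≫ T.hom)
      let π : P ⟶ T := Over.homMk (T.left.fromSpecResidueField z) rfl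
      have hfac : ∀ (q : T ⟶ c.pt) (k : G) (u : U.left), (c.inj k).left u = q.left z →
          π ≫ q ≫ t = (π ≫ q ≫ s) ≫ (ρ k).hom := by
        intro q k u hu
        have hsub : Set.range (π ≫ q).left ⊆ Set.range (c.inj k).left := by
          rintro _ ⟨p, rfl⟩
          refine ⟨u, hu.trans ?_⟩
          rw [Over.comp_left, Scheme.Hom.comp_apply]
          exact congrArg q.left (Scheme.fromSpecResidueField_apply _ p).symm
        let x : P ⟶ U := Over.homMk (IsOpenImmersion.lift (c.inj k).left (π ≫ q).left hsub) (by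
          rw [← Over.w (c.inj k), IsOpenImmersion.lift_fac_assoc]; exact Over.w (π ≫ q))
        obtain ⟨e1, e2⟩ := hval x (π ≫ q) (Over.OverMorphism.ext (IsOpenImmersion.lift_fac _ _ _))
        rw [← Category.assoc, e2, ← Category.assoc, e1]
      have hgh : g = h := eq_of_comp_eq hfree z (r ≫ s) (by
        have e := hfac r g v hv
        have e' := hfac r' h w hw
        rw [← het, ← hes] at e'
        have := congrArg (fun m => m.left) (e.symm.trans e')
        simp only [Over.comp_left, Category.assoc] at this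
        exact this)
      exact ⟨g, ⟨v, hv⟩, hgh ▸ ⟨w, hw⟩⟩
    let W : G → T.left.Opens := fun g =>
      (r.left ⁻¹ᵁ (c.inj g).left.opensRange) ⊓ (r'.left ⁻¹ᵁ (c.inj g).left.opensRange)
    apply Over.OverMorphism.ext
    refine Scheme.Cover.hom_ext (Scheme.openCoverOfIsOpenCover T.left W
      (TopologicalSpace.Opens.ext (Set.eq_univ_of_forall fun z => TopologicalSpace.Opens.mem_iSup.2 (hidx z)))) _ _ fun g => ?_
    show (W g).ι ≫ r.left = (W g).ι ≫ r'.left
    have hx : Set.range ((W g).ι ≫ r.left) ⊆ Set.range (c.inj g).left := by rintro _ ⟨z, rfl⟩; exact z.2.1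
    have hy : Set.range ((W g).ι ≫ r'.left) ⊆ Set.range (c.inj g).left := by rintro _ ⟨z, rfl⟩; exact z.2.2
    rw [← IsOpenImmersion.lift_fac _ _ hx, ← IsOpenImmersion.lift_fac _ _ hy]
    congr 1
    have hsi : (c.inj g).left ≫ s.left = 𝟙 U.left := by rw [← Over.comp_left, hs]; rfl
    have h1 : r.left ≫ s.left = r'.left ≫ s.left := congrArg (fun m => m.left) hes
    calc IsOpenImmersion.lift (c.inj g).left _ hx
        = IsOpenImmersion.lift (c.inj g).left _ hx ≫ (c.inj g).left ≫ s.left := by rw [hsi, Category.comp_id]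
      _ = ((W g).ι ≫ r.left) ≫ s.left := IsOpenImmersion.lift_fac_assoc _ _ _ _
      _ = ((W g).ι ≫ r'.left) ≫ s.left := (Category.assoc _ _ _).trans
          ((congrArg (fun m => (W g).ι ≫ m) h1).trans (Category.assoc _ _ _).symm)
      _ = IsOpenImmersion.lift (c.inj g).left _ hy ≫ (c.inj g).left ≫ s.left := (IsOpenImmersion.lift_fac_assoc _ _ _ _).symm
      _ = IsOpenImmersion.lift (c.inj g).left _ hy := by rw [hsi, Category.comp_id]
  · intro T
    refine ⟨fun a => ⟨a ≫ c.inj 1, ?_, ?_⟩, ?_, ?_⟩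
    · rw [Category.assoc, ht, map_one]; exact Category.comp_id _
    · rw [Category.assoc, hs, Category.comp_id]
    · rintro a b ⟨r, hrt, hrs⟩
      refine exists_glue hc r r b a a (fun g _ => g⁻¹) (fun Z π g h x y hx hy => ?_) hs ht
      obtain ⟨e1, e2⟩ := hval x (π ≫ r) hx
      rw [Category.assoc, hrs] at e1
      rw [Category.assoc, hrt] at e2
      refine ⟨?_, rfl⟩
      rw [e2, e1, Category.assoc, ← hom_mul, inv_mul_cancel, map_one]
      exact Category.comp_id _
    · rintro a b d ⟨r, hrt, hrs⟩ ⟨r', hrt', hrs'⟩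
      refine exists_glue hc r r' a d d (fun g h => g * h) (fun Z π g h x y hx hy => ?_) hs ht
      obtain ⟨e1, e2⟩ := hval x (π ≫ r) hx
      obtain ⟨e3, e4⟩ := hval y (π ≫ r') hy
      rw [Category.assoc, hrs] at e1
      rw [Category.assoc, hrt] at e2
      rw [Category.assoc, hrs'] at e3
      rw [Category.assoc, hrt'] at e4
      refine ⟨?_, rfl⟩
      rw [hom_mul, ← Category.assoc, e2, e3, ← e4, e1]
  · refine etale_of_comp_inj hc s fun g => ?_
    rw [hs]
    exact inferInstanceAs (Etale (𝟙 U.left))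
  · refine etale_of_comp_inj hc t fun g => ?_
    rw [ht]
    haveI : IsIso (ρ g).hom.left := inferInstanceAs (IsIso ((Over.forget S).map (ρ g).hom))
    infer_instance

end Groth.Agent.AlgSpDec.FreeAction
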