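import Groth.Agent.AlgSpDec.LqfSplitZ
import Groth.Agent.EtFound.Descent

/-!
# The finite relation on the scheme of pieces
-/

set_option backward.isDefEq.respectTransparency false
set_option backward.isDefEq.respectTransparency.types false

universe u

open CategoryTheory Limits Opposite AlgebraicGeometry AlgSp Groth.Agent.AlgSpLib Groth.Agent.AlgSpPts

namespace Groth.Agent.AlgSpDec

variable {S : Scheme.{u}} {F : Sp S} {V : Over S} {p : (yon S).obj V ⟶ F}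

/-- Finite flat lfp descends along an fppf cover of the target. -/
theorem finFlat_of_isPullback {W B A W' : Over S} {g : W' ⟶ W} {f' : W' ⟶ A} {f : W ⟶ B} {π : A ⟶ B}
    (sq : IsPullback g f' f π) (hπ : fppf π.left) [IsFinite f'.left] [Flat f'.left]
    [LocallyOfFinitePresentation f'.left] :
    IsFinite f.left ∧ Flat f.left ∧ LocallyOfFinitePresentation f.left := by
  have : Sheaf.IsLocallySurjective ((yon S).map π) :=
    isLocallySurjective_of_repWith ((repWith_yon_map_iff fppf π).2 hπ)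
  have := Groth.Agent.EtFound.fpqc_isFinite.{u}
  have := isLocalAtTarget_fppf (@IsFinite : MorphismProperty Scheme.{u})
  have := isLocalAtTarget_fppf (@Flat : MorphismProperty Scheme.{u})
  have := isLocalAtTarget_fppf (@LocallyOfFinitePresentation : MorphismProperty Scheme.{u})
  have sq' := sq.map (yon S)
  exact ⟨(repWith_yon_map_iff _ f).1 (repWith_of_locallySurjective (representable_yon_map f) _ sq' @IsFinite
      ((repWith_yon_map_iff _ _).2 ‹_›)),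
    (repWith_yon_map_iff _ f).1 (repWith_of_locallySurjective (representable_yon_map f) _ sq' @Flat
      ((repWith_yon_map_iff _ _).2 ‹_›)),
    (repWith_yon_map_iff _ f).1 (repWith_of_locallySurjective (representable_yon_map f) _ sq'
      @LocallyOfFinitePresentation ((repWith_yon_map_iff _ _).2 ‹_›))⟩

/-- An etale monomorphism onto the whole target is an isomorphism. -/
theorem isIso_of_etale_mono_surjective {X Y : Over S} (f : X ⟶ Y) [Etale f.left] [Mono f]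
    (h : ∀ y, ∃ x, f.left x = y) : IsIso f := by
  have : Mono f.left := inferInstanceAs (Mono ((Over.forget S).map f))
  have : IsOpenImmersion f.left := IsOpenImmersion.of_flat_of_mono _
  have : IsIso f.left :=
    (isIso_iff_isOpenImmersion_and_epi_base _).2 ⟨inferInstance, (TopCat.epi_iff_surjective _).2 h⟩
  have : IsIso ((Over.forget S).map f) := ‹IsIso f.left›
  exact isIso_of_reflects_iso _ (Over.forget S)

namespace Split

variable (D : Split p)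

/-- The scheme of pieces, with its pairs over the sheaf. -/
structure Pieces where
  Z : Over S
  π : D.T ⟶ Z
  ζ : Z ⟶ V
  RZ : Over S
  aZ : RZ ⟶ Z
  bZ : RZ ⟶ Z
  etaleπ : Etale π.left
  surjπ : Surjective π.left
  etaleζ : Etale ζ.left
  sepζ : IsSeparated ζ.left
  πζ : π ≫ ζ = D.τ
  π_rel : ∀ {X : Over S} (a b : X ⟶ D.T), a ≫ π = b ≫ π ↔ a ≫ D.τ = b ≫ D.τ ∧ D.Same a b
  sqZ : IsPullback ((yon S).map aZ) ((yon S).map bZ) ((yon S).map ζ ≫ p) ((yon S).map ζ ≫ p)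

theorem exists_pieces (hp : Representable p) : Nonempty D.Pieces := by
  obtain ⟨Z, π, ζ, hπe, hπs, hζe, hζs, hπζ, hπrel⟩ := D.exists_Z
  have hcZ : Representable ((yon S).map ζ ≫ p) := MorphismProperty.comp_mem _ _ _ (representable_yon_map ζ) hp
  exact ⟨⟨Z, π, ζ, _, _, _, hπe, hπs, hζe, hζs, hπζ, hπrel, hcZ.isPullback' _⟩⟩

namespace Pieces

attribute [instance] Pieces.etaleπ Pieces.surjπ Pieces.etaleζ Pieces.sepζ

variable {D} (K : D.Pieces)

/-- The map from the pieces to the sheaf. -/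
noncomputable abbrev cZ : (yon S).obj K.Z ⟶ F := (yon S).map K.ζ ≫ p

theorem π_cZ : (yon S).map K.π ≫ K.cZ = D.c := by
  rw [← Category.assoc, ← Functor.map_comp, K.πζ]

theorem etale_surj_of_isPullback {X Y : Over S} {f : X ⟶ K.Z} {g : Y ⟶ X} {h : Y ⟶ D.T}
    (sq : IsPullback g h f K.π) : Etale g.left ∧ Surjective g.left :=
  ⟨MorphismProperty.of_isPullback (P := @Etale) (sq.map (Over.forget S)).flip K.etaleπ,
    MorphismProperty.of_isPullback (P := @Surjective) (sq.map (Over.forget S)).flip K.surjπ⟩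

/-- Pairs of the cover over a pair of pieces. -/
noncomputable abbrev X₁ : Over S := pullback K.bZ K.π

/-- The first projection of `X₁`. -/
noncomputable abbrev f₁ : K.X₁ ⟶ K.RZ := pullback.fst K.bZ K.π

/-- The second projection of `X₁`. -/
noncomputable abbrev b₁ : K.X₁ ⟶ D.T := pullback.snd K.bZ K.π

theorem isPullback_X₁ : IsPullback ((yon S).map (K.f₁ ≫ K.aZ)) ((yon S).map K.b₁) K.cZ D.c := by
  rw [← K.π_cZ, Functor.map_comp]
  exact ((IsPullback.of_hasPullback K.bZ K.π).map (yon S)).paste_horiz K.sqZ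

theorem exists_θ : ∃ θ : D.R2 ⟶ K.RZ, Etale θ.left ∧ Surjective θ.left ∧ θ ≫ K.aZ = D.ra ≫ K.π ∧
    θ ≫ K.bZ = D.rb ≫ K.π := by
  let X₂ : Over S := pullback (K.f₁ ≫ K.aZ) K.π
  let f₂ : X₂ ⟶ K.X₁ := pullback.fst (K.f₁ ≫ K.aZ) K.π
  let a₂ : X₂ ⟶ D.T := pullback.snd (K.f₁ ≫ K.aZ) K.π
  have sq₂ : IsPullback ((yon S).map a₂) ((yon S).map (f₂ ≫ K.b₁)) D.c D.c := by
    have h := ((IsPullback.of_hasPullback (K.f₁ ≫ K.aZ) K.π).map (yon S)).flip.paste_vert K.isPullback_X₁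
    rw [← Functor.map_comp, K.π_cZ] at h
    exact h
  obtain ⟨ψ, hψa, hψb⟩ : ∃ ψ : X₂ ⟶ D.R2, ψ ≫ D.ra = a₂ ∧ ψ ≫ D.rb = f₂ ≫ K.b₁ := D.exists_pair sq₂.w
  obtain ⟨ψ', hψ'a, hψ'b⟩ := exists_rel_lift sq₂ D.ra D.rb D.isPullback_R2.w
  have hψψ' : ψ' ≫ ψ = 𝟙 D.R2 := (yon S).map_injective (D.isPullback_R2.hom_ext
    (by rw [← Functor.map_comp, ← Functor.map_comp, Category.assoc, hψa, hψ'a, Category.id_comp])
    (by rw [← Functor.map_comp, ← Functor.map_comp, Category.assoc, hψb, hψ'b, Category.id_comp]))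
  have hψ'ψ : ψ ≫ ψ' = 𝟙 X₂ := (yon S).map_injective (sq₂.hom_ext
    (by rw [← Functor.map_comp, ← Functor.map_comp, Category.assoc, hψ'a, hψa, Category.id_comp])
    (by rw [← Functor.map_comp, ← Functor.map_comp, Category.assoc, hψ'b, hψb, Category.id_comp]))
  obtain ⟨hf₁e, hf₁s⟩ := K.etale_surj_of_isPullback (IsPullback.of_hasPullback K.bZ K.π)
  obtain ⟨hf₂e, hf₂s⟩ := K.etale_surj_of_isPullback (IsPullback.of_hasPullback (K.f₁ ≫ K.aZ) K.π)
  have : IsIso ψ'.left := ⟨ψ.left, by rw [← Over.comp_left, hψψ']; rfl, by rw [← Over.comp_left, hψ'ψ]; rfl⟩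
  refine ⟨ψ' ≫ f₂ ≫ K.f₁, inferInstanceAs (Etale (ψ'.left ≫ f₂.left ≫ K.f₁.left)),
    inferInstanceAs (Surjective (ψ'.left ≫ f₂.left ≫ K.f₁.left)), ?_, ?_⟩
  · simp only [Category.assoc]
    rw [show f₂ ≫ K.f₁ ≫ K.aZ = a₂ ≫ K.π from pullback.condition, reassoc_of% hψ'a]
  · simp only [Category.assoc]
    rw [show K.f₁ ≫ K.bZ = K.b₁ ≫ K.π from pullback.condition, reassoc_of% hψ'b]

/-- The map of pairs. -/
noncomputable def θ : D.R2 ⟶ K.RZ := K.exists_θ.choose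

instance etale_θ : Etale K.θ.left := K.exists_θ.choose_spec.1

instance surjective_θ : Surjective K.θ.left := K.exists_θ.choose_spec.2.1

theorem θ_aZ : K.θ ≫ K.aZ = D.ra ≫ K.π := K.exists_θ.choose_spec.2.2.1

theorem θ_bZ : K.θ ≫ K.bZ = D.rb ≫ K.π := K.exists_θ.choose_spec.2.2.2

/-- The pairs of pieces coming from pairs with agreeing pieces. -/
noncomputable def EZo : K.RZ.left.Opens := ⟨K.θ.left '' (D.E : Set D.R2.left), K.θ.left.isOpenMap _ D.E.2⟩

theorem mem_EZo_iff (r : D.R2.left) : K.θ.left r ∈ K.EZo ↔ r ∈ D.E := by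
  refine ⟨fun ⟨r₀, hr, hrr⟩ => ?_, fun h => ⟨r, h, rfl⟩⟩
  obtain ⟨ξ, hξ, hξ'⟩ : ∃ ξ : (pullback K.θ K.θ).left, (pullback.fst K.θ K.θ).left ξ = r₀ ∧
      (pullback.snd K.θ K.θ).left ξ = r := Scheme.exists_preimage_of_isPullback
    ((IsPullback.of_hasPullback K.θ K.θ).map (Over.forget S)) r₀ r hrr
  let i := openOverι _ ((pullback.fst K.θ K.θ).left ⁻¹ᵁ D.E)
  have h := (D.same_iff (i ≫ pullback.fst K.θ K.θ)).2 fun x => x.2
  have e1 : ((i ≫ pullback.fst K.θ K.θ) ≫ D.ra) ≫ K.π = ((i ≫ pullback.snd K.θ K.θ) ≫ D.ra) ≫ K.π := by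
    rw [Category.assoc _ D.ra K.π, Category.assoc _ D.ra K.π, ← K.θ_aZ, Category.assoc i, Category.assoc i,
      pullback.condition_assoc]
  have e2 : ((i ≫ pullback.fst K.θ K.θ) ≫ D.rb) ≫ K.π = ((i ≫ pullback.snd K.θ K.θ) ≫ D.rb) ≫ K.π := by
    rw [Category.assoc _ D.rb K.π, Category.assoc _ D.rb K.π, ← K.θ_bZ, Category.assoc i, Category.assoc i,
      pullback.condition_assoc]
  have h' := ((((K.π_rel _ _).1 e1).2.symm).trans h).trans ((K.π_rel _ _).1 e2).2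
  have := (D.same_iff _).1 h' ⟨ξ, by show (pullback.fst K.θ K.θ).left ξ ∈ D.E; rw [hξ]; exact hr⟩
  rw [Over.comp_left, Scheme.Hom.comp_apply] at this
  exact hξ' ▸ this

/-- The relation on points of the pieces. -/
def Rel {X : Over S} (a b : X ⟶ K.Z) : Prop :=
  ∃ r : X ⟶ K.RZ, r ≫ K.aZ = a ∧ r ≫ K.bZ = b ∧ ∀ x, r.left x ∈ K.EZo

theorem hom_ext_RZ {X : Over S} {x y : X ⟶ K.RZ} (h1 : x ≫ K.aZ = y ≫ K.aZ) (h2 : x ≫ K.bZ = y ≫ K.bZ) : x = y :=
  (yon S).map_injective (K.sqZ.hom_ext (by rw [← Functor.map_comp, ← Functor.map_comp, h1])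
    (by rw [← Functor.map_comp, ← Functor.map_comp, h2]))

theorem rel_iff {X X' : Over S} {φ : X' ⟶ X} (hφ : fppf φ.left) {a b : X ⟶ K.Z} {a' b' : X' ⟶ D.T}
    (ha : a' ≫ K.π = φ ≫ a) (hb : b' ≫ K.π = φ ≫ b) : K.Rel a b ↔ D.Same a' b' := by
  have hab' : (yon S).map φ ≫ (yon S).map a ≫ K.cZ = (yon S).map a' ≫ D.c := by
    rw [← Category.assoc, ← Functor.map_comp, ← ha, Functor.map_comp, Category.assoc, K.π_cZ]
  have hab'' : (yon S).map φ ≫ (yon S).map b ≫ K.cZ = (yon S).map b' ≫ D.c := by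
    rw [← Category.assoc, ← Functor.map_comp, ← hb, Functor.map_comp, Category.assoc, K.π_cZ]
  constructor
  · rintro ⟨r, rfl, rfl, hr⟩
    obtain ⟨r', hr'a, hr'b⟩ := D.exists_pair (a := a') (b := b') (by
      rw [← hab', ← hab'', (yon S).map_comp r, (yon S).map_comp r, Category.assoc, Category.assoc, K.sqZ.w])
    have e : r' ≫ K.θ = φ ≫ r := K.hom_ext_RZ
      (by rw [Category.assoc, K.θ_aZ, ← Category.assoc r', hr'a, ha, Category.assoc])
      (by rw [Category.assoc, K.θ_bZ, ← Category.assoc r', hr'b, hb, Category.assoc])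
    rw [← hr'a, ← hr'b]
    refine (D.same_iff r').2 fun x => (K.mem_EZo_iff _).1 ?_
    rw [← Scheme.Hom.comp_apply, ← Over.comp_left, e, Over.comp_left, Scheme.Hom.comp_apply]
    exact hr _
  · intro h
    obtain ⟨r, hra, hrb⟩ := exists_rel_lift K.sqZ a b (hom_ext_of_fppf φ hφ _ _ (by rw [hab', hab'', h.1]))
    obtain ⟨r', hr'a, hr'b⟩ := D.exists_pair h.1
    have e : r' ≫ K.θ = φ ≫ r := K.hom_ext_RZ
      (by rw [Category.assoc, K.θ_aZ, ← Category.assoc r', hr'a, ha, Category.assoc, hra])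
      (by rw [Category.assoc, K.θ_bZ, ← Category.assoc r', hr'b, hb, Category.assoc, hrb])
    refine ⟨r, hra, hrb, fun x => ?_⟩
    have : Surjective φ.left := hφ.1.1
    obtain ⟨x', rfl⟩ := φ.left.surjective x
    rw [← Scheme.Hom.comp_apply, ← Over.comp_left, ← e, Over.comp_left, Scheme.Hom.comp_apply, K.mem_EZo_iff]
    rw [← hr'a, ← hr'b] at h
    exact (D.same_iff r').1 h x'

theorem exists_lift_π {X : Over S} (a : X ⟶ K.Z) : ∃ (X' : Over S) (φ : X' ⟶ X) (a' : X' ⟶ D.T),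
    fppf φ.left ∧ a' ≫ K.π = φ ≫ a := by
  obtain ⟨h1, h2⟩ := K.etale_surj_of_isPullback (IsPullback.of_hasPullback a K.π)
  exact ⟨_, pullback.fst a K.π, pullback.snd a K.π, fppf_of_etale _, pullback.condition.symm⟩

theorem exists_lift_π₂ {X : Over S} (a b : X ⟶ K.Z) : ∃ (X' : Over S) (φ : X' ⟶ X) (a' b' : X' ⟶ D.T),
    fppf φ.left ∧ a' ≫ K.π = φ ≫ a ∧ b' ≫ K.π = φ ≫ b := by
  obtain ⟨X', φ, a', hφ, ha⟩ := K.exists_lift_π a
  obtain ⟨X'', φ', b', hφ', hb⟩ := K.exists_lift_π (φ ≫ b)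
  exact ⟨X'', φ' ≫ φ, φ' ≫ a', b', MorphismProperty.comp_mem _ φ'.left φ.left hφ' hφ,
    by rw [Category.assoc, ha, Category.assoc], by rw [hb, Category.assoc]⟩

theorem rel_refl {X : Over S} (a : X ⟶ K.Z) : K.Rel a a := by
  obtain ⟨X', φ, a', hφ, ha⟩ := K.exists_lift_π a
  exact (K.rel_iff hφ ha ha).2 (Same.refl a')

theorem rel_symm {X : Over S} {a b : X ⟶ K.Z} (h : K.Rel a b) : K.Rel b a := by
  obtain ⟨X', φ, a', b', hφ, ha, hb⟩ := K.exists_lift_π₂ a b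
  exact (K.rel_iff hφ hb ha).2 ((K.rel_iff hφ ha hb).1 h).symm

theorem rel_trans {X : Over S} {a b d : X ⟶ K.Z} (h : K.Rel a b) (h' : K.Rel b d) : K.Rel a d := by
  obtain ⟨X', φ, a', b', hφ, ha, hb⟩ := K.exists_lift_π₂ a b
  obtain ⟨X'', φ', d', hφ', hd⟩ := K.exists_lift_π (φ ≫ d)
  have hc' : fppf (φ' ≫ φ).left := MorphismProperty.comp_mem _ φ'.left φ.left hφ' hφ
  have ha' : (φ' ≫ a') ≫ K.π = (φ' ≫ φ) ≫ a := by rw [Category.assoc, ha, Category.assoc]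
  have hb' : (φ' ≫ b') ≫ K.π = (φ' ≫ φ) ≫ b := by rw [Category.assoc, hb, Category.assoc]
  have hd' : d' ≫ K.π = (φ' ≫ φ) ≫ d := by rw [hd, Category.assoc]
  exact (K.rel_iff hc' ha' hd').2 (((K.rel_iff hc' ha' hb').1 h).trans ((K.rel_iff hc' hb' hd').1 h'))

theorem isEqvRel : IsEqvRel (openOverι K.RZ K.EZo ≫ K.bZ) (openOverι K.RZ K.EZo ≫ K.aZ) := by
  let i := openOverι K.RZ K.EZo
  have : IsOpenImmersion i.left := inferInstanceAs (IsOpenImmersion K.EZo.ι)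
  have : Mono i := (Over.forget S).mono_of_mono_map (inferInstanceAs (Mono K.EZo.ι))
  have hrel : ∀ {X : Over S} (a b : X ⟶ K.Z),
      (∃ r : X ⟶ openOver K.RZ K.EZo, r ≫ i ≫ K.aZ = a ∧ r ≫ i ≫ K.bZ = b) ↔ K.Rel a b := by
    intro X a b
    constructor
    · rintro ⟨r, rfl, rfl⟩
      exact ⟨r ≫ i, Category.assoc _ _ _, Category.assoc _ _ _, fun x => (r.left x).2⟩
    · rintro ⟨r, rfl, rfl, hr⟩
      obtain ⟨r', hr'⟩ := exists_factor_openImm i r fun x => by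
        show _ ∈ Set.range K.EZo.ι
        rw [Scheme.Opens.range_ι]
        exact hr x
      exact ⟨r', by rw [reassoc_of% hr'], by rw [reassoc_of% hr']⟩
  exact ⟨fun X r r' h1 h2 => (cancel_mono i).1 (K.hom_ext_RZ (by rw [Category.assoc, h1, Category.assoc])
      (by rw [Category.assoc, h2, Category.assoc])),
    fun X => ⟨fun a => (hrel a a).2 (K.rel_refl a), fun {a b} h => (hrel b a).2 (K.rel_symm ((hrel a b).1 h)),
      fun {a b d} h h' => (hrel a d).2 (K.rel_trans ((hrel a b).1 h) ((hrel b d).1 h'))⟩⟩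

theorem exists_ν : ∃ ν : K.X₁ ⟶ D.Q, ν ≫ D.cq = K.f₁ ≫ K.aZ ≫ K.ζ ∧ ν ≫ D.sn = K.b₁ ∧ Etale ν.left := by
  have hw : (yon S).map (K.f₁ ≫ K.aZ ≫ K.ζ) ≫ p = (yon S).map K.b₁ ≫ D.c := by
    rw [← K.isPullback_X₁.w, ← Category.assoc K.f₁, (yon S).map_comp (K.f₁ ≫ K.aZ), Category.assoc]
  obtain ⟨ν, hνc, hνs⟩ := D.exists_lift _ _ hw
  refine ⟨ν, hνc, hνs, ?_⟩
  have e : ν ≫ D.cq = (K.f₁ ≫ K.aZ) ≫ K.ζ := by rw [hνc, Category.assoc]
  have sqν : IsPullback ν (K.f₁ ≫ K.aZ) D.cq K.ζ := by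
    refine IsPullback.of_map (yon S) e ?_
    refine (IsPullback.of_bot ?_ ?_ D.sq).flip
    · rw [← Functor.map_comp, hνs]
      exact K.isPullback_X₁
    · rw [← Functor.map_comp, ← Functor.map_comp, e]
  exact MorphismProperty.of_isPullback (P := @Etale) (sqν.map (Over.forget S)).flip K.etaleζ

theorem exists_piece_iso (hCov : D.Cov) : IsFinite (openOverι K.RZ K.EZo ≫ K.bZ).left ∧
    Flat (openOverι K.RZ K.EZo ≫ K.bZ).left ∧ LocallyOfFinitePresentation (openOverι K.RZ K.EZo ≫ K.bZ).left := by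
  obtain ⟨ν, hνc, hνs, hνe⟩ := K.exists_ν
  let E₁ : K.X₁.left.Opens := K.f₁.left ⁻¹ᵁ K.EZo
  let j := openOverι K.X₁ E₁
  have : IsOpenImmersion j.left := inferInstanceAs (IsOpenImmersion E₁.ι)
  have : Mono j := (Over.forget S).mono_of_mono_map (inferInstanceAs (Mono E₁.ι))
  have hinP : ∀ x, (j ≫ ν).left x ∈ D.P := by
    intro x
    let f₂ := pullback.fst (K.f₁ ≫ K.aZ) K.π
    let a₂ := pullback.snd (K.f₁ ≫ K.aZ) K.π
    have hc₂ : f₂ ≫ K.f₁ ≫ K.aZ = a₂ ≫ K.π := pullback.condition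
    obtain ⟨hf₂e, hf₂s⟩ := K.etale_surj_of_isPullback (IsPullback.of_hasPullback (K.f₁ ≫ K.aZ) K.π)
    obtain ⟨ξ, hξ⟩ := f₂.left.surjective (j.left x)
    let X₀ := f₂.left ⁻¹ᵁ E₁
    let k := openOverι _ X₀
    have hξ0 : ξ ∈ X₀ := by show f₂.left ξ ∈ E₁; rw [hξ]; exact x.2
    have hrel : K.Rel (k ≫ f₂ ≫ K.f₁ ≫ K.aZ) (k ≫ f₂ ≫ K.f₁ ≫ K.bZ) :=
      ⟨k ≫ f₂ ≫ K.f₁, by simp only [Category.assoc], by simp only [Category.assoc], fun y => y.2⟩
    have hs := (K.rel_iff (φ := 𝟙 _) (fppf_of (𝟙 _)) (a' := k ≫ a₂) (b' := k ≫ f₂ ≫ K.b₁)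
      (by rw [Category.id_comp, Category.assoc, hc₂])
      (by rw [Category.id_comp, Category.assoc, Category.assoc, pullback.condition])).1 hrel
    have := (hs.2 (𝟙 _) ((k ≫ a₂) ≫ D.σ) (k ≫ f₂ ≫ ν)
      (by rw [Category.assoc, D.σsn, Category.comp_id, Category.id_comp])
      (by rw [Category.assoc, Category.assoc, hνs, Category.id_comp])
      (by
        rw [Category.assoc, Category.assoc, Category.assoc, Category.assoc, D.σcq, hνc, ← K.πζ,
          reassoc_of% hc₂])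
      ⟨ξ, hξ0⟩).1 (D.memP _)
    simp only [Over.comp_left, Scheme.Hom.comp_apply] at this ⊢
    rw [← hξ]
    exact this
  have hP : IsFinite (D.P.ι ≫ D.sn.left) := D.finP
  have : IsOpenImmersion (openOverι D.Q D.P).left := inferInstanceAs (IsOpenImmersion D.P.ι)
  obtain ⟨μ, hμ⟩ := exists_factor_openImm (openOverι D.Q D.P) (j ≫ ν) fun x => by
    show _ ∈ Set.range D.P.ι
    rw [Scheme.Opens.range_ι]
    exact hinP x
  have hμe : Etale μ.left := by
    have : Etale (μ.left ≫ (openOverι D.Q D.P).left) := by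
      rw [← Over.comp_left, hμ, Over.comp_left]; infer_instance
    exact Etale.of_comp μ.left (openOverι D.Q D.P).left
  have hμm : Mono μ := ⟨fun {X} x y hxy => by
    have hν : (x ≫ j) ≫ ν = (y ≫ j) ≫ ν := by rw [Category.assoc, Category.assoc, ← hμ, reassoc_of% hxy]
    have h1 : (x ≫ j) ≫ K.b₁ = (y ≫ j) ≫ K.b₁ := by
      rw [← hνs, ← Category.assoc (x ≫ j), hν, Category.assoc]
    have h2 : ((x ≫ j) ≫ K.f₁ ≫ K.aZ) ≫ K.ζ = ((y ≫ j) ≫ K.f₁ ≫ K.aZ) ≫ K.ζ := by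
      rw [Category.assoc (x ≫ j), Category.assoc (y ≫ j), Category.assoc K.f₁, ← hνc, ← Category.assoc (x ≫ j),
        hν, Category.assoc]
    have hb : (x ≫ j) ≫ K.f₁ ≫ K.bZ = (y ≫ j) ≫ K.f₁ ≫ K.bZ := by
      rw [pullback.condition, ← Category.assoc (x ≫ j), h1, Category.assoc]
    have hx : K.Rel ((x ≫ j) ≫ K.f₁ ≫ K.aZ) ((x ≫ j) ≫ K.f₁ ≫ K.bZ) :=
      ⟨(x ≫ j) ≫ K.f₁, Category.assoc _ _ _, Category.assoc _ _ _, fun z => (x.left z).2⟩
    have hy : K.Rel ((y ≫ j) ≫ K.f₁ ≫ K.aZ) ((y ≫ j) ≫ K.f₁ ≫ K.bZ) :=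
      ⟨(y ≫ j) ≫ K.f₁, Category.assoc _ _ _, Category.assoc _ _ _, fun z => (y.left z).2⟩
    rw [← hb] at hy
    have hxy' := K.rel_trans hx (K.rel_symm hy)
    obtain ⟨X', φ, a', b', hφ, ha, hb'⟩ := K.exists_lift_π₂ ((x ≫ j) ≫ K.f₁ ≫ K.aZ) ((y ≫ j) ≫ K.f₁ ≫ K.aZ)
    have hS := (K.rel_iff hφ ha hb').1 hxy'
    have hτ : a' ≫ D.τ = b' ≫ D.τ := by
      rw [← K.πζ, ← Category.assoc a', ha, ← Category.assoc b', hb', Category.assoc φ, h2, ← Category.assoc φ]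
    have hz : (x ≫ j) ≫ K.f₁ ≫ K.aZ = (y ≫ j) ≫ K.f₁ ≫ K.aZ := (yon S).map_injective (hom_ext_of_fppf φ hφ _ _ (by
      rw [← Functor.map_comp, ← Functor.map_comp, ← ha, ← hb', (K.π_rel a' b').2 ⟨hτ, hS⟩]))
    refine (cancel_mono j).1 (pullback.hom_ext (K.hom_ext_RZ ?_ ?_) h1)
    · rw [Category.assoc, Category.assoc (y ≫ j), hz]
    · rw [Category.assoc, Category.assoc (y ≫ j), hb]⟩
  have hμs : ∀ z, ∃ x, μ.left x = z := by
    intro z
    obtain ⟨r, hr, hrz⟩ := hCov z.1 z.2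
    let k := openOverι D.R2 D.E
    have hs := ((D.same_iff k).2 fun y => y.2).symm
    have hw₁ : (yon S).map ((k ≫ D.rb) ≫ K.π) ≫ K.cZ = (yon S).map (k ≫ D.ra) ≫ D.c := by
      rw [(yon S).map_comp (k ≫ D.rb) K.π, Category.assoc, K.π_cZ]; exact hs.1
    obtain ⟨w, hw₂⟩ := (yon S).map_surjective (K.isPullback_X₁.lift _ _ hw₁)
    have hwa : w ≫ K.f₁ ≫ K.aZ = (k ≫ D.rb) ≫ K.π :=
      (yon S).map_injective (by rw [(yon S).map_comp w, hw₂, K.isPullback_X₁.lift_fst])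
    have hwb : w ≫ K.b₁ = k ≫ D.ra :=
      (yon S).map_injective (by rw [(yon S).map_comp w, hw₂, K.isPullback_X₁.lift_snd])
    have hwb' : w ≫ K.f₁ ≫ K.bZ = (k ≫ D.ra) ≫ K.π := by
      rw [pullback.condition, ← Category.assoc, hwb]
    obtain ⟨v, hv1, hv2, hvE⟩ := (K.rel_iff (φ := 𝟙 _) (fppf_of (𝟙 _)) (Category.id_comp _).symm
      (Category.id_comp _).symm).2 hs
    have e : w ≫ K.f₁ = v := K.hom_ext_RZ (by rw [Category.assoc, hwa, hv1]) (by rw [Category.assoc, hwb', hv2])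
    have hwE : ∀ y, w.left y ∈ E₁ := fun y => by
      show K.f₁.left (w.left y) ∈ K.EZo
      rw [← Scheme.Hom.comp_apply, ← Over.comp_left, e]
      exact hvE y
    have hwν : w ≫ ν = k ≫ pullback.fst D.cq D.τ := D.hom_ext
      (by rw [Category.assoc, hνc, ← Category.assoc K.f₁, ← Category.assoc w, hwa, Category.assoc k _ D.cq,
        pullback.condition, Category.assoc, Category.assoc, K.πζ])
      (by rw [Category.assoc, hνs, hwb, Category.assoc])
    refine ⟨⟨w.left ⟨r, hr⟩, hwE _⟩, (openOverι D.Q D.P).left.isOpenEmbedding.injective ?_⟩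
    rw [← Scheme.Hom.comp_apply, ← Over.comp_left, hμ, Over.comp_left, Scheme.Hom.comp_apply]
    show ν.left (w.left ⟨r, hr⟩) = z.1
    rw [← Scheme.Hom.comp_apply, ← Over.comp_left, hwν, Over.comp_left, Scheme.Hom.comp_apply]
    exact hrz
  have hμi : IsIso μ := isIso_of_etale_mono_surjective μ hμs
  have hjb : j ≫ K.b₁ = μ ≫ openOverι D.Q D.P ≫ D.sn := by rw [reassoc_of% hμ, hνs]
  have hjb' : (j ≫ K.b₁).left = μ.left ≫ (D.P.ι ≫ D.sn.left) := by rw [hjb]; rfl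
  have : IsIso μ.left := inferInstanceAs (IsIso ((Over.forget S).map μ))
  have hfin : IsFinite (j ≫ K.b₁).left := by rw [hjb']; infer_instance
  have hflat : Flat (j ≫ K.b₁).left := by rw [hjb']; infer_instance
  have hlfp : LocallyOfFinitePresentation (j ≫ K.b₁).left := by rw [hjb']; infer_instance
  obtain ⟨f', hf'1, sqE⟩ := exists_res K.f₁ K.EZo (rfl : K.f₁.left ⁻¹ᵁ K.EZo = E₁)
  exact finFlat_of_isPullback (sqE.flip.paste_vert (IsPullback.of_hasPullback K.bZ K.π)) (fppf_of_etale K.π.left)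

end Pieces

end Split

end Groth.Agent.AlgSpDec
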