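import Groth.Agent.AlgSpDec.DecentDense
import Groth.Agent.AlgSpDec.MonoPoint
import Groth.Agent.AlgSpDec.FinsetAffine
import Groth.Agent.AlgSpDec.FreeAction
import Groth.Agent.AlgSpDec.MonoQuot
import Groth.Agent.AlgSpDec.LqfSplitEZ
import Groth.Agent.AlgSpPts.Quot
import Groth.Agent.SGA1Q.SigmaFinite
import Mathlib.AlgebraicGeometry.Sites.EtalePoint
import Mathlib.GroupTheory.Perm.Basic
import Mathlib.Algebra.Group.ULift

/-!
# Elementary etale neighbourhoods in decent spaces
-/

set_option backward.isDefEq.respectTransparency false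
set_option backward.isDefEq.respectTransparency.types false

universe u

open CategoryTheory Limits Opposite AlgebraicGeometry AlgSp Groth.Agent.AlgSpLib Groth.Agent.AlgSpPts

namespace Groth.Agent.AlgSpDec.ElemNbhd

variable {S : Scheme.{u}} {X : Sp S} {U : Over S} {a : (yon S).obj U ⟶ X}

/-- Iterated fibre products of a chart with itself. -/
theorem exists_power (ha : RepWith @Etale a) [IsSeparated (ha.rep.snd a).left] (n : ℕ) :
    ∃ (P : Over S) (pr : Fin (n + 1) → (P ⟶ U)), Etale (pr 0).left ∧ IsSeparated (pr 0).left ∧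
      (∀ i, (yon S).map (pr i) ≫ a = (yon S).map (pr 0) ≫ a) ∧
      ∀ (T : Over S) (v : Fin (n + 1) → (T ⟶ U)),
        (∀ i, (yon S).map (v i) ≫ a = (yon S).map (v 0) ≫ a) → ∃! l : T ⟶ P, ∀ i, l ≫ pr i = v i := by
  induction n with
  | zero =>
    refine ⟨U, fun _ => 𝟙 U, inferInstanceAs (Etale (𝟙 U.left)), inferInstanceAs (IsSeparated (𝟙 U.left)),
      fun i => rfl, fun T v _ => ⟨v 0, fun i => by rw [Category.comp_id, Fin.fin_one_eq_zero i], fun l hl => ?_⟩⟩
    simpa using hl 0
  | succ n ih =>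
    obtain ⟨P, pr, hpe, hps, hw, huniv⟩ := ih
    let R := ha.rep.pullback a
    let P' : Over S := pullback (pr 0) (ha.rep.snd a)
    let q : P' ⟶ P := pullback.fst _ _
    let r : P' ⟶ R := pullback.snd _ _
    let pr' : Fin (n + 2) → (P' ⟶ U) := Fin.snoc (fun i => q ≫ pr i) (r ≫ ha.rep.fst' a)
    have hc : ∀ i : Fin (n + 1), pr' (Fin.castSucc i) = q ≫ pr i := fun i =>
      Fin.snoc_castSucc (α := fun _ => P' ⟶ U) _ _ _
    have hl : pr' (Fin.last (n + 1)) = r ≫ ha.rep.fst' a := Fin.snoc_last (α := fun _ => P' ⟶ U) _ _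
    have h0 : pr' 0 = q ≫ pr 0 := hc 0
    have sq := ha.rep.isPullback' a
    have hse : Etale (ha.rep.snd a).left := ha.property_snd a
    have hsqq : IsPullback r.left q.left (ha.rep.snd a).left (pr 0).left :=
      (IsPullback.of_hasPullback (pr 0) (ha.rep.snd a)).flip.map (Over.forget S)
    have : Etale q.left := MorphismProperty.of_isPullback (P := @Etale) hsqq hse
    have : IsSeparated q.left := MorphismProperty.of_isPullback (P := @IsSeparated) hsqq ‹_›
    refine ⟨P', pr', ?_, ?_, ?_, ?_⟩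
    · rw [h0]; exact inferInstanceAs (Etale (q.left ≫ (pr 0).left))
    · rw [h0]; exact inferInstanceAs (IsSeparated (q.left ≫ (pr 0).left))
    · intro i
      refine Fin.lastCases ?_ (fun j => ?_) i
      · rw [hl, h0, Functor.map_comp, Category.assoc, sq.w, ← Functor.map_comp_assoc,
          show r ≫ ha.rep.snd a = q ≫ pr 0 from pullback.condition.symm]
      · rw [hc, h0, Functor.map_comp, Functor.map_comp, Category.assoc, Category.assoc, hw]
    · intro T v hv
      obtain ⟨l, hl₁, hl₂⟩ := huniv T (fun i => v (Fin.castSucc i)) (fun i => (hv _).trans (hv _).symm)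
      obtain ⟨rr, hr⟩ := (yon S).map_surjective (sq.lift ((yon S).map (v (Fin.last _))) ((yon S).map (v 0)) (hv _))
      have hr1 : rr ≫ ha.rep.fst' a = v (Fin.last _) := (yon S).map_injective (by
        rw [Functor.map_comp, hr, sq.lift_fst])
      have hr2 : rr ≫ ha.rep.snd a = v 0 := (yon S).map_injective (by
        rw [Functor.map_comp, hr, sq.lift_snd])
      refine ⟨pullback.lift l rr ((hl₁ 0).trans hr2.symm), fun i => ?_, fun l' hl' => ?_⟩
      · refine Fin.lastCases ?_ (fun j => ?_) i
        · rw [hl, ← Category.assoc, pullback.lift_snd, hr1]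
        · rw [hc, ← Category.assoc, pullback.lift_fst, hl₁]
      · apply pullback.hom_ext
        · rw [pullback.lift_fst]
          exact hl₂ _ fun i => by rw [Category.assoc]; show l' ≫ q ≫ pr i = _; rw [← hc]; exact hl' _
        · rw [pullback.lift_snd]
          refine (yon S).map_injective (sq.hom_ext ?_ ?_)
          · rw [← Functor.map_comp, ← Functor.map_comp, Category.assoc, hr1]
            refine congrArg (yon S).map ?_
            show l' ≫ r ≫ ha.rep.fst' a = _
            rw [← hl]; exact hl' _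
          · rw [← Functor.map_comp, ← Functor.map_comp, Category.assoc, hr2]
            refine congrArg (yon S).map ?_
            show l' ≫ r ≫ ha.rep.snd a = _
            rw [show r ≫ ha.rep.snd a = q ≫ pr 0 from pullback.condition.symm, ← h0]
            exact hl' _

/-- Where two maps to a chart with the same composite agree is the preimage of the diagonal. -/
theorem exists_apart (ha : RepWith @Etale a) [IsSeparated (ha.rep.snd a).left] {P : Over S} (x y : P ⟶ U)
    (h : (yon S).map x ≫ a = (yon S).map y ≫ a) :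
    ∃ O : P.left.Opens, ∀ (T : Over S) (g : T ⟶ P),
      ((∀ t, g.left t ∈ O) → Nonempty ↥T.left → g ≫ x ≠ g ≫ y) ∧
        ((∀ t, g.left t ∉ O) → g ≫ x = g ≫ y) := by
  have sq := ha.rep.isPullback' a
  obtain ⟨e, het, hes⟩ := exists_rel_lift sq (𝟙 U) (𝟙 U) rfl
  obtain ⟨l, hlx, hly⟩ := exists_rel_lift sq x y h
  have : Etale (ha.rep.snd a).left := ha.property_snd a
  have he : e.left ≫ (ha.rep.snd a).left = 𝟙 U.left := by rw [← Over.comp_left, hes]; rfl
  have hcomp : IsClosedImmersion (e.left ≫ (ha.rep.snd a).left) := by rw [he]; infer_instance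
  have hcl : IsClosedImmersion e.left := IsClosedImmersion.of_comp _ (ha.rep.snd a).left
  have hetc : Etale (e.left ≫ (ha.rep.snd a).left) := by rw [he]; infer_instance
  have : Etale e.left := Etale.of_comp _ (ha.rep.snd a).left
  have : IsOpenImmersion e.left := IsOpenImmersion.of_flat_of_mono _
  refine ⟨⟨(l.left ⁻¹' Set.range e.left)ᶜ,
    (e.left.isClosedEmbedding.isClosed_range.preimage l.left.continuous).isOpen_compl⟩, fun T g => ⟨?_, ?_⟩⟩
  · intro hO ⟨t⟩ hxy
    have hge : g ≫ l = (g ≫ x) ≫ e := (yon S).map_injective (sq.hom_ext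
      (by rw [← Functor.map_comp, ← Functor.map_comp, Category.assoc, hlx, Category.assoc, het, Category.comp_id])
      (by rw [← Functor.map_comp, ← Functor.map_comp, Category.assoc, hly, Category.assoc, hes, Category.comp_id,
        hxy]))
    refine hO t ⟨(g ≫ x).left t, ?_⟩
    rw [← Scheme.Hom.comp_apply, ← Scheme.Hom.comp_apply g.left, ← Over.comp_left, ← Over.comp_left, hge]
  · intro hO
    obtain ⟨k, hk⟩ := exists_factor_openImm e (g ≫ l) fun t => not_not.1 (hO t)
    calc g ≫ x = (g ≫ l) ≫ ha.rep.fst' a := by rw [Category.assoc, hlx]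
      _ = (g ≫ l) ≫ ha.rep.snd a := by rw [← hk, Category.assoc, het, Category.assoc, hes]
      _ = g ≫ y := by rw [Category.assoc, hly]

/-- The locus of tuples with distinct entries. -/
theorem exists_distinct (ha : RepWith @Etale a) [IsSeparated (ha.rep.snd a).left] {n : ℕ} {P : Over S}
    (pr : Fin (n + 1) → (P ⟶ U)) (hw : ∀ i, (yon S).map (pr i) ≫ a = (yon S).map (pr 0) ≫ a) :
    ∃ W : P.left.Opens, ∀ (T : Over S) (g : T ⟶ P) (t₀ : ↥T.left), (∀ t, g.left t = g.left t₀) →
      (g.left t₀ ∈ W ↔ Function.Injective fun i => g ≫ pr i) := by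
  have key := fun p : Fin (n + 1) × Fin (n + 1) =>
    exists_apart ha (pr p.1) (pr p.2) ((hw _).trans (hw _).symm)
  choose O hO using key
  let W : P.left.Opens := ⨅ p : {p : Fin (n + 1) × Fin (n + 1) // p.1 ≠ p.2}, O p.1
  refine ⟨W, fun T g t₀ ht => ?_⟩
  have hmem : g.left t₀ ∈ W ↔ ∀ p : {p : Fin (n + 1) × Fin (n + 1) // p.1 ≠ p.2}, g.left t₀ ∈ O p.1 := by
    rw [← SetLike.mem_coe, TopologicalSpace.Opens.coe_iInf, Set.mem_iInter]
    rfl
  rw [hmem]
  constructor
  · intro h i j hij
    by_contra hne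
    exact (hO (i, j) T g).1 (fun t => by rw [ht]; exact h ⟨(i, j), hne⟩) ⟨t₀⟩ hij
  · intro h p
    by_contra hp
    exact p.2 (h ((hO p.1 T g).2 fun t => by rw [ht]; exact hp))

theorem representable_of_space (hX : IsAlgSpace X) {M : Over S} (m : (yon S).obj M ⟶ X) : Representable m :=
  Functor.relativelyRepresentable.of_diag hX.diag _

/-- A map from a scheme is etale if it is so after an etale surjection. -/
theorem repWith_etale_of_precomp {V M : Over S} {m : (yon S).obj M ⟶ X} (hm : Representable m) (q : V ⟶ M)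
    [Etale q.left] [Surjective q.left] (h : RepWith @Etale ((yon S).map q ≫ m)) : RepWith @Etale m := by
  refine ⟨hm, fun T W g fst snd sq => ?_⟩
  obtain ⟨fst, rfl⟩ := (yon S).map_surjective fst
  let q' := pullback.fst fst q
  have sqq : IsPullback q'.left (pullback.snd fst q).left fst.left q.left :=
    (IsPullback.of_hasPullback fst q).map (Over.forget S)
  have he : Etale q'.left := MorphismProperty.of_isPullback (P := @Etale) sqq.flip ‹_›
  have hs : Surjective q'.left := MorphismProperty.of_isPullback (P := @Surjective) sqq.flip ‹_›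
  have sqc : IsPullback ((yon S).map (pullback.snd fst q)) ((yon S).map (q' ≫ snd)) ((yon S).map q ≫ m) g := by
    rw [Functor.map_comp]
    exact ((IsPullback.of_hasPullback fst q).flip.map (yon S)).paste_vert sq
  have : Etale (q'.left ≫ snd.left) := h.property _ _ _ sqc
  exact IsEtLocal.of_precomp q'.left snd.left he hs this

/-- A free action of a finite group on an affine etale chart induces an affine etale chart. -/
theorem exists_quotient_chart (hX : IsAlgSpace X) {V : Over S} [IsAffine V.left] {G : Type u} [Group G] [Finite G]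
    (ρ : G →* Aut V) (hfree : ∀ (g : G) (x : V.left), g ≠ 1 →
      V.left.fromSpecResidueField x ≫ (ρ g).hom.left ≠ V.left.fromSpecResidueField x)
    {pU : V ⟶ U} (hπ : RepWith @Etale ((yon S).map pU ≫ a))
    (hinv : ∀ g, (yon S).map ((ρ g).hom ≫ pU) ≫ a = (yon S).map pU ≫ a)
    (ha : RepWith @Etale a) :
    ∃ (M : Over S) (q : V ⟶ M) (m : (yon S).obj M ⟶ X), IsAffine M.left ∧ Etale q.left ∧ Surjective q.left ∧
      RepWith @Etale m ∧ (yon S).map q ≫ m = (yon S).map pU ≫ a ∧ ∀ g, (ρ g).hom ≫ q = q := by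
  let c := colimit.cocone (Discrete.functor fun _ : G => V)
  have hc : IsColimit c := colimit.isColimit _
  let inj : G → (V ⟶ c.pt) := fun g => Cofan.inj c g
  let s : c.pt ⟶ V := Cofan.IsColimit.desc hc fun _ => 𝟙 V
  let t : c.pt ⟶ V := Cofan.IsColimit.desc hc fun g => (ρ g).hom
  have hs : ∀ g, Cofan.inj c g ≫ s = 𝟙 V := fun g => Cofan.IsColimit.fac hc _ g
  have ht : ∀ g, Cofan.inj c g ≫ t = (ρ g).hom := fun g => Cofan.IsColimit.fac hc _ g
  have H : IsEtaleEqvRel s t := FreeAction.isEtaleEqvRel hfree hc hs ht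
  have : IsFinite s.left := by
    obtain ⟨e, he⟩ := FreeAction.exists_iso hc
    have h1 : e.hom ≫ s.left = Sigma.desc fun _ : G => 𝟙 V.left := Sigma.hom_ext _ _ fun g => by
      rw [reassoc_of% he, Sigma.ι_desc, ← Over.comp_left, hs]; rfl
    have h2 : IsFinite (Sigma.desc fun _ : G => 𝟙 V.left) :=
      SGA1Q.isFinite_sigmaDesc _ fun _ => inferInstance
    rw [← h1] at h2
    exact (MorphismProperty.cancel_left_of_respectsIso @IsFinite e.hom s.left).1 h2
  have : Etale s.left := H.etale_left
  have sqQ := isPullback_quotMap H.toIsEqvRel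
  obtain ⟨M, q, m₀, hMa, hq, hm₀, hqm⟩ := exists_quot_of_finite_relation sqQ
  have hw : t ≫ q = s ≫ q := (yon S).map_injective ((cancel_mono m₀).1 (by
    rw [Functor.map_comp, Functor.map_comp, Category.assoc, Category.assoc, hqm, sqQ.w]))
  have sqy : IsPullback ((yon S).map t) ((yon S).map s) ((yon S).map q) ((yon S).map q) := by
    refine ⟨⟨by rw [← Functor.map_comp, ← Functor.map_comp, hw]⟩, ⟨PullbackCone.isLimitAux' _ fun cc => ?_⟩⟩
    exact ⟨sqQ.lift cc.fst cc.snd (by rw [← hqm, reassoc_of% cc.condition]), sqQ.lift_fst _ _ _,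
      sqQ.lift_snd _ _ _, fun {x} h1 h2 => sqQ.hom_ext (h1.trans (sqQ.lift_fst _ _ _).symm)
        (h2.trans (sqQ.lift_snd _ _ _).symm)⟩
  obtain ⟨⟨hqs, hqf⟩, hqp⟩ := hq
  have hq' : fppf q.left := ⟨⟨hqs, hqf⟩, hqp⟩
  have : Surjective q.left := hqs
  have : Flat q.left := hqf
  have : IsAffine M.left := hMa
  have : QuasiCompact q.left := inferInstance
  have hqe : Etale q.left := MorphismProperty.of_isPullback_of_descendsAlong
    (Q := (@Surjective ⊓ @Flat ⊓ @QuasiCompact : MorphismProperty Scheme.{u})) (isPullback_of_yon sqy)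
    ⟨⟨‹Surjective q.left›, ‹Flat q.left›⟩, ‹QuasiCompact q.left›⟩ H.etale_right
  -- descend the map to the space
  have hls : Sheaf.IsLocallySurjective ((yon S).map q) :=
    isLocallySurjective_of_repWith ((repWith_yon_map_iff fppf q).2 hq')
  have hpair : (yon S).map t ≫ (yon S).map pU ≫ a = (yon S).map s ≫ (yon S).map pU ≫ a := by
    have sqR := ha.rep.isPullback' a
    choose r hr₁ hr₂ using fun g => exists_rel_lift sqR ((ρ g).hom ≫ pU) pU (hinv g)
    let rr : c.pt ⟶ ha.rep.pullback a := Cofan.IsColimit.desc hc r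
    have e1 : rr ≫ ha.rep.fst' a = t ≫ pU := Cofan.IsColimit.hom_ext hc _ _ fun g => by
      rw [← Category.assoc, Cofan.IsColimit.fac, hr₁, reassoc_of% ht g]
    have e2 : rr ≫ ha.rep.snd a = s ≫ pU := Cofan.IsColimit.hom_ext hc _ _ fun g => by
      rw [← Category.assoc, Cofan.IsColimit.fac, hr₂, reassoc_of% hs g]
    rw [← Functor.map_comp_assoc, ← Functor.map_comp_assoc, ← e1, ← e2, Functor.map_comp, Functor.map_comp,
      Category.assoc, Category.assoc, sqR.w]
  obtain ⟨m, hm⟩ := exists_desc_of_kernelPair sqy _ hpair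
  refine ⟨M, q, m, hMa, hqe, hqs, repWith_etale_of_precomp (representable_of_space hX m) q (by rw [hm]; exact hπ),
    hm, fun g => ?_⟩
  rw [← ht g, Category.assoc, hw, reassoc_of% hs g]

/-- Maps into a pullback of sheaves of schemes come from maps of schemes. -/
theorem exists_lift_yon {A B C T : Over S} {F : Sp S} {f : C ⟶ A} {g : C ⟶ B} {a : (yon S).obj A ⟶ F}
    {b : (yon S).obj B ⟶ F} (sq : IsPullback ((yon S).map f) ((yon S).map g) a b) (y : T ⟶ A) (z : T ⟶ B)
    (h : (yon S).map y ≫ a = (yon S).map z ≫ b) : ∃ l : T ⟶ C, l ≫ f = y ∧ l ≫ g = z := by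
  obtain ⟨l, hl⟩ := (yon S).map_surjective (sq.lift _ _ h)
  exact ⟨l, (yon S).map_injective (by rw [Functor.map_comp, hl, sq.lift_fst]),
    (yon S).map_injective (by rw [Functor.map_comp, hl, sq.lift_snd])⟩

variable (p : FieldPt X)

/-- An algebraic closure of the field of a point. -/
noncomputable def kb₀ : Spec (CommRingCat.of (AlgebraicClosure p.K)) ⟶ Spec (CommRingCat.of p.K) :=
  Spec.map (CommRingCat.ofHom (algebraMap p.K (AlgebraicClosure p.K)))

/-- The geometric point over a point. -/
noncomputable abbrev TK : Over S := Over.mk (kb₀ p ≫ p.str)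

noncomputable def kb : TK p ⟶ p.pt := Over.homMk (kb₀ p) rfl

instance : Subsingleton ↥(TK p).left := inferInstanceAs (Subsingleton (PrimeSpectrum (AlgebraicClosure p.K)))
instance : Nonempty ↥(TK p).left := inferInstanceAs (Nonempty (PrimeSpectrum (AlgebraicClosure p.K)))

/-- The lifts of the geometric point to a chart form a finite nonempty set. -/
theorem finite_nonempty_lifts (ha : RepWith @Etale a) [IsAffine U.left] (hpq : RepWith @QuasiCompact p.toHom)
    {u₀ : U.left} (hu₀ : Points.ofPt a u₀ = Points.mk p) :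
    ∃ n, Nonempty (Fin (n + 1) ≃ {v : TK p ⟶ U // (yon S).map v ≫ a = (yon S).map (kb p) ≫ p.toHom}) := by
  let Φ := {v : TK p ⟶ U // (yon S).map v ≫ a = (yon S).map (kb p) ≫ p.toHom}
  have : Subsingleton ↥p.pt.left := inferInstanceAs (Subsingleton (PrimeSpectrum p.K))
  have sqE := ha.rep.isPullback' p.toHom
  let E := ha.rep.pullback p.toHom
  have hEe : Etale (ha.rep.snd p.toHom).left := ha.property_snd _
  have hEext : ∀ {T : Over S} {y y' : T ⟶ E}, y ≫ ha.rep.fst' p.toHom = y' ≫ ha.rep.fst' p.toHom →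
      y ≫ ha.rep.snd p.toHom = y' ≫ ha.rep.snd p.toHom → y = y' := fun h1 h2 =>
    (yon S).map_injective (sqE.hom_ext (by rw [← Functor.map_comp, ← Functor.map_comp, h1])
      (by rw [← Functor.map_comp, ← Functor.map_comp, h2]))
  choose li hli₁ hli₂ using fun v : Φ => exists_lift_yon sqE v.1 (kb p) v.2
  let li' : Φ → EtCount.Lifts (ha.rep.snd p.toHom).left (kb₀ p) := fun v =>
    ⟨(li v).left, congrArg CommaMorphism.left (hli₂ v)⟩
  have hΦ : Finite Φ := by
    have : QuasiCompact (ha.rep.fst' p.toHom).left := hpq.property _ _ _ sqE.flip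
    have : CompactSpace ↥E.left := QuasiCompact.compactSpace_of_compactSpace (ha.rep.fst' p.toHom).left
    have : IsAffine p.pt.left := inferInstanceAs (IsAffine (Spec (CommRingCat.of p.K)))
    have : QuasiCompact (ha.rep.snd p.toHom).left := HasAffineProperty.iff_of_isAffine.2 ‹CompactSpace ↥E.left›
    let y := (kb₀ p) (IsLocalRing.closedPoint (AlgebraicClosure p.K))
    have := finite_geomFiber_of_finite_preimage (ha.rep.snd p.toHom).left
      ((ha.rep.snd p.toHom).left.finite_preimage_singleton y)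
    have hfin : Finite (EtCount.Lifts (ha.rep.snd p.toHom).left (kb₀ p)) := by
      have h := EtCount.card_lifts_of_point (ha.rep.snd p.toHom).left (kb₀ p)
      rw [← ENat.card_lt_top] at this ⊢
      rwa [h]
    refine Finite.of_injective li' fun v v' h => Subtype.ext ?_
    rw [← hli₁ v, ← hli₁ v', show li v = li v' from Over.OverMorphism.ext (congrArg Subtype.val h)]
  have hΦne : Nonempty Φ := by
    obtain ⟨z, hz, -⟩ := exists_ofPt_of_eq sqE (u := u₀) (v := IsLocalRing.closedPoint p.K)
      (hu₀.trans (Points.ofPt_toHom p _).symm)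
    obtain ⟨l, hl, -⟩ := Scheme.exists_fac_of_etale_of_isSepClosed (ha.rep.snd p.toHom).left
      (Ω := AlgebraicClosure p.K) (kb₀ p) z (Subsingleton.elim (α := ↥p.pt.left) _ _)
    let L : TK p ⟶ E := Over.homMk l (by rw [← Over.w (ha.rep.snd p.toHom), reassoc_of% hl]; rfl)
    have hL : L ≫ ha.rep.snd p.toHom = kb p := Over.OverMorphism.ext hl
    exact ⟨⟨L ≫ ha.rep.fst' p.toHom, by rw [Functor.map_comp, Category.assoc, sqE.w, ← Functor.map_comp_assoc, hL]⟩⟩
  obtain ⟨N, ⟨e⟩⟩ := Finite.exists_equiv_fin Φ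
  cases N with
  | zero => exact (e (Classical.arbitrary Φ)).elim0
  | succ n => exact ⟨n, ⟨e.symm⟩⟩

/-- An invariant affine open containing a finite orbit. -/
theorem exists_invariant_affine {G : Type u} [Group G] [Finite G] {P : Over S} {V₀ : Scheme.{u}} [IsAffine V₀]
    (f : P.left ⟶ V₀) [Etale f] [IsSeparated f] (act : G → (P ⟶ P))
    (hact1 : ∀ g h : G, act (g * h) = act h ≫ act g) (hactone : act 1 = 𝟙 P) (W : P.left.Opens) {T : Over S}
    (l₀ : T ⟶ P) (t₀ : T.left) (hl₀W : ∀ g, (l₀ ≫ act g).left t₀ ∈ W) :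
    ∃ O' : P.left.Opens, IsAffineOpen O' ∧ O' ≤ W ∧ l₀.left t₀ ∈ O' ∧ ∀ g z, z ∈ O' → (act g).left z ∈ O' := by
  obtain ⟨O₁, hO₁, hT⟩ := exists_affineOpen_of_finite (W.ι ≫ f)
    (T := Set.range fun g : G => (⟨(l₀ ≫ act g).left t₀, hl₀W g⟩ : ↥W.toScheme)) (Set.finite_range _)
  let O := W.ι ''ᵁ O₁
  have hO : IsAffineOpen O := hO₁.image_of_isOpenImmersion W.ι
  have hPsep : P.left.IsSeparated := by
    refine ⟨?_⟩
    rw [← terminal.comp_from f]
    infer_instance
  let O' : P.left.Opens := ⨅ g : G, (act g).left ⁻¹ᵁ O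
  have hmem : ∀ z, z ∈ O' ↔ ∀ g, (act g).left z ∈ O := fun z => by
    rw [← SetLike.mem_coe, TopologicalSpace.Opens.coe_iInf, Set.mem_iInter]
    rfl
  refine ⟨O', IsAffineOpen.iInf fun g => ?_, fun z hz => ?_, (hmem _).2 fun g => ?_, fun g z hz => (hmem _).2 fun h => ?_⟩
  · have : IsIso (act g).left := ⟨(act g⁻¹).left,
      by rw [← Over.comp_left, ← hact1, inv_mul_cancel, hactone]; rfl,
      by rw [← Over.comp_left, ← hact1, mul_inv_cancel, hactone]; rfl⟩
    exact hO.preimage_of_isIso (act g).left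
  · have h := (hmem z).1 hz 1
    rw [hactone] at h
    exact W.ι_image_le O₁ h
  · rw [← Scheme.Hom.comp_apply, ← Over.comp_left]
    exact ⟨_, hT ⟨g, rfl⟩, rfl⟩
  · rw [← Scheme.Hom.comp_apply, ← Over.comp_left, ← hact1]
    exact (hmem z).1 hz (h * g)

/-- An etale scheme over a field with a unique geometric point is the field. -/
theorem isIso_of_unique_geom {F : Over S} (sM : F ⟶ p.pt) [Etale sM.left] [Nonempty ↥F.left]
    (huniq : ∀ e e' : TK p ⟶ F, e ≫ sM = kb p → e' ≫ sM = kb p → e = e') : IsIso sM := by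
  have : Subsingleton ↥p.pt.left := inferInstanceAs (Subsingleton (PrimeSpectrum p.K))
  have : Mono sM := by
    have : Surjective (pullback.diagonal sM.left) := by
      refine ⟨fun z => ?_⟩
      obtain ⟨l, hl, hlz⟩ := Scheme.exists_fac_of_etale_of_isSepClosed
        (pullback.fst sM.left sM.left ≫ sM.left) (Ω := AlgebraicClosure p.K) (kb₀ p) z (Subsingleton.elim (α := ↥p.pt.left) _ _)
      let mk' : ∀ f : pullback sM.left sM.left ⟶ F.left, f ≫ sM.left = pullback.fst sM.left sM.left ≫ sM.left →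
          {e : TK p ⟶ F // e.left = l ≫ f ∧ e ≫ sM = kb p} := fun f hf =>
        ⟨Over.homMk (l ≫ f) (by
            rw [← Over.w sM, Category.assoc, reassoc_of% hf, reassoc_of% hl]; rfl), rfl,
          Over.OverMorphism.ext (by
            show (l ≫ f) ≫ sM.left = kb₀ p
            rw [Category.assoc, hf, hl])⟩
      obtain ⟨e₁, h₁, h₁'⟩ := mk' _ rfl
      obtain ⟨e₂, h₂, h₂'⟩ := mk' (pullback.snd sM.left sM.left) pullback.condition.symm
      have he : e₁ = e₂ := huniq _ _ h₁' h₂'
      refine ⟨(l ≫ pullback.fst sM.left sM.left) default, ?_⟩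
      rw [← Scheme.Hom.comp_apply]
      refine (congrArg (fun f => f default) (?_ : _ = l)).trans hlz
      apply pullback.hom_ext
      · simp
      · simp only [Category.assoc, pullback.diagonal_snd, Category.comp_id]
        rw [← h₁, ← h₂, he]
    have : QuasiCompact (pullback.diagonal sM.left) :=
      ⟨fun O _ hO => (pullback.diagonal sM.left).isOpenEmbedding.toIsInducing.isCompact_preimage' hO fun z _ => (pullback.diagonal sM.left).surjective z⟩
    have : IsIso (pullback.diagonal sM.left) := Flat.isIso_of_surjective_of_mono _ 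
    have : Mono sM.left := (pullback.isIso_diagonal_iff _).1 this
    exact (Over.forget S).mono_of_mono_map (inferInstanceAs (Mono sM.left))
  exact isIso_of_etale_mono_surjective sM fun y => ⟨Classical.arbitrary _, Subsingleton.elim _ _⟩

theorem exists_elem_of_isDecent (hA : IsAlgSpace X) (hX : IsDecent X) (x : Points X) :
    ∃ (M : Over S) (m : (yon S).obj M ⟶ X) (u : ↥M.left), IsAffine M.left ∧
      IsElemEtaleNbhd m u x ∧ Points.ofPt m ⁻¹' {x} = {u} := by
  obtain ⟨U₁, a₁, ha₁, ha₁s⟩ := hA.atlas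
  obtain ⟨u₁, hu₁⟩ := surjective_ofPt ha₁s x
  obtain ⟨U, ι₁, u₀, hU, -, hι₁, ha⟩ := exists_affine_restrict ha₁ u₁
  obtain ⟨a, hadef⟩ : ∃ a, a = (yon S).map ι₁ ≫ a₁ := ⟨_, rfl⟩
  rw [← hadef] at ha
  have hu₀ : Points.ofPt a u₀ = x := by rw [hadef, ofPt_comp, hι₁, hu₁]
  have : IsSeparated (ha.rep.snd a).left := isSeparated_snd_of_isAffine ha
  obtain ⟨p, hpx, hpm, hpq⟩ := hX x
  subst hpx
  obtain ⟨n, ⟨eΦ⟩⟩ := finite_nonempty_lifts p ha hpq hu₀
  let t₀ : ↥(TK p).left := Classical.arbitrary _
  have : Subsingleton ↥p.pt.left := inferInstanceAs (Subsingleton (PrimeSpectrum p.K))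
  obtain ⟨P, pr, hpe, hps, hwP, huniv⟩ := exists_power ha n
  obtain ⟨W, hW⟩ := exists_distinct ha pr hwP
  have hPext : ∀ {T : Over S} {l l' : T ⟶ P}, (∀ i, l ≫ pr i = l' ≫ pr i) → l = l' := fun {T l l'} h =>
    (huniv T (fun i => l ≫ pr i) fun i => by
      rw [Functor.map_comp, Functor.map_comp, Category.assoc, Category.assoc, hwP]).unique (fun _ => rfl)
      fun i => (h i).symm
  -- the action
  let G := ULift.{u} (Equiv.Perm (Fin (n + 1)))
  choose act hact _ using fun g : G => huniv P (fun i => pr (g.down.symm i))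
    fun i => (hwP _).trans (hwP _).symm
  have hact1 : ∀ g h : G, act (g * h) = act h ≫ act g := fun g h => hPext fun i => by
    simp only [Category.assoc, hact]
    rfl
  have hactone : act 1 = 𝟙 P := hPext fun i => by
    rw [hact, Category.id_comp]; rfl
  have hactπ : ∀ g, (yon S).map (act g ≫ pr 0) ≫ a = (yon S).map (pr 0) ≫ a := fun g => by rw [hact, hwP]
  -- the tuple of all lifts
  obtain ⟨l₀, hl₀, -⟩ := huniv (TK p) (fun i => (eΦ i).1) fun i => (eΦ i).2.trans (eΦ 0).2.symm
  have hl₀W : ∀ g, (l₀ ≫ act g).left t₀ ∈ W := fun g => by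
    refine (hW (TK p) _ t₀ fun t => congrArg _ (Subsingleton.elim _ _)).2 fun i j hij => ?_
    simp only [Category.assoc, hact, hl₀] at hij
    exact g.down.symm.injective (eΦ.injective (Subtype.ext hij))
  -- an invariant affine open containing it
  have : Etale (pr 0).left := hpe
  have : IsSeparated (pr 0).left := hps
  obtain ⟨O', hO', hO'W, hl₀O, hO'g⟩ := exists_invariant_affine (pr 0).left act hact1 hactone W l₀ t₀ hl₀W
  let V : Over S := Over.mk (O'.ι ≫ P.hom)
  let j : V ⟶ P := Over.homMk O'.ι rfl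
  have : IsAffine V.left := hO'
  have : IsOpenImmersion j.left := inferInstanceAs (IsOpenImmersion O'.ι)
  have : Mono j := (Over.forget S).mono_of_mono_map (inferInstanceAs (Mono O'.ι))
  have hjW : ∀ z : ↥V.left, j.left z ∈ W := fun z => hO'W z.2
  choose act' hact' using fun g : G => exists_factor_openImm j (j ≫ act g) fun z => by
    show _ ∈ Set.range O'.ι
    rw [Scheme.Opens.range_ι]
    exact hO'g g _ z.2
  have hact'1 : ∀ g h : G, act' (g * h) = act' h ≫ act' g := fun g h => by
    rw [← cancel_mono j, hact', hact1, Category.assoc, hact', reassoc_of% hact' h]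
  have hact'one : act' 1 = 𝟙 V := by
    rw [← cancel_mono j, hact', hactone, Category.comp_id, Category.id_comp]
  let ρ : G →* Aut V :=
    { toFun := fun g => ⟨act' g, act' g⁻¹, by rw [← hact'1, inv_mul_cancel, hact'one],
        by rw [← hact'1, mul_inv_cancel, hact'one]⟩
      map_one' := Iso.ext hact'one
      map_mul' := fun g h => Iso.ext (hact'1 g h) }
  have hfree : ∀ (g : G) (z : V.left), g ≠ 1 →
      V.left.fromSpecResidueField z ≫ (ρ g).hom.left ≠ V.left.fromSpecResidueField z := by
    intro g z hg heq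
    let κ : Over S := Over.mk (V.left.fromSpecResidueField z ≫ V.hom)
    let lam : κ ⟶ V := Over.homMk (V.left.fromSpecResidueField z) rfl
    have : Subsingleton ↥κ.left := inferInstanceAs (Subsingleton ↥(Spec (V.left.residueField z)))
    obtain ⟨t⟩ : Nonempty ↥κ.left := inferInstanceAs (Nonempty ↥(Spec (V.left.residueField z)))
    have hinj := (hW κ (lam ≫ j) t fun t' => congrArg _ (Subsingleton.elim _ _)).1 (hjW (lam.left t))
    have e : lam ≫ act' g = lam := Over.OverMorphism.ext heq
    refine hg (ULift.ext _ _ (Equiv.ext fun i => ?_))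
    have h2 : (lam ≫ j) ≫ pr (g.down.symm (g.down i)) = (lam ≫ j) ≫ pr (g.down i) := by
      rw [← hact g (g.down i), Category.assoc, ← reassoc_of% hact' g, reassoc_of% e, Category.assoc]
    have h3 := hinj h2
    simp only [Equiv.symm_apply_apply] at h3
    exact h3.symm
  let pU := j ≫ pr 0
  have hπ : RepWith @Etale ((yon S).map pU ≫ a) := repWith_comp ((repWith_yon_map_iff _ _).2 (by
    have : Etale (pr 0).left := hpe
    exact inferInstanceAs (Etale (O'.ι ≫ (pr 0).left)))) ha
  obtain ⟨M, q, m, hMa, hqe, hqs, hm, hqm, hqinv⟩ := exists_quotient_chart hA ρ hfree hπ (fun g => by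
    show (yon S).map (act' g ≫ j ≫ pr 0) ≫ a = _
    rw [reassoc_of% hact' g, Functor.map_comp, Category.assoc, hactπ, ← Functor.map_comp_assoc]) ha
  have sqF := hm.rep.isPullback' p.toHom
  let F := hm.rep.pullback p.toHom
  let fM : F ⟶ M := hm.rep.fst' p.toHom
  let sM : F ⟶ p.pt := hm.rep.snd p.toHom
  have hsMe : Etale sM.left := hm.property_snd _
  -- geometric points of the fibre
  obtain ⟨l₀', hl₀'⟩ := exists_factor_openImm j l₀ fun t => by
    show _ ∈ Set.range O'.ι
    rw [Scheme.Opens.range_ι, Subsingleton.elim t t₀]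
    exact hl₀O
  have hgeo : ∀ e : TK p ⟶ F, e ≫ sM = kb p → e ≫ fM = l₀' ≫ q := by
    intro e he
    obtain ⟨z, hz⟩ := q.left.surjective ((e ≫ fM).left t₀)
    obtain ⟨l', hl', -⟩ := Scheme.exists_fac_of_etale_of_isSepClosed q.left (Ω := AlgebraicClosure p.K) (e ≫ fM).left z
      (hz.trans (congrArg _ (Subsingleton.elim _ _)))
    let L : TK p ⟶ V := Over.homMk l' (by rw [← Over.w q, reassoc_of% hl']; exact Over.w (e ≫ fM))
    have hL : L ≫ q = e ≫ fM := Over.OverMorphism.ext hl'
    have hLp : ∀ i, (yon S).map (L ≫ j ≫ pr i) ≫ a = (yon S).map (kb p) ≫ p.toHom := fun i => by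
      simp only [Functor.map_comp, Category.assoc, hwP]
      rw [← (yon S).map_comp_assoc j (pr 0), ← hqm, ← Functor.map_comp_assoc, hL, Functor.map_comp,
        Category.assoc, sqF.w, ← Functor.map_comp_assoc, he]
    have hinj := (hW (TK p) (L ≫ j) t₀ fun t => congrArg _ (Subsingleton.elim _ _)).1 (hjW (L.left t₀))
    let σ : Fin (n + 1) → Fin (n + 1) := fun i => eΦ.symm ⟨L ≫ j ≫ pr i, hLp i⟩
    have hσ : Function.Bijective σ := Finite.injective_iff_bijective.1 fun i i' h => hinj (by
      have := congrArg Subtype.val (eΦ.symm.injective h)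
      simpa only [Category.assoc] using this)
    let g : G := ⟨(Equiv.ofBijective σ hσ).symm⟩
    have hg : L = l₀' ≫ act' g := by
      rw [← cancel_mono j, Category.assoc, hact', reassoc_of% hl₀']
      refine hPext fun i => ?_
      rw [Category.assoc, Category.assoc, hact, hl₀]
      show _ = (eΦ (σ i)).1
      simp [σ]
    rw [← hL, hg, Category.assoc]
    exact congrArg (l₀' ≫ ·) (hqinv g)
  have hFext : ∀ {T : Over S} {y y' : T ⟶ F}, y ≫ fM = y' ≫ fM → y ≫ sM = y' ≫ sM → y = y' := fun h1 h2 =>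
    (yon S).map_injective (sqF.hom_ext (by rw [← Functor.map_comp, ← Functor.map_comp, h1])
      (by rw [← Functor.map_comp, ← Functor.map_comp, h2]))
  have hne : Nonempty ↥F.left := by
    obtain ⟨e, -⟩ := exists_lift_yon sqF (l₀' ≫ q) (kb p) (by
      rw [Functor.map_comp, Category.assoc, hqm, ← Functor.map_comp_assoc, reassoc_of% hl₀', hl₀, (eΦ 0).2])
    exact ⟨e.left t₀⟩
  have : IsIso sM := isIso_of_unique_geom p sM fun e e' h h' =>
    hFext ((hgeo e h).trans (hgeo e' h').symm) (h.trans h'.symm)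
  let σ := inv sM ≫ fM
  have hσ : (yon S).map σ ≫ m = p.toHom := by
    rw [Functor.map_comp, Category.assoc, sqF.w, ← Functor.map_comp_assoc, IsIso.inv_hom_id,
      CategoryTheory.Functor.map_id, Category.id_comp]
  let pc : ↥p.pt.left := IsLocalRing.closedPoint p.K
  let u := σ.left pc
  have hu : Points.ofPt m u = Points.mk p := by
    rw [← ofPt_comp, hσ, Points.ofPt_toHom]
  refine ⟨M, m, u, hMa, ⟨hm, hu, ?_⟩, Set.eq_singleton_iff_unique_mem.2 ⟨hu, fun v hv => ?_⟩⟩
  · rw [FieldPt.toHom_ofPt]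
    let κ : Over S := Over.mk (M.left.fromSpecResidueField u ≫ M.hom)
    let lam : κ ⟶ M := Over.homMk (M.left.fromSpecResidueField u) rfl
    show Mono ((yon S).map lam ≫ m)
    have : IsReduced κ.left := inferInstanceAs (IsReduced (Spec (M.left.residueField u)))
    have : Subsingleton ↥κ.left := inferInstanceAs (Subsingleton ↥(Spec (M.left.residueField u)))
    obtain ⟨γ, hγ⟩ := exists_factor_point hA ((yon S).map lam ≫ m) p hpq
      ⟨κ, 𝟙 _, repWith_id _ _, repWith_id _ _, ‹IsReduced κ.left›⟩ fun y => by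
      obtain ⟨w, rfl⟩ := (Points.schemeHomeo κ).surjective y
      rw [show Points.schemeHomeo κ w = Points.ofScheme κ w from rfl, ← Points.ofPt_eq_map_ofScheme, ofPt_comp,
        show lam.left w = u from Scheme.fromSpecResidueField_apply _ _, hu]
    obtain ⟨γ, rfl⟩ := (yon S).map_surjective γ
    obtain ⟨e, he₁, he₂⟩ := exists_lift_yon sqF lam γ hγ.symm
    have hlamσ : γ ≫ σ = lam := by
      rw [← he₂, Category.assoc, IsIso.hom_inv_id_assoc, he₁]
    have : Mono lam := (Over.forget S).mono_of_mono_map (inferInstanceAs (Mono (M.left.fromSpecResidueField u)))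
    have : Mono γ := mono_of_mono_fac hlamσ
    rw [← hγ]
    exact mono_comp _ _
  · obtain ⟨z, hz, -⟩ := exists_ofPt_of_eq sqF (u := v) (v := pc)
      (hv.trans (Points.ofPt_toHom p pc).symm)
    rw [← hz]
    show fM.left z = σ.left pc
    rw [show fM = sM ≫ σ from (IsIso.hom_inv_id_assoc sM fM).symm, Over.comp_left, Scheme.Hom.comp_apply]
    exact congrArg σ.left (Subsingleton.elim _ _)

end Groth.Agent.AlgSpDec.ElemNbhd
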