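import Groth.Agent.AlgSpDec.Glue
import Groth.Agent.AlgSpDec.OneFlat
import Groth.Agent.AlgSpPts.OpenSub

/-!
# Spaces etale over a field
-/

set_option backward.isDefEq.respectTransparency false
set_option backward.isDefEq.respectTransparency.types false

universe u

open CategoryTheory Limits Opposite AlgebraicGeometry AlgSp Groth.Agent.AlgSpLib Groth.Agent.AlgSpPts

namespace Groth.Agent.AlgSpDec

variable {S : Scheme.{u}}

theorem isDecent_yon_field {K : Type u} [Field K] (str : Spec (CommRingCat.of K) ⟶ S) :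
    IsDecent ((yon S).obj (Over.mk str)) := by
  intro x
  let p : FieldPt ((yon S).obj (Over.mk str)) := ⟨K, str, (J S).uliftYonedaEquiv (𝟙 _)⟩
  have hp : p.toHom = 𝟙 _ := Equiv.symm_apply_apply _ _
  have : Subsingleton ↥(Over.mk str).left := inferInstanceAs (Subsingleton (PrimeSpectrum K))
  have : Subsingleton (Points ((yon S).obj (Over.mk str))) := (Points.schemeHomeo _).toEquiv.symm.subsingleton
  exact ⟨p, Subsingleton.elim _ _, hp ▸ inferInstanceAs (Mono (𝟙 _)), hp ▸ repWith_id _ _⟩

theorem exists_discrete_decomposition {X : Sp S} (hX : IsAlgSpace X) {K : Type u} [Field K]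
    {str : Spec (CommRingCat.of K) ⟶ S} (f : X ⟶ (yon S).obj (Over.mk str)) (hf : IsEtaleMor f) :
    ∃ T : Over S, Nonempty ((yon S).obj T ≅ X) := by
  have hsub : Subsingleton ↥(Over.mk str).left := inferInstanceAs (Subsingleton (PrimeSpectrum K))
  have hchart : ∀ {U : Over S} (a : (yon S).obj U ⟶ X), RepWith @Etale a →
      ∃ q : U ⟶ Over.mk str, Etale q.left := by
    intro U a ha
    obtain ⟨q, hq⟩ := (yon S).map_surjective (a ≫ f)
    exact ⟨q, (repWith_yon_map_iff _ q).1 (hq ▸ hf a ha)⟩
  obtain ⟨U, a, ha, ha'⟩ := hX.atlas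
  obtain ⟨q, hq⟩ := hchart a ha
  have hdU : DiscreteTopology ↥U.left := by
    have h1 := q.left.isDiscrete_preimage_singleton (IsLocalRing.closedPoint K)
    rw [show q.left ⁻¹' {IsLocalRing.closedPoint K} = Set.univ from
      Set.eq_univ_of_forall fun x => Subsingleton.elim (α := ↥(Over.mk str).left) _ _] at h1
    exact isDiscrete_univ_iff.1 h1
  have hopen : ∀ x : Points X, IsOpen ({x} : Set (Points X)) := fun x => by
    obtain ⟨v, rfl⟩ := surjective_ofPt ha' x
    have := isOpenMap_ofPt ha {v} (isOpen_discrete _)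
    rwa [Set.image_singleton] at this
  have key : ∀ x : Points X, ∃ (T : Over S) (j : (yon S).obj T ⟶ X),
      RepWith @IsOpenImmersion j ∧ Set.range (Points.ofPt j) = {x} := by
    intro x
    obtain ⟨X', j, hX', hj, hr⟩ := exists_open_subspace hX (hopen x)
    have hje : RepWith @Etale j := repWith_mono (fun _ _ g hg => by
      have : IsOpenImmersion g := hg
      exact (inferInstance : Etale g)) _ hj
    have hf' : IsEtaleMor (j ≫ f) := fun V φ hφ => by
      rw [← Category.assoc]
      exact hf _ (repWith_comp hφ hje)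
    have hdec : IsDecent X' := isDecent_of_isEtaleMor hX' (IsAlgSpace.yon_obj _) (j ≫ f) hf'
      (isDecent_yon_field str)
    have : Mono j := mono_of_openImmersion hj
    have : Nonempty (Points X') := by
      obtain ⟨z, -⟩ : x ∈ Set.range (Points.map j) := hr ▸ rfl
      exact ⟨z⟩
    have hinj : Function.Injective (Points.map j) := injective_map (repWith_mono (fun _ _ g hg => by
      have : IsOpenImmersion g := hg
      exact g.isOpenEmbedding.injective) _ hj)
    have : Subsingleton (Points X') := ⟨fun y z => hinj (by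
      have hy : Points.map j y ∈ ({x} : Set (Points X)) := hr ▸ Set.mem_range_self y
      have hz : Points.map j z ∈ ({x} : Set (Points X)) := hr ▸ Set.mem_range_self z
      exact hy.trans hz.symm)⟩
    obtain ⟨V, c, hc, hc'⟩ := hX'.atlas
    have hred : EtaleLocally (fun U => IsReduced U) X' := by
      refine ⟨V, c, hc, hc', ?_⟩
      obtain ⟨qV, hqV⟩ := hchart (c ≫ j) (repWith_comp hc hje)
      have : IsReduced (Over.mk str).left := inferInstanceAs (IsReduced (Spec (CommRingCat.of K)))
      exact isReduced_of_etaleMor qV.left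
    obtain ⟨k, _, str', ⟨e⟩⟩ := exists_iso_field_of_reduced hX' hdec hred
    refine ⟨Over.mk str', e.hom ≫ j, MorphismProperty.RespectsIso.precomp _ _ _ hj, ?_⟩
    rw [← hr]
    ext y
    constructor
    · rintro ⟨t, rfl⟩
      exact ⟨Points.ofPt e.hom t, Points.map_ofPt _ _ _⟩
    · rintro ⟨z, rfl⟩
      refine ⟨IsLocalRing.closedPoint k, ?_⟩
      rw [← Points.map_ofPt]
      congr 1
      exact Subsingleton.elim _ _
  choose T j hj hr using key
  let e : Quotient (Setoid.ker (Points.ofPt a)) ≃ Points X :=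
    (Setoid.quotientKerEquivRange _).trans
      ((Equiv.setCongr (Set.range_eq_univ.2 (surjective_ofPt ha'))).trans (Equiv.Set.univ _))
  refine ⟨_, isIso_of_disjoint_opens (fun i => T (e i)) (fun i => j (e i)) (fun i => hj (e i))
    (fun i i' v w h => e.injective ?_) fun x => ?_⟩
  · have h1 : Points.ofPt (j (e i)) v ∈ ({e i} : Set _) := hr (e i) ▸ Set.mem_range_self v
    have h2 : Points.ofPt (j (e i')) w ∈ ({e i'} : Set _) := hr (e i') ▸ Set.mem_range_self w
    exact h1.symm.trans (h.trans h2)
  · obtain ⟨i, rfl⟩ := e.surjective x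
    obtain ⟨v, hv⟩ : e i ∈ Set.range (Points.ofPt (j (e i))) := (hr (e i)).symm ▸ rfl
    exact ⟨i, v, hv⟩

end Groth.Agent.AlgSpDec
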