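import Groth.Agent.AlgSpDec.EtSite
import Groth.Agent.AlgSpPts.Geom
import Groth.Prelude.Def_AlgSpOX3

/-!
The category of etale neighbourhoods of a geometric point is cofiltered.
-/

set_option backward.isDefEq.respectTransparency false
set_option backward.isDefEq.respectTransparency.types false

universe u

open CategoryTheory CategoryTheory.Limits AlgebraicGeometry Opposite AlgSp Groth.Agent.AlgSpLib Groth.Agent.AlgSpPts

namespace Groth.Agent.AlgSpDec

variable {S : Scheme.{u}} {X : Sp S} (p : FieldPt X)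

theorem exists_etNbhd (hX : IsAlgSpace X) (hp : p.IsGeometric) : Nonempty (EtNbhd p) := by
  have : IsAlgClosed p.K := hp
  obtain ⟨U, a, ha, has⟩ := hX.atlas
  obtain ⟨u, hu⟩ := surjective_ofPt has (Points.mk p)
  obtain ⟨l, hl, -⟩ := exists_lift_geometric (IsAlgSpace.yon_obj U) hX (f := a) (locP_of_repWith ha)
    p.toHom (u := Points.ofScheme _ u) (by
      rw [← Points.ofPt_eq_map_ofScheme, hu, Points.ofPt_toHom])
  obtain ⟨k, rfl⟩ := (yon S).map_surjective l
  exact ⟨⟨EtOver.mk a ha, ⟨k, hl⟩⟩⟩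

theorem exists_cone_obj (N N' : EtNbhd p) : ∃ (W : EtNbhd p) (_ : W ⟶ N) (_ : W ⟶ N'), True := by
  have sq := N.1.property.rep.isPullback' N'.1.obj.hom
  let P : EtOver X := EtOver.mk ((yon S).map (N.1.property.rep.fst' N'.1.obj.hom) ≫ N.1.obj.hom) (by
    refine repWith_comp ((repWith_yon_map_iff _ _).2 ?_) N.1.property
    exact N'.1.property.property _ _ _ sq.flip)
  obtain ⟨l, h1, h2⟩ := sq.exists_lift ((yon S).map N.2.1) ((yon S).map N'.2.1) (N.2.2.trans N'.2.2.symm)
  obtain ⟨k, rfl⟩ := (yon S).map_surjective l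
  rw [← Functor.map_comp] at h1 h2
  let w : (FieldPt.liftsTo p).obj P := ⟨k, by
    show (yon S).map k ≫ (yon S).map (N.1.property.rep.fst' N'.1.obj.hom) ≫ N.1.obj.hom = p.toHom
    rw [← Functor.map_comp_assoc, (yon S).map_injective h1]
    exact N.2.2⟩
  exact ⟨⟨P, w⟩, CategoryOfElements.homMk _ _ (EtOver.homMk (N.1.property.rep.fst' N'.1.obj.hom) rfl)
    (Subtype.ext ((yon S).map_injective h1)),
    CategoryOfElements.homMk _ _ (EtOver.homMk (N.1.property.rep.snd N'.1.obj.hom) sq.w.symm)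
    (Subtype.ext ((yon S).map_injective h2)), trivial⟩

theorem exists_cone_map {N N' : EtNbhd p} (f g : N ⟶ N') : ∃ (W : EtNbhd p) (h : W ⟶ N), h ≫ f = h ≫ g := by
  obtain ⟨f, hf⟩ := f
  obtain ⟨g, hg⟩ := g
  let U' := N'.1.obj.left
  let a' := N'.1.obj.hom
  have ha' : RepWith @Etale a' := N'.1.property
  have sq := ha'.rep.isPullback' a'
  obtain ⟨d, hd1, hd2⟩ := sq.exists_lift (𝟙 _) (𝟙 _) rfl
  obtain ⟨δ, rfl⟩ := (yon S).map_surjective d
  rw [← Functor.map_comp, ← (yon S).map_id] at hd1 hd2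
  have hδ1 := (yon S).map_injective hd1
  have hδ2 := (yon S).map_injective hd2
  obtain ⟨l₀, hl1, hl2⟩ := sq.exists_lift ((yon S).map f.hom.left) ((yon S).map g.hom.left)
    ((EtOver.w f).trans (EtOver.w g).symm)
  obtain ⟨l, rfl⟩ := (yon S).map_surjective l₀
  rw [← Functor.map_comp] at hl1 hl2
  have hl1' := (yon S).map_injective hl1
  have hl2' := (yon S).map_injective hl2
  have hsnd : Etale (ha'.rep.snd a').left := ha'.property_snd a'
  have hδe : Etale δ.left := by
    refine MorphismProperty.HasOfPostcompProperty.of_postcomp (W := @Etale) δ.left (ha'.rep.snd a').left hsnd ?_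
    rw [← Over.comp_left, hδ2]
    exact inferInstanceAs (Etale (𝟙 _))
  have sqZ := IsPullback.of_hasPullback l δ
  haveI : Etale (pullback.fst l δ).left :=
    MorphismProperty.of_isPullback (sqZ.flip.map (Over.forget S)) hδe
  have heq : pullback.fst l δ ≫ f.hom.left = pullback.fst l δ ≫ g.hom.left := by
    rw [← hl1', ← hl2', pullback.condition_assoc, pullback.condition_assoc, hδ1, hδ2]
  let Z : EtOver X := EtOver.mk ((yon S).map (pullback.fst l δ) ≫ N.1.obj.hom)
    (repWith_comp ((repWith_yon_map_iff _ _).2 ‹Etale (pullback.fst l δ).left›) N.1.property)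
  have hu : N.2.1 ≫ l = (N.2.1 ≫ f.hom.left) ≫ δ := by
    refine (yon S).map_injective (sq.hom_ext ?_ ?_)
    · rw [← Functor.map_comp, ← Functor.map_comp, Category.assoc, hl1', Category.assoc, hδ1, Category.comp_id]
    · rw [← Functor.map_comp, ← Functor.map_comp, Category.assoc, hl2', Category.assoc, hδ2, Category.comp_id]
      congr 1
      exact (congrArg Subtype.val hg).trans (congrArg Subtype.val hf).symm
  let w : (FieldPt.liftsTo p).obj Z := ⟨pullback.lift N.2.1 (N.2.1 ≫ f.hom.left) hu, by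
    show (yon S).map _ ≫ (yon S).map (pullback.fst l δ) ≫ N.1.obj.hom = p.toHom
    rw [← Functor.map_comp_assoc, pullback.lift_fst]
    exact N.2.2⟩
  refine ⟨⟨Z, w⟩, CategoryOfElements.homMk _ _ (EtOver.homMk (pullback.fst l δ) rfl)
    (Subtype.ext (pullback.lift_fst _ _ _)), CategoryOfElements.ext _ _ _ (EtOver.hom_ext _ _ ?_)⟩
  exact heq

theorem isCofiltered_etNbhd (hX : IsAlgSpace X) (hp : p.IsGeometric) : IsCofiltered (EtNbhd p) :=
  haveI := exists_etNbhd p hX hp
  haveI : IsCofilteredOrEmpty (EtNbhd p) := ⟨exists_cone_obj p, fun _ _ f g => exists_cone_map p f g⟩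
  ⟨⟩

end Groth.Agent.AlgSpDec
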