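import Groth.Agent.AlgSpDec.EtStalkStrict
import Groth.Agent.Hensel.Construction
import Mathlib.CategoryTheory.Sites.Point.Skyscraper
import Mathlib.CategoryTheory.Abelian.GrothendieckAxioms.Types
import Mathlib.Algebra.Category.Grp.AB
import Mathlib.CategoryTheory.Limits.FinallySmall

/-!
# The point of the small etale site given by a geometric point
-/

set_option backward.isDefEq.respectTransparency false
set_option backward.isDefEq.respectTransparency.types false

noncomputable section

universe u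

open CategoryTheory CategoryTheory.Limits Opposite AlgebraicGeometry AlgSp Groth.Agent.AlgSpLib Groth.Agent.AlgSpPts
open Groth.Agent.AlgSpDec.EtStalkElts Groth.Agent.AlgSpDec.EtStalkHenz

namespace Groth.Agent.AlgSpDec.EtPoint

variable {S : Scheme.{u}} {X : Sp S} {p : FieldPt X}

/-- Lifts of a geometric point along the maps of a covering family. -/
theorem exists_lift_covering (hp : p.IsGeometric) {E : EtOver X} {ι : Type*} (Y : ι → EtOver X)
    (g : ∀ i, Y i ⟶ E) (h : ∀ x : ↥E.obj.left.left, ∃ i, x ∈ Set.range (g i).hom.left.left)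
    (x : (FieldPt.liftsTo p).obj E) :
    ∃ (i : ι) (y : (FieldPt.liftsTo p).obj (Y i)), (FieldPt.liftsTo p).map (g i) y = x := by
  have : IsAlgClosed p.K := hp
  obtain ⟨i, y, hy⟩ := h (x.1.left (IsLocalRing.closedPoint p.K))
  have he : Etale (g i).hom.left.left := EtOver.etale_left (g i)
  obtain ⟨l, hl, -⟩ := exists_lift_geometric (IsAlgSpace.yon_obj (Y i).obj.left) (IsAlgSpace.yon_obj E.obj.left)
    (f := (yon S).map (g i).hom.left) (locP_of_repWith ((repWith_yon_map_iff _ _).2 he))
    ((yon S).map x.1) (u := Points.ofScheme _ y) (by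
      rw [← Points.ofPt_eq_map_ofScheme, ← Category.comp_id ((yon S).map (g i).hom.left),
        ← Category.comp_id ((yon S).map x.1), ofPt_comp, ofPt_comp, hy])
  obtain ⟨k, rfl⟩ := (yon S).map_surjective l
  refine ⟨i, ⟨k, ?_⟩, Subtype.ext ((yon S).map_injective ?_)⟩
  · show (yon S).map k ≫ _ = p.toHom
    rw [← EtOver.w (g i), ← Category.assoc, hl]
    exact x.2
  · show (yon S).map (k ≫ (g i).hom.left) = _
    rw [Functor.map_comp, hl]

theorem jointly_surjective (hp : p.IsGeometric) {E : EtOver X} (R : Sieve E) (hR : R ∈ etTop X E)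
    (x : (FieldPt.liftsTo p).obj E) :
    ∃ (Y : EtOver X) (f : Y ⟶ E) (_ : R f) (y : (FieldPt.liftsTo p).obj Y), (FieldPt.liftsTo p).map f y = x := by
  obtain ⟨P, hP, hPR⟩ := (etPre X).mem_toGrothendieck_iff_of_isStableUnderComposition.1 hR
  obtain ⟨ι, Y, g, rfl⟩ := P.exists_eq_ofArrows
  obtain ⟨i, y, hy⟩ := exists_lift_covering hp Y g ((ofArrows_mem_etPre_iff Y g).1 hP) x
  exact ⟨Y i, g i, hPR _ _ (Presieve.ofArrows.mk i), y, hy⟩

section small

variable (N₀ : EtNbhd p) [IsAffine N₀.1.obj.left.left]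

attribute [local instance] algK

variable (N : Hensel.Nbhd Γ(N₀.1.obj.left.left, ⊤) p.K)

/-- The map to the chart of a standard neighbourhood. -/
def stdMap : Spec (CommRingCat.of N.B) ⟶ N₀.1.obj.left.left :=
  Spec.map (CommRingCat.ofHom (algebraMap Γ(N₀.1.obj.left.left, ⊤) N.B)) ≫ N₀.1.obj.left.left.isoSpec.inv

/-- The scheme of a standard neighbourhood. -/
def stdOver : Over S := Over.mk (stdMap N₀ N ≫ N₀.1.obj.left.hom)

instance : Etale (stdMap N₀ N) :=
  have : Etale (Spec.map (CommRingCat.ofHom (algebraMap Γ(N₀.1.obj.left.left, ⊤) N.B))) :=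
    (HasRingHomProperty.Spec_iff (P := @Etale)).2 (RingHom.etale_algebraMap.2 inferInstance)
  inferInstanceAs (Etale (_ ≫ _))

theorem stdLift_comp : Spec.map (CommRingCat.ofHom N.toK.toRingHom) ≫ stdMap N₀ N = N₀.2.1.left := by
  rw [stdMap, ← Category.assoc, ← Spec.map_comp, Iso.comp_inv_eq]
  refine Eq.trans ?_ (Scheme.isoSpec_hom_naturality N₀.2.1.left)
  show _ = (Spec (CommRingCat.of p.K)).isoSpec.hom ≫ _
  rw [Scheme.isoSpec_Spec_hom, ← Spec.map_comp]
  congr 1
  ext a
  exact N.toK.commutes a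

/-- The lift of the point to a standard neighbourhood. -/
def stdLift : p.pt ⟶ stdOver N₀ N :=
  CategoryTheory.Over.homMk (Spec.map (CommRingCat.ofHom N.toK.toRingHom)) (by
    change _ ≫ stdMap N₀ N ≫ _ = _
    rw [reassoc_of% (stdLift_comp N₀ N)]
    exact Over.w N₀.2.1)

/-- A standard neighbourhood. -/
def std : EtNbhd p :=
  ⟨EtOver.mk ((yon S).map (Over.homMk (stdMap N₀ N) rfl : stdOver N₀ N ⟶ N₀.1.obj.left) ≫ N₀.1.obj.hom)
      (repWith_comp ((repWith_yon_map_iff _ _).2 (inferInstanceAs (Etale (stdMap N₀ N)))) N₀.1.property),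
    ⟨stdLift N₀ N, by
      show (yon S).map (stdLift N₀ N) ≫ (yon S).map _ ≫ N₀.1.obj.hom = p.toHom
      rw [← Functor.map_comp_assoc,
        show stdLift N₀ N ≫ (Over.homMk (stdMap N₀ N) rfl : stdOver N₀ N ⟶ N₀.1.obj.left) = N₀.2.1 from
          Over.OverMorphism.ext (stdLift_comp N₀ N)]
      exact N₀.2.2⟩⟩

omit N in
theorem exists_std {W : EtNbhd p} [IsAffine W.1.obj.left.left] (g₀ : W ⟶ N₀) :
    ∃ N, Nonempty (std N₀ N ⟶ W) := by
  let _ := (pull g₀).toAlgebra
  have : Algebra.Etale Γ(N₀.1.obj.left.left, ⊤) Γ(W.1.obj.left.left, ⊤) := etale_pull g₀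
  let τ : Γ(W.1.obj.left.left, ⊤) →ₐ[Γ(N₀.1.obj.left.left, ⊤)] p.K :=
    { ev p W with commutes' := fun a => ev_pull g₀ a }
  obtain ⟨N, e, he⟩ := Hensel.Nbhd.exists_equiv (R := Γ(N₀.1.obj.left.left, ⊤)) (K := p.K) Γ(W.1.obj.left.left, ⊤) τ
  let h : Spec (CommRingCat.of N.B) ⟶ W.1.obj.left.left :=
    Spec.map (CommRingCat.ofHom e.symm.toAlgHom.toRingHom) ≫ W.1.obj.left.left.isoSpec.inv
  have h1 : h ≫ g₀.val.hom.left.left = stdMap N₀ N := by
    rw [Category.assoc, stdMap, ← Scheme.isoSpec_inv_naturality, ← Category.assoc, ← Spec.map_comp]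
    congr 2
    ext a
    exact e.symm.commutes a
  have h2 : Spec.map (CommRingCat.ofHom N.toK.toRingHom) ≫ h = W.2.1.left := by
    rw [← Category.assoc, ← Spec.map_comp, Iso.comp_inv_eq]
    refine Eq.trans ?_ (Scheme.isoSpec_hom_naturality W.2.1.left)
    show _ = (Spec (CommRingCat.of p.K)).isoSpec.hom ≫ _
    rw [Scheme.isoSpec_Spec_hom, ← Spec.map_comp]
    congr 1
    ext a
    show N.toK (e.symm a) = _
    rw [he]
    exact congrArg τ (e.apply_symm_apply a)
  let hh : stdOver N₀ N ⟶ W.1.obj.left := CategoryTheory.Over.homMk h (by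
    show h ≫ W.1.obj.left.hom = stdMap N₀ N ≫ _
    rw [← h1, Category.assoc]
    exact congrArg (h ≫ ·) (Over.w g₀.val.hom.left).symm)
  have h1' : hh ≫ g₀.val.hom.left = Over.homMk (stdMap N₀ N) rfl := Over.OverMorphism.ext h1
  refine ⟨N, ⟨CategoryOfElements.homMk _ _ (EtOver.homMk hh ?_) (Subtype.ext (Over.OverMorphism.ext h2))⟩⟩
  show (yon S).map hh ≫ W.1.obj.hom = (yon S).map _ ≫ N₀.1.obj.hom
  rw [← h1', Functor.map_comp, Category.assoc, EtOver.w g₀.val]

end small

theorem initiallySmall (hX : IsAlgSpace X) (hp : p.IsGeometric) : InitiallySmall.{u} (EtNbhd p) := by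
  have := isCofiltered_etNbhd p hX hp
  obtain ⟨P⟩ := exists_etNbhd p hX hp
  obtain ⟨N₀, -, hN₀, -⟩ := exists_affine P ⊤ trivial
  refine initiallySmall_of_small_weakly_initial_set (Set.range (std N₀)) fun N => ?_
  obtain ⟨m⟩ := nonempty_model N₀ hX hp N
  obtain ⟨M, ⟨f⟩⟩ := exists_std N₀ m.g₀
  exact ⟨_, ⟨M, rfl⟩, ⟨f ≫ m.g⟩⟩

/-- The point of the small etale site given by a geometric point. -/
def point (hX : IsAlgSpace X) (p : FieldPt X) (hp : p.IsGeometric) : GrothendieckTopology.Point.{u} (etTop X) where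
  fiber := FieldPt.liftsTo p
  isCofiltered := isCofiltered_etNbhd p hX hp
  initiallySmall := initiallySmall hX hp
  jointly_surjective R hR x := jointly_surjective hp R hR x

section exact

universe v' u'

variable (A : Type u') [Category.{v'} A] [HasColimitsOfSize.{u, u} A] [HasColimitsOfShape (EtNbhd p)ᵒᵖ A]
  (hX : IsAlgSpace X) (hp : p.IsGeometric)

include hX hp

theorem preservesFiniteLimits_stalkEtPshFunctor [HasFiniteLimits A] [AB5OfSize.{u, u} A] :
    PreservesFiniteLimits (stalkEtPshFunctor A p) :=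
  inferInstanceAs (PreservesFiniteLimits ((point hX p hp).presheafFiber (A := A)))

theorem preservesFiniteColimits_stalkEtPshFunctor : PreservesFiniteColimits (stalkEtPshFunctor A p) := by
  have : PreservesColimitsOfSize.{u, u} (stalkEtPshFunctor A p) :=
    inferInstanceAs (PreservesColimitsOfSize.{u, u} ((point hX p hp).presheafFiber (A := A)))
  exact PreservesColimitsOfSize.preservesFiniteColimits _

theorem preservesFiniteLimits_stalkEtFunctor [HasFiniteLimits A] [AB5OfSize.{u, u} A] :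
    PreservesFiniteLimits (stalkEtFunctor A p) :=
  inferInstanceAs (PreservesFiniteLimits ((point hX p hp).sheafFiber (A := A)))

theorem preservesFiniteColimits_stalkEtFunctor [HasProducts.{u} A] : PreservesFiniteColimits (stalkEtFunctor A p) :=
  inferInstanceAs (PreservesFiniteColimits ((point hX p hp).sheafFiber (A := A)))

theorem isIso_map_toSheafify [HasProducts.{u} A] [HasWeakSheafify (etTop X) A] (P : (EtOver X)ᵒᵖ ⥤ A) :
    IsIso ((stalkEtPshFunctor A p).map (toSheafify (etTop X) P)) :=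
  inferInstanceAs (IsIso ((point hX p hp).presheafFiber.map (toSheafify (etTop X) P)))

end exact

end Groth.Agent.AlgSpDec.EtPoint
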