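import Groth.Agent.AlgSpLib.Points
import Groth.Prelude.Def_AlgSpOX
import Groth.Prelude.Def_ModSite
import Mathlib.Geometry.RingedSpace.Basic

/-!
Elementary facts about the small etale site of a space.
-/

set_option backward.isDefEq.respectTransparency false
set_option backward.isDefEq.respectTransparency.types false

universe u

open CategoryTheory CategoryTheory.Limits AlgebraicGeometry Opposite AlgSp Groth.Agent.AlgSpLib

namespace Groth.Agent.AlgSpDec

variable {S : Scheme.{u}} {X : Sp S}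

theorem ofArrows_mem_etTop {E : EtOver X} {ι : Type*} (Y : ι → EtOver X) (g : ∀ i, Y i ⟶ E)
    (h : ∀ x : ↥E.obj.left.left, ∃ i, x ∈ Set.range (g i).hom.left.left) : Sieve.ofArrows Y g ∈ etTop X E :=
  Precoverage.generate_mem_toGrothendieck ((ofArrows_mem_etPre_iff Y g).2 h)

/-- The inclusion of an open of an object of the small etale site. -/
noncomputable def etOpen (E : EtOver X) (W : E.obj.left.left.Opens) : EtOver X :=
  EtOver.mk ((yon S).map (CategoryTheory.Over.homMk W.ι rfl : Over.mk (W.ι ≫ E.obj.left.hom) ⟶ E.obj.left) ≫ E.obj.hom)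
    (repWith_comp ((repWith_yon_map_iff _ _).2 (inferInstanceAs (Etale W.ι))) E.property)

noncomputable def etOpenι (E : EtOver X) (W : E.obj.left.left.Opens) : etOpen E W ⟶ E :=
  EtOver.homMk (CategoryTheory.Over.homMk W.ι rfl) rfl

theorem range_etOpenι (E : EtOver X) (W : E.obj.left.left.Opens) :
    Set.range (etOpenι E W).hom.left.left = (W : Set ↥E.obj.left.left) := W.range_ι

theorem isUnit_appTop_of_le_basicOpen {Y : Scheme.{u}} (W : Y.Opens) (f : Γ(Y, ⊤)) (h : W ≤ Y.basicOpen f) :
    IsUnit (W.ι.appTop f) := by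
  have h1 : W.toScheme.basicOpen (W.ι.appTop f) = ⊤ := by
    rw [← Scheme.preimage_basicOpen_top]
    exact top_le_iff.1 fun z _ => h z.2
  refine RingedSpace.isUnit_of_isUnit_germ W.toScheme.toLocallyRingedSpace.toRingedSpace ⊤ (W.ι.appTop f) fun x hx => ?_
  exact (W.toScheme.mem_basicOpen (W.ι.appTop f) x trivial).1 (h1.ge trivial)

theorem isUnit_map_OEt {E E' : EtOver X} (g : E' ⟶ E) (f : (OEt X).obj.obj (op E))
    (h : IsUnit (g.hom.left.left.appTop f.down)) : IsUnit (((OEt X).obj.map g.op).hom f) := by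
  have e : ((OEt X).obj.map g.op).hom f = ⟨g.hom.left.left.appTop f.down⟩ := rfl
  rw [e]
  exact IsUnit.map ULift.ringEquiv.symm.toRingHom h

theorem isLocallyRinged_OEt : ModSite.IsLocallyRinged (etTop X) (OEt X) := by
  refine ⟨fun E f => ?_, fun E h01 => ?_⟩
  · let f₀ : Γ(E.obj.left.left, ⊤) := f.down
    let W : Bool → E.obj.left.left.Opens := fun b => E.obj.left.left.basicOpen (if b then f₀ else 1 - f₀)
    have hcov : ∀ x : ↥E.obj.left.left, ∃ b, x ∈ Set.range (etOpenι E (W b)).hom.left.left := fun x => by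
      rcases IsLocalRing.isUnit_or_isUnit_one_sub_self
        (E.obj.left.left.presheaf.germ ⊤ x trivial f₀) with h | h
      · refine ⟨true, (range_etOpenι E (W true)).ge ?_⟩
        exact (E.obj.left.left.mem_basicOpen (U := ⊤) _ x trivial).2 h
      · refine ⟨false, (range_etOpenι E (W false)).ge ?_⟩
        refine (E.obj.left.left.mem_basicOpen (U := ⊤) _ x trivial).2 ?_
        simpa using h
    refine ⟨_, ofArrows_mem_etTop (fun b => etOpen E (W b)) (fun b => etOpenι E (W b)) hcov, fun V g hg => ?_⟩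
    obtain ⟨b, k, rfl⟩ := (Sieve.mem_ofArrows_iff _ _ _).1 hg
    rw [op_comp, Functor.map_comp]
    simp only [CommRingCat.hom_comp, RingHom.comp_apply]
    cases b with
    | true => exact Or.inl ((isUnit_map_OEt (etOpenι E (W true)) f
        (isUnit_appTop_of_le_basicOpen (W true) _ le_rfl)).map _)
    | false => exact Or.inr ((isUnit_map_OEt (etOpenι E (W false)) (1 - f)
        (isUnit_appTop_of_le_basicOpen (W false) (1 - f₀) le_rfl)).map _)
  · have he : IsEmpty ↥E.obj.left.left := ⟨fun x => by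
      have h2 := congrArg (fun z : (OEt X).obj.obj (op E) => E.obj.left.left.presheaf.germ ⊤ x trivial z.down) h01
      change E.obj.left.left.presheaf.germ ⊤ x trivial 0 = E.obj.left.left.presheaf.germ ⊤ x trivial 1 at h2
      rw [map_zero, map_one] at h2
      exact zero_ne_one h2⟩
    refine (etTop X).superset_covering ?_ (ofArrows_mem_etTop (E := E) (fun i : PEmpty.{1} => E)
      (fun i => i.elim) fun x => isEmptyElim x)
    intro V g hg
    obtain ⟨i, -⟩ := (Sieve.mem_ofArrows_iff _ _ _).1 hg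
    exact i.elim

theorem existsUnique_open_of_subsingleton (hX : IsAlgSpace X) (F : EtSh X (Type (u + 1)))
    (hF : ∀ E : EtOver X, Subsingleton (F.obj.obj (op E))) :
    ∃! W : Set (Points X), IsOpen W ∧
      ∀ E : EtOver X, Nonempty (F.obj.obj (op E)) ↔ Set.range (Points.ofPt E.obj.hom) ⊆ W := by
  let W : Set (Points X) := {x | ∃ E : EtOver X, Nonempty (F.obj.obj (op E)) ∧ x ∈ Set.range (Points.ofPt E.obj.hom)}
  refine ⟨W, ⟨?_, fun E => ⟨fun h x hx => ⟨E, h, hx⟩, fun h => ?_⟩⟩, fun W' hW' => ?_⟩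
  · rw [isOpen_iff_forall_mem_open]
    rintro x ⟨E, hE, hx⟩
    exact ⟨_, fun y hy => ⟨E, hE, hy⟩, (isOpenMap_ofPt E.property).isOpen_range, hx⟩
  · choose E' hE' hu using fun u : ↥E.obj.left.left => h ⟨u, rfl⟩
    choose v hv using hu
    let P : ↥E.obj.left.left → EtOver X := fun u =>
      EtOver.mk ((yon S).map (E.property.rep.fst' (E' u).obj.hom) ≫ E.obj.hom) (by
        refine repWith_comp ((repWith_yon_map_iff _ _).2 ?_) E.property
        exact (E' u).property.property _ _ _ (E.property.rep.isPullback' (E' u).obj.hom).flip)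
    let g : ∀ u, P u ⟶ E := fun u => EtOver.homMk (E.property.rep.fst' (E' u).obj.hom) rfl
    let g' : ∀ u, P u ⟶ E' u := fun u => EtOver.homMk (E.property.rep.snd (E' u).obj.hom)
      (E.property.rep.isPullback' (E' u).obj.hom).w.symm
    have hcov : ∀ x : ↥E.obj.left.left, ∃ u, x ∈ Set.range (g u).hom.left.left := fun x => by
      obtain ⟨r, hr, -⟩ := exists_ofPt_of_eq (E.property.rep.isPullback' (E' x).obj.hom) (u := x) (v := v x) (hv x).symm
      exact ⟨x, r, hr⟩
    have hS := ofArrows_mem_etTop P g hcov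
    have hs := ((isSheaf_iff_isSheaf_of_type _ _).1 F.property) _ hS
    have hne : ∀ ⦃V : EtOver X⦄ (f : V ⟶ E), Sieve.ofArrows P g f → Nonempty (F.obj.obj (op V)) := fun V f hf => by
      obtain ⟨u, k, -⟩ := (Sieve.mem_ofArrows_iff _ _ _).1 hf
      exact (hE' u).map (F.obj.map (k ≫ g' u).op)
    obtain ⟨x, -⟩ := hs (fun V f hf => (hne f hf).some)
      (fun _ _ _ _ _ _ _ _ _ _ => @Subsingleton.elim _ (hF _) _ _)
    exact ⟨x⟩
  · ext x
    constructor
    · intro hx
      obtain ⟨U, a, ha, has⟩ := hX.atlas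
      obtain ⟨u, rfl⟩ := surjective_ofPt has x
      let O : U.left.Opens := ⟨Points.ofPt a ⁻¹' W', hW'.1.preimage (Points.continuous_ofPt a)⟩
      refine ⟨etOpen (EtOver.mk a ha) O, (hW'.2 _).2 ?_, (⟨u, hx⟩ : O.toScheme), ofPt_comp _ _ _⟩
      rintro _ ⟨w, rfl⟩
      change Points.ofPt ((yon S).map _ ≫ a) w ∈ W'
      rw [ofPt_comp]
      exact (w : O.toScheme).2
    · rintro ⟨E, hE, hx⟩
      exact (hW'.2 E).1 hE hx

end Groth.Agent.AlgSpDec
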