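import Groth.Agent.AlgSpDec.EtStalkStrict
import Groth.Agent.Hensel.HenselizationProps
import Groth.Prelude.Def_EtBase
import Groth.Agent.S0540
import Groth.Agent.S0541
import Groth.Agent.S2743

/-!
# Properties of etale local rings
-/

set_option backward.isDefEq.respectTransparency false
set_option backward.isDefEq.respectTransparency.types false

universe u v w

open CategoryTheory CategoryTheory.Limits Opposite AlgebraicGeometry AlgSp Groth.Agent.AlgSpLib Groth.Agent.AlgSpPts
open IsLocalRing

namespace Groth.Agent.AlgSpDec.EtStalkProps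

theorem henselianLocalRing_of_ringEquiv' {A : Type v} {B : Type w} [CommRing A] [CommRing B] (e : A ≃+* B)
    [HenselianLocalRing A] : HenselianLocalRing B :=
  { toIsLocalRing := e.isLocalRing
    is_henselian := fun f hf b₀ h₁ h₂ => by
      haveI : IsLocalRing B := e.isLocalRing
      have hev : ∀ (q : Polynomial B) (b : B), (q.map e.symm.toRingHom).eval (e.symm b) = e.symm (q.eval b) :=
        fun q b => by
          rw [Polynomial.eval_map]
          exact Polynomial.eval₂_at_apply e.symm.toRingHom b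
      have hm : ∀ b : B, b ∈ maximalIdeal B ↔ e.symm b ∈ maximalIdeal A := fun b => by
        rw [mem_maximalIdeal, mem_maximalIdeal, mem_nonunits_iff, mem_nonunits_iff, isUnit_map_iff]
      obtain ⟨a, ha, ha'⟩ := HenselianLocalRing.is_henselian (f.map e.symm.toRingHom) (hf.map _) (e.symm b₀)
        (by rw [hev]; exact (hm _).1 h₁) (by rw [Polynomial.derivative_map, hev]; exact h₂.map _)
      refine ⟨e a, e.symm.injective ?_, (hm _).2 ?_⟩
      · rw [← hev, e.symm_apply_apply, map_zero]
        exact ha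
      · rw [map_sub, e.symm_apply_apply]
        exact ha' }

theorem isSepClosed_of_ringEquiv' {k : Type v} {k' : Type w} [Field k] [Field k'] [IsSepClosed k]
    (e : k ≃+* k') : IsSepClosed k' :=
  IsSepClosed.of_exists_root _ fun p _ hp hs => by
    have hd : (p.map e.symm.toRingHom).degree ≠ 0 := by
      rw [Polynomial.degree_map]; exact (Polynomial.degree_pos_of_irreducible hp).ne'
    obtain ⟨x, hx⟩ := IsSepClosed.exists_root (p.map e.symm.toRingHom) hd (hs.map)
    refine ⟨e x, e.symm.injective ?_⟩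
    rw [map_zero, ← hx]
    change e.symm.toRingHom (p.eval (e x)) = _
    rw [← Polynomial.eval_map_apply]
    simp

theorem isStrictlyHenselian_of_ringEquiv {A : Type v} {B : Type w} [CommRing A] [CommRing B] (e : A ≃+* B)
    [HenselianLocalRing A] [IsSepClosed (ResidueField A)] :
    IsLocalRing B ∧ EtCoh.IsStrictlyHenselianLocalRing B := by
  let hB := henselianLocalRing_of_ringEquiv' e
  exact ⟨inferInstance, hB, isSepClosed_of_ringEquiv' (ResidueField.mapEquiv e)⟩

variable {S : Scheme.{u}} {X : Sp S} {p : FieldPt X}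

theorem isStrictlyHenselian (hX : IsAlgSpace X) (hp : p.IsGeometric) :
    IsLocalRing ↥(OEtStalk p) ∧ EtCoh.IsStrictlyHenselianLocalRing ↥(OEtStalk p) := by
  obtain ⟨U, a, ha, has⟩ := hX.atlas
  obtain ⟨u, hu⟩ := surjective_ofPt has (Points.mk p)
  obtain ⟨H, _, _, _, _, hs, ⟨e⟩⟩ := EtStalkStrict.exists_strictHenselization hX hp ha hu
  have : HenselianLocalRing H := hs.henselian
  have : IsSepClosed (ResidueField H) := hs.isSepClosure.sep_closed
  exact isStrictlyHenselian_of_ringEquiv e.symm

variable {U : Over S} {a : (yon S).obj U ⟶ X} {u : ↥U.left}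

theorem ringKrullDim_eq (hX : IsAlgSpace X) (hp : p.IsGeometric) (ha : RepWith @Etale a)
    (hu : Points.ofPt a u = Points.mk p) :
    ringKrullDim ↥(OEtStalk p) = ringKrullDim (U.left.presheaf.stalk u) := by
  obtain ⟨H, _, _, _, _, hs, ⟨e⟩⟩ := EtStalkStrict.exists_strictHenselization hX hp ha hu
  rw [ringKrullDim_eq_of_ringEquiv e]
  exact S0541.result _ H

theorem isNoetherianRing_iff (hX : IsAlgSpace X) (hp : p.IsGeometric) (ha : RepWith @Etale a)
    (hu : Points.ofPt a u = Points.mk p) :
    IsNoetherianRing ↥(OEtStalk p) ↔ IsNoetherianRing (U.left.presheaf.stalk u) := by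
  obtain ⟨H, _, _, _, _, hs, ⟨e⟩⟩ := EtStalkStrict.exists_strictHenselization hX hp ha hu
  rw [S0540.result (U.left.presheaf.stalk u) H]
  exact ⟨fun _ => isNoetherianRing_of_ringEquiv _ e, fun _ => isNoetherianRing_of_ringEquiv _ e.symm⟩

theorem isRegularLocalRing_iff (hX : IsAlgSpace X) (hp : p.IsGeometric) (ha : RepWith @Etale a)
    (hu : Points.ofPt a u = Points.mk p) :
    IsRegularLocalRing ↥(OEtStalk p) ↔ IsRegularLocalRing (U.left.presheaf.stalk u) := by
  obtain ⟨H, _, _, _, _, hs, ⟨e⟩⟩ := EtStalkStrict.exists_strictHenselization hX hp ha hu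
  constructor
  · intro h
    have hH : IsRegularLocalRing H := IsRegularLocalRing.of_ringEquiv e
    have : IsNoetherianRing (U.left.presheaf.stalk u) := (S0540.result _ H).2 inferInstance
    exact (S2743.result _ H).1 hH
  · intro h
    have hH : IsRegularLocalRing H := (S2743.result _ H).2 h
    exact IsRegularLocalRing.of_ringEquiv e.symm

theorem exists_chart_point (hX : IsAlgSpace X) (x : Points X) :
    ∃ (U : Over S) (a : (yon S).obj U ⟶ X) (u : ↥U.left), RepWith @Etale a ∧ Points.ofPt a u = x := by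
  obtain ⟨U, a, ha, has⟩ := hX.atlas
  obtain ⟨u, hu⟩ := surjective_ofPt has x
  exact ⟨U, a, u, ha, hu⟩

theorem exists_geometric (x : Points X) : ∃ p : FieldPt X, p.IsGeometric ∧ Points.mk p = x := by
  obtain ⟨q, rfl⟩ := Points.mk_surjective x
  let Ω := AlgebraicClosure q.K
  let b : Over.mk (Spec.map (CommRingCat.ofHom (algebraMap q.K Ω)) ≫ q.str) ⟶ q.pt :=
    CategoryTheory.Over.homMk (Spec.map (CommRingCat.ofHom (algebraMap q.K Ω))) rfl
  let r : FieldPt X := ⟨Ω, Spec.map (CommRingCat.ofHom (algebraMap q.K Ω)) ≫ q.str, X.obj.map b.op q.val⟩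
  refine ⟨r, (inferInstance : IsAlgClosed Ω), Points.mk_eq_mk_iff.2 ⟨Ω, inferInstance, _, 𝟙 r.pt, b, ?_⟩⟩
  exact ConcreteCategory.congr_hom (X.obj.map_id (op r.pt)) r.val

end Groth.Agent.AlgSpDec.EtStalkProps
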