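import Groth.Agent.AlgSpDec.EtPoint
import Groth.Agent.AlgSpDec.EtStalkProps
import Groth.Agent.AlgSpDec.EtSite
import Mathlib.CategoryTheory.Sites.LocallySurjective

/-!
# The geometric points form a conservative family of points of the small etale site
-/

set_option backward.isDefEq.respectTransparency false
set_option backward.isDefEq.respectTransparency.types false

universe u

open CategoryTheory CategoryTheory.Limits Opposite AlgebraicGeometry AlgSp Groth.Agent.AlgSpLib Groth.Agent.AlgSpPts
open Groth.Agent.AlgSpDec.EtStalkElts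

namespace Groth.Agent.AlgSpDec.EtPoint

variable {S : Scheme.{u}} {X : Sp S}

theorem base_liftsTo_map {p : FieldPt X} {Y E : EtOver X} (f : Y ⟶ E) (y : (FieldPt.liftsTo p).obj Y) :
    f.hom.left.left (base p (⟨Y, y⟩ : EtNbhd p)) = base p (⟨E, (FieldPt.liftsTo p).map f y⟩ : EtNbhd p) :=
  rfl

/-- A sieve through which all lifts of geometric points factor is covering. -/
theorem mem_etTop_of_lifts (hX : IsAlgSpace X) {E : EtOver X} (T : Sieve E)
    (h : ∀ p : FieldPt X, p.IsGeometric → ∀ x : (FieldPt.liftsTo p).obj E,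
      ∃ (Y : EtOver X) (f : Y ⟶ E) (_ : T f) (y : (FieldPt.liftsTo p).obj Y), (FieldPt.liftsTo p).map f y = x) :
    T ∈ etTop X E := by
  have h' : ∀ z : ↥E.obj.left.left, ∃ (Y : EtOver X) (f : Y ⟶ E), T f ∧ z ∈ Set.range f.hom.left.left := fun z => by
    obtain ⟨p, hp, hpz⟩ := EtStalkProps.exists_geometric (Points.ofPt E.obj.hom z)
    obtain ⟨l, hl⟩ := EtStalkStrict.exists_nbhd hX hp E.property hpz.symm
    obtain ⟨Y, f, hf, y, hy⟩ := h p hp l
    refine ⟨Y, f, hf, base p (⟨Y, y⟩ : EtNbhd p), ?_⟩
    rw [base_liftsTo_map, hy]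
    exact hl
  choose Y f hf hz using h'
  refine (etTop X).superset_covering ?_ (ofArrows_mem_etTop Y f fun z => ⟨z, hz z⟩)
  rw [Sieve.generate_le_iff, Presieve.ofArrows_le_iff]
  exact hf

section Types

variable (hX : IsAlgSpace X) {F G : EtSh X (Type (u + 1))} (a : F ⟶ G)

include hX

theorem mono_iff : Mono a ↔ ∀ p : FieldPt X, p.IsGeometric →
    Function.Injective ((stalkEtFunctor (Type (u + 1)) p).map a) := by
  haveI : HasColimitsOfSize.{u, u} (Type (u + 1)) := hasColimitsOfSizeShrink.{u, u, u + 1, u + 1} _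
  haveI : AB5OfSize.{u, u} (Type (u + 1)) := AB5OfSize_shrink.{u, u, u + 1, u + 1} _
  haveI : PreservesFilteredColimitsOfSize.{u, u} (CategoryTheory.forget (Type (u + 1))) :=
    preservesFilteredColimitsOfSize_shrink.{u, u + 1, u, u + 1} _
  constructor
  · intro ha p hp
    have := preservesFiniteLimits_stalkEtFunctor (Type (u + 1)) hX hp
    exact (mono_iff_injective _).1 inferInstance
  · intro h
    haveI : ∀ E, Mono (a.hom.app E) := fun ⟨E⟩ => (mono_iff_injective _).2 fun s t hst => by
      let T : Sieve E := Presheaf.equalizerSieve (F := F.obj) (X := op E) s t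
      suffices hT : T ∈ etTop X E from
        (((isSheaf_iff_isSheaf_of_type _ _).1 F.property).isSeparated T hT).ext fun Y f hf => hf
      refine mem_etTop_of_lifts hX _ fun p hp x => ?_
      let Φ := point hX p hp
      have he : Φ.toPresheafFiber E x F.obj s = Φ.toPresheafFiber E x F.obj t := by
        refine h p hp ?_
        show Φ.presheafFiber.map a.hom _ = Φ.presheafFiber.map a.hom _
        rw [Φ.toPresheafFiber_naturality_apply, Φ.toPresheafFiber_naturality_apply]
        exact congrArg _ hst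
      obtain ⟨Y, f, y, hy, he⟩ := (Φ.toPresheafFiber_eq_iff' (P := F.obj) E x s t).1 he
      exact ⟨Y, f, he, y, hy⟩
    haveI : Mono ((sheafToPresheaf _ _).map a) := (NatTrans.mono_of_mono_app a.hom :)
    exact (sheafToPresheaf _ _).mono_of_mono_map this

theorem epi_iff : Epi a ↔ ∀ p : FieldPt X, p.IsGeometric →
    Function.Surjective ((stalkEtFunctor (Type (u + 1)) p).map a) := by
  haveI : HasColimitsOfSize.{u, u} (Type (u + 1)) := hasColimitsOfSizeShrink.{u, u, u + 1, u + 1} _
  haveI : PreservesFilteredColimitsOfSize.{u, u} (CategoryTheory.forget (Type (u + 1))) :=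
    preservesFilteredColimitsOfSize_shrink.{u, u + 1, u, u + 1} _
  constructor
  · intro ha p hp
    have := preservesFiniteColimits_stalkEtFunctor (Type (u + 1)) hX hp
    exact (epi_iff_surjective _).1 inferInstance
  · intro h
    rw [← Sheaf.isLocallySurjective_iff_epi]
    refine ⟨fun {E} t => ?_⟩
    refine mem_etTop_of_lifts hX _ fun p hp x => ?_
    let Φ := point hX p hp
    obtain ⟨z, hz⟩ := h p hp (Φ.toPresheafFiber E x G.obj t)
    obtain ⟨W, w, r, rfl⟩ := Φ.toPresheafFiber_jointly_surjective (P := F.obj) z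
    replace hz : Φ.toPresheafFiber W w G.obj (a.hom.app _ r) = Φ.toPresheafFiber E x G.obj t :=
      (Φ.toPresheafFiber_naturality_apply a.hom W w r).symm.trans hz
    obtain ⟨⟨V, v⟩, gW, gE, -⟩ := exists_cone_obj p (⟨W, w⟩ : EtNbhd p) ⟨E, x⟩
    have hW : Φ.toPresheafFiber W w G.obj (a.hom.app _ r) =
        Φ.toPresheafFiber V v G.obj (G.obj.map gW.val.op (a.hom.app _ r)) := by
      rw [Φ.toPresheafFiber_w_apply]
      exact congrArg (fun y => Φ.toPresheafFiber W y G.obj _) gW.property.symm
    have hE : Φ.toPresheafFiber E x G.obj t = Φ.toPresheafFiber V v G.obj (G.obj.map gE.val.op t) := by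
      rw [Φ.toPresheafFiber_w_apply]
      exact congrArg (fun y => Φ.toPresheafFiber E y G.obj _) gE.property.symm
    rw [hW, hE] at hz
    obtain ⟨Y, f, y, hy, he⟩ := (Φ.toPresheafFiber_eq_iff' V v _ _).1 hz
    refine ⟨Y, f ≫ gE.val, ⟨F.obj.map (gW.val.op ≫ f.op) r, ?_⟩, y, ?_⟩
    · refine (NatTrans.naturality_apply a.hom (gW.val.op ≫ f.op) r).trans ?_
      rw [op_comp, Functor.map_comp, Functor.map_comp]
      exact he
    · show (FieldPt.liftsTo p).map (f ≫ gE.val) y = x
      rw [Functor.map_comp, types_comp_apply]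
      exact (congrArg _ hy).trans gE.property

end Types

end Groth.Agent.AlgSpDec.EtPoint
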