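import Groth.Agent.AlgSpDec.PostcompSite
import Groth.Prelude.Def_AlgSpOX2
import Mathlib.Algebra.Category.ModuleCat.Sheaf.PushforwardContinuous
import Mathlib.Algebra.Category.ModuleCat.Sheaf.PullbackContinuous
import Mathlib.Algebra.Category.ModuleCat.Sheaf.Limits
import Mathlib.Algebra.Category.ModuleCat.Sheaf.Abelian

/-!
# Pullback of modules along a representable etale morphism is restriction
-/

set_option backward.isDefEq.respectTransparency false
set_option backward.isDefEq.respectTransparency.types false

noncomputable section

universe u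

open CategoryTheory CategoryTheory.Limits AlgebraicGeometry Opposite AlgSp

namespace Groth.Agent.AlgSpDec.EtPullRestrict

variable {S : Scheme.{u}} {X Y : Sp S} {f : X ⟶ Y} (hrep : Representable f) (hf : IsEtaleMor f)

/-- Composition with an etale morphism is left adjoint to base change. -/
def adj : EtOver.postcomp f hf ⊣ EtOver.bc hrep :=
  Adjunction.mkOfHomEquiv
    { homEquiv := fun E V =>
        { toFun := fun k => EtOver.homMk (hrep.lift E.obj.hom k.hom.left (EtOver.w k).symm) (hrep.lift_fst _ _ _)
          invFun := fun l => EtOver.homMk (l.hom.left ≫ hrep.snd V.obj.hom) (by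
            change (yon S).map (l.hom.left ≫ hrep.snd V.obj.hom) ≫ V.obj.hom = E.obj.hom ≫ f
            rw [Functor.map_comp, Category.assoc, ← hrep.w, ← Category.assoc]
            exact congrArg (· ≫ f) (EtOver.w l))
          left_inv := fun k => EtOver.hom_ext _ _ (hrep.lift_snd _ _ _)
          right_inv := fun l => EtOver.hom_ext _ _ (hrep.hom_ext
            ((hrep.lift_fst _ _ _).trans (EtOver.w l).symm) (hrep.lift_snd _ _ _)) }
      homEquiv_naturality_left_symm := fun h l => EtOver.hom_ext _ _ (Category.assoc _ _ _)
      homEquiv_naturality_right := fun {E V V'} k g => EtOver.hom_ext _ _ (hrep.hom_ext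
        (by
          change (yon S).map (hrep.lift _ _ _) ≫ hrep.fst V'.obj.hom =
            (yon S).map (hrep.lift _ _ _ ≫ (EtOver.bcMap hrep g).hom.left) ≫ hrep.fst V'.obj.hom
          rw [hrep.lift_fst, Functor.map_comp, Category.assoc, EtOver.map_bcMap_fst, hrep.lift_fst])
        (by
          change hrep.lift _ _ _ ≫ hrep.snd V'.obj.hom =
            (hrep.lift _ _ _ ≫ (EtOver.bcMap hrep g).hom.left) ≫ hrep.snd V'.obj.hom
          rw [hrep.lift_snd, Category.assoc, EtOver.bcMap_snd, ← Category.assoc, hrep.lift_snd]
          rfl)) }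

/-- Restriction of the structure sheaf. -/
def φ :
    haveI := PostcompSite.isContinuous f hf
    OEtRing X ⟶ ((EtOver.postcomp f hf).sheafPushforwardContinuous RingCat.{u + 1} (etTop X) (etTop Y)).obj
      (OEtRing Y) :=
  haveI := PostcompSite.isContinuous f hf
  ObjectProperty.homMk
    { app := fun E => (BigSite.ORing Scheme.etalePrecoverage S).obj.map (𝟙 E.unop.obj.left).op
      naturality := fun E E' g => by
        change (BigSite.ORing Scheme.etalePrecoverage S).obj.map g.unop.hom.left.op ≫
            (BigSite.ORing Scheme.etalePrecoverage S).obj.map (𝟙 E'.unop.obj.left).op =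
          (BigSite.ORing Scheme.etalePrecoverage S).obj.map (𝟙 E.unop.obj.left).op ≫
            (BigSite.ORing Scheme.etalePrecoverage S).obj.map g.unop.hom.left.op
        rw [← Functor.map_comp, ← Functor.map_comp, ← op_comp, ← op_comp, Category.id_comp, Category.comp_id] }

/-- Restriction along an etale morphism is left adjoint to the direct image. -/
def modAdj :
    haveI := PostcompSite.isContinuous f hf
    SheafOfModules.pushforward.{u + 1} (φ hf) ⊣ pushModEt hrep :=
  haveI := PostcompSite.isContinuous f hf
  SheafOfModules.pushforwardPushforwardAdj (adj hrep hf) (φ hf) (bcRingHom hrep)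
    (by
      ext V : 2
      change (BigSite.ORing Scheme.etalePrecoverage S).obj.map ((adj hrep hf).counit.app V.unop).hom.left.op =
        (BigSite.ORing Scheme.etalePrecoverage S).obj.map (hrep.snd V.unop.obj.hom).op ≫
          (BigSite.ORing Scheme.etalePrecoverage S).obj.map (𝟙 (hrep.pullback V.unop.obj.hom)).op
      rw [← Functor.map_comp, ← op_comp]
      rfl)
    (by
      ext E : 2
      change (BigSite.ORing Scheme.etalePrecoverage S).obj.map (𝟙 E.unop.obj.left).op ≫
          (BigSite.ORing Scheme.etalePrecoverage S).obj.map (hrep.snd (E.unop.obj.hom ≫ f)).op ≫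
          (BigSite.ORing Scheme.etalePrecoverage S).obj.map ((adj hrep hf).unit.app E.unop).hom.left.op =
        𝟙 ((BigSite.ORing Scheme.etalePrecoverage S).obj.obj (op E.unop.obj.left))
      rw [← Functor.map_comp, ← Functor.map_comp, ← CategoryTheory.Functor.map_id, ← op_comp, ← op_comp, ← op_id]
      congr 2
      rw [Category.comp_id]
      exact hrep.lift_snd _ _ _)

theorem preservesFiniteLimits_restrict :
    haveI := PostcompSite.isContinuous f hf
    PreservesFiniteLimits (SheafOfModules.pushforward.{u + 1} (φ hf)) := by
  haveI := PostcompSite.isContinuous f hf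
  refine ⟨fun J _ _ => ?_⟩
  let G := SheafOfModules.toSheaf.{u + 1} (OEtRing X) ⋙ sheafToPresheaf (etTop X) AddCommGrpCat.{u + 1}
  haveI : G.ReflectsIsomorphisms :=
    inferInstanceAs (SheafOfModules.forget (OEtRing X) ⋙ PresheafOfModules.toPresheaf _).ReflectsIsomorphisms
  haveI : ReflectsLimitsOfShape J G := reflectsLimitsOfShape_of_reflectsIsomorphisms
  haveI : PreservesLimitsOfShape J (SheafOfModules.pushforward.{u + 1} (φ hf) ⋙ G) :=
    preservesLimitsOfShape_of_natIso (F := (SheafOfModules.toSheaf.{u + 1} (OEtRing Y) ⋙
      sheafToPresheaf (etTop Y) AddCommGrpCat.{u + 1}) ⋙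
      (Functor.whiskeringLeft _ _ _).obj (EtOver.postcomp f hf).op) (Iso.refl _)
  exact preservesLimitsOfShape_of_reflects_of_preserves _ G

theorem preservesFiniteLimits_pullModEt [(SheafOfModules.pushforward.{u + 1} (bcRingHom hrep)).IsRightAdjoint]
    (hf : IsEtaleMor f) : PreservesFiniteLimits (pullModEt hrep) :=
  haveI := PostcompSite.isContinuous f hf
  haveI := preservesFiniteLimits_restrict hf
  preservesFiniteLimits_of_natIso ((modAdj hrep hf).leftAdjointUniq (pullPushAdjModEt hrep))

end Groth.Agent.AlgSpDec.EtPullRestrict
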