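import Groth.Agent.AlgSpDec.EtPointConservative
import Mathlib.Algebra.Homology.ShortComplex.Ab
import Mathlib.Algebra.Homology.ShortComplex.Exact
import Mathlib.Algebra.Category.Grp.Colimits
import Mathlib.Algebra.Category.Grp.FilteredColimits

/-!
# Stalks of abelian sheaves on the small etale site
-/

set_option backward.isDefEq.respectTransparency false
set_option backward.isDefEq.respectTransparency.types false

universe u

open CategoryTheory CategoryTheory.Limits Opposite AlgebraicGeometry AlgSp Groth.Agent.AlgSpLib Groth.Agent.AlgSpPts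
open Groth.Agent.AlgSpDec.EtStalkElts Groth.Agent.AlgSpDec.EtPoint

namespace Groth.Agent.AlgSpDec.EtStalkAb

variable {S : Scheme.{u}} {X : Sp S}

/-- A geometric point lifts along a morphism whose image contains its base. -/
theorem exists_lift_of_mem_range {p : FieldPt X} (hp : p.IsGeometric) {Y E : EtOver X} (f : Y ⟶ E)
    (x : (FieldPt.liftsTo p).obj E) (h : base p (⟨E, x⟩ : EtNbhd p) ∈ Set.range f.hom.left.left) :
    ∃ y : (FieldPt.liftsTo p).obj Y, (FieldPt.liftsTo p).map f y = x := by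
  have : IsAlgClosed p.K := hp
  obtain ⟨y, hy⟩ := h
  have he : Etale f.hom.left.left := EtOver.etale_left f
  obtain ⟨l, hl, -⟩ := exists_lift_geometric (IsAlgSpace.yon_obj Y.obj.left) (IsAlgSpace.yon_obj E.obj.left)
    (f := (yon S).map f.hom.left) (locP_of_repWith ((repWith_yon_map_iff _ _).2 he))
    ((yon S).map x.1) (u := Points.ofScheme _ y) (by
      rw [← Points.ofPt_eq_map_ofScheme, ← Category.comp_id ((yon S).map f.hom.left),
        ← Category.comp_id ((yon S).map x.1), ofPt_comp, ofPt_comp, hy]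
      rfl)
  obtain ⟨k, rfl⟩ := (yon S).map_surjective l
  refine ⟨⟨k, ?_⟩, Subtype.ext ((yon S).map_injective ?_)⟩
  · show (yon S).map k ≫ _ = p.toHom
    rw [← EtOver.w f, ← Category.assoc, hl]
    exact x.2
  · show (yon S).map (k ≫ f.hom.left) = _
    rw [Functor.map_comp, hl]

variable (F : AbEt X) (hX : IsAlgSpace X)

section stalk

variable {p : FieldPt X} (hp : p.IsGeometric)

include hX hp

theorem stalkι_eq_zero_iff (N : EtNbhd p) (σ : F.obj.obj (op N.1)) :
    (stalkEtι p F N).hom σ = 0 ↔ ∃ (M : EtNbhd p) (g : M ⟶ N), (F.obj.map g.val.op).hom σ = 0 := by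
  haveI : HasColimitsOfSize.{u, u} AddCommGrpCat.{u + 1} := hasColimitsOfSizeShrink.{u, u, u + 1, u + 1} _
  haveI : PreservesFilteredColimitsOfSize.{u, u} (CategoryTheory.forget AddCommGrpCat.{u + 1}) :=
    preservesFilteredColimitsOfSize_shrink.{u, u + 1, u, u + 1} _
  let Φ := point hX p hp
  constructor
  · intro h
    have h' : Φ.toPresheafFiber N.1 N.2 F.obj σ = Φ.toPresheafFiber N.1 N.2 F.obj 0 :=
      h.trans (map_zero (stalkEtι p F N).hom).symm
    obtain ⟨Y, f, y, hy, he⟩ := (Φ.toPresheafFiber_eq_iff' (P := F.obj) N.1 N.2 σ 0).1 h'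
    exact ⟨⟨Y, y⟩, CategoryOfElements.homMk _ _ f hy, he.trans (map_zero (F.obj.map f.op).hom)⟩
  · rintro ⟨M, g, h⟩
    refine (ConcreteCategory.congr_hom (colimit.w (stalkEtDiagram p F) g.op) σ).symm.trans ?_
    exact (congrArg (stalkEtι p F M).hom h).trans (map_zero _)

theorem exists_rep (z : ↥(stalkEt p F)) :
    ∃ (N : EtNbhd p) (σ : F.obj.obj (op N.1)), (stalkEtι p F N).hom σ = z := by
  haveI : HasColimitsOfSize.{u, u} AddCommGrpCat.{u + 1} := hasColimitsOfSizeShrink.{u, u, u + 1, u + 1} _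
  haveI : PreservesFilteredColimitsOfSize.{u, u} (CategoryTheory.forget AddCommGrpCat.{u + 1}) :=
    preservesFilteredColimitsOfSize_shrink.{u, u + 1, u, u + 1} _
  obtain ⟨Y, y, r, hr⟩ := (point hX p hp).toPresheafFiber_jointly_surjective (P := F.obj) z
  exact ⟨⟨Y, y⟩, r, hr⟩

end stalk

/-- The largest open of `U` on which `σ` vanishes. -/
def zeroLocus {U : EtOver X} (σ : F.obj.obj (op U)) : U.obj.left.left.Opens :=
  ⟨⋃ (V : EtOver X) (φ : V ⟶ U) (_ : (F.obj.map φ.op).hom σ = 0), Set.range φ.hom.left.left,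
    isOpen_iUnion fun _ => isOpen_iUnion fun φ => isOpen_iUnion fun _ =>
      have : Etale φ.hom.left.left := EtOver.etale_left φ
      φ.hom.left.left.isOpenMap.isOpen_range⟩

theorem mem_zeroLocus {U : EtOver X} {σ : F.obj.obj (op U)} {u : ↥U.obj.left.left} :
    u ∈ zeroLocus F σ ↔
      ∃ (V : EtOver X) (φ : V ⟶ U), (F.obj.map φ.op).hom σ = 0 ∧ u ∈ Set.range φ.hom.left.left := by
  show u ∈ (⋃ _, _) ↔ _
  simp only [Set.mem_iUnion, exists_prop]

include hX

theorem stalkι_eq_zero_iff_mem {p : FieldPt X} (hp : p.IsGeometric) (N : EtNbhd p) (σ : F.obj.obj (op N.1)) :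
    (stalkEtι p F N).hom σ = 0 ↔ base p N ∈ zeroLocus F σ := by
  rw [stalkι_eq_zero_iff F hX hp, mem_zeroLocus]
  constructor
  · rintro ⟨M, g, h⟩
    exact ⟨M.1, g.val, h, base p M, EtStalkHenz.base_map g⟩
  · rintro ⟨V, φ, h, hu⟩
    obtain ⟨y, hy⟩ := exists_lift_of_mem_range hp φ N.2 hu
    exact ⟨⟨V, y⟩, CategoryOfElements.homMk _ _ φ hy, h⟩

theorem map_eq_zero_iff {U : EtOver X} (σ : F.obj.obj (op U)) {V : EtOver X} (φ : V ⟶ U) :
    (F.obj.map φ.op).hom σ = 0 ↔ Set.range φ.hom.left.left ⊆ (zeroLocus F σ : Set ↥U.obj.left.left) := by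
  refine ⟨fun h u hu => (mem_zeroLocus F).2 ⟨V, φ, h, hu⟩, fun h => ?_⟩
  let T : Sieve V := Presheaf.equalizerSieve (F := F.obj) (X := op V) ((F.obj.map φ.op).hom σ) 0
  suffices hT : T ∈ etTop X V by
    have hs := (isSheaf_iff_isSheaf_of_type _ _).1
      ((sheafCompose (etTop X) (CategoryTheory.forget AddCommGrpCat.{u + 1})).obj F).property
    exact (hs.isSeparated T hT).ext fun Y f hf => hf
  refine mem_etTop_of_lifts hX _ fun p hp x => ?_
  obtain ⟨V', ψ, hψ, hu⟩ := (mem_zeroLocus F).1 (h ⟨base p (⟨V, x⟩ : EtNbhd p), rfl⟩)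
  obtain ⟨y, hy⟩ := exists_lift_of_mem_range hp ψ ((FieldPt.liftsTo p).map φ x) hu
  let x₀ : EtNbhd p := ⟨V, x⟩
  let y₀ : EtNbhd p := ⟨V', y⟩
  let u₀ : EtNbhd p := ⟨U, (FieldPt.liftsTo p).map φ x⟩
  let φ₀ : x₀ ⟶ u₀ := CategoryOfElements.homMk _ _ φ rfl
  let ψ₀ : y₀ ⟶ u₀ := CategoryOfElements.homMk _ _ ψ hy
  obtain ⟨P, a, b, -⟩ := exists_cone_obj p x₀ y₀
  obtain ⟨Q, c, hc⟩ := exists_cone_map p (a ≫ φ₀) (b ≫ ψ₀)
  have hc' : (c ≫ a).val ≫ φ = (c ≫ b).val ≫ ψ := by
    have h0 : c.val ≫ a.val ≫ φ = c.val ≫ b.val ≫ ψ := congrArg Subtype.val hc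
    simpa using h0
  refine ⟨Q.1, (c ≫ a).val, ?_, Q.2, (c ≫ a).property⟩
  show (F.obj.map (c ≫ a).val.op).hom _ = (F.obj.map (c ≫ a).val.op).hom 0
  rw [map_zero]
  calc (F.obj.map (c ≫ a).val.op).hom ((F.obj.map φ.op).hom σ)
      = (F.obj.map ((c ≫ a).val ≫ φ).op).hom σ := by rw [op_comp, Functor.map_comp]; rfl
    _ = (F.obj.map (c ≫ b).val.op).hom ((F.obj.map ψ.op).hom σ) := by rw [hc', op_comp, Functor.map_comp]; rfl
    _ = 0 := by rw [hψ, map_zero]

/-- A sheaf with vanishing stalks is zero. -/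
theorem isZero_of_stalks (h : ∀ p : FieldPt X, p.IsGeometric → Subsingleton ↥(stalkEt p F)) : IsZero F := by
  have h' : ∀ (U : EtOver X) (σ : F.obj.obj (op U)), σ = 0 := fun U σ => by
    have h0 := (map_eq_zero_iff F hX σ (𝟙 U)).2 fun u _ => by
      obtain ⟨p, hp, hpu⟩ := EtStalkProps.exists_geometric (Points.ofPt U.obj.hom u)
      obtain ⟨l, hl⟩ := EtStalkStrict.exists_nbhd hX hp U.property hpu.symm
      rw [← hl]
      exact (stalkι_eq_zero_iff_mem F hX hp ⟨U, l⟩ σ).1 (@Subsingleton.elim _ (h p hp) _ _)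
    simpa using h0
  refine (IsZero.iff_id_eq_zero F).2 (Sheaf.hom_ext ?_)
  ext ⟨U⟩ σ
  exact h' U σ

omit hX in
theorem not_isZero_iff {A : AddCommGrpCat.{u + 1}} : ¬ IsZero A ↔ ∃ a : A, a ≠ 0 := by
  rw [AddCommGrpCat.isZero_iff_subsingleton, not_subsingleton_iff_nontrivial]
  exact nontrivial_iff_exists_ne 0

theorem exact_iff (C : ShortComplex (AbEt X)) :
    C.Exact ↔ ∀ p : FieldPt X, p.IsGeometric →
      ∀ y : ↥((stalkEtFunctor AddCommGrpCat.{u + 1} p).obj C.X₂),
        ((stalkEtFunctor AddCommGrpCat.{u + 1} p).map C.g) y = 0 →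
          ∃ x : ↥((stalkEtFunctor AddCommGrpCat.{u + 1} p).obj C.X₁),
            ((stalkEtFunctor AddCommGrpCat.{u + 1} p).map C.f) x = y := by
  haveI : HasColimitsOfSize.{u, u} AddCommGrpCat.{u + 1} := hasColimitsOfSizeShrink.{u, u, u + 1, u + 1} _
  haveI : AB5OfSize.{u, u} AddCommGrpCat.{u + 1} := AB5OfSize_shrink.{u, u, u + 1, u + 1} _
  have key : ∀ p : FieldPt X, p.IsGeometric →
      ∃ _ : (stalkEtFunctor AddCommGrpCat.{u + 1} p).PreservesZeroMorphisms,
        (stalkEtFunctor AddCommGrpCat.{u + 1} p).PreservesHomology := fun p hp => by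
    haveI := preservesFiniteLimits_stalkEtFunctor AddCommGrpCat.{u + 1} hX hp
    haveI := preservesFiniteColimits_stalkEtFunctor AddCommGrpCat.{u + 1} hX hp
    haveI : (stalkEtFunctor AddCommGrpCat.{u + 1} p).Additive := Functor.additive_of_preserves_binary_products _
    exact ⟨inferInstance, inferInstance⟩
  constructor
  · intro h p hp
    obtain ⟨_, _⟩ := key p hp
    exact (ShortComplex.ab_exact_iff _).1 (h.map (stalkEtFunctor AddCommGrpCat.{u + 1} p))
  · intro h
    rw [ShortComplex.exact_iff_isZero_homology]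
    refine isZero_of_stalks C.homology hX fun p hp => ?_
    obtain ⟨_, _⟩ := key p hp
    exact AddCommGrpCat.subsingleton_of_isZero (((ShortComplex.exact_iff_isZero_homology _).1
      ((ShortComplex.ab_exact_iff (C.map (stalkEtFunctor AddCommGrpCat.{u + 1} p))).2 (h p hp))).of_iso
      (C.mapHomologyIso (stalkEtFunctor AddCommGrpCat.{u + 1} p)).symm)

end Groth.Agent.AlgSpDec.EtStalkAb
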