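import Groth.Agent.AlgSpDec.EtStalkProps
import Groth.Agent.BrnchLib.HenzStrict
import Groth.Agent.BrnchLib.ComplMin

/-!
# Minimal primes of etale local rings
-/

set_option backward.isDefEq.respectTransparency false
set_option backward.isDefEq.respectTransparency.types false

universe u v w

open CategoryTheory CategoryTheory.Limits Opposite AlgebraicGeometry AlgSp Groth.Agent.AlgSpLib Groth.Agent.AlgSpPts
open Groth.Agent.AlgSpDec.EtStalkElts Groth.Agent.AlgSpDec.EtStalkHenz

namespace Groth.Agent.AlgSpDec.EtStalkBranches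

theorem encard_minimalPrimes_of_ringEquiv {A : Type v} {B : Type w} [CommRing A] [CommRing B] (e : A ≃+* B) :
    (minimalPrimes A).encard = (minimalPrimes B).encard := by
  have h : Ideal.comap (e : A →+* B) '' minimalPrimes B = minimalPrimes A := by
    rw [minimalPrimes, minimalPrimes, ← Ideal.comap_minimalPrimes_eq_of_surjective e.surjective]
    congr 1
    exact (Ideal.comap_bot_of_injective _ e.injective)
  rw [← h]
  exact ((Ideal.comap_injective_of_surjective (e : A →+* B) e.surjective).injOn).encard_image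

variable {S : Scheme.{u}} {X : Sp S} {p : FieldPt X} {U : Over S} {a : (yon S).obj U ⟶ X} {u : ↥U.left}

theorem encard_eq_numGeomBranchesAt (hX : IsAlgSpace X) (hp : p.IsGeometric) (ha : RepWith @Etale a)
    (hu : Points.ofPt a u = Points.mk p) :
    (minimalPrimes ↥(OEtStalk p)).encard = Brnch.numGeomBranchesAt U.left u := by
  obtain ⟨H, _, _, _, _, hs, ⟨e⟩⟩ := EtStalkStrict.exists_strictHenselization hX hp ha hu
  rw [encard_minimalPrimes_of_ringEquiv e, ← ENat.card_coe_set_eq]
  exact BrnchLib.card_minimalPrimes_strictHenselization (U.left.presheaf.stalk u) H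

theorem encard_le (hX : IsAlgSpace X) (hp : p.IsGeometric) (ha : RepWith @Etale a)
    (hu : Points.ofPt a u = Points.mk p) :
    (minimalPrimes (U.left.presheaf.stalk u)).encard ≤ (minimalPrimes ↥(OEtStalk p)).encard := by
  obtain ⟨H, _, _, _, _, hs, ⟨e⟩⟩ := EtStalkStrict.exists_strictHenselization hX hp ha hu
  rw [encard_minimalPrimes_of_ringEquiv e]
  have hff : letI := (algebraMap (U.left.presheaf.stalk u) H).toAlgebra
      Module.FaithfullyFlat (U.left.presheaf.stalk u) H := by
    rw [show (algebraMap (U.left.presheaf.stalk u) H).toAlgebra = ‹Algebra (U.left.presheaf.stalk u) H› from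
      Algebra.algebra_ext _ _ fun _ => rfl]
    exact Hensel.faithfullyFlat_of_isStrictHenselization (R := U.left.presheaf.stalk u) (S := H)
  exact (Set.encard_le_encard (BrnchLib.surjOn_minimalPrimes (algebraMap _ H) hff)).trans (Set.encard_image_le _ _)

/-- Finitely many elements of the etale local ring come from one neighbourhood. -/
theorem exists_common_rep (hX : IsAlgSpace X) (hp : p.IsGeometric) (Z : Finset ↥(OEtStalk p)) :
    ∃ M : EtNbhd p, IsAffine M.1.obj.left.left ∧ ∀ z ∈ Z, ∃ b, ι p M b = z := by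
  classical
  induction Z using Finset.induction with
  | empty =>
    obtain ⟨N⟩ := exists_etNbhd p hX hp
    obtain ⟨M, -, hM, -⟩ := exists_affine N ⊤ trivial
    exact ⟨M, hM, by simp⟩
  | insert z Z _ ih =>
    obtain ⟨N, -, hN⟩ := ih
    obtain ⟨N', b, rfl⟩ := exists_rep p hX hp z
    obtain ⟨P, g, g', -⟩ := exists_cone_obj p N N'
    obtain ⟨M, h, hM, -⟩ := exists_affine P ⊤ trivial
    refine ⟨M, hM, fun y hy => ?_⟩
    rcases Finset.mem_insert.1 hy with rfl | hy
    · exact ⟨_, ι_map p (h ≫ g') b⟩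
    · obtain ⟨c, rfl⟩ := hN y hy
      exact ⟨_, ι_map p (h ≫ g) c⟩

/-- Finitely many minimal primes of the etale local ring stay distinct in the local ring of some chart. -/
theorem exists_chart_card_le (hX : IsAlgSpace X) (hp : p.IsGeometric) (t : Finset (Ideal ↥(OEtStalk p)))
    (ht : ↑t ⊆ minimalPrimes ↥(OEtStalk p)) :
    ∃ (U : Over S) (a : (yon S).obj U ⟶ X) (u : ↥U.left), RepWith @Etale a ∧ Points.ofPt a u = Points.mk p ∧
      (t.card : ℕ∞) ≤ (minimalPrimes (U.left.presheaf.stalk u)).encard := by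
  classical
  have : IsAlgClosed p.K := hp
  let P := (t ×ˢ t).filter fun x => ¬ x.1 ≤ x.2
  have hsep : ∀ x : P, ∃ z, z ∈ x.1.1 ∧ z ∉ x.1.2 := fun x =>
    SetLike.not_le_iff_exists.1 (Finset.mem_filter.1 x.2).2
  choose z hz₁ hz₂ using hsep
  obtain ⟨M, hM, hrep⟩ := exists_common_rep hX hp (Finset.univ.image z)
  refine ⟨M.1.obj.left, M.1.obj.hom, base p M, M.1.property, ofPt_base p M, ?_⟩
  let A := Γ(M.1.obj.left.left, ⊤)
  let R := M.1.obj.left.left.presheaf.stalk (base p M)
  let _ : Algebra A p.K := algK M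
  let E := stalkEquiv M hX hp
  have hE : ∀ b, E (ι p M b) = algebraMap A (H M) b := fun b => by
    show toHenz M hX hp (ι p M b) = _
    rw [toHenz_ι, comp'_eq M hX hp (⟨M, hM, 𝟙 M, 𝟙 M⟩ : Model M M), RingHom.comp_apply]
    exact β_base (𝟙 M) b
  have hv : ∀ c, ev p M c ≠ 0 → IsUnit (algebraMap A (H M) c) := fun c hc => by
    rw [EtHenz.isUnit_iff, AlgHom.commutes]
    exact hc
  -- the contraction to the functions of the chart
  have hmin : ∀ Q ∈ minimalPrimes (H M), Q.comap (algebraMap A (H M)) ∈ minimalPrimes A := fun Q hQ => by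
    haveI := hQ.1.1
    refine ⟨⟨Ideal.IsPrime.comap _, bot_le⟩, fun q ⟨hq, _⟩ hle => ?_⟩
    haveI := hq
    haveI : Q.LiesOver (Q.comap (algebraMap A (H M))) := ⟨rfl⟩
    obtain ⟨Q', hQ'le, hQ', ho⟩ := Ideal.exists_ideal_le_liesOver_of_le (p := q)
      (q := Q.comap (algebraMap A (H M))) Q hle
    rw [ho.over]
    exact Ideal.comap_mono (hQ.2 ⟨hQ', bot_le⟩ hQ'le)
  let O := (isAffineOpen_top M.1.obj.left.left).primeIdealOf ⟨base p M, trivial⟩
  let _ := TopCat.Presheaf.algebra_section_stalk M.1.obj.left.left.presheaf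
    (⟨base p M, trivial⟩ : (⊤ : M.1.obj.left.left.Opens))
  have := (isAffineOpen_top M.1.obj.left.left).isLocalization_stalk ⟨base p M, trivial⟩
  have hOv : ∀ c : O.asIdeal.primeCompl, ev p M c ≠ 0 := fun c =>
    (isUnit_germ_iff M c).1 (IsLocalization.map_units R c)
  let ψ : R →+* H M := IsLocalization.lift (M := O.asIdeal.primeCompl) fun c => hv c (hOv c)
  let f : Ideal ↥(OEtStalk p) → Ideal R := fun I => (I.comap E.symm.toRingHom).comap ψ
  have hψ : ψ.comp (algebraMap A R) = algebraMap A (H M) := IsLocalization.lift_comp _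
  have hf : ∀ I ∈ t, f I ∈ minimalPrimes R := fun I hI => by
    have hI₀ := ht hI
    haveI := hI₀.1.1
    let Q := I.comap E.symm.toRingHom
    have hQ : Q ∈ minimalPrimes (H M) := by
      refine ⟨⟨Ideal.IsPrime.comap _, bot_le⟩, fun q ⟨hq, _⟩ hle => ?_⟩
      haveI := hq
      have h1 : q.comap E.toRingHom ≤ I := fun z hz => by
        have h2 : E.symm (E z) ∈ I := hle (show E z ∈ q from hz)
        rwa [E.symm_apply_apply] at h2
      intro z hz
      have h3 : E (E.symm z) ∈ q := hI₀.2 ⟨Ideal.IsPrime.comap _, bot_le⟩ h1 (show E.symm z ∈ I from hz)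
      rwa [E.apply_symm_apply] at h3
    haveI := hQ.1.1
    refine ⟨⟨Ideal.IsPrime.comap _, bot_le⟩, fun q ⟨hq, _⟩ hle => ?_⟩
    haveI := hq
    have h1 : Q.comap (algebraMap A (H M)) ≤ q.comap (algebraMap A R) :=
      (hmin Q hQ).2 ⟨Ideal.IsPrime.comap _, bot_le⟩ (by
        rw [← hψ, ← Ideal.comap_comap]
        exact Ideal.comap_mono hle)
    rw [← hψ, ← Ideal.comap_comap] at h1
    have h4 := Ideal.map_mono (f := algebraMap A R) h1
    rwa [IsLocalization.map_comap O.asIdeal.primeCompl, IsLocalization.map_comap O.asIdeal.primeCompl] at h4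
  have hinj : ∀ I ∈ t, ∀ J ∈ t, f I = f J → I ≤ J := fun I hI J hJ h => by
    by_contra hne
    let x : P := ⟨(I, J), Finset.mem_filter.2 ⟨Finset.mem_product.2 ⟨hI, hJ⟩, hne⟩⟩
    obtain ⟨b, hb⟩ := hrep (z x) (Finset.mem_image.2 ⟨x, Finset.mem_univ _, rfl⟩)
    have hval : E.symm (ψ (algebraMap A R b)) = z x := by
      rw [← RingHom.comp_apply, hψ, ← hE b, E.symm_apply_apply, hb]
    refine hz₂ x ?_
    have h5 : algebraMap A R b ∈ f I := show E.symm (ψ (algebraMap A R b)) ∈ I from hval.symm ▸ hz₁ x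
    rw [h] at h5
    rw [← hval]
    exact h5
  calc (t.card : ℕ∞) = ((f '' ↑t) : Set (Ideal R)).encard := by
        rw [Set.InjOn.encard_image fun I hI J hJ h => le_antisymm (hinj I hI J hJ h) (hinj J hJ I hI h.symm),
          Set.encard_coe_eq_coe_finsetCard]
    _ ≤ _ := Set.encard_le_encard fun J ⟨I, hI, hIJ⟩ => hIJ ▸ hf I hI

theorem encard_le_of_forall (hX : IsAlgSpace X) (hp : p.IsGeometric) (n : ℕ)
    (h : ∀ (U : Over S) (a : (yon S).obj U ⟶ X) (u : ↥U.left), RepWith @Etale a →
      Points.ofPt a u = Points.mk p → (minimalPrimes (U.left.presheaf.stalk u)).encard ≤ n) :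
    (minimalPrimes ↥(OEtStalk p)).encard ≤ n := by
  by_contra hlt
  obtain ⟨t, ht, hc⟩ := Set.exists_subset_encard_eq (k := (n : ℕ∞) + 1) (s := minimalPrimes ↥(OEtStalk p))
    (Order.add_one_le_of_lt (not_le.1 hlt))
  have htf : t.Finite := Set.finite_of_encard_eq_coe (k := n + 1) (by exact_mod_cast hc)
  obtain ⟨U, a, u, ha, hu, hle⟩ := exists_chart_card_le hX hp htf.toFinset (by simpa using ht)
  have h1 := hle.trans (h U a u ha hu)
  rw [← htf.encard_eq_coe_toFinset_card, hc] at h1
  exact absurd h1 (by exact_mod_cast Nat.not_succ_le_self n)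

theorem exists_chart_eq (hX : IsAlgSpace X) (hp : p.IsGeometric) (n : ℕ)
    (h : (minimalPrimes ↥(OEtStalk p)).encard = n) :
    ∃ (U : Over S) (a : (yon S).obj U ⟶ X) (u : ↥U.left), RepWith @Etale a ∧ Points.ofPt a u = Points.mk p ∧
      (minimalPrimes (U.left.presheaf.stalk u)).encard = n := by
  have hfin : (minimalPrimes ↥(OEtStalk p)).Finite := Set.finite_of_encard_eq_coe h
  obtain ⟨U, a, u, ha, hu, hle⟩ := exists_chart_card_le hX hp hfin.toFinset (by simp)
  rw [← hfin.encard_eq_coe_toFinset_card, h] at hle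
  exact ⟨U, a, u, ha, hu, le_antisymm ((encard_le hX hp ha hu).trans h.le) hle⟩

theorem encard_eq_iff (hX : IsAlgSpace X) (x : Points X) (n : ℕ) :
    (((∀ (U : Over S) (a : (yon S).obj U ⟶ X) (u : ↥U.left),
        RepWith @Etale a → Points.ofPt a u = x → (minimalPrimes ↥(U.left.presheaf.stalk u)).encard ≤ n) ∧
        HasAt (fun U u => (minimalPrimes ↥(U.presheaf.stalk u)).encard = n) X x) ↔
      (∀ (U : Over S) (a : (yon S).obj U ⟶ X) (u : ↥U.left),
        RepWith @Etale a → Points.ofPt a u = x → Brnch.numGeomBranchesAt U.left u = n)) ∧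
    ((∀ (U : Over S) (a : (yon S).obj U ⟶ X) (u : ↥U.left),
        RepWith @Etale a → Points.ofPt a u = x → Brnch.numGeomBranchesAt U.left u = n) ↔
      ∀ p : FieldPt X, p.IsGeometric → Points.mk p = x → (minimalPrimes ↥(OEtStalk p)).encard = n) := by
  have h45 : (∀ (U : Over S) (a : (yon S).obj U ⟶ X) (u : ↥U.left),
        RepWith @Etale a → Points.ofPt a u = x → Brnch.numGeomBranchesAt U.left u = n) ↔
      ∀ p : FieldPt X, p.IsGeometric → Points.mk p = x → (minimalPrimes ↥(OEtStalk p)).encard = n := by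
    constructor
    · rintro h p hp rfl
      obtain ⟨U, a, u, ha, hu⟩ := EtStalkProps.exists_chart_point hX (Points.mk p)
      rw [encard_eq_numGeomBranchesAt hX hp ha hu]
      exact h U a u ha hu
    · intro h U a u ha hu
      obtain ⟨p, hp, hpx⟩ := EtStalkProps.exists_geometric x
      rw [← encard_eq_numGeomBranchesAt hX hp ha (hu.trans hpx.symm)]
      exact h p hp hpx
  refine ⟨?_, h45⟩
  rw [h45]
  constructor
  · rintro ⟨h1, U, a, u, ha, hu, h2⟩ p hp rfl
    exact le_antisymm (encard_le_of_forall hX hp n h1) (h2 ▸ encard_le hX hp ha hu)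
  · intro h
    obtain ⟨p, hp, rfl⟩ := EtStalkProps.exists_geometric x
    refine ⟨fun U a u ha hu => (encard_le hX hp ha hu).trans (h p hp rfl).le, ?_⟩
    obtain ⟨U, a, u, ha, hu, he⟩ := exists_chart_eq hX hp n (h p hp rfl)
    exact ⟨U, a, u, ha, hu, he⟩

theorem hasUniqueMinimalPrime_iff (A : Type v) [CommRing A] :
    (∃! 𝔭 : Ideal A, 𝔭 ∈ minimalPrimes A) ↔ (minimalPrimes A).encard = 1 := by
  rw [Set.encard_eq_one]
  refine exists_congr fun P => ⟨fun h => Set.ext fun Q => ⟨h.2 Q, fun hQ => (Set.mem_singleton_iff.1 hQ) ▸ h.1⟩,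
    fun h => ⟨h ▸ rfl, fun Q hQ => by simpa [h] using hQ⟩⟩

end Groth.Agent.AlgSpDec.EtStalkBranches
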