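import Groth.Agent.AlgSpDec.OneFlat
import Groth.Agent.S4366
import Mathlib.AlgebraicGeometry.PullbackCarrier

/-!
# Reducedness of local rings along etale morphisms
-/

set_option backward.isDefEq.respectTransparency false
set_option backward.isDefEq.respectTransparency.types false

universe u

open CategoryTheory CategoryTheory.Limits AlgebraicGeometry AlgSp Groth.Agent.AlgSpLib Groth.Agent.AlgSpPts

namespace Groth.Agent.AlgSpDec

variable {X Y : Scheme.{u}}

/-- Reducedness of the local ring is invariant under etale morphisms. -/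
theorem isReduced_stalk_iff_of_etale (f : X ⟶ Y) [Etale f] (x : X) :
    _root_.IsReduced (X.presheaf.stalk x) ↔ _root_.IsReduced (Y.presheaf.stalk (f x)) := by
  constructor
  · intro h
    let := (f.stalkMap x).hom.toAlgebra
    have : Module.Flat (Y.presheaf.stalk (f x)) (X.presheaf.stalk x) := Flat.stalkMap f x
    have : IsLocalHom (algebraMap (Y.presheaf.stalk (f x)) (X.presheaf.stalk x)) :=
      inferInstanceAs (IsLocalHom (f.stalkMap x).hom)
    have : Module.FaithfullyFlat (Y.presheaf.stalk (f x)) (X.presheaf.stalk x) :=
      Module.FaithfullyFlat.of_flat_of_isLocalHom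
    exact isReduced_of_injective (f.stalkMap x).hom
      (FaithfulSMul.algebraMap_injective (Y.presheaf.stalk (f x)) (X.presheaf.stalk x))
  · intro h
    have : AlgebraicGeometry.IsReduced (Spec (Y.presheaf.stalk (f x))) := inferInstance
    obtain ⟨z, hz, -⟩ := Scheme.Pullback.exists_preimage_pullback (f := f) (g := Y.fromSpecStalk (f x)) x
      (IsLocalRing.closedPoint (Y.presheaf.stalk (f x))) (Scheme.fromSpecStalk_closedPoint).symm
    have : AlgebraicGeometry.IsReduced (pullback f (Y.fromSpecStalk (f x))) :=
      isReduced_of_etaleMor (pullback.snd f (Y.fromSpecStalk (f x)))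
    have := Groth.Agent.S4366.result f (f x) z
    have h1 : _root_.IsReduced (X.presheaf.stalk ((pullback.fst f (Y.fromSpecStalk (f x))) z)) :=
      isReduced_of_injective ((pullback.fst f (Y.fromSpecStalk (f x))).stalkMap z).hom
        (ConcreteCategory.bijective_of_isIso ((pullback.fst f (Y.fromSpecStalk (f x))).stalkMap z)).1
    exact hz ▸ h1

/-- Reducedness of the local ring does not depend on the etale chart. -/
theorem isReduced_stalk_of_charts {S : Scheme.{u}} {F : Sp S} {U V : Over S} {a : (yon S).obj U ⟶ F}
    {b : (yon S).obj V ⟶ F} (ha : RepWith @Etale a) (hb : RepWith @Etale b) {u : ↥U.left} {v : ↥V.left}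
    (h : Points.ofPt a u = Points.ofPt b v) (hu : _root_.IsReduced (U.left.presheaf.stalk u)) :
    _root_.IsReduced (V.left.presheaf.stalk v) := by
  have sq := ha.rep.isPullback' b
  have : Etale (ha.rep.snd b).left := ha.property_snd b
  have : Etale (ha.rep.fst' b).left := hb.property _ _ _ sq.flip
  obtain ⟨w, hw, hw₂⟩ := exists_lift sq (x := Points.ofScheme U u) (t := v)
    (by rw [← Points.ofPt_eq_map_ofScheme]; exact h)
  have hw₁ : (ha.rep.fst' b).left w = u := (Points.schemeEquiv U).injective (by
    show Points.ofScheme U ((ha.rep.fst' b).left w) = Points.ofScheme U u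
    rw [← hw, ← Category.comp_id ((yon S).map (ha.rep.fst' b)), ofPt_comp])
  rw [← hw₁, ← isReduced_stalk_iff_of_etale (ha.rep.fst' b).left] at hu
  rwa [← hw₂, ← isReduced_stalk_iff_of_etale (ha.rep.snd b).left]

end Groth.Agent.AlgSpDec
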