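import Groth.Agent.SchDenseLib.FlatNoeth
import Groth.Agent.SchDenseLib.FlatLFP

/-!
# Schematic density of opens: descent, intersections, flat preimages, closures
-/

set_option backward.isDefEq.respectTransparency false
set_option backward.isDefEq.respectTransparency.types false

universe u

open CategoryTheory AlgebraicGeometry Opposite TopologicalSpace Groth.Agent.SchDenseLib

namespace Groth.Agent.AlgSpDec.SchDenseFacts

variable {X Y : Scheme.{u}}

theorem stalkMap_injective_of_flat (f : X ⟶ Y) [Flat f] (x : X) : Function.Injective (f.stalkMap x).hom := by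
  have h := Flat.stalkMap f x
  algebraize [(f.stalkMap x).hom]
  have : IsLocalHom (algebraMap (Y.presheaf.stalk (f x)) (X.presheaf.stalk x)) :=
    inferInstanceAs <| IsLocalHom (f.stalkMap x).hom
  have : Module.FaithfullyFlat (Y.presheaf.stalk (f x)) (X.presheaf.stalk x) :=
    Module.FaithfullyFlat.of_flat_of_isLocalHom
  exact FaithfulSMul.algebraMap_injective (Y.presheaf.stalk (f x)) (X.presheaf.stalk x)

/-- Schematic density descends along flat surjections. -/
theorem of_preimage (f : X ⟶ Y) [Flat f] [Surjective f] (U : Y.Opens)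
    (hU : CInt.IsSchematicallyDense (f ⁻¹ᵁ U)) : CInt.IsSchematicallyDense U := by
  rw [iff_eq_zero] at hU ⊢
  intro V s hs
  have h0 : f.app V s = 0 := by
    refine hU (f ⁻¹ᵁ V) _ ?_
    have h1 := congrArg (fun k => k.hom s) (f.naturality (homOfLE (inf_le_left : V ⊓ U ≤ V)).op)
    simp only [CommRingCat.comp_apply, CommRingCat.hom_comp, RingHom.comp_apply] at h1
    exact h1.symm.trans ((congrArg (f.app (V ⊓ U)).hom hs).trans (map_zero _))
  refine eq_zero_of_germ s fun y hy => ?_
  obtain ⟨x, rfl⟩ := f.surjective y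
  apply stalkMap_injective_of_flat f x
  rw [map_zero]
  exact (Scheme.Hom.germ_stalkMap_apply f V x hy s).trans ((congrArg _ h0).trans (map_zero _))

theorem inf {U U' : X.Opens} (hU : CInt.IsSchematicallyDense U) (hU' : CInt.IsSchematicallyDense U') :
    CInt.IsSchematicallyDense (U ⊓ U') := by
  rw [iff_eq_zero] at hU hU' ⊢
  intro V s hs
  refine hU V s (hU' (V ⊓ U) _ ?_)
  rw [← CommRingCat.comp_apply, ← Functor.map_comp]
  exact map_eq_zero_of_le s inf_le_left (inf_assoc V U U').le hs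

theorem exists_finset {U W : X.Opens} (hW : IsAffineOpen W) (hc : IsCompact ((W ⊓ U : X.Opens) : Set X)) :
    ∃ T : Finset Γ(X, W), (∀ g ∈ T, X.basicOpen g ≤ U) ∧ ∀ x ∈ W ⊓ U, ∃ g ∈ T, x ∈ X.basicOpen g := by
  classical
  choose g hgU hxg using fun x : ↥(W ⊓ U : X.Opens) => hW.exists_basicOpen_le ⟨x.1, x.2.2⟩ x.2.1
  obtain ⟨t, ht⟩ := hc.elim_finite_subcover (fun x => (X.basicOpen (g x) : Set X))
    (fun x => (X.basicOpen (g x)).isOpen) (fun x hx => Set.mem_iUnion.2 ⟨⟨x, hx⟩, hxg _⟩)
  refine ⟨t.image g, fun _ h => ?_, fun x hx => ?_⟩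
  · obtain ⟨x, -, rfl⟩ := Finset.mem_image.1 h
    exact hgU x
  · obtain ⟨y, hy⟩ := Set.mem_iUnion.1 (ht hx)
    obtain ⟨hyt, hy'⟩ : y ∈ t ∧ x ∈ X.basicOpen (g y) := by simpa using hy
    exact ⟨g y, Finset.mem_image_of_mem g hyt, hy'⟩

/-- Flat preimages of retrocompact schematically dense opens are schematically dense. -/
theorem preimage_of_flat_qc (f : Y ⟶ X) [Flat f] (U : X.Opens) (hU : CInt.IsSchematicallyDense U)
    (hc : ∀ W : X.Opens, IsAffineOpen W → IsCompact ((W ⊓ U : X.Opens) : Set X)) :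
    CInt.IsSchematicallyDense (f ⁻¹ᵁ U) := by
  refine preimage_of_algebra f U fun W W' e hW hW' b hb => ?_
  let := (f.appLE W W' e).hom.toAlgebra
  have : Module.Flat Γ(X, W) Γ(Y, W') := f.flat_appLE hW hW' e
  obtain ⟨T, hTU, hT⟩ := exists_finset hW (hc W hW)
  refine eq_zero_of_finite T (fun a ha => ?_) b fun g hg => hb g (hTU g hg)
  refine (iff_eq_zero U).1 hU W a (eq_zero_of_germ _ fun x hx => ?_)
  rw [X.presheaf.germ_res_apply]
  obtain ⟨g, hg, hxg⟩ := hT x hx
  obtain ⟨n, hn⟩ := ha g hg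
  have := congrArg (X.presheaf.germ W x hx.1).hom hn
  rw [map_mul, map_pow, map_zero] at this
  exact (((X.mem_basicOpen g x _).1 hxg).pow n).mul_right_eq_zero.1 this

theorem isCompact_inf_of_quasiCompact (U : X.Opens) [QuasiCompact U.ι] (W : X.Opens) (hW : IsAffineOpen W) :
    IsCompact ((W ⊓ U : X.Opens) : Set X) := by
  have h := (QuasiCompact.isCompact_preimage (f := U.ι) (W : Set X) W.isOpen hW.isCompact).image U.ι.continuous
  rwa [Set.image_preimage_eq_inter_range, Scheme.Opens.range_ι] at h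

/-- A retrocompact open is schematically dense iff its scheme theoretic image is everything. -/
theorem iff_ker_eq_bot (U : X.Opens) [QuasiCompact U.ι] :
    CInt.IsSchematicallyDense U ↔ U.ι.ker = ⊥ := by
  have key : ∀ (W : X.Opens) (b : Γ(X, W)), U.ι.app W b = 0 ↔
      X.presheaf.map (homOfLE (inf_le_left : W ⊓ U ≤ W)).op b = 0 := by
    intro W b
    have e : U.ι ''ᵁ (U.ι ⁻¹ᵁ W) = W ⊓ U := by
      rw [Scheme.Hom.image_preimage_eq_opensRange_inf, Scheme.Opens.opensRange_ι, inf_comm]
    rw [Scheme.Opens.ι_app]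
    constructor
    · intro h
      exact map_eq_zero_of_le b (Scheme.Hom.image_preimage_le _ _) e.ge h
    · intro h
      exact map_eq_zero_of_le b inf_le_left e.le h
  constructor
  · intro hU
    refine Scheme.IdealSheafData.ext (funext fun W => ?_)
    rw [Scheme.Hom.ker_apply, Scheme.IdealSheafData.ideal_bot, Pi.bot_apply]
    refine (RingHom.injective_iff_ker_eq_bot _).1 ((injective_iff_map_eq_zero (U.ι.app W.1).hom).2 fun b hb => ?_)
    exact (iff_eq_zero U).1 hU _ b ((key _ b).1 hb)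
  · intro h
    refine of_local _ fun V x hx => ?_
    obtain ⟨W, hW, hxW, hWV⟩ := Opens.isBasis_iff_nbhd.1 X.isBasis_affineOpens hx
    refine ⟨W, hWV, hxW, fun b hb => ?_⟩
    have h1 : b ∈ U.ι.ker.ideal ⟨W, hW⟩ := by
      rw [Scheme.Hom.ker_apply, RingHom.mem_ker]
      exact (key W b).2 hb
    rw [h, Scheme.IdealSheafData.ideal_bot, Pi.bot_apply, Ideal.mem_bot] at h1
    exact h1

end Groth.Agent.AlgSpDec.SchDenseFacts
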