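import Groth.Agent.AlgSpDec.EtNbhdCofiltered
import Groth.Agent.AlgSpDec.ReducedStalk
import Groth.Agent.AlgSpDec.SchDenseFacts
import Groth.Prelude.Def_AlgSpOX3
import Mathlib.Algebra.Category.Ring.FilteredColimits
import Mathlib.CategoryTheory.Limits.ConcreteCategory.Basic
import Mathlib.CategoryTheory.Limits.Preserves.Filtered

/-!
# Elements of etale local rings
-/

set_option backward.isDefEq.respectTransparency false
set_option backward.isDefEq.respectTransparency.types false

universe u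

open CategoryTheory CategoryTheory.Limits Opposite AlgebraicGeometry AlgSp Groth.Agent.AlgSpLib Groth.Agent.AlgSpPts

namespace Groth.Agent.AlgSpDec.EtStalkElts

variable {S : Scheme.{u}} {X : Sp S} (p : FieldPt X) (hX : IsAlgSpace X) (hp : p.IsGeometric)

theorem appLE_comp_ι {A Y : Scheme.{u}} {W : Y.Opens} (e : A ⟶ W.toScheme) (h : ⊤ ≤ (e ≫ W.ι) ⁻¹ᵁ W) :
    (e ≫ W.ι).appLE W ⊤ h = W.topIso.inv ≫ e.appTop := by
  have h1 : W.toScheme.presheaf.map (homOfLE (le_top : W.ι ⁻¹ᵁ W ≤ ⊤)).op ≫ e.appLE (W.ι ⁻¹ᵁ W) ⊤ h =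
      e.appTop := by
    rw [Scheme.Hom.map_appLE, Scheme.Hom.appTop, Scheme.Hom.app_eq_appLE]
    rfl
  rw [Scheme.Hom.comp_appLE, Scheme.Opens.ι_app, ← h1, ← Category.assoc, Scheme.Opens.topIso_inv,
    Scheme.Opens.toScheme_presheaf_map, ← Functor.map_comp]
  rfl

/-- The point of a neighbourhood. -/
noncomputable def base (N : EtNbhd p) : ↥N.1.obj.left.left := N.2.1.left (IsLocalRing.closedPoint p.K)

theorem ofPt_base (N : EtNbhd p) : Points.ofPt N.1.obj.hom (base p N) = Points.mk p := by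
  rw [← Points.ofPt_toHom p (IsLocalRing.closedPoint p.K), ← N.2.2]
  exact (ofPt_comp N.2.1 N.1.obj.hom _).symm

/-- The germ of a global function at the point. -/
noncomputable def germ (N : EtNbhd p) : Γ(N.1.obj.left.left, ⊤) →+* N.1.obj.left.left.presheaf.stalk (base p N) :=
  (N.1.obj.left.left.presheaf.germ ⊤ (base p N) trivial).hom

/-- The canonical map to the etale local ring. -/
noncomputable def ι (N : EtNbhd p) : Γ(N.1.obj.left.left, ⊤) →+* OEtStalk p :=
  (stalkEtι p (OEt X) N).hom.comp ULift.ringEquiv.symm.toRingHom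

theorem ι_apply (N : EtNbhd p) (a : Γ(N.1.obj.left.left, ⊤)) :
    ι p N a = (stalkEtι p (OEt X) N).hom (ULift.up a) := rfl

theorem ι_map {N M : EtNbhd p} (g : M ⟶ N) (a : Γ(N.1.obj.left.left, ⊤)) :
    ι p M (g.val.hom.left.left.appTop.hom a) = ι p N a := by
  rw [ι_apply, ι_apply]
  exact ConcreteCategory.congr_hom (colimit.w (stalkEtDiagram p (OEt X)) g.op) (ULift.up a)

include hX hp

theorem exists_rep (z : OEtStalk p) : ∃ (N : EtNbhd p) (a : Γ(N.1.obj.left.left, ⊤)), ι p N a = z := by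
  haveI := isCofiltered_etNbhd p hX hp
  haveI : PreservesFilteredColimitsOfSize.{u, u + 1} (CategoryTheory.forget CommRingCat.{u + 1}) :=
    preservesFilteredColimitsOfSize_shrink.{u + 1, u + 1, u, u + 1} _
  obtain ⟨⟨N⟩, ⟨a⟩, ha⟩ := Concrete.colimit_exists_rep (stalkEtDiagram p (OEt X)) z
  exact ⟨N, a, ha⟩

theorem ι_eq_zero_iff (N : EtNbhd p) (a : Γ(N.1.obj.left.left, ⊤)) :
    ι p N a = 0 ↔ ∃ (M : EtNbhd p) (g : M ⟶ N), g.val.hom.left.left.appTop.hom a = 0 := by
  haveI := isCofiltered_etNbhd p hX hp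
  haveI : PreservesFilteredColimitsOfSize.{u, u + 1} (CategoryTheory.forget CommRingCat.{u + 1}) :=
    preservesFilteredColimitsOfSize_shrink.{u + 1, u + 1, u, u + 1} _
  constructor
  · intro h
    rw [← map_zero (ι p N), ι_apply, ι_apply] at h
    obtain ⟨⟨M⟩, f, g, hfg⟩ := (Concrete.colimit_rep_eq_iff_exists (stalkEtDiagram p (OEt X)) _ _).1 h
    refine ⟨M, f.unop, ?_⟩
    exact (congrArg ULift.down hfg).trans (map_zero g.unop.val.hom.left.left.appTop.hom)
  · rintro ⟨M, g, h⟩
    rw [← ι_map p g a, h, map_zero]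

omit hX hp

/-- An open neighbourhood of the point is a neighbourhood. -/
theorem exists_open (N : EtNbhd p) (W : N.1.obj.left.left.Opens) (hW : base p N ∈ W) :
    ∃ (M : EtNbhd p) (g : M ⟶ N) (e : M.1.obj.left.left ≅ W.toScheme), e.hom ≫ W.ι = g.val.hom.left.left := by
  let T : Over S := Over.mk (W.ι ≫ N.1.obj.left.hom)
  let j : T ⟶ N.1.obj.left := CategoryTheory.Over.homMk W.ι rfl
  let E : EtOver X := EtOver.mk ((yon S).map j ≫ N.1.obj.hom)
    (repWith_comp ((repWith_yon_map_iff _ _).2 (inferInstanceAs (Etale W.ι))) N.1.property)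
  have hr : Set.range N.2.1.left ⊆ Set.range W.ι := by
    rintro _ ⟨z, rfl⟩
    rw [Scheme.Opens.range_ι, Subsingleton.elim z (IsLocalRing.closedPoint p.K)]
    exact hW
  let l : p.pt ⟶ T := CategoryTheory.Over.homMk (IsOpenImmersion.lift W.ι N.2.1.left hr) (by
    change _ ≫ W.ι ≫ _ = _
    rw [IsOpenImmersion.lift_fac_assoc]
    exact Over.w N.2.1)
  have hl : l ≫ j = N.2.1 := Over.OverMorphism.ext (IsOpenImmersion.lift_fac _ _ _)
  let w : (FieldPt.liftsTo p).obj E := ⟨l, by
    show (yon S).map l ≫ (yon S).map j ≫ N.1.obj.hom = p.toHom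
    rw [← Functor.map_comp_assoc, hl]
    exact N.2.2⟩
  exact ⟨⟨E, w⟩, CategoryOfElements.homMk _ _ (EtOver.homMk j rfl) (Subtype.ext hl), Iso.refl _, Category.id_comp _⟩

theorem ι_eq_zero_of_germ (N : EtNbhd p) (a : Γ(N.1.obj.left.left, ⊤)) (h : germ p N a = 0) : ι p N a = 0 := by
  rw [← map_zero (germ p N)] at h
  obtain ⟨W₀, hW, i, i', hh⟩ := TopCat.Presheaf.germ_eq N.1.obj.left.left.presheaf (base p N) _ _ a 0 h
  let W : N.1.obj.left.left.Opens := W₀
  obtain ⟨M, g, e, he⟩ := exists_open p N W hW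
  have h0 : W.ι.appTop.hom a = 0 := by
    rw [Scheme.Opens.ι_appTop]
    rw [map_zero] at hh
    have e' : (homOfLE (show W.ι ''ᵁ ⊤ ≤ (⊤ : N.1.obj.left.left.Opens) from le_top)).op = i.op ≫
        (eqToHom W.ι_image_top).op := rfl
    show N.1.obj.left.left.presheaf.map (homOfLE (show W.ι ''ᵁ ⊤ ≤ (⊤ : N.1.obj.left.left.Opens) from le_top)).op a = 0
    rw [e', Functor.map_comp, CommRingCat.comp_apply]
    exact (congrArg _ hh).trans (map_zero _)
  rw [← ι_map p g a, ← he, Scheme.Hom.comp_appTop, CommRingCat.comp_apply, h0, map_zero, map_zero]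

include hX hp

theorem germ_eq_zero_of_ι (N : EtNbhd p) (a : Γ(N.1.obj.left.left, ⊤)) (h : ι p N a = 0) : germ p N a = 0 := by
  obtain ⟨M, g, hg⟩ := (ι_eq_zero_iff p hX hp N a).1 h
  let f := g.val.hom.left.left
  have hb : f (base p M) = base p N := by
    show f (M.2.1.left _) = N.2.1.left _
    rw [← Scheme.Hom.comp_apply]
    exact congrArg (fun k : p.pt ⟶ N.1.obj.left => k.left (IsLocalRing.closedPoint p.K)) (congrArg Subtype.val g.property)
  have : Etale f := EtOver.etale_left g.val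
  have hgen : ∀ y, y = f (base p M) → N.1.obj.left.left.presheaf.germ ⊤ y trivial a = 0 := by
    rintro _ rfl
    apply SchDenseFacts.stalkMap_injective_of_flat f (base p M)
    rw [map_zero]
    exact (Scheme.Hom.germ_stalkMap_apply f ⊤ (base p M) trivial a).trans ((congrArg _ hg).trans (map_zero _))
  exact hgen _ hb.symm

theorem isReduced_iff :
    HasAt (fun U u => _root_.IsReduced ↥(U.presheaf.stalk u)) X (Points.mk p) ↔ _root_.IsReduced ↥(OEtStalk p) := by
  constructor
  · rintro ⟨U, a, u, ha, hu, hr⟩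
    refine ⟨fun z hz => ?_⟩
    obtain ⟨N, b, rfl⟩ := exists_rep p hX hp z
    obtain ⟨n, hn⟩ := hz
    rw [← map_pow] at hn
    have h1 : IsNilpotent (germ p N b) := ⟨n, by rw [← map_pow]; exact germ_eq_zero_of_ι p hX hp N _ hn⟩
    have := isReduced_stalk_of_charts ha N.1.property (hu.trans (ofPt_base p N).symm) hr
    exact ι_eq_zero_of_germ p N b h1.eq_zero
  · intro hr
    obtain ⟨N⟩ := exists_etNbhd p hX hp
    refine ⟨N.1.obj.left, N.1.obj.hom, base p N, N.1.property, ofPt_base p N, ⟨fun z hz => ?_⟩⟩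
    obtain ⟨W₀, hW, b, rfl⟩ := TopCat.Presheaf.exists_germ_eq N.1.obj.left.left.presheaf z
    let W : N.1.obj.left.left.Opens := W₀
    obtain ⟨n, hn⟩ := hz
    obtain ⟨M, g, e, he⟩ := exists_open p N W hW
    -- transport the section to the open neighbourhood
    let c : Γ(M.1.obj.left.left, ⊤) := e.hom.appTop.hom (W.topIso.inv.hom b)
    let f := g.val.hom.left.left
    have : Etale f := EtOver.etale_left g.val
    have hb : f (base p M) = base p N := by
      show f (M.2.1.left _) = N.2.1.left _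
      rw [← Scheme.Hom.comp_apply]
      exact congrArg (fun k : p.pt ⟶ N.1.obj.left => k.left (IsLocalRing.closedPoint p.K)) (congrArg Subtype.val g.property)
    have key : ∀ y (hy : y = f (base p M)) (hyW : y ∈ W),
        ∃ φ : N.1.obj.left.left.presheaf.stalk y →+* M.1.obj.left.left.presheaf.stalk (base p M),
          Function.Injective φ ∧ φ (N.1.obj.left.left.presheaf.germ W y hyW b) = germ p M c := by
      rintro _ rfl hyW
      refine ⟨(f.stalkMap (base p M)).hom, SchDenseFacts.stalkMap_injective_of_flat f _, ?_⟩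
      refine (Scheme.Hom.germ_stalkMap_apply f W (base p M) hyW b).trans ?_
      have hle : (⊤ : M.1.obj.left.left.Opens) ≤ f ⁻¹ᵁ W := fun x _ => by
        show f x ∈ W
        rw [show f = e.hom ≫ W.ι from he.symm, Scheme.Hom.comp_apply]
        exact (e.hom x).2
      rw [← TopCat.Presheaf.germ_res_apply M.1.obj.left.left.presheaf (homOfLE hle) (base p M) trivial]
      show _ = M.1.obj.left.left.presheaf.germ ⊤ (base p M) trivial c
      congr 1
      show (f.appLE W ⊤ hle).hom b = (W.topIso.inv ≫ e.hom.appTop).hom b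
      congr 2
      simp only [show f = e.hom ≫ W.ι from he.symm]
      exact appLE_comp_ι e.hom _
    obtain ⟨φ, hφ, hφb⟩ := key _ hb.symm hW
    apply hφ
    rw [map_zero, hφb]
    refine germ_eq_zero_of_ι p hX hp M c ?_
    refine IsNilpotent.eq_zero ⟨n, ?_⟩
    rw [← map_pow]
    refine ι_eq_zero_of_germ p M _ ?_
    rw [map_pow, ← hφb, ← map_pow, hn, map_zero]

end Groth.Agent.AlgSpDec.EtStalkElts
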