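import Groth.Agent.AlgSpDec.EtStalkElts
import Groth.Agent.AlgSpDec.EtHenzField
import Groth.Agent.AlgSpPts.Geom
import Groth.Agent.Hensel.Pair
import Groth.Agent.DescLib.EtaleFlat

/-!
# The etale local ring is the universal etale neighbourhood of an affine chart
-/

set_option backward.isDefEq.respectTransparency false
set_option backward.isDefEq.respectTransparency.types false

noncomputable section

universe u

open CategoryTheory CategoryTheory.Limits Opposite AlgebraicGeometry AlgSp Groth.Agent.AlgSpLib Groth.Agent.AlgSpPts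
open Groth.Agent.AlgSpDec.EtStalkElts

namespace Groth.Agent.AlgSpDec.EtStalkHenz

open Groth.Agent.Hensel (Henz)

variable {S : Scheme.{u}} {X : Sp S} {p : FieldPt X}

theorem appTop_map_isoSpec_inv {U : Scheme.{u}} [IsAffine U] {B : CommRingCat.{u}} (f : Γ(U, ⊤) ⟶ B) :
    (Spec.map f ≫ U.isoSpec.inv).appTop = f ≫ (Scheme.ΓSpecIso B).inv := by
  have e : U.isoSpec.inv.appTop = (Scheme.ΓSpecIso Γ(U, ⊤)).inv := by
    have h : U.isoSpec.hom.appTop ≫ U.isoSpec.inv.appTop = 𝟙 _ := by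
      rw [← Scheme.Hom.comp_appTop, Iso.inv_hom_id, Scheme.Hom.id_appTop]
    rw [show U.isoSpec.hom.appTop = (Scheme.ΓSpecIso Γ(U, ⊤)).hom by
      rw [Scheme.isoSpec_hom, Scheme.toSpecΓ_appTop]] at h
    rw [← Category.id_comp U.isoSpec.inv.appTop, ← (Scheme.ΓSpecIso Γ(U, ⊤)).inv_hom_id, Category.assoc, h,
      Category.comp_id]
  rw [Scheme.Hom.comp_appTop, e, Scheme.ΓSpecIso_inv_naturality]

/-- Pullback of global functions along a morphism of neighbourhoods. -/
def pull {M N : EtNbhd p} (g : M ⟶ N) : Γ(N.1.obj.left.left, ⊤) →+* Γ(M.1.obj.left.left, ⊤) :=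
  g.val.hom.left.left.appTop.hom

theorem pull_comp {L M N : EtNbhd p} (h : L ⟶ M) (g : M ⟶ N) : pull (h ≫ g) = (pull h).comp (pull g) := by
  change (h.val.hom.left.left ≫ g.val.hom.left.left).appTop.hom = _
  rw [Scheme.Hom.comp_appTop, CommRingCat.hom_comp]
  rfl

theorem base_map {M N : EtNbhd p} (g : M ⟶ N) : g.val.hom.left.left (base p M) = base p N := by
  show g.val.hom.left.left (M.2.1.left _) = N.2.1.left _
  rw [← Scheme.Hom.comp_apply]
  exact congrArg (fun k : p.pt ⟶ N.1.obj.left => k.left (IsLocalRing.closedPoint p.K)) (congrArg Subtype.val g.property)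

variable (p) in
/-- Evaluation at the geometric point. -/
def ev (N : EtNbhd p) : Γ(N.1.obj.left.left, ⊤) →+* p.K :=
  (N.2.1.left.appTop ≫ (Scheme.ΓSpecIso (CommRingCat.of p.K)).hom).hom

theorem ev_pull {M N : EtNbhd p} (g : M ⟶ N) (a : Γ(N.1.obj.left.left, ⊤)) : ev p M (pull g a) = ev p N a := by
  have h : M.2.1.left ≫ g.val.hom.left.left = N.2.1.left :=
    congrArg (fun k : p.pt ⟶ N.1.obj.left => k.left) (congrArg Subtype.val g.property)
  show ((g.val.hom.left.left.appTop ≫ M.2.1.left.appTop ≫ (Scheme.ΓSpecIso (CommRingCat.of p.K)).hom).hom) a = _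
  rw [← Category.assoc, ← Scheme.Hom.comp_appTop, h]
  rfl

theorem mem_basicOpen_iff (N : EtNbhd p) (a : Γ(N.1.obj.left.left, ⊤)) :
    base p N ∈ N.1.obj.left.left.basicOpen a ↔ ev p N a ≠ 0 := by
  show IsLocalRing.closedPoint p.K ∈ N.2.1.left ⁻¹ᵁ N.1.obj.left.left.basicOpen a ↔ _
  rw [Scheme.preimage_basicOpen]
  erw [basicOpen_eq_of_affine']
  show ¬ (ev p N a ∈ IsLocalRing.maximalIdeal p.K) ↔ _
  rw [IsLocalRing.maximalIdeal_eq_bot, Ideal.mem_bot]

theorem isUnit_germ_iff (N : EtNbhd p) (a : Γ(N.1.obj.left.left, ⊤)) :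
    IsUnit (germ p N a) ↔ ev p N a ≠ 0 :=
  (Scheme.mem_basicOpen N.1.obj.left.left a (base p N) trivial).symm.trans (mem_basicOpen_iff N a)

/-- Affine neighbourhoods inside an open set. -/
theorem exists_affine (N : EtNbhd p) (W : N.1.obj.left.left.Opens) (hW : base p N ∈ W) :
    ∃ (M : EtNbhd p) (g : M ⟶ N), IsAffine M.1.obj.left.left ∧ Set.range g.val.hom.left.left ⊆ W := by
  obtain ⟨V, hV, hxV, hVW⟩ := exists_isAffineOpen_mem_and_subset hW
  obtain ⟨M, g, e, he⟩ := exists_open p N V hxV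
  have : IsAffine V.toScheme := hV
  refine ⟨M, g, IsAffine.of_isIso e.hom, ?_⟩
  rintro _ ⟨x, rfl⟩
  refine hVW ?_
  rw [← he, Scheme.Hom.comp_apply]
  exact (e.hom x).2

variable (N₀ : EtNbhd p) [IsAffine N₀.1.obj.left.left]

/-- The algebra structure on the field. -/
@[reducible] def algK : Algebra Γ(N₀.1.obj.left.left, ⊤) p.K := (ev p N₀).toAlgebra

attribute [local instance] algK

/-- The universal etale neighbourhood. -/
abbrev H : Type u := Henz Γ(N₀.1.obj.left.left, ⊤) p.K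

section model

variable {N₀} {W : EtNbhd p} [IsAffine W.1.obj.left.left]

theorem etale_pull (g₀ : W ⟶ N₀) : (pull g₀).Etale := by
  have : Etale g₀.val.hom.left.left := EtOver.etale_left g₀.val
  have h := HasRingHomProperty.appTop (P := @Etale) g₀.val.hom.left.left inferInstance
  exact h

/-- The map of an affine neighbourhood over the chart. -/
def β (g₀ : W ⟶ N₀) : Γ(W.1.obj.left.left, ⊤) →+* H N₀ :=
  letI := (pull g₀).toAlgebra
  haveI : Algebra.Etale Γ(N₀.1.obj.left.left, ⊤) Γ(W.1.obj.left.left, ⊤) := etale_pull g₀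
  (Henz.ofNbhd (R := Γ(N₀.1.obj.left.left, ⊤)) (K := p.K) Γ(W.1.obj.left.left, ⊤)
    { ev p W with commutes' := fun a => ev_pull g₀ a }).toRingHom

theorem proj_β (g₀ : W ⟶ N₀) (b : Γ(W.1.obj.left.left, ⊤)) :
    Henz.proj _ p.K (β g₀ b) = ev p W b := by
  let _ := (pull g₀).toAlgebra
  have : Algebra.Etale Γ(N₀.1.obj.left.left, ⊤) Γ(W.1.obj.left.left, ⊤) := etale_pull g₀
  exact Henz.proj_ofNbhd (R := Γ(N₀.1.obj.left.left, ⊤)) (K := p.K) Γ(W.1.obj.left.left, ⊤) _ b

theorem β_base (g₀ : W ⟶ N₀) (a : Γ(N₀.1.obj.left.left, ⊤)) :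
    β g₀ (pull g₀ a) = algebraMap _ (H N₀) a := by
  let _ := (pull g₀).toAlgebra
  have : Algebra.Etale Γ(N₀.1.obj.left.left, ⊤) Γ(W.1.obj.left.left, ⊤) := etale_pull g₀
  exact AlgHom.commutes (Henz.ofNbhd (R := Γ(N₀.1.obj.left.left, ⊤)) (K := p.K) Γ(W.1.obj.left.left, ⊤)
    { ev p W with commutes' := fun a => ev_pull g₀ a }) a

/-- Maps to the universal neighbourhood are determined by their values in the field. -/
theorem hom_ext (g₀ : W ⟶ N₀) (f f' : Γ(W.1.obj.left.left, ⊤) →+* H N₀)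
    (hf : ∀ a, f (pull g₀ a) = algebraMap _ (H N₀) a) (hf' : ∀ a, f' (pull g₀ a) = algebraMap _ (H N₀) a)
    (h : ∀ b, Henz.proj _ p.K (f b) = Henz.proj _ p.K (f' b)) : f = f' := by
  let _ := (pull g₀).toAlgebra
  have : Algebra.Etale Γ(N₀.1.obj.left.left, ⊤) Γ(W.1.obj.left.left, ⊤) := etale_pull g₀
  exact congrArg AlgHom.toRingHom (Hensel.algHom_ext_of_isUnit
    (Henz.proj Γ(N₀.1.obj.left.left, ⊤) p.K).toRingHom (fun t ht => Henz.isUnit_of_proj_eq_one ht)
    ({ f with commutes' := hf } : Γ(W.1.obj.left.left, ⊤) →ₐ[Γ(N₀.1.obj.left.left, ⊤)] H N₀)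
    { f' with commutes' := hf' } h)

theorem β_comp {W' : EtNbhd p} [IsAffine W'.1.obj.left.left] (h : W' ⟶ W) (g₀ : W ⟶ N₀) :
    (β (h ≫ g₀)).comp (pull h) = β g₀ := by
  refine hom_ext g₀ _ _ (fun a => ?_) (β_base g₀) fun b => ?_
  · rw [RingHom.comp_apply, ← RingHom.comp_apply (pull h), ← pull_comp, β_base]
  · rw [RingHom.comp_apply, proj_β, proj_β, ev_pull]

theorem exists_ann (g₀ : W ⟶ N₀) {b : Γ(W.1.obj.left.left, ⊤)} (hb : β g₀ b = 0) :
    ∃ c, ev p W c ≠ 0 ∧ b * c = 0 := by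
  let _ := (pull g₀).toAlgebra
  have : Algebra.Etale Γ(N₀.1.obj.left.left, ⊤) Γ(W.1.obj.left.left, ⊤) := etale_pull g₀
  let _ : Algebra Γ(W.1.obj.left.left, ⊤) (H N₀) := (β g₀).toAlgebra
  have : IsScalarTower Γ(N₀.1.obj.left.left, ⊤) Γ(W.1.obj.left.left, ⊤) (H N₀) :=
    .of_algebraMap_eq fun a => (β_base g₀ a).symm
  have : Module.Flat Γ(W.1.obj.left.left, ⊤) (H N₀) :=
    DescLib.flat_over_unramified Γ(N₀.1.obj.left.left, ⊤) Γ(W.1.obj.left.left, ⊤) (H N₀)
  have h1 : ∑ i : Fin 1, (fun _ => b) i • (fun _ => (1 : H N₀)) i = 0 := by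
    simp [Algebra.smul_def, RingHom.algebraMap_toAlgebra, hb]
  obtain ⟨k, a, y, hy, ha⟩ := Module.Flat.isTrivialRelation_of_sum_smul_eq_zero h1
  by_contra hcon
  push_neg at hcon
  have h2 := congrArg (Henz.proj Γ(N₀.1.obj.left.left, ⊤) p.K) (hy 0)
  rw [map_one, map_sum, Finset.sum_eq_zero] at h2
  · exact one_ne_zero h2
  intro j _
  rw [Algebra.smul_def, map_mul, RingHom.algebraMap_toAlgebra, proj_β]
  have hj : b * a 0 j = 0 := by simpa using ha j
  rw [show ev p W (a 0 j) = 0 from by_contra fun hne => hcon _ hne hj, zero_mul]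

theorem ι_eq_zero_of_β (g₀ : W ⟶ N₀) {b : Γ(W.1.obj.left.left, ⊤)} (hb : β g₀ b = 0) : ι p W b = 0 := by
  obtain ⟨c, hc, hbc⟩ := exists_ann g₀ hb
  refine ι_eq_zero_of_germ p W b ?_
  have h := congrArg (germ p W) hbc
  rw [map_mul, map_zero] at h
  exact ((isUnit_germ_iff W c).2 hc).mul_left_eq_zero.1 h

end model

variable (hX : IsAlgSpace X) (hp : p.IsGeometric)

/-- An affine neighbourhood refining a given one and the chart. -/
structure Model (N : EtNbhd p) where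
  W : EtNbhd p
  affine : IsAffine W.1.obj.left.left
  g : W ⟶ N
  g₀ : W ⟶ N₀

attribute [instance] Model.affine

include hX hp

theorem nonempty_model (N : EtNbhd p) : Nonempty (Model N₀ N) := by
  obtain ⟨P, g, g₀, -⟩ := exists_cone_obj p N N₀
  obtain ⟨W, h, hW, -⟩ := exists_affine P ⊤ trivial
  exact ⟨⟨W, hW, h ≫ g, h ≫ g₀⟩⟩

/-- The components of the comparison map. -/
def comp' (N : EtNbhd p) : Γ(N.1.obj.left.left, ⊤) →+* H N₀ :=
  (β (nonempty_model N₀ hX hp N).some.g₀).comp (pull (nonempty_model N₀ hX hp N).some.g)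

theorem model_eq {N : EtNbhd p} (m m' : Model N₀ N) : (β m.g₀).comp (pull m.g) = (β m'.g₀).comp (pull m'.g) := by
  obtain ⟨P, a, b, -⟩ := exists_cone_obj p m.W m'.W
  obtain ⟨Q, c, hc⟩ := exists_cone_map p (a ≫ m.g) (b ≫ m'.g)
  obtain ⟨R, d, hd⟩ := exists_cone_map p (c ≫ a ≫ m.g₀) (c ≫ b ≫ m'.g₀)
  obtain ⟨W, e, hW, -⟩ := exists_affine R ⊤ trivial
  let x : W ⟶ m.W := e ≫ d ≫ c ≫ a
  let y : W ⟶ m'.W := e ≫ d ≫ c ≫ b
  have h₀ : x ≫ m.g₀ = y ≫ m'.g₀ := by simp [x, y, hd]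
  have h₁ : x ≫ m.g = y ≫ m'.g := by simp [x, y, hc]
  rw [← β_comp x m.g₀, ← β_comp y m'.g₀, RingHom.comp_assoc, RingHom.comp_assoc, ← pull_comp, ← pull_comp, h₀, h₁]

theorem comp'_eq {N : EtNbhd p} (m : Model N₀ N) : comp' N₀ hX hp N = (β m.g₀).comp (pull m.g) :=
  model_eq N₀ hX hp _ m

theorem comp'_pull {M N : EtNbhd p} (g : M ⟶ N) (a : Γ(N.1.obj.left.left, ⊤)) :
    comp' N₀ hX hp M (pull g a) = comp' N₀ hX hp N a := by
  obtain ⟨m⟩ := nonempty_model N₀ hX hp M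
  rw [comp'_eq N₀ hX hp m, comp'_eq N₀ hX hp (⟨m.W, m.affine, m.g ≫ g, m.g₀⟩ : Model N₀ N),
    RingHom.comp_apply, RingHom.comp_apply, pull_comp, RingHom.comp_apply]

/-- The cocone defining the comparison map. -/
def cocone : Cocone (stalkEtDiagram p (OEt X)) where
  pt := CommRingCat.of (ULift.{u + 1} (H N₀))
  ι :=
    { app := fun N => CommRingCat.ofHom
        (ULift.ringEquiv.symm.toRingHom.comp ((comp' N₀ hX hp N.unop).comp ULift.ringEquiv.toRingHom))
      naturality := fun N M g => by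
        ext ⟨a⟩
        exact congrArg ULift.up (comp'_pull N₀ hX hp g.unop a) }

/-- The comparison map. -/
def toHenz : OEtStalk p →+* H N₀ :=
  ULift.ringEquiv.toRingHom.comp (colimit.desc _ (cocone N₀ hX hp)).hom

theorem toHenz_ι (N : EtNbhd p) (a : Γ(N.1.obj.left.left, ⊤)) :
    toHenz N₀ hX hp (ι p N a) = comp' N₀ hX hp N a :=
  congrArg ULift.down (ConcreteCategory.congr_hom (colimit.ι_desc (cocone N₀ hX hp) (op N)) (ULift.up a))

theorem toHenz_injective : Function.Injective (toHenz N₀ hX hp) := by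
  rw [injective_iff_map_eq_zero]
  intro z hz
  obtain ⟨N, a, rfl⟩ := exists_rep p hX hp z
  obtain ⟨m⟩ := nonempty_model N₀ hX hp N
  rw [toHenz_ι, comp'_eq N₀ hX hp m] at hz
  rw [← ι_map p m.g a]
  exact ι_eq_zero_of_β m.g₀ hz

theorem toHenz_surjective : Function.Surjective (toHenz N₀ hX hp) := by
  intro z
  obtain ⟨N, b, s, hzs⟩ := Henz.exists_fraction z
  let B := Localization.Away (s : N.B)
  let τ : B →ₐ[Γ(N₀.1.obj.left.left, ⊤)] p.K :=
    IsLocalization.Away.liftAlgHom (s : N.B) (f := N.toK) s.2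
  have hτ : ∀ c, τ (algebraMap N.B B c) = N.toK c := fun c => by simp [τ]
  have : Algebra.Etale Γ(N₀.1.obj.left.left, ⊤) B :=
    have : Algebra.Etale N.B B := inferInstance
    Algebra.Etale.comp Γ(N₀.1.obj.left.left, ⊤) N.B B
  -- the neighbourhood
  let q : Spec (CommRingCat.of B) ⟶ N₀.1.obj.left.left :=
    Spec.map (CommRingCat.ofHom (algebraMap Γ(N₀.1.obj.left.left, ⊤) B)) ≫ N₀.1.obj.left.left.isoSpec.inv
  have : Etale (Spec.map (CommRingCat.ofHom (algebraMap Γ(N₀.1.obj.left.left, ⊤) B))) :=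
    (HasRingHomProperty.Spec_iff (P := @Etale)).2 (RingHom.etale_algebraMap.2 inferInstance)
  have : Etale q := inferInstance
  let T : Over S := Over.mk (q ≫ N₀.1.obj.left.hom)
  let qT : T ⟶ N₀.1.obj.left := CategoryTheory.Over.homMk q rfl
  have hl : Spec.map (CommRingCat.ofHom τ.toRingHom) ≫ q = N₀.2.1.left := by
    rw [← Category.assoc, ← Spec.map_comp, Iso.comp_inv_eq]
    refine Eq.trans ?_ (Scheme.isoSpec_hom_naturality N₀.2.1.left)
    show _ = (Spec (CommRingCat.of p.K)).isoSpec.hom ≫ _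
    rw [Scheme.isoSpec_Spec_hom, ← Spec.map_comp]
    congr 1
    ext a
    exact τ.commutes a
  let l : p.pt ⟶ T := CategoryTheory.Over.homMk (Spec.map (CommRingCat.ofHom τ.toRingHom)) (by
    change _ ≫ q ≫ _ = _
    rw [reassoc_of% hl]
    exact Over.w N₀.2.1)
  let E : EtOver X := EtOver.mk ((yon S).map qT ≫ N₀.1.obj.hom)
    (repWith_comp ((repWith_yon_map_iff _ _).2 (inferInstanceAs (Etale q))) N₀.1.property)
  have hlq : l ≫ qT = N₀.2.1 := Over.OverMorphism.ext hl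
  let W : EtNbhd p := ⟨E, ⟨l, by
    show (yon S).map l ≫ (yon S).map qT ≫ N₀.1.obj.hom = p.toHom
    rw [← Functor.map_comp_assoc, hlq]
    exact N₀.2.2⟩⟩
  let g₀ : W ⟶ N₀ := CategoryOfElements.homMk _ _ (EtOver.homMk qT rfl) (Subtype.ext hlq)
  have : IsAffine W.1.obj.left.left := inferInstanceAs (IsAffine (Spec (CommRingCat.of B)))
  let σ : B ≃+* Γ(W.1.obj.left.left, ⊤) := (Scheme.ΓSpecIso (CommRingCat.of B)).commRingCatIsoToRingEquiv.symm
  have hev : ∀ c, ev p W (σ c) = τ c := fun c =>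
    congr($(Scheme.ΓSpecIso_inv_naturality_assoc (CommRingCat.ofHom τ.toRingHom)
      (Scheme.ΓSpecIso (CommRingCat.of p.K)).hom).hom c).symm.trans (by simp)
  have hσ : ∀ a, σ (algebraMap Γ(N₀.1.obj.left.left, ⊤) B a) = pull g₀ a := fun a => by
    show (CommRingCat.ofHom (algebraMap _ B) ≫ (Scheme.ΓSpecIso (CommRingCat.of B)).inv).hom a = q.appTop.hom a
    exact (congr($(appTop_map_isoSpec_inv (CommRingCat.ofHom
      (algebraMap Γ(N₀.1.obj.left.left, ⊤) B))).hom a)).symm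
  -- the two maps agree
  have key : ((β g₀).comp σ.toRingHom).comp (algebraMap N.B B) =
      ((Henz.of N).comp (IsScalarTower.toAlgHom Γ(N₀.1.obj.left.left, ⊤) N.B N.Stage)).toRingHom := by
    let f : N.B →ₐ[Γ(N₀.1.obj.left.left, ⊤)] H N₀ :=
      { ((β g₀).comp σ.toRingHom).comp (algebraMap N.B B) with
        commutes' := fun a => by
          show β g₀ (σ (algebraMap N.B B (algebraMap _ N.B a))) = _
          rw [← IsScalarTower.algebraMap_apply, hσ, β_base] }
    refine congrArg AlgHom.toRingHom (Hensel.algHom_ext_of_isUnit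
      (Henz.proj Γ(N₀.1.obj.left.left, ⊤) p.K).toRingHom (fun t ht => Henz.isUnit_of_proj_eq_one ht) f _
      fun c => ?_)
    show Henz.proj _ p.K (β g₀ (σ (algebraMap N.B B c))) = _
    rw [proj_β, hev, hτ]
    simp
  refine ⟨ι p W (σ (algebraMap N.B B b * IsLocalization.Away.invSelf (s : N.B))), ?_⟩
  rw [toHenz_ι, comp'_eq N₀ hX hp (⟨W, inferInstance, 𝟙 W, g₀⟩ : Model N₀ W), RingHom.comp_apply,
    show pull (𝟙 W) = RingHom.id _ from rfl, RingHom.id_apply, map_mul, map_mul]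
  have hs := congr($key (s : N.B))
  have hb := congr($key b)
  simp only [RingHom.comp_apply, RingEquiv.toRingHom_eq_coe, RingHom.coe_coe, AlgHom.toRingHom_eq_coe,
    AlgHom.comp_apply, IsScalarTower.coe_toAlgHom'] at hs hb
  have h1 := congr(β g₀ (σ $(IsLocalization.Away.mul_invSelf (S := B) (s : N.B))))
  rw [map_mul, map_mul, map_one, map_one, hs] at h1
  rw [hb, ← hzs, mul_assoc, h1, mul_one]

/-- The etale local ring is the universal etale neighbourhood. -/
def stalkEquiv : OEtStalk p ≃+* H N₀ :=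
  RingEquiv.ofBijective (toHenz N₀ hX hp) ⟨toHenz_injective N₀ hX hp, toHenz_surjective N₀ hX hp⟩

end Groth.Agent.AlgSpDec.EtStalkHenz
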