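import Groth.Agent.AlgSpDec.EtStalkHenz

/-!
# The etale local ring is a strict henselization of the local ring of a chart
-/

set_option backward.isDefEq.respectTransparency false
set_option backward.isDefEq.respectTransparency.types false

universe u

open CategoryTheory CategoryTheory.Limits Opposite AlgebraicGeometry AlgSp Groth.Agent.AlgSpLib Groth.Agent.AlgSpPts
open Groth.Agent.AlgSpDec.EtStalkElts Groth.Agent.AlgSpDec.EtStalkHenz

namespace Groth.Agent.AlgSpDec.EtStalkStrict

open Groth.Agent.Hensel (Henz)

variable {S : Scheme.{u}} {X : Sp S} {p : FieldPt X}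

/-- A chart through the point is a neighbourhood. -/
theorem exists_nbhd (hX : IsAlgSpace X) (hp : p.IsGeometric) {U : Over S} {a : (yon S).obj U ⟶ X}
    (ha : RepWith @Etale a) {u : ↥U.left} (hu : Points.ofPt a u = Points.mk p) :
    ∃ l : (FieldPt.liftsTo p).obj (EtOver.mk a ha), base p (⟨EtOver.mk a ha, l⟩ : EtNbhd p) = u := by
  have : IsAlgClosed p.K := hp
  obtain ⟨l, hl, hlu⟩ := exists_lift_geometric (IsAlgSpace.yon_obj U) hX (f := a) (locP_of_repWith ha)
    p.toHom (u := Points.ofScheme _ u) (by rw [← Points.ofPt_eq_map_ofScheme, hu, Points.ofPt_toHom])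
  obtain ⟨k, rfl⟩ := (yon S).map_surjective l
  refine ⟨⟨k, hl⟩, (Points.schemeEquiv U).injective ?_⟩
  show Points.ofScheme U (k.left _) = Points.ofScheme U u
  rw [← hlu, ← Category.comp_id ((yon S).map k), ofPt_comp]

/-- The etale local ring is a strict henselization of the local ring of an affine neighbourhood. -/
theorem exists_strictHenselization_affine (hX : IsAlgSpace X) (hp : p.IsGeometric) (M : EtNbhd p)
    [IsAffine M.1.obj.left.left] (R : Type u) [CommRing R] [IsLocalRing R]
    (e : M.1.obj.left.left.presheaf.stalk (base p M) ≃+* R) :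
    ∃ (H : Type u) (_ : CommRing H) (_ : IsLocalRing H) (_ : Algebra R H) (_ : IsLocalHom (algebraMap R H)),
      Hensel.IsStrictHenselization R H ∧ Nonempty (OEtStalk p ≃+* H) := by
  have : IsAlgClosed p.K := hp
  let A := Γ(M.1.obj.left.left, ⊤)
  let O := (isAffineOpen_top M.1.obj.left.left).primeIdealOf ⟨base p M, trivial⟩
  let _ : Algebra A p.K := algK M
  let _ : Algebra A R := (e.toRingHom.comp (germ p M)).toAlgebra
  have : IsLocalization O.asIdeal.primeCompl R := by
    let _ := TopCat.Presheaf.algebra_section_stalk M.1.obj.left.left.presheaf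
      (⟨base p M, trivial⟩ : (⊤ : M.1.obj.left.left.Opens))
    have := (isAffineOpen_top M.1.obj.left.left).isLocalization_stalk ⟨base p M, trivial⟩
    exact IsLocalization.isLocalization_of_algEquiv (S := M.1.obj.left.left.presheaf.stalk (base p M))
      O.asIdeal.primeCompl (AlgEquiv.ofRingEquiv (f := e) fun _ => rfl)
  have hunit : ∀ a : A, IsUnit (algebraMap A R a) ↔ ev p M a ≠ 0 := fun a =>
    (isUnit_map_iff e _).trans (isUnit_germ_iff M a)
  let _ : Algebra R p.K := (IsLocalization.lift (M := O.asIdeal.primeCompl) (g := ev p M) fun s =>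
    isUnit_iff_ne_zero.2 ((hunit s).1 (IsLocalization.map_units R s))).toAlgebra
  have : IsScalarTower A R p.K := .of_algebraMap_eq fun a => (IsLocalization.lift_eq _ a).symm
  have : IsLocalHom (algebraMap R p.K) := ⟨fun r hr => by
    obtain ⟨a, s, rfl⟩ := IsLocalization.exists_mk'_eq O.asIdeal.primeCompl r
    have h1 : ev p M a ≠ 0 := fun h0 => by
      have h2 := congr(algebraMap R p.K $(IsLocalization.mk'_spec R a s))
      rw [map_mul, ← IsScalarTower.algebraMap_apply A R p.K a, RingHom.algebraMap_toAlgebra (ev p M), h0] at h2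
      exact (IsUnit.ne_zero (hr.mul ((IsLocalization.map_units R s).map (algebraMap R p.K)))) h2
    have h2 : IsUnit (algebraMap A R a) := (hunit a).2 h1
    rw [← IsLocalization.mk'_spec R a s] at h2
    exact isUnit_of_mul_isUnit_left h2⟩
  let _ := (EtHenz.fromLocal A R p.K O.asIdeal.primeCompl).toRingHom.toAlgebra
  obtain ⟨hl, hs⟩ := EtHenz.isStrictHenselization A R p.K O.asIdeal.primeCompl
  exact ⟨H M, inferInstance, inferInstance, inferInstance, hl, hs, ⟨stalkEquiv M hX hp⟩⟩

/-- The etale local ring is a strict henselization of the local ring of every chart through the point. -/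
theorem exists_strictHenselization (hX : IsAlgSpace X) (hp : p.IsGeometric) {U : Over S}
    {a : (yon S).obj U ⟶ X} (ha : RepWith @Etale a) {u : ↥U.left} (hu : Points.ofPt a u = Points.mk p) :
    ∃ (H : Type u) (_ : CommRing H) (_ : IsLocalRing H) (_ : Algebra (U.left.presheaf.stalk u) H)
      (_ : IsLocalHom (algebraMap (U.left.presheaf.stalk u) H)),
      Hensel.IsStrictHenselization (U.left.presheaf.stalk u) H ∧ Nonempty (OEtStalk p ≃+* H) := by
  obtain ⟨l, rfl⟩ := exists_nbhd hX hp ha hu
  let N : EtNbhd p := ⟨EtOver.mk a ha, l⟩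
  obtain ⟨V, hV, hxV, -⟩ := exists_isAffineOpen_mem_and_subset (U := (⊤ : U.left.Opens)) (x := base p N) trivial
  obtain ⟨M, g, i, hi⟩ := exists_open p N V hxV
  have : IsAffine V.toScheme := hV
  have : IsAffine M.1.obj.left.left := IsAffine.of_isIso i.hom
  have : IsOpenImmersion g.val.hom.left.left := by rw [← hi]; infer_instance
  exact exists_strictHenselization_affine hX hp M _
    ((asIso (g.val.hom.left.left.stalkMap (base p M))).commRingCatIsoToRingEquiv.symm.trans
      (N.1.obj.left.left.presheaf.stalkCongr (.of_eq (base_map g))).commRingCatIsoToRingEquiv)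

end Groth.Agent.AlgSpDec.EtStalkStrict
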