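import Groth.Agent.AlgSpDec.FppfLqf
import Groth.Agent.AlgSpLib.LocalSourceInst

/-!
# Sheaves with an etale surjection from an algebraic space
-/

set_option backward.isDefEq.respectTransparency false
set_option backward.isDefEq.respectTransparency.types false

universe u

open CategoryTheory Limits Opposite AlgebraicGeometry AlgSp Groth.Agent.AlgSpLib Groth.Agent.AlgSpPts

namespace Groth.Agent.AlgSpDec

variable {S : Scheme.{u}}

theorem repBySpWith_flat_lfp_of_etale {F G : PSp S} {p : F ⟶ G}
    (hp : RepBySpWith (IsSurjectiveMor ⊓ IsEtaleMor) p) :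
    RepBySpWith (IsSurjectiveMor ⊓ LocP @Flat ⊓ LocP @LocallyOfFinitePresentation) p := fun U ξ F' fst snd sq => by
  obtain ⟨h', hA, hs, he⟩ := hp ξ fst snd sq
  refine ⟨h', hA, ⟨hs, ?_⟩, ?_⟩
  · exact locP_mono (fun _ _ g (_ : Etale g) => inferInstanceAs (Flat g)) (locP_etale_of_isEtaleMor he)
  · exact locP_mono (fun _ _ g (_ : Etale g) => inferInstanceAs (LocallyOfFinitePresentation g))
      (locP_etale_of_isEtaleMor he)

/-- A sheaf with a map from an algebraic space which is etale, surjective and representable by spaces is an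
algebraic space. -/
theorem isAlgSpace_of_repBySp_etale {F X : Sp S} (hX : IsAlgSpace X) {p : X ⟶ F}
    (hp : RepBySpWith (IsSurjectiveMor ⊓ IsEtaleMor) p.hom) : IsAlgSpace F := by
  have hd : Representable (Limits.diag F) :=
    representable_diag_of_fppf_space_cover hX (repBySpWith_flat_lfp_of_etale hp)
  obtain ⟨U, c, hc, hcs⟩ := hX.atlas
  have hr : Representable (c ≫ p) := Functor.relativelyRepresentable.of_diag hd _
  have key : ∀ {T V : Over S} (ξ : (yon S).obj T ⟶ F) (fst : (yon S).obj V ⟶ (yon S).obj U) (snd : V ⟶ T),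
      IsPullback fst ((yon S).map snd) (c ≫ p) ξ → Etale snd.left ∧ Surjective snd.left := by
    intro T V ξ fst snd sq
    obtain ⟨h', hA, hs, he⟩ := hp ξ.hom (pullback.fst p ξ).hom (pullback.snd p ξ).hom
      ((IsPullback.of_hasPullback p ξ).map (sheafToPresheaf (J S) (Type (u + 1))))
    have hA : IsAlgSpace (pullback p ξ) := hA
    have hs : IsSurjectiveMor (pullback.snd p ξ) := hs
    have he : IsEtaleMor (pullback.snd p ξ) := he
    let l : (yon S).obj V ⟶ pullback p ξ := pullback.lift (fst ≫ c) ((yon S).map snd) (by rw [Category.assoc, sq.w])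
    have hl₂ : l ≫ pullback.snd p ξ = (yon S).map snd := pullback.lift_snd _ _ _
    have sql : IsPullback fst l c (pullback.fst p ξ) := by
      refine IsPullback.of_bot (?_ : IsPullback fst (l ≫ pullback.snd p ξ) (c ≫ p) ξ) (pullback.lift_fst _ _ _).symm
        (IsPullback.of_hasPullback p ξ)
      rw [hl₂]
      exact sq
    have hle : RepWith @Etale l := repWith_of_isPullback sql hc
    have hls : RepWith @Surjective l := repWith_of_isPullback sql hcs
    have h1 : LocP @Etale ((yon S).map snd) := by
      rw [← hl₂]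
      exact locP_comp (IsAlgSpace.yon_obj V) hA (IsAlgSpace.yon_obj T) (locP_of_repWith hle)
        (locP_etale_of_isEtaleMor he)
    refine ⟨locP_yon_map h1, ⟨fun t => ?_⟩⟩
    obtain ⟨z, hz⟩ := hs (Points.ofScheme T t)
    obtain ⟨v, rfl⟩ := surjective_ofPt hls z
    rw [Points.ofPt_eq_map_ofScheme, ← Points.map_comp, hl₂] at hz
    exact ⟨v, (Points.schemeHomeo T).injective ((Points.map_yon_map_apply snd v).symm.trans hz)⟩
  exact ⟨hd, U, c ≫ p, ⟨hr, fun T V ξ fst snd sq => (key ξ fst snd sq).1⟩,
    ⟨hr, fun T V ξ fst snd sq => (key ξ fst snd sq).2⟩⟩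

end Groth.Agent.AlgSpDec
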