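import Mathlib.CategoryTheory.Sites.EpiMono
import Groth.Agent.AlgSpDec.QuotRep
import Groth.Agent.AlgSpDec.EtaleSpCover
import Groth.Prelude.Def_AlgSpRep

/-!
# Etale sheaves with an etale chart are fppf sheaves
-/

set_option backward.isDefEq.respectTransparency false
set_option backward.isDefEq.respectTransparency.types false

universe u

open CategoryTheory Limits Opposite AlgebraicGeometry AlgSp Groth.Agent.AlgSpLib Groth.Agent.AlgSpPts

namespace Groth.Agent.AlgSpDec

variable {S : Scheme.{u}}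

/-- An etale surjection generates a covering sieve of the big etale site. -/
theorem mem_J_etale {T T' : Over S} (g : T' ⟶ T) [Etale g.left] [Surjective g.left] :
    Sieve.generate (Presieve.singleton g) ∈ QuotSh.J Scheme.etalePrecoverage S T := by
  rw [GrothendieckTopology.mem_over_iff]
  refine GrothendieckTopology.superset_covering _ ?_
    (Precoverage.generate_mem_toGrothendieck
      ((Scheme.singleton_mem_precoverage_iff (P := @Etale) g.left).2 ⟨g.left.surjective, ‹_›⟩))
  rw [Sieve.generate_le_iff]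
  rintro _ _ ⟨⟩
  rw [Sieve.overEquiv_iff]
  convert (Sieve.generate (Presieve.singleton g)).downward_closed
    (⟨T', 𝟙 _, g, Presieve.singleton_self g, Category.id_comp _⟩ : Sieve.generate (Presieve.singleton g) g)
    (Over.homMk (U := Over.mk (g.left ≫ T.hom)) (V := T') (𝟙 T'.left) (by simp)) using 1
  ext
  simp

theorem pyonEquiv_precomp {F : PSp S} {T T' : Over S} (φ : T' ⟶ T) (g : (pyon S).obj T ⟶ F) :
    uliftYonedaEquiv.{u + 1} ((pyon S).map φ ≫ g) = F.map φ.op (uliftYonedaEquiv.{u + 1} g) :=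
  (uliftYonedaEquiv_naturality (X := op T) (Y := op T') g φ.op).symm

variable {F : PSp S} {V R : Over S} {p : (pyon S).obj V ⟶ F} {t s : R ⟶ V}

/-- An etale sheaf which is etale-locally covered by a scheme with etale kernel pair is an algebraic space. -/
theorem isAlgSpaceP_of_etale_sheaf (h1 : Presheaf.IsSheaf (QuotSh.J Scheme.etalePrecoverage S) F)
    (sqP : IsPullback ((pyon S).map t) ((pyon S).map s) p p) [Etale s.left] [Surjective s.left]
    (hlift : ∀ ⦃T : Over S⦄ (a : (pyon S).obj T ⟶ F), ∃ (T' : Over S) (φ : T' ⟶ T) (x : T' ⟶ V),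
      Etale φ.left ∧ Surjective φ.left ∧ (pyon S).map x ≫ p = (pyon S).map φ ≫ a) : IsAlgSpaceP F := by
  have hsheaf := (isSheaf_iff_isSheaf_of_type _ _).1 h1
  have hext : ∀ {T T' : Over S} (φ : T' ⟶ T) [Etale φ.left] [Surjective φ.left] (a b : (pyon S).obj T ⟶ F),
      (pyon S).map φ ≫ a = (pyon S).map φ ≫ b → a = b := by
    intro T T' φ _ _ a b hab
    apply uliftYonedaEquiv.{u + 1}.injective
    refine (Presieve.isSheafFor_singleton.1 ((Presieve.isSheafFor_iff_generate _).2 (hsheaf _ (mem_J_etale φ)))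
      (uliftYonedaEquiv.{u + 1} ((pyon S).map φ ≫ a)) (fun {W} y z h => ?_)).unique ?_ ?_
    · rw [← pyonEquiv_precomp, ← pyonEquiv_precomp, ← Functor.map_comp_assoc,
        ← Functor.map_comp_assoc, h]
    · rw [← pyonEquiv_precomp]
    · rw [← pyonEquiv_precomp, hab]
  let A := presheafToSheaf (J S) (Type (u + 1))
  let Q : Sp S := A.obj F
  let η : F ⟶ Q.obj := toSheafify (J S) F
  let eV := sheafificationIso ((yon S).obj V)
  let eR := sheafificationIso ((yon S).obj R)
  let pQ : (yon S).obj V ⟶ Q := eV.hom ≫ A.map p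
  have hpQ : pQ.hom = p ≫ η := by
    show toSheafify (J S) _ ≫ (A.map p).hom = p ≫ toSheafify (J S) F
    exact (toSheafify_naturality (J S) p).symm
  have nat : ∀ g : R ⟶ V, (yon S).map g ≫ eV.hom = eR.hom ≫ A.map ((pyon S).map g) := fun g =>
    ObjectProperty.hom_ext _ (toSheafify_naturality (J S) ((pyon S).map g))
  have sqQ : IsPullback ((yon S).map t) ((yon S).map s) pQ pQ :=
    (sqP.map A).of_iso eR.symm eV.symm eV.symm (Iso.refl _)
      (by rw [Iso.symm_hom, Iso.symm_hom, Iso.comp_inv_eq, Category.assoc, nat, Iso.inv_hom_id_assoc])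
      (by rw [Iso.symm_hom, Iso.symm_hom, Iso.comp_inv_eq, Category.assoc, nat, Iso.inv_hom_id_assoc])
      (by simp [pQ]) (by simp [pQ])
  have : Presheaf.IsLocallySurjective (J S) p := ⟨fun {T} a => by
    obtain ⟨T', φ, x, _, _, hx⟩ := hlift (uliftYonedaEquiv.{u + 1}.symm a)
    refine mem_J_of_fppf φ (fppf_of_etale φ.left) _ ⟨uliftYonedaEquiv.{u + 1} ((pyon S).map x), ?_⟩
    rw [← uliftYonedaEquiv_comp, hx, pyonEquiv_precomp, Equiv.apply_symm_apply]⟩
  have : Sheaf.IsLocallySurjective pQ := by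
    show Presheaf.IsLocallySurjective (J S) pQ.hom
    rw [hpQ]
    infer_instance
  have hQ : IsAlgSpace Q := isAlgSpace_of_etale_kernelPair sqQ
  have hr : Representable pQ := representable_of_kernelPair sqQ
  have := isLocalAtTarget_fppf (@Etale : MorphismProperty Scheme.{u})
  have := isLocalAtTarget_fppf (@Surjective : MorphismProperty Scheme.{u})
  have he : RepWith @Etale pQ := repWith_of_locallySurjective hr _ sqQ @Etale ((repWith_yon_map_iff _ _).2 ‹_›)
  have hs : RepWith @Surjective pQ :=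
    repWith_of_locallySurjective hr _ sqQ @Surjective ((repWith_yon_map_iff _ _).2 ‹_›)
  -- two lifts with equal image in `Q` agree in `F`
  have hrel : ∀ {T : Over S} (y z : T ⟶ V), (yon S).map y ≫ pQ = (yon S).map z ≫ pQ →
      (pyon S).map y ≫ p = (pyon S).map z ≫ p := by
    intro T y z hyz
    obtain ⟨r, rfl, rfl⟩ := exists_rel_lift sqQ y z hyz
    rw [Functor.map_comp, Functor.map_comp, Category.assoc, Category.assoc, sqP.w]
  have hbij : ∀ T : Over S, Function.Bijective (fun a : (pyon S).obj T ⟶ F => a ≫ η) := by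
    intro T
    refine ⟨fun a b hab => ?_, fun ξ => ?_⟩
    · obtain ⟨T₁, φ₁, x, _, _, hx⟩ := hlift a
      obtain ⟨T₂, φ₂, y, _, _, hy⟩ := hlift ((pyon S).map φ₁ ≫ b)
      change a ≫ η = b ≫ η at hab
      refine hext φ₁ a b (hext φ₂ _ _ ?_)
      rw [← hx, ← hy, ← Functor.map_comp_assoc]
      refine hrel _ _ (ObjectProperty.hom_ext _ ?_)
      show (pyon S).map (φ₂ ≫ x) ≫ pQ.hom = (pyon S).map y ≫ pQ.hom
      rw [hpQ, ← Category.assoc, ← Category.assoc, hy, Functor.map_comp, Category.assoc _ _ p, hx]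
      simp only [Category.assoc, hab]
    · let ξ' : (yon S).obj T ⟶ Q := ObjectProperty.homMk ξ
      let φ := he.rep.snd ξ'
      have : Etale φ.left := he.property_snd ξ'
      have : Surjective φ.left := hs.property _ _ _ (he.rep.isPullback ξ')
      let x := he.rep.fst' ξ'
      have hx : (yon S).map x ≫ pQ = (yon S).map φ ≫ ξ' := (he.rep.isPullback' ξ').w
      obtain ⟨v, hv, -⟩ := Presieve.isSheafFor_singleton.1
        ((Presieve.isSheafFor_iff_generate _).2 (hsheaf _ (mem_J_etale φ)))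
        (uliftYonedaEquiv.{u + 1} ((pyon S).map x ≫ p)) (fun {W} y z h => by
          rw [← pyonEquiv_precomp, ← pyonEquiv_precomp, ← Functor.map_comp_assoc,
            ← Functor.map_comp_assoc, hrel (y ≫ x) (z ≫ x) (by
              rw [Functor.map_comp, Functor.map_comp, Category.assoc, Category.assoc, hx, ← Functor.map_comp_assoc,
                ← Functor.map_comp_assoc, h])])
      obtain ⟨a, rfl⟩ : ∃ a : (pyon S).obj T ⟶ F, uliftYonedaEquiv.{u + 1} a = v := ⟨_, Equiv.apply_symm_apply _ _⟩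
      have hv' : (pyon S).map φ ≫ a = (pyon S).map x ≫ p :=
        uliftYonedaEquiv.{u + 1}.injective (by rw [pyonEquiv_precomp]; exact hv)
      refine ⟨a, congrArg (fun q : (yon S).obj T ⟶ Q => q.hom) (hom_ext_of_fppf φ (fppf_of_etale φ.left)
        (ObjectProperty.homMk (a ≫ η)) ξ' ?_)⟩
      rw [← hx]
      refine ObjectProperty.hom_ext _ ?_
      show (pyon S).map φ ≫ a ≫ η = (pyon S).map x ≫ pQ.hom
      rw [hpQ, reassoc_of% hv']
  have : IsIso η := by
    suffices ∀ T, IsIso (η.app T) from NatIso.isIso_of_isIso_app η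
    intro T
    rw [isIso_iff_bijective]
    have e : ∀ a, η.app T a = uliftYonedaEquiv.{u + 1} (uliftYonedaEquiv.{u + 1}.symm a ≫ η) := fun a => by
      rw [uliftYonedaEquiv_comp, Equiv.apply_symm_apply]
    rw [show ⇑(η.app T) = _ from funext e]
    exact (uliftYonedaEquiv.{u + 1}.bijective).comp ((hbij T.unop).comp uliftYonedaEquiv.{u + 1}.symm.bijective)
  exact IsAlgSpaceP.of_iso ((isAlgSpaceP_obj_iff Q).2 hQ) (asIso η).symm

end Groth.Agent.AlgSpDec

namespace Groth.Agent.AlgSpDec

variable {S : Scheme.{u}} {F : PSp S}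

/-- An etale sheaf with an etale surjective map from an algebraic space, representable by spaces, is an
algebraic space. -/
theorem isAlgSpaceP_of_etale_sheaf_space (h1 : Presheaf.IsSheaf (QuotSh.J Scheme.etalePrecoverage S) F)
    {U : Sp S} (hU : IsAlgSpace U) {p : U.obj ⟶ F} (hp : RepBySpWith (IsSurjectiveMor ⊓ IsEtaleMor) p) :
    IsAlgSpaceP F := by
  obtain ⟨V, c, hc, hcs⟩ := hU.atlas
  have hlift : ∀ ⦃T : Over S⦄ (a : (pyon S).obj T ⟶ F), ∃ (T' : Over S) (φ : T' ⟶ T) (x : T' ⟶ V),
      Etale φ.left ∧ Surjective φ.left ∧ (pyon S).map x ≫ c.hom ≫ p = (pyon S).map φ ≫ a := by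
    intro T a
    obtain ⟨h', hA, hs, he⟩ := hp a (pullback.fst p a) (pullback.snd p a) (IsPullback.of_hasPullback p a)
    let Pa : Sp S := ⟨pullback p a, h'⟩
    let l : Pa ⟶ U := ObjectProperty.homMk (pullback.fst p a)
    let r : Pa ⟶ (yon S).obj T := ObjectProperty.homMk (pullback.snd p a)
    obtain ⟨W, w, hw, hws⟩ := hA.atlas
    let φ₁ := hc.rep.snd (w ≫ l)
    let x := hc.rep.fst' (w ≫ l)
    have : Etale φ₁.left := hc.property_snd (w ≫ l)
    have : Surjective φ₁.left := hcs.property _ _ _ (hc.rep.isPullback (w ≫ l))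
    have hx : (yon S).map x ≫ c = (yon S).map φ₁ ≫ w ≫ l := (hc.rep.isPullback' (w ≫ l)).w
    obtain ⟨k, hk⟩ := (yon S).map_surjective (w ≫ r)
    have : Etale k.left := locP_etale_of_isEtaleMor he w (𝟙 _) k hw (repWith_id _ T) (by rw [Category.comp_id, hk])
    have : Surjective k.left := ⟨fun t => by
      obtain ⟨z, hz⟩ := hs (Points.ofScheme T t)
      obtain ⟨v, rfl⟩ := surjective_ofPt hws z
      rw [Points.ofPt_eq_map_ofScheme, ← Points.map_comp] at hz
      change Points.map (w ≫ r) _ = _ at hz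
      rw [← hk] at hz
      exact ⟨v, (Points.schemeHomeo T).injective ((Points.map_yon_map_apply k v).symm.trans hz)⟩⟩
    refine ⟨_, φ₁ ≫ k, x, inferInstanceAs (Etale (φ₁.left ≫ k.left)),
      inferInstanceAs (Surjective (φ₁.left ≫ k.left)), ?_⟩
    have h2 := congrArg (fun q => q.hom) hx
    have h3 := congrArg (fun q => q.hom) hk
    change (pyon S).map x ≫ c.hom = (pyon S).map φ₁ ≫ w.hom ≫ pullback.fst p a at h2
    change (pyon S).map k = w.hom ≫ pullback.snd p a at h3
    rw [← Category.assoc, h2, Functor.map_comp, h3]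
    simp only [Category.assoc, pullback.condition]
  obtain ⟨h', hA, hs, he⟩ := hp (c.hom ≫ p) (pullback.fst p (c.hom ≫ p)) (pullback.snd p (c.hom ≫ p))
    (IsPullback.of_hasPullback p (c.hom ≫ p))
  let Pb : Sp S := ⟨pullback p (c.hom ≫ p), h'⟩
  let π : Pb ⟶ U := ObjectProperty.homMk (pullback.fst p (c.hom ≫ p))
  let π₂ : Pb ⟶ (yon S).obj V := ObjectProperty.homMk (pullback.snd p (c.hom ≫ p))
  let K := pullback c π
  have hK : IsAlgSpace K := isAlgSpace_pullback (IsAlgSpace.yon_obj V) hA hU c π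
  have hKe : RepWith @Etale (pullback.snd c π) := repWith_of_isPullback (IsPullback.of_hasPullback c π) hc
  have hKs : RepWith @Surjective (pullback.snd c π) := repWith_of_isPullback (IsPullback.of_hasPullback c π) hcs
  let s₀ : K ⟶ (yon S).obj V := pullback.snd c π ≫ π₂
  have hs₀ : LocP @Etale s₀ :=
    locP_comp hK hA (IsAlgSpace.yon_obj V) (locP_of_repWith hKe) (locP_etale_of_isEtaleMor he)
  have sqK : IsPullback (pullback.fst c π).hom s₀.hom (c.hom ≫ p) (c.hom ≫ p) :=
    ((IsPullback.of_hasPullback c π).map (sheafToPresheaf (J S) (Type (u + 1)))).paste_vert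
      (IsPullback.of_hasPullback p (c.hom ≫ p))
  let m : K ⟶ (yon S).obj (V ⨯ V) := prod.lift (pullback.fst c π) s₀ ≫ inv (prodComparison (yon S) V V)
  have hm₁ : m ≫ (yon S).map prod.fst = pullback.fst c π := by
    rw [Category.assoc, inv_prodComparison_map_fst, prod.lift_fst]
  have hm₂ : m ≫ (yon S).map prod.snd = s₀ := by
    rw [Category.assoc, inv_prodComparison_map_snd, prod.lift_snd]
  have : Mono m := ⟨fun {Z} a b h => by
    have h1 : a ≫ pullback.fst c π = b ≫ pullback.fst c π := by rw [← hm₁, reassoc_of% h]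
    have h2 : a ≫ s₀ = b ≫ s₀ := by rw [← hm₂, reassoc_of% h]
    exact (sheafToPresheaf (J S) (Type (u + 1))).map_injective
      (sqK.hom_ext (congrArg (fun q => q.hom) h1) (congrArg (fun q => q.hom) h2))⟩
  have hml : LocP @LocallyOfFiniteType m := by
    intro A B a b h ha hb hw
    obtain ⟨b', rfl⟩ := (yon S).map_surjective b
    have h0 : Etale (h ≫ b' ≫ prod.snd).left := hs₀ a (𝟙 _) (h ≫ b' ≫ prod.snd) ha (repWith_id _ V) (by
      rw [Category.comp_id, Functor.map_comp, Functor.map_comp, ← reassoc_of% hw, hm₂])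
    have h1 : LocallyOfFiniteType (h.left ≫ (b' ≫ prod.snd).left) := inferInstanceAs
      (LocallyOfFiniteType (h ≫ b' ≫ prod.snd).left)
    exact locallyOfFiniteType_of_comp h.left (b' ≫ prod.snd).left
  obtain ⟨R, ⟨e⟩⟩ := exists_iso_of_lqf_separated hK m (locP_lqf_of_mono m hml) (isSeparatedMor_of_mono m)
  obtain ⟨t, ht⟩ := (yon S).map_surjective (e.hom ≫ pullback.fst c π)
  obtain ⟨s, hs'⟩ := (yon S).map_surjective (e.hom ≫ s₀)
  have : Etale s.left := hs₀ e.hom (𝟙 _) s (repWith_of_isIso _ e.hom) (repWith_id _ V) (by rw [Category.comp_id, hs'])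
  have : Surjective s.left := ⟨fun t => by
    obtain ⟨z, hz⟩ := hs (Points.ofScheme V t)
    obtain ⟨y, rfl⟩ := surjective_map_of_repWith hKs z
    obtain ⟨r, rfl⟩ := surjective_ofPt (repWith_of_isIso @Surjective e.hom) y
    rw [Points.ofPt_eq_map_ofScheme, ← Points.map_comp, ← Points.map_comp] at hz
    change Points.map (e.hom ≫ s₀) _ = _ at hz
    rw [← hs'] at hz
    exact ⟨r, (Points.schemeHomeo V).injective ((Points.map_yon_map_apply s r).symm.trans hz)⟩⟩
  let eP : K.obj ≅ (pyon S).obj R := (sheafToPresheaf (J S) (Type (u + 1))).mapIso e.symm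
  refine isAlgSpaceP_of_etale_sheaf (p := c.hom ≫ p) (t := t) (s := s) h1
    (sqK.of_iso eP (Iso.refl _) (Iso.refl _) (Iso.refl _) ?_ ?_ (by simp) (by simp)) hlift
  · have h3 := congrArg (fun q => q.hom) (show (pullback.fst c π) = e.inv ≫ (yon S).map t by rw [ht, e.inv_hom_id_assoc])
    change (pullback.fst c π).hom = eP.hom ≫ (pyon S).map t at h3
    simp [h3]
  · have h3 := congrArg (fun q => q.hom) (show s₀ = e.inv ≫ (yon S).map s by rw [hs', e.inv_hom_id_assoc])
    change s₀.hom = eP.hom ≫ (pyon S).map s at h3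
    simp [h3]

end Groth.Agent.AlgSpDec
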