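import Groth.Agent.AlgSpDec.ResTrdeg
import Groth.Agent.DimFormula.QuasiSection
import Groth.Agent.AlgSpDec.LqfScheme
import Groth.Agent.AlgSpLib.LocalBaseTop

/-!
# Fibre dimension and discreteness of fibres over fields
-/

set_option backward.isDefEq.respectTransparency false
set_option backward.isDefEq.respectTransparency.types false

universe u

open CategoryTheory CategoryTheory.Limits AlgebraicGeometry AlgSp Groth.Agent.AlgSpLib Groth.Agent.AlgSpPts

namespace Groth.Agent.AlgSpDec.FieldFibre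

theorem fibreDimAt_eq_zero_iff_rd {X Y : Scheme.{u}} (f : X ⟶ Y) [LocallyOfFiniteType f] (x : X) :
    FlatMor.fibreDimAt f x = 0 ↔ ∀ z, z ⤳ x → f z = f x → FibDim.rd f z = 0 := by
  obtain ⟨z₀, h1, h2, he, hmax⟩ := FibDim.exists_fibreDimAt_eq f x
  rw [he]
  refine ⟨fun h z hz hfz => ?_, fun h => by rw [h z₀ h1 h2]; rfl⟩
  have h3 : FibDim.rd f z₀ = 0 := by exact_mod_cast h
  exact Nat.le_zero.1 (h3 ▸ hmax z hz hfz)

theorem fibreDimAt_eq_zero_of_le {X Y : Scheme.{u}} (f : X ⟶ Y) [LocallyOfFiniteType f] (x : X)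
    (h : FlatMor.fibreDimAt f x ≤ ((0 : ℕ) : WithBot ℕ∞)) : FlatMor.fibreDimAt f x = 0 := by
  rw [fibreDimAt_eq_zero_iff_rd]
  exact fun z hz hfz => Nat.le_zero.1 ((FibDim.fibreDimAt_le_iff f x 0).1 h z hz hfz)

theorem fibreDimAt_of_subsingleton {X Y : Scheme.{u}} (f : X ⟶ Y) [Subsingleton ↥Y] (x : X) :
    FlatMor.fibreDimAt f x = FlatMor.localDim ↥X x := by
  let e : ↥(f.fiber (f x)) ≃ₜ ↥X := (f.fiberHomeo (f x)).trans
    ((Homeomorph.setCongr (Set.eq_univ_of_forall fun z => Subsingleton.elim _ _)).trans (Homeomorph.Set.univ _))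
  have he : e (f.asFiber x) = x := by
    show ((f.fiberHomeo (f x)) (f.asFiber x)).1 = x
    rw [Scheme.Hom.asFiber, Homeomorph.apply_symm_apply]
  conv_rhs => rw [← he]
  exact (FibDim.localDim_homeomorph e _).symm

theorem finite_qf_points {T V : Scheme.{u}} (k : T ⟶ V) [LocallyOfFiniteType k] [QuasiCompact k] (v : V) :
    {t : T | k t = v ∧ FlatMor.fibreDimAt k t = 0}.Finite := by
  haveI := DimFormula.isLocallyNoetherian_fiber k v
  haveI : CompactSpace ↥(k.fiber v) := by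
    haveI : CompactSpace ↥(k ⁻¹' {v}) := isCompact_iff_compactSpace.1 (k.isCompact_preimage_singleton v)
    exact (k.fiberHomeo v).symm.compactSpace
  haveI : IsNoetherian (k.fiber v) := {}
  let D : Set ↥(k.fiber v) := {z | IsOpen ({z} : Set ↥(k.fiber v))}
  have hD : D.Finite := by
    have hc : IsCompact D := TopologicalSpace.NoetherianSpace.isCompact D
    obtain ⟨t, ht⟩ := hc.elim_finite_subcover (fun z : D => ({z.1} : Set ↥(k.fiber v))) (fun z => z.2)
      (fun z hz => Set.mem_iUnion.2 ⟨⟨z, hz⟩, rfl⟩)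
    refine (t.finite_toSet.image Subtype.val).subset fun z hz => ?_
    obtain ⟨i, hi⟩ := Set.mem_iUnion.1 (ht hz)
    obtain ⟨hit, hiz⟩ : i ∈ t ∧ z = i.1 := by simpa using hi
    exact ⟨i, hit, hiz.symm⟩
  refine (hD.image (k.fiberι v)).subset ?_
  rintro t ⟨rfl, h0⟩
  exact ⟨k.asFiber t, (fibreDimAt_eq_zero_iff k t).1 h0, Scheme.Hom.fiberι_asFiber k t⟩

variable {S : Scheme.{u}} {F G : Sp S} {f : F ⟶ G}

theorem hasAtMor_iff (hf : LocP @LocallyOfFiniteType f) {U V : Over S} {a : (yon S).obj U ⟶ F}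
    {b : (yon S).obj V ⟶ G} {h : U ⟶ V} (ha : RepWith @Etale a) (hb : RepWith @Etale b)
    (w : a ≫ f = (yon S).map h ≫ b) (u : ↥U.left) (d : WithBot ℕ∞) :
    HasAtMor (fun _ _ h u => FlatMor.fibreDimAt h u = d) f (Points.ofPt a u) ↔
      FlatMor.fibreDimAt h.left u = d := by
  refine ⟨?_, fun hd => ⟨U, V, a, b, h, u, ha, hb, w, rfl, hd⟩⟩
  rintro ⟨U', V', a', b', h', u', ha', hb', w', hx, hd⟩
  rw [RelDimSp.fibreDimAt_congr hf ha hb w ha' hb' w' hx.symm]
  exact hd

/-- The fibre dimension at a point is computed on any fibre through the point over a field. -/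
theorem hasAtMor_zero_of_fibre {k : Type u} [Field k] {str : Spec (CommRingCat.of k) ⟶ S}
    {y : (yon S).obj (Over.mk str) ⟶ G} {P : Sp S} {fst : P ⟶ F} {snd : P ⟶ (yon S).obj (Over.mk str)}
    (sq : IsPullback fst snd f y) (hF : IsAlgSpace F) (hG : IsAlgSpace G) (hf : LocP @LocallyOfFiniteType f)
    (z : Points P) {U : Over S} (a : (yon S).obj U ⟶ P) (ha : RepWith @Etale a) (h : U ⟶ Over.mk str)
    (w : a ≫ snd = (yon S).map h) (u : ↥U.left) (hu : Points.ofPt a u = z)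
    (h0 : FlatMor.fibreDimAt h.left u = 0) :
    HasAtMor (fun _ _ h u => FlatMor.fibreDimAt h u = 0) f (Points.map fst z) := by
  obtain ⟨U₀, V₀, a₀, b₀, h₀, ha₀, ha₀', hb₀, -, w₀⟩ := exists_chart hF hG f
  obtain ⟨u₀, hu₀⟩ := surjective_ofPt ha₀' (Points.map fst z)
  have hd : HasAtMor (fun _ _ h u => FlatMor.fibreDimAt h u = FlatMor.fibreDimAt h₀.left u₀) f
      (Points.map fst z) := ⟨U₀, V₀, a₀, b₀, h₀, u₀, ha₀, hb₀, w₀, hu₀, rfl⟩
  have hd' := RelDimSp.baseChange sq hF hG (IsAlgSpace.yon_obj _) hf z _ hd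
  rw [← hu, hasAtMor_iff (locP_of_isPullback sq hF hG (IsAlgSpace.yon_obj _) hf) ha (repWith_id _ _)
    (by rw [Category.comp_id]; exact w), h0] at hd'
  exact ⟨U₀, V₀, a₀, b₀, h₀, u₀, ha₀, hb₀, w₀, hu₀, hd'.symm⟩

/-- A space locally of finite type over a field with discrete points has fibre dimension zero. -/
theorem fibreDimAt_zero_of_discrete {k : Type u} [Field k] {str : Spec (CommRingCat.of k) ⟶ S} {P : Sp S}
    {q : P ⟶ (yon S).obj (Over.mk str)} [DiscreteTopology (Points P)] {U : Over S} {a : (yon S).obj U ⟶ P}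
    (ha : RepWith @Etale a) {h : U ⟶ Over.mk str} (w : a ≫ q = (yon S).map h) [LocallyOfFiniteType h.left]
    (u : ↥U.left) : FlatMor.fibreDimAt h.left u = 0 := by
  let h' : U.left ⟶ Spec (CommRingCat.of k) := h.left
  haveI : LocallyOfFiniteType h' := ‹LocallyOfFiniteType h.left›
  haveI : JacobsonSpace ↥U.left := LocallyOfFiniteType.jacobsonSpace h'
  haveI : Subsingleton ↥(Spec (CommRingCat.of k)) := inferInstanceAs (Subsingleton (PrimeSpectrum k))
  refine (fibreDimAt_eq_zero_iff_rd h' u).2 fun z _ _ => ?_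
  let O : Set ↥U.left := Points.ofPt a ⁻¹' {Points.ofPt a z}
  have hO : IsClosed O := (isClosed_discrete _).preimage (Points.continuous_ofPt a)
  obtain ⟨u₀, hu₀O, hu₀⟩ := nonempty_inter_closedPoints (Z := O) ⟨z, rfl⟩ hO.isLocallyClosed
  have h₀ : FibDim.rd h' u₀ = 0 := DimFormula.rd_eq_zero_of_closed h' fun x' _ hsp => by
    have := hu₀.closure_eq
    exact (this ▸ hsp.mem_closure : x' ∈ ({u₀} : Set ↥U.left))
  have h1 := ResTrdeg.rdeg_congr (f := q) (u := u₀) (u' := z) ha (repWith_id _ _)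
    (by rw [Category.comp_id]; exact w) ha (repWith_id _ _) (by rw [Category.comp_id]; exact w) hu₀O
  have h2 : (FibDim.rd h' z : Cardinal.{u}) = (FibDim.rd h' u₀ : Cardinal.{u}) := by
    rw [FibDim.rd_eq_rdeg, FibDim.rd_eq_rdeg]; exact h1.symm
  rw [h₀] at h2
  exact_mod_cast h2

end Groth.Agent.AlgSpDec.FieldFibre
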