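import Groth.Agent.AlgSpDec.FieldFibre
import Groth.Agent.AlgSpDec.Fibres
import Groth.Agent.AlgSpDec.More
import Groth.Agent.AlgSpDec.DimMaps
import Groth.Agent.AlgSpDec.EtField
import Groth.Agent.AlgSpDec.CodimZeroFibre
import Groth.Agent.S10313

/-!
# Discrete fibres and quasi-finite points of morphisms of algebraic spaces
-/

set_option autoImplicit false
set_option linter.style.haveILetI false
set_option backward.isDefEq.respectTransparency false
set_option backward.isDefEq.respectTransparency.types false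

universe u

open CategoryTheory CategoryTheory.Limits AlgebraicGeometry AlgSp Groth.Agent.AlgSpLib Groth.Agent.AlgSpPts
  Order TopologicalSpace

namespace Groth.Agent.AlgSpDec.FibreDiscrete

variable {S : Scheme.{u}} {F G : Sp S} {f : F ⟶ G}

/-- Fibre dimension zero at a point. -/
abbrev Q0 (f : F ⟶ G) (x : Points F) : Prop :=
  HasAtMor (fun _ _ h u => FlatMor.fibreDimAt h u = 0) f x

theorem rd_congr (hf : LocP @LocallyOfFiniteType f) {U V : Over S} {a : (yon S).obj U ⟶ F}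
    {b : (yon S).obj V ⟶ G} {h : U ⟶ V} (ha : RepWith @Etale a) (hb : RepWith @Etale b)
    (w : a ≫ f = (yon S).map h ≫ b) {z z' : ↥U.left} (he : Points.ofPt a z = Points.ofPt a z') :
    FibDim.rd h.left z = FibDim.rd h.left z' := by
  haveI : LocallyOfFiniteType h.left := hf a b h ha hb w
  have h1 := ResTrdeg.rdeg_congr (f := f) ha hb w ha hb w he
  rw [← FibDim.rd_eq_rdeg, ← FibDim.rd_eq_rdeg] at h1
  exact_mod_cast h1

theorem map_eq {U V : Over S} {a : (yon S).obj U ⟶ F} {b : (yon S).obj V ⟶ G} {h : U ⟶ V}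
    (w : a ≫ f = (yon S).map h ≫ b) (t : ↥U.left) :
    Points.map f (Points.ofPt a t) = Points.ofPt b (h.left t) := by
  rw [Points.map_ofPt, w, ofPt_comp]

/-- The main criterion: near `u`, the points of the scheme fibre comparable with `u` give the same point of the
space. -/
theorem q0_of_open (hf : LocP @LocallyOfFiniteType f) {U V : Over S} {a : (yon S).obj U ⟶ F}
    {b : (yon S).obj V ⟶ G} {h : U ⟶ V} (ha : RepWith @Etale a) (hb : RepWith @Etale b)
    (w : a ≫ f = (yon S).map h ≫ b) (u : ↥U.left) (O : Set ↥U.left) (hO : IsOpen O) (huO : u ∈ O)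
    (hrel : ∀ z ∈ O, h.left z = h.left u → z ⤳ u ∨ u ⤳ z → Points.ofPt a z = Points.ofPt a u) :
    Q0 f (Points.ofPt a u) := by
  haveI : LocallyOfFiniteType h.left := hf a b h ha hb w
  refine (FieldFibre.hasAtMor_iff hf ha hb w u 0).2 ((FieldFibre.fibreDimAt_eq_zero_iff_rd _ u).2 fun z hz he => ?_)
  haveI : LocallyOfFiniteType (h.left.fiberToSpecResidueField (h.left u)) :=
    MorphismProperty.pullback_snd (P := @LocallyOfFiniteType) _ _ ‹_›
  haveI : JacobsonSpace ↥(h.left.fiber (h.left u)) :=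
    LocallyOfFiniteType.jacobsonSpace (h.left.fiberToSpecResidueField (h.left u))
  let ι := h.left.fiberι (h.left u)
  let u₀ := h.left.asFiber u
  have hι : ι u₀ = u := h.left.fiberι_asFiber u
  obtain ⟨c, ⟨hcu, hcO⟩, hc⟩ := nonempty_inter_closedPoints (Z := closure {u₀} ∩ ι ⁻¹' O)
    ⟨u₀, subset_closure rfl, by show ι u₀ ∈ O; rw [hι]; exact huO⟩
    (isClosed_closure.isLocallyClosed.inter (hO.preimage ι.continuous).isLocallyClosed)
  have hfc : ∀ c' : ↥(h.left.fiber (h.left u)), h.left (ι c') = h.left u := fun c' =>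
    (h.left.range_fiberι (h.left u)).le ⟨c', rfl⟩
  have hsp : u ⤳ ι c := by
    have h2 := (specializes_iff_mem_closure.2 hcu).map ι.continuous
    rwa [hι] at h2
  have hcx := hrel (ι c) hcO (hfc c) (Or.inr hsp)
  have h0 : FibDim.rd h.left (ι c) = 0 := DimFormula.rd_eq_zero_of_closed h.left fun x' he' hs => by
    obtain ⟨c', rfl⟩ : x' ∈ Set.range ι := by rw [h.left.range_fiberι]; exact he'.trans (hfc c)
    exact congrArg ι (Set.mem_singleton_iff.1 (hc.closure_eq.le
      (specializes_iff_mem_closure.1 ((h.left.fiberι (h.left u)).isEmbedding.isInducing.specializes_iff.1 hs))))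
  have hzx := hrel z (hz.mem_open hO huO) he (Or.inl hz)
  rw [rd_congr hf ha hb w (hzx.trans hcx.symm), h0]

/-- An isolated point of a fibre is a quasi-finite point. -/
theorem q0_of_isOpen (hF : IsAlgSpace F) (hG : IsAlgSpace G) (hf : LocP @LocallyOfFiniteType f) {y : Points G}
    (x : ↥(Points.map f ⁻¹' {y})) (hx : IsOpen ({x} : Set ↥(Points.map f ⁻¹' {y}))) : Q0 f x.1 := by
  obtain ⟨U, V, a, b, h, ha, ha', hb, -, w⟩ := exists_chart hF hG f
  obtain ⟨u, hu⟩ := surjective_ofPt ha' x.1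
  obtain ⟨N, hN, hNx⟩ := isOpen_induced_iff.1 hx
  rw [← hu]
  refine q0_of_open hf ha hb w u _ (hN.preimage (Points.continuous_ofPt a)) ?_ fun z hz he _ => ?_
  · show Points.ofPt a u ∈ N
    rw [hu]
    exact (Set.ext_iff.1 hNx x).2 rfl
  · have hz' : Points.ofPt a z ∈ Points.map f ⁻¹' {y} := by
      have hx2 : Points.map f x.1 = y := x.2
      show Points.map f _ = y
      rw [← hx2, ← hu, map_eq w, map_eq w, he]
    rw [hu]
    exact congrArg Subtype.val ((Set.ext_iff.1 hNx ⟨_, hz'⟩).1 hz)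

/-- A closed point of a fibre without generalizations in the fibre is a quasi-finite point. -/
theorem q0_of_isClosed (hF : IsAlgSpace F) (hG : IsAlgSpace G) (hf : LocP @LocallyOfFiniteType f) {y : Points G}
    (x : ↥(Points.map f ⁻¹' {y})) (hc : IsClosed ({x} : Set ↥(Points.map f ⁻¹' {y})))
    (hgen : ∀ x' : ↥(Points.map f ⁻¹' {y}), x' ⤳ x → x' = x) : Q0 f x.1 := by
  obtain ⟨U, V, a, b, h, ha, ha', hb, -, w⟩ := exists_chart hF hG f
  obtain ⟨u, hu⟩ := surjective_ofPt ha' x.1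
  rw [← hu]
  refine q0_of_open hf ha hb w u Set.univ isOpen_univ trivial fun z _ he hs => ?_
  have hz' : Points.ofPt a z ∈ Points.map f ⁻¹' {y} := by
    have hx2 : Points.map f x.1 = y := x.2
    show Points.map f _ = y
    rw [← hx2, ← hu, map_eq w, map_eq w, he]
  rw [hu]
  refine congrArg Subtype.val (?_ : (⟨_, hz'⟩ : ↥(Points.map f ⁻¹' {y})) = x)
  rcases hs with hs | hs
  · exact hgen _ ((subtype_specializes_iff _ _).2 (by rw [← hu]; exact hs.map (Points.continuous_ofPt a)))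
  · exact hc.closure_eq.le (specializes_iff_mem_closure.1 ((subtype_specializes_iff x
      (⟨_, hz'⟩ : ↥(Points.map f ⁻¹' {y}))).2 (by rw [← hu]; exact hs.map (Points.continuous_ofPt a))))

theorem eq_of_specializes_of_dim_zero {α : Type*} [TopologicalSpace α] [T0Space α]
    (h : topologicalKrullDim α ≤ 0) {x y : α} (hs : x ⤳ y) : x = y := by
  have h1 := krullDim_nonpos_iff_forall_isMax.1 h
    (⟨closure {y}, isIrreducible_singleton.closure, isClosed_closure⟩ : IrreducibleCloseds α)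
  have h2 := h1 (b := ⟨closure {x}, isIrreducible_singleton.closure, isClosed_closure⟩)
    (specializes_iff_closure_subset.1 hs)
  exact hs.antisymm (specializes_iff_closure_subset.2 h2) |>.eq

/-- A point of local dimension zero in a fibre with the T0 property is quasi-finite. -/
theorem q0_of_localDim (hF : IsAlgSpace F) (hG : IsAlgSpace G) (hf : LocP @LocallyOfFiniteType f) {y : Points G}
    (x : ↥(Points.map f ⁻¹' {y})) [T0Space ↥(Points.map f ⁻¹' {y})]
    (hd : FlatMor.localDim ↥(Points.map f ⁻¹' {y}) x = 0) : Q0 f x.1 := by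
  obtain ⟨⟨N, hxN⟩, hN⟩ := (iInf_lt_iff.1 (show FlatMor.localDim ↥(Points.map f ⁻¹' {y}) x <
    ((1 : ℕ∞) : WithBot ℕ∞) by rw [hd]; exact_mod_cast (zero_lt_one (α := ℕ∞))))
  have hN0 : topologicalKrullDim ↥(N : Set ↥(Points.map f ⁻¹' {y})) ≤ 0 := by
    revert hN
    change topologicalKrullDim ↥(N : Set ↥(Points.map f ⁻¹' {y})) < _ → _
    generalize topologicalKrullDim ↥(N : Set ↥(Points.map f ⁻¹' {y})) = e
    intro hN
    induction e using WithBot.recBotCoe with
    | bot => exact bot_le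
    | coe d =>
      have hd' : d = 0 := Order.lt_one_iff.1 (WithBot.coe_lt_coe.1 hN)
      rw [hd', WithBot.coe_zero]
  obtain ⟨U, V, a, b, h, ha, ha', hb, -, w⟩ := exists_chart hF hG f
  obtain ⟨u, hu⟩ := surjective_ofPt ha' x.1
  obtain ⟨M, hM, hMN⟩ := isOpen_induced_iff.1 N.2
  rw [← hu]
  refine q0_of_open hf ha hb w u _ (hM.preimage (Points.continuous_ofPt a)) ?_ fun z hz he hs => ?_
  · show Points.ofPt a u ∈ M
    rw [hu]
    exact (Set.ext_iff.1 hMN x).2 hxN
  · have hz' : Points.ofPt a z ∈ Points.map f ⁻¹' {y} := by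
      have hx2 : Points.map f x.1 = y := x.2
      show Points.map f _ = y
      rw [← hx2, ← hu, map_eq w, map_eq w, he]
    have hzN : (⟨_, hz'⟩ : ↥(Points.map f ⁻¹' {y})) ∈ N := (Set.ext_iff.1 hMN _).1 hz
    rw [hu]
    suffices (⟨⟨_, hz'⟩, hzN⟩ : ↥(N : Set ↥(Points.map f ⁻¹' {y}))) = ⟨x, hxN⟩ from
      congrArg (fun t => t.1.1) this
    rcases hs with hs | hs
    · exact eq_of_specializes_of_dim_zero hN0 ((subtype_specializes_iff _ _).2 ((subtype_specializes_iff _ _).2
        (by rw [← hu]; exact hs.map (Points.continuous_ofPt a))))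
    · exact (eq_of_specializes_of_dim_zero hN0 ((subtype_specializes_iff _ _).2 ((subtype_specializes_iff _ _).2
        (by rw [← hu]; exact hs.map (Points.continuous_ofPt a))))).symm

/-- A finite fibre of a morphism with decent source consists of quasi-finite points. -/
theorem q0_of_finite (hF : IsAlgSpace F) (hG : IsAlgSpace G) (hf : LocP @LocallyOfFiniteType f) (hFd : IsDecent F)
    {y : Points G} (hfin : (Points.map f ⁻¹' {y}).Finite) (x : Points F) (hx : Points.map f x = y) : Q0 f x := by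
  obtain ⟨U₁, V, a₁, b, h₁, ha₁, ha₁', hb, -, w₁⟩ := exists_chart hF hG f
  obtain ⟨u₁, rfl⟩ := surjective_ofPt ha₁' x
  obtain ⟨U, ι, u, hU, hι, rfl, ha⟩ := exists_affine_restrict ha₁ u₁
  have w : ((yon S).map ι ≫ a₁) ≫ f = (yon S).map (ι ≫ h₁) ≫ b := by
    rw [Category.assoc, w₁, ← Category.assoc, ← Functor.map_comp]
  rw [← ofPt_comp] at hx ⊢
  haveI : LocallyOfFiniteType (ι ≫ h₁).left := hf _ b _ ha hb w
  refine (FieldFibre.hasAtMor_iff hf ha hb w u 0).2 ((fibreDimAt_eq_zero_iff _ u).2 ?_)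
  let v := (ι ≫ h₁).left u
  have hF' : ((ι ≫ h₁).left ⁻¹' {v}).Finite := by
    refine (hfin.biUnion fun x' _ => finite_fibre hF hFd ha x').subset fun t ht => ?_
    refine Set.mem_biUnion (x := Points.ofPt ((yon S).map ι ≫ a₁) t) ?_ rfl
    show Points.map f _ = y
    rw [map_eq w, ← hx, map_eq w, Set.mem_singleton_iff.1 ht]
  haveI : LocallyOfFiniteType ((ι ≫ h₁).left.fiberToSpecResidueField v) :=
    MorphismProperty.pullback_snd (P := @LocallyOfFiniteType) _ _ ‹_›
  haveI : JacobsonSpace ↥((ι ≫ h₁).left.fiber v) :=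
    LocallyOfFiniteType.jacobsonSpace ((ι ≫ h₁).left.fiberToSpecResidueField v)
  haveI : Finite ↥((ι ≫ h₁).left ⁻¹' {v}) := hF'
  haveI : Finite ↥((ι ≫ h₁).left.fiber v) := Finite.of_equiv _ ((ι ≫ h₁).left.fiberHomeo v).symm.toEquiv
  exact isOpen_discrete _

/-- The quasi-finite points of an affine piece over finitely many points of an affine piece are finite. -/
theorem finite_qf_set {U V : Scheme.{u}} (h : U ⟶ V) [LocallyOfFiniteType h] {W : U.Opens} {V₀ : V.Opens}
    (hW : IsAffineOpen W) (hV₀ : IsAffineOpen V₀) (hWV : W ≤ h ⁻¹ᵁ V₀) {Φ : Set ↥V} (hΦ : Φ.Finite) :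
    {t : ↥U | t ∈ W ∧ h t ∈ Φ ∧ FlatMor.fibreDimAt h t = 0}.Finite := by
  haveI : IsAffine W.toScheme := hW
  haveI : IsAffine V₀.toScheme := hV₀
  haveI : LocallyOfFiniteType (h.resLE V₀ W hWV) := by
    haveI : LocallyOfFiniteType (h.resLE V₀ W hWV ≫ V₀.ι) := by
      rw [Scheme.Hom.resLE_comp_ι]; infer_instance
    exact locallyOfFiniteType_of_comp _ V₀.ι
  haveI : QuasiCompact (h.resLE V₀ W hWV) :=
    HasAffineProperty.iff_of_isAffine.2 (inferInstanceAs (CompactSpace ↥W.toScheme))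
  have hcomm : ∀ t, V₀.ι (h.resLE V₀ W hWV t) = h (W.ι t) := fun t => by
    rw [← Scheme.Hom.comp_apply, Scheme.Hom.resLE_comp_ι]; rfl
  refine ((hΦ.preimage V₀.ι.injective.injOn).biUnion fun v _ =>
    (FieldFibre.finite_qf_points (h.resLE V₀ W hWV) v).image W.ι).subset ?_
  rintro t ⟨htW, htΦ, ht0⟩
  refine Set.mem_biUnion (x := h.resLE V₀ W hWV ⟨t, htW⟩) ?_ ⟨⟨t, htW⟩, ⟨rfl, ?_⟩, rfl⟩
  · show V₀.ι _ ∈ Φ
    rw [hcomm]; exact htΦ
  · rw [← fibreDimAt_comp_etale (h.resLE V₀ W hWV) V₀.ι, Scheme.Hom.resLE_comp_ι,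
      fibreDimAt_etale_comp W.ι h]
    exact ht0

theorem closure_finite_specializes {α : Type*} [TopologicalSpace α] {P : Set α} (hP : P.Finite) {t : α}
    (ht : t ∈ closure P) : ∃ p ∈ P, p ⤳ t := by
  rw [← Set.biUnion_of_singleton P, hP.closure_biUnion] at ht
  obtain ⟨p, hp, hpt⟩ := Set.mem_iUnion₂.1 ht
  exact ⟨p, hp, specializes_iff_mem_closure.2 hpt⟩

/-- Over a decent target the quasi-finite points over a point of an affine piece are not related by
specialization and are finite. -/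
theorem exists_finite_piece (hG : IsAlgSpace G) (hGd : IsDecent G) (hf : LocP @LocallyOfFiniteType f)
    {U V : Over S} {a : (yon S).obj U ⟶ F} {b : (yon S).obj V ⟶ G} {h : U ⟶ V} (ha : RepWith @Etale a)
    (hb : RepWith @Etale b) (w : a ≫ f = (yon S).map h ≫ b) (y : Points G) (u : ↥U.left)
    (O : Set ↥U.left) (hO : IsOpen O) (huO : u ∈ O) :
    ∃ W : U.left.Opens, u ∈ W ∧ (W : Set ↥U.left) ⊆ O ∧
      {t : ↥U.left | t ∈ W ∧ Points.map f (Points.ofPt a t) = y ∧ FlatMor.fibreDimAt h.left t = 0}.Finite := by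
  haveI : LocallyOfFiniteType h.left := hf a b h ha hb w
  obtain ⟨V', ι, v', hV', hι, hv', hb'⟩ := exists_affine_restrict hb (h.left u)
  haveI := hι
  obtain ⟨W, hW, huW, hWO⟩ := exists_isAffineOpen_mem_and_subset
    (U := (⟨O, hO⟩ : U.left.Opens) ⊓ h.left ⁻¹ᵁ ι.left.opensRange) (x := u) ⟨huO, v', hv'⟩
  refine ⟨W, huW, fun t ht => (hWO ht).1, (finite_qf_set h.left hW (isAffineOpen_opensRange ι.left)
    (fun t ht => (hWO ht).2) ((finite_fibre hG hGd hb' y).image ι.left)).subset ?_⟩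
  rintro t ⟨htW, hty, ht0⟩
  obtain ⟨s, hs⟩ := (hWO htW).2
  refine ⟨htW, ⟨s, ?_, hs⟩, ht0⟩
  show Points.ofPt ((yon S).map ι ≫ b) s = y
  rw [ofPt_comp, hs, ← map_eq w, hty]

theorem eq_of_specializes_of_q0 (hGd : IsDecent G) (hf : LocP @LocallyOfFiniteType f)
    {U V : Over S} {a : (yon S).obj U ⟶ F} {b : (yon S).obj V ⟶ G} {h : U ⟶ V} (ha : RepWith @Etale a)
    (hb : RepWith @Etale b) (w : a ≫ f = (yon S).map h ≫ b) {y : Points G} {p t : ↥U.left}
    (hp : Points.map f (Points.ofPt a p) = y) (ht : Points.map f (Points.ofPt a t) = y)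
    (h0 : FlatMor.fibreDimAt h.left p = 0) (hs : p ⤳ t) : p = t := by
  haveI : LocallyOfFiniteType h.left := hf a b h ha hb w
  have he : h.left t = h.left p := eq_of_specializes_of_isDecent hGd hb
    (by rw [← map_eq w, ← map_eq w, hp, ht]) (hs.map h.left.continuous)
  by_contra hne
  have h1 := FibDim.rd_lt h.left hs hne he.symm
  rw [(FieldFibre.fibreDimAt_eq_zero_iff_rd _ p).1 h0 p specializes_rfl rfl] at h1
  exact absurd h1 (Nat.not_lt_zero _)

/-- Over a decent target a quasi-finite point is isolated in its fibre. -/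
theorem isOpen_of_q0 (hF : IsAlgSpace F) (hG : IsAlgSpace G) (hGd : IsDecent G)
    (hf : LocP @LocallyOfFiniteType f) {y : Points G} (x : ↥(Points.map f ⁻¹' {y})) (h0 : Q0 f x.1) :
    IsOpen ({x} : Set ↥(Points.map f ⁻¹' {y})) := by
  obtain ⟨U, V, a, b, h, ha, ha', hb, -, w⟩ := exists_chart hF hG f
  obtain ⟨u, hu⟩ := surjective_ofPt ha' x.1
  haveI : LocallyOfFiniteType h.left := hf a b h ha hb w
  rw [← hu] at h0
  have hu0 := (FieldFibre.hasAtMor_iff hf ha hb w u 0).1 h0
  have hxy : Points.map f (Points.ofPt a u) = y := by rw [hu]; exact x.2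
  obtain ⟨W, huW, hWO, hT⟩ := exists_finite_piece hG hGd hf ha hb w y u
    {t | FlatMor.fibreDimAt h.left t ≤ ((0 : ℕ) : WithBot ℕ∞)} (FibDim.isOpen_fibreDimAt_le h.left 0)
    (show FlatMor.fibreDimAt h.left u ≤ _ by rw [hu0]; rfl)
  let T := {t : ↥U.left | t ∈ W ∧ Points.map f (Points.ofPt a t) = y ∧ FlatMor.fibreDimAt h.left t = 0}
  let O := (W : Set ↥U.left) \ closure (T \ {u})
  have hOo : IsOpen O := W.2.sdiff isClosed_closure
  have huc : u ∉ closure (T \ {u}) := fun hc => by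
    obtain ⟨p, ⟨⟨-, hp, hp0⟩, hpu⟩, hps⟩ := closure_finite_specializes (hT.subset Set.sdiff_subset) hc
    exact hpu (eq_of_specializes_of_q0 hGd hf ha hb w hp hxy hp0 hps)
  refine isOpen_induced_iff.2 ⟨Points.ofPt a '' O, isOpenMap_ofPt ha _ hOo, Set.ext fun z => ⟨?_, ?_⟩⟩
  · rintro ⟨t, ⟨htW, htc⟩, ht⟩
    have hty : Points.map f (Points.ofPt a t) = y := by rw [ht]; exact z.2
    have htT : t ∈ T := ⟨htW, hty, FieldFibre.fibreDimAt_eq_zero_of_le h.left t (hWO htW)⟩
    have : t = u := by_contra fun hne => htc (subset_closure ⟨htT, hne⟩)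
    exact Subtype.ext (ht.symm.trans (this ▸ hu))
  · rintro rfl
    exact ⟨u, ⟨huW, huc⟩, hu⟩

/-- Over a decent target a quasi-finite point is closed in its fibre. -/
theorem isClosed_of_q0 (hF : IsAlgSpace F) (hG : IsAlgSpace G) (hGd : IsDecent G)
    (hf : LocP @LocallyOfFiniteType f) {y : Points G} (x : ↥(Points.map f ⁻¹' {y})) (h0 : Q0 f x.1) :
    IsClosed ({x} : Set ↥(Points.map f ⁻¹' {y})) := by
  obtain ⟨U, V, a, b, h, ha, ha', hb, -, w⟩ := exists_chart hF hG f
  haveI : LocallyOfFiniteType h.left := hf a b h ha hb w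
  refine isClosed_of_closure_subset fun x' hx' => ?_
  have hs : x.1 ⤳ x'.1 := (subtype_specializes_iff _ _).1 (specializes_iff_mem_closure.2 hx')
  obtain ⟨t, ht⟩ := surjective_ofPt ha' x'.1
  obtain ⟨W, htW, -, hT⟩ := exists_finite_piece hG hGd hf ha hb w y t Set.univ isOpen_univ trivial
  let P := (W : Set ↥U.left) ∩ Points.ofPt a ⁻¹' {x.1}
  have hP : ∀ p ∈ P, Points.map f (Points.ofPt a p) = y ∧ FlatMor.fibreDimAt h.left p = 0 := fun p hp => by
    have hpx : Points.ofPt a p = x.1 := hp.2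
    refine ⟨by rw [hpx]; exact x.2, (FieldFibre.hasAtMor_iff hf ha hb w p 0).1 (by rw [hpx]; exact h0)⟩
  have hPfin : P.Finite := hT.subset fun p hp => ⟨hp.1, hP p hp⟩
  have htc : t ∈ closure P := mem_closure_iff.2 fun O hO htO => by
    obtain ⟨p, ⟨hpO, hpW⟩, hp⟩ := hs.mem_open (isOpenMap_ofPt ha _ (hO.inter W.2))
      ⟨t, ⟨htO, htW⟩, ht⟩
    exact ⟨p, hpO, hpW, hp⟩
  obtain ⟨p, hp, hps⟩ := closure_finite_specializes hPfin htc
  have := eq_of_specializes_of_q0 hGd hf ha hb w (hP p hp).1 (by rw [ht]; exact x'.2) (hP p hp).2 hps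
  subst this
  exact Subtype.ext (ht.symm.trans hp.2)

theorem localDim_le_krullDim {α : Type*} [TopologicalSpace α] (x : α) :
    FlatMor.localDim α x ≤ topologicalKrullDim α := by
  refine le_trans (iInf_le _ ⟨⊤, trivial⟩) (le_of_eq ?_)
  exact (Homeomorph.Set.univ α).isHomeomorph.topologicalKrullDim_eq

theorem krullDim_nonneg {α : Type*} [TopologicalSpace α] [Nonempty α] :
    0 ≤ topologicalKrullDim α := by
  haveI : Nonempty (IrreducibleCloseds α) :=
    ⟨⟨closure {Classical.arbitrary α}, isIrreducible_singleton.closure, isClosed_closure⟩⟩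
  exact Order.krullDim_nonneg

theorem localDim_nonneg {α : Type*} [TopologicalSpace α] (x : α) : 0 ≤ FlatMor.localDim α x :=
  le_iInf fun N => by
    haveI : Nonempty ↥(N.1 : Set α) := ⟨⟨x, N.2⟩⟩
    exact krullDim_nonneg

theorem krullDim_discrete {α : Type*} [TopologicalSpace α] [DiscreteTopology α] [Nonempty α] :
    topologicalKrullDim α = 0 := by
  refine le_antisymm (krullDim_nonpos_iff_forall_isMax.2 fun A B hAB => ?_) krullDim_nonneg
  obtain ⟨c, hc⟩ := B.2.nonempty
  have hB : ∀ d ∈ (B : Set α), d = c := fun d hd => by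
    by_contra hne
    obtain ⟨e, -, he₁, he₂⟩ := B.2.2 {d} {c} (isOpen_discrete _) (isOpen_discrete _) ⟨d, hd, rfl⟩ ⟨c, hc, rfl⟩
    exact hne (he₁.symm.trans he₂)
  obtain ⟨d, hd⟩ := A.2.nonempty
  exact fun e he => by
    have h1 := hB e he
    have h2 := hB d (hAB hd)
    rw [h1, ← h2]; exact hd

theorem localDim_eq_zero_of_isOpen {α : Type*} [TopologicalSpace α] (x : α) (h : IsOpen ({x} : Set α)) :
    FlatMor.localDim α x = 0 := by
  refine le_antisymm ((iInf_le _ ⟨⟨{x}, h⟩, rfl⟩).trans (le_of_eq ?_)) (localDim_nonneg x)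
  haveI : DiscreteTopology ↥({x} : Set α) := Subsingleton.discreteTopology
  haveI : Nonempty ↥({x} : Set α) := ⟨⟨x, rfl⟩⟩
  exact krullDim_discrete

/-- Quasi-finiteness at a point is read off any fibre over a field. -/
theorem q0_baseChange_iff {k : Type u} [Field k] {str : Spec (CommRingCat.of k) ⟶ S}
    {g : (yon S).obj (Over.mk str) ⟶ G} {P : Sp S} {fst : P ⟶ F} {snd : P ⟶ (yon S).obj (Over.mk str)}
    (sq : IsPullback fst snd f g) (hF : IsAlgSpace F) (hG : IsAlgSpace G) (hf : LocP @LocallyOfFiniteType f)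
    (z : Points P) : Q0 snd z ↔ Q0 f (Points.map fst z) := by
  refine ⟨fun h0 => ?_, RelDimSp.baseChange sq hF hG (IsAlgSpace.yon_obj _) hf z 0⟩
  obtain ⟨U, V, a, b, h, ha, ha', hb, -, w⟩ := exists_chart hF hG f
  obtain ⟨u, hu⟩ := surjective_ofPt ha' (Points.map fst z)
  obtain ⟨U', V', a', b', h', u', ha₁, hb₁, w₁, hx', hd'⟩ :=
    RelDimSp.baseChange sq hF hG (IsAlgSpace.yon_obj _) hf z (FlatMor.fibreDimAt h.left u)
      ⟨U, V, a, b, h, u, ha, hb, w, hu, rfl⟩
  rw [← hx'] at h0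
  have h1 := (FieldFibre.hasAtMor_iff (locP_of_isPullback sq hF hG (IsAlgSpace.yon_obj _) hf) ha₁ hb₁ w₁ u' 0).1 h0
  exact ⟨U, V, a, b, h, u, ha, hb, w, hu, hd'.symm.trans h1⟩

section Field

variable {k : Type u} [Field k] {str : Spec (CommRingCat.of k) ⟶ S} {P : Sp S}
  {q : P ⟶ (yon S).obj (Over.mk str)}

theorem subsingleton_points_field : Subsingleton (Points ((yon S).obj (Over.mk str))) :=
  haveI : Subsingleton ↥(Over.mk str).left := inferInstanceAs (Subsingleton (PrimeSpectrum k))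
  (Points.schemeHomeo _).toEquiv.symm.subsingleton

theorem isOpen_iff_q0 (hP : IsAlgSpace P) (hq : LocP @LocallyOfFiniteType q) (z : Points P) :
    IsOpen ({z} : Set (Points P)) ↔ Q0 q z := by
  haveI : Subsingleton (Points ((yon S).obj (Over.mk str))) := subsingleton_points_field
  let F₀ := Points.map q ⁻¹' {Points.map q z}
  have hF₀ : F₀ = Set.univ := Set.eq_univ_of_forall fun _ => Subsingleton.elim _ _
  refine ⟨fun h => q0_of_isOpen hP (IsAlgSpace.yon_obj _) hq (⟨z, rfl⟩ : ↥F₀)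
    (isOpen_induced_iff.2 ⟨{z}, h, Set.ext fun t => (Subtype.ext_iff (a1 := t) (a2 := ⟨z, rfl⟩)).symm⟩), fun h => ?_⟩
  have h1 := isOpen_of_q0 hP (IsAlgSpace.yon_obj _) (isDecent_yon_field str) hq (⟨z, rfl⟩ : ↥F₀) h
  have h2 : IsOpen F₀ := hF₀ ▸ isOpen_univ
  have h3 := h2.isOpenMap_subtype_val _ h1
  rwa [Set.image_singleton] at h3

theorem isClosed_iff_q0 (hP : IsAlgSpace P) (hq : LocP @LocallyOfFiniteType q) (z : Points P) :
    (IsClosed ({z} : Set (Points P)) ∧ ∀ z', z' ⤳ z → z' = z) ↔ Q0 q z := by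
  haveI : Subsingleton (Points ((yon S).obj (Over.mk str))) := subsingleton_points_field
  let F₀ := Points.map q ⁻¹' {Points.map q z}
  have hF₀ : IsClosed F₀ := by
    have : F₀ = Set.univ := Set.eq_univ_of_forall fun _ => Subsingleton.elim _ _
    rw [this]; exact isClosed_univ
  refine ⟨fun h => q0_of_isClosed hP (IsAlgSpace.yon_obj _) hq (⟨z, rfl⟩ : ↥F₀)
    (isClosed_induced_iff.2 ⟨{z}, h.1, Set.ext fun t => (Subtype.ext_iff (a1 := t) (a2 := ⟨z, rfl⟩)).symm⟩)
    (fun t ht => Subtype.ext (h.2 t.1 ((subtype_specializes_iff _ _).1 ht))), fun h => ⟨?_, fun z' hz => ?_⟩⟩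
  · have h1 := isClosed_of_q0 hP (IsAlgSpace.yon_obj _) (isDecent_yon_field str) hq (⟨z, rfl⟩ : ↥F₀) h
    have h3 := hF₀.isClosedMap_subtype_val _ h1
    rwa [Set.image_singleton] at h3
  · exact hz.mem_open ((isOpen_iff_q0 hP hq z).2 h) rfl

theorem q0_iff_fibreDimAt (hq : LocP @LocallyOfFiniteType q) {U : Over S} {a : (yon S).obj U ⟶ P}
    (ha : RepWith @Etale a) {c : U ⟶ Over.mk str} (hc : (yon S).map c = a ≫ q) (u : ↥U.left) :
    Q0 q (Points.ofPt a u) ↔ FlatMor.fibreDimAt c.left u = 0 :=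
  FieldFibre.hasAtMor_iff hq ha (repWith_id _ _) (by rw [Category.comp_id, hc]) u 0

theorem hasAt_iff_q0 (hP : IsAlgSpace P) (hq : LocP @LocallyOfFiniteType q) (z : Points P) :
    HasAt (fun U u => FlatMor.localDim ↥U u = 0) P z ↔ Q0 q z := by
  haveI : Subsingleton ↥(Over.mk str).left := inferInstanceAs (Subsingleton (PrimeSpectrum k))
  constructor
  · rintro ⟨U, a, u, ha, rfl, hd⟩
    obtain ⟨c, hc⟩ := (yon S).map_surjective (a ≫ q)
    haveI : LocallyOfFiniteType c.left := hq a (𝟙 _) c ha (repWith_id _ _) (by rw [Category.comp_id, hc])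
    rw [q0_iff_fibreDimAt hq ha hc, FieldFibre.fibreDimAt_of_subsingleton]
    exact hd
  · intro h
    obtain ⟨U, a, ha, ha'⟩ := hP.atlas
    obtain ⟨u, rfl⟩ := surjective_ofPt ha' z
    obtain ⟨c, hc⟩ := (yon S).map_surjective (a ≫ q)
    haveI : LocallyOfFiniteType c.left := hq a (𝟙 _) c ha (repWith_id _ _) (by rw [Category.comp_id, hc])
    rw [q0_iff_fibreDimAt hq ha hc, FieldFibre.fibreDimAt_of_subsingleton] at h
    exact ⟨U, a, u, ha, rfl, h⟩

theorem localDim_iff_q0 (hP : IsAlgSpace P) (hq : LocP @LocallyOfFiniteType q) (hd : IsDecent P) (z : Points P) :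
    FlatMor.localDim (Points P) z = 0 ↔ Q0 q z := by
  haveI := t0Space_points hP hd
  haveI := quasiSober_points hP hd
  refine ⟨fun h => ?_, fun h => localDim_eq_zero_of_isOpen z ((isOpen_iff_q0 hP hq z).2 h)⟩
  obtain ⟨U, a, ha, ha'⟩ := hP.atlas
  obtain ⟨u, rfl⟩ := surjective_ofPt ha' z
  exact (hasAt_iff_q0 hP hq _).1 ⟨U, a, u, ha, rfl, (localDim_eq hd ha u).trans h⟩

theorem discrete_iff_q0 (hP : IsAlgSpace P) (hq : LocP @LocallyOfFiniteType q) :
    DiscreteTopology (Points P) ↔ ∀ z : Points P, Q0 q z := by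
  rw [discreteTopology_iff_isOpen_singleton]
  exact forall_congr' fun z => isOpen_iff_q0 hP hq z

theorem discrete_iff_dim (hP : IsAlgSpace P) (hq : LocP @LocallyOfFiniteType q) [Nonempty (Points P)] :
    DiscreteTopology (Points P) ↔ AlgSp.dim P = 0 := by
  rw [discrete_iff_q0 hP hq]
  constructor
  · intro h
    obtain ⟨U₀, a₀, ha₀, ha₀'⟩ := hP.atlas
    obtain ⟨u₀, -⟩ := surjective_ofPt ha₀' (Classical.arbitrary (Points P))
    refine le_antisymm (dim_le_iff.2 fun U a ha u => ?_)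
      (le_trans (WithBot.coe_le_coe.2 (zero_le : (0 : ℕ∞) ≤ coheight u₀)) (coheight_le_dim ha₀ u₀))
    refine le_of_eq ?_
    rw [(CodimZeroFibre.coheight_eq_zero_iff u).2 fun z hz => ?_]
    · rfl
    obtain ⟨c, hc⟩ := (yon S).map_surjective (a ≫ q)
    haveI : Subsingleton ↥(Over.mk str).left := inferInstanceAs (Subsingleton (PrimeSpectrum k))
    haveI : LocallyOfFiniteType c.left := hq a (𝟙 _) c ha (repWith_id _ _) (by rw [Category.comp_id, hc])
    by_contra hne
    have h0 : ∀ t : ↥U.left, FibDim.rd c.left t = 0 := fun t =>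
      (FieldFibre.fibreDimAt_eq_zero_iff_rd _ t).1 ((q0_iff_fibreDimAt hq ha hc t).1 (h _)) t specializes_rfl rfl
    have h1 := FibDim.rd_lt c.left hz hne (Subsingleton.elim _ _)
    rw [h0 z] at h1
    exact absurd h1 (Nat.not_lt_zero _)
  · intro h z
    obtain ⟨U, a, ha, ha'⟩ := hP.atlas
    obtain ⟨u, rfl⟩ := surjective_ofPt ha' z
    obtain ⟨c, hc⟩ := (yon S).map_surjective (a ≫ q)
    haveI : LocallyOfFiniteType c.left := hq a (𝟙 _) c ha (repWith_id _ _) (by rw [Category.comp_id, hc])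
    let c' : U.left ⟶ Spec (CommRingCat.of k) := c.left
    haveI : LocallyOfFiniteType c' := ‹LocallyOfFiniteType c.left›
    haveI := discrete_of_lft_dim_zero c'
      (h ▸ le_iSup₂_of_le U a (le_iSup (fun _ : RepWith @Etale a => topologicalKrullDim ↥U.left) ha))
    have h1 := isOpenMap_ofPt ha _ (isOpen_discrete ({u} : Set ↥U.left))
    rw [Set.image_singleton] at h1
    exact (isOpen_iff_q0 hP hq _).1 h1

theorem discrete_of_krullDim (hP : IsAlgSpace P) (hq : LocP @LocallyOfFiniteType q) (hd : IsDecent P)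
    (h : topologicalKrullDim (Points P) = 0) : DiscreteTopology (Points P) :=
  (discrete_iff_q0 hP hq).2 fun z => (localDim_iff_q0 hP hq hd z).1
    (le_antisymm ((localDim_le_krullDim z).trans h.le) (localDim_nonneg z))

theorem discrete_of_finite (hP : IsAlgSpace P) (hq : LocP @LocallyOfFiniteType q) (hd : IsDecent P)
    [Finite (Points P)] : DiscreteTopology (Points P) :=
  (discrete_iff_q0 hP hq).2 fun z => q0_of_finite hP (IsAlgSpace.yon_obj _) hq hd (Set.toFinite _) z rfl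

end Field

end Groth.Agent.AlgSpDec.FibreDiscrete
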