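import Groth.Agent.AlgSpLib.LocP
import Groth.Agent.GeomField.Connected
import Groth.Agent.AlgSpPts.Descent

/-!
# Charts of base changes of algebraic spaces over a field
-/

set_option autoImplicit false
set_option linter.style.haveILetI false
set_option linter.unusedSectionVars false
set_option backward.isDefEq.respectTransparency false
set_option backward.isDefEq.respectTransparency.types false

universe u

open CategoryTheory CategoryTheory.Limits AlgebraicGeometry AlgSp Groth.Agent.AlgSpLib Groth.Agent.AlgSpPts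

namespace Groth.Agent.AlgSpDec.FieldBC

variable {k : Type u} [Field k]

/-- The base scheme. -/
noncomputable abbrev base (k : Type u) [Field k] : Scheme.{u} := Spec (CommRingCat.of k)

/-- The spectrum of an extension field, over `k`. -/
noncomputable abbrev sp (k K : Type u) [Field k] [Field K] [Algebra k K] : Over (base k) :=
  Over.mk (Spec.map (CommRingCat.ofHom (algebraMap k K)))

/-- The product of two schemes over `k`. -/
noncomputable abbrev prd (U V : Over (base k)) : Over (base k) := Over.mk (pullback.fst U.hom V.hom ≫ U.hom)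

noncomputable abbrev prd₁ (U V : Over (base k)) : prd U V ⟶ U := Over.homMk (pullback.fst U.hom V.hom) rfl

noncomputable abbrev prd₂ (U V : Over (base k)) : prd U V ⟶ V :=
  Over.homMk (pullback.snd U.hom V.hom) pullback.condition.symm

theorem isPullback_prd (U V : Over (base k)) :
    IsPullback (prd₁ U V) (prd₂ U V) (Over.homMk U.hom (Category.comp_id _) : U ⟶ Over.mk (𝟙 _))
      (Over.homMk V.hom (Category.comp_id _)) :=
  IsPullback.of_map (Over.forget _) (by ext; exact pullback.condition)
    (IsPullback.of_hasPullback U.hom V.hom)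

theorem universallyOpen_hom (U : Over (base k)) : UniversallyOpen U.hom := inferInstance

theorem isOpenMap_prd₂ (U V : Over (base k)) : IsOpenMap (prd₂ U V).left :=
  haveI : UniversallyOpen (pullback.snd U.hom V.hom) := MorphismProperty.pullback_snd _ _ inferInstance
  (pullback.snd U.hom V.hom).isOpenMap

theorem isOpenMap_prd₁ (U V : Over (base k)) : IsOpenMap (prd₁ U V).left :=
  haveI : UniversallyOpen (pullback.fst U.hom V.hom) := MorphismProperty.pullback_fst _ _ inferInstance
  (pullback.fst U.hom V.hom).isOpenMap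

variable {X : Sp (base k)} {U : Over (base k)}

/-- The chart of a product with a scheme. -/
noncomputable def chart (a : (yon (base k)).obj U ⟶ X) (V : Over (base k)) :
    (yon (base k)).obj (prd U V) ⟶ X ⨯ (yon (base k)).obj V :=
  prod.lift ((yon (base k)).map (prd₁ U V) ≫ a) ((yon (base k)).map (prd₂ U V))

variable (a : (yon (base k)).obj U ⟶ X) (V : Over (base k))

theorem chart_fst : chart a V ≫ prod.fst = (yon (base k)).map (prd₁ U V) ≫ a := prod.lift_fst _ _

theorem chart_snd : chart a V ≫ prod.snd = (yon (base k)).map (prd₂ U V) := prod.lift_snd _ _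

theorem isPullback_chart : IsPullback ((yon (base k)).map (prd₁ U V)) (chart a V) a prod.fst := by
  let t := isTerminalYon (base k)
  have hb : IsPullback (prod.snd : X ⨯ (yon (base k)).obj V ⟶ _) (prod.fst : X ⨯ _ ⟶ X)
      ((yon (base k)).map (Over.homMk V.hom (Category.comp_id _) : V ⟶ Over.mk (𝟙 _))) (t.from X) := by
    have h := (IsPullback.of_is_product' (prodIsProd X ((yon (base k)).obj V)) t).flip
    rw [t.hom_ext ((yon (base k)).map (Over.homMk V.hom (Category.comp_id _) : V ⟶ Over.mk (𝟙 _))) (t.from _)]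
    exact h
  have houter := ((isPullback_prd U V).map (yon (base k))).flip
  refine (IsPullback.of_right ?_ ?_ hb).flip
  · rw [chart_snd, t.hom_ext (a ≫ t.from X)
      ((yon (base k)).map (Over.homMk U.hom (Category.comp_id _) : U ⟶ Over.mk (𝟙 _)))]
    exact houter
  · exact chart_fst a V

theorem repWith_chart {P : MorphismProperty Scheme.{u}} (ha : RepWith P a) : RepWith P (chart a V) :=
  repWith_of_isPullback (isPullback_chart a V) ha

theorem map_fst_ofPt (w : ↥(prd U V).left) :
    Points.map (prod.fst : X ⨯ (yon (base k)).obj V ⟶ X) (Points.ofPt (chart a V) w) =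
      Points.ofPt a ((prd₁ U V).left w) := by
  rw [Points.map_ofPt, chart_fst, ofPt_comp]

theorem map_snd_ofPt (w : ↥(prd U V).left) :
    Points.map (prod.snd : X ⨯ (yon (base k)).obj V ⟶ _) (Points.ofPt (chart a V) w) =
      Points.ofScheme V ((prd₂ U V).left w) := by
  rw [Points.map_ofPt, chart_snd, Points.ofPt_eq_map_ofScheme]
  rw [← Points.ofScheme_toScheme V (Points.map ((yon (base k)).map (prd₂ U V)) _)]
  congr 1
  rw [← Points.ofPt_eq_map_ofScheme, Points.toScheme_ofPt]

theorem exists_lift (u : ↥U.left) (z : Points (X ⨯ (yon (base k)).obj V))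
    (h : Points.ofPt a u = Points.map prod.fst z) :
    ∃ w, (prd₁ U V).left w = u ∧ Points.ofPt (chart a V) w = z := by
  obtain ⟨p, hp, hp'⟩ := exists_point_of_isPullback (isPullback_chart a V) (x := Points.ofScheme U u) (y := z)
    ((Points.ofPt_eq_map_ofScheme a u).symm.trans h)
  refine ⟨Points.toScheme _ p, ?_, ?_⟩
  · rw [← Points.toScheme_ofPt (prd₁ U V), Points.ofPt_eq_map_ofScheme, Points.ofScheme_toScheme, hp,
      Points.toScheme_ofScheme]
  · rw [Points.ofPt_eq_map_ofScheme, Points.ofScheme_toScheme, hp']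

variable {a}

theorem isOpenMap_snd (hX : IsAlgSpace X) :
    IsOpenMap (Points.map (prod.snd : X ⨯ (yon (base k)).obj V ⟶ _)) := by
  obtain ⟨U, a, ha, ha'⟩ := hX.atlas
  intro O hO
  have h : Points.map (prod.snd : X ⨯ (yon (base k)).obj V ⟶ _) '' O =
      Points.ofScheme V '' ((prd₂ U V).left '' (Points.ofPt (chart a V) ⁻¹' O)) := by
    ext z
    constructor
    · rintro ⟨o, ho, rfl⟩
      obtain ⟨w, rfl⟩ := surjective_ofPt (repWith_chart a V ha') o
      exact ⟨_, ⟨w, ho, rfl⟩, (map_snd_ofPt a V w).symm⟩
    · rintro ⟨_, ⟨w, hw, rfl⟩, rfl⟩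
      exact ⟨_, hw, map_snd_ofPt a V w⟩
  rw [h]
  exact isOpenMap_ofPt (repWith_id _ V) _
    (isOpenMap_prd₂ U V _ (hO.preimage (Points.continuous_ofPt _)))

theorem isOpenMap_fst (hX : IsAlgSpace X) :
    IsOpenMap (Points.map (prod.fst : X ⨯ (yon (base k)).obj V ⟶ X)) := by
  obtain ⟨U, a, ha, ha'⟩ := hX.atlas
  intro O hO
  have h : Points.map (prod.fst : X ⨯ (yon (base k)).obj V ⟶ X) '' O =
      Points.ofPt a '' ((prd₁ U V).left '' (Points.ofPt (chart a V) ⁻¹' O)) := by
    ext z
    constructor
    · rintro ⟨o, ho, rfl⟩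
      obtain ⟨w, rfl⟩ := surjective_ofPt (repWith_chart a V ha') o
      exact ⟨_, ⟨w, ho, rfl⟩, (map_fst_ofPt a V w).symm⟩
    · rintro ⟨_, ⟨w, hw, rfl⟩, rfl⟩
      exact ⟨_, hw, map_fst_ofPt a V w⟩
  rw [h]
  exact isOpenMap_ofPt ha _ (isOpenMap_prd₁ U V _ (hO.preimage (Points.continuous_ofPt _)))

variable (a) {V}

/-- The map of charts given by a map of schemes. -/
noncomputable def chartMap (U : Over (base k)) {V V' : Over (base k)} (g : V' ⟶ V) : prd U V' ⟶ prd U V :=
  Over.homMk (pullback.map _ _ _ _ (𝟙 _) g.left (𝟙 _) (by simp) (by simp)) (by simp)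

theorem chartMap₁ {V' : Over (base k)} (g : V' ⟶ V) : chartMap U g ≫ prd₁ U V = prd₁ U V' := by
  ext; simp [chartMap]

theorem chartMap₂ {V' : Over (base k)} (g : V' ⟶ V) : chartMap U g ≫ prd₂ U V = prd₂ U V' ≫ g := by
  ext; simp [chartMap]

theorem chart_comp {V' : Over (base k)} (g : V' ⟶ V) :
    chart a V' ≫ prod.map (𝟙 X) ((yon (base k)).map g) = (yon (base k)).map (chartMap U g) ≫ chart a V := by
  apply Limits.prod.hom_ext
  · rw [Category.assoc, Category.assoc, prod.map_fst, Category.comp_id, chart_fst, chart_fst, ← Category.assoc,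
      ← (yon (base k)).map_comp, chartMap₁]
  · rw [Category.assoc, Category.assoc, prod.map_snd, chart_snd, ← Category.assoc, chart_snd,
      ← (yon (base k)).map_comp, ← (yon (base k)).map_comp, chartMap₂]

theorem map_map_ofPt {V' : Over (base k)} (g : V' ⟶ V) (w : ↥(prd U V').left) :
    Points.map (prod.map (𝟙 X) ((yon (base k)).map g)) (Points.ofPt (chart a V') w) =
      Points.ofPt (chart a V) ((chartMap U g).left w) := by
  rw [Points.map_ofPt, chart_comp, ofPt_comp]

theorem isPullback_chartMap {V' : Over (base k)} (g : V' ⟶ V) :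
    IsPullback ((yon (base k)).map (chartMap U g)) (chart a V') (chart a V)
      (prod.map (𝟙 X) ((yon (base k)).map g)) := by
  refine IsPullback.of_right ?_ (chart_comp a g).symm (isPullback_chart a V)
  rw [← (yon (base k)).map_comp, chartMap₁, prod.map_fst, Category.comp_id]
  exact isPullback_chart a V'

theorem exists_lift_map {V' : Over (base k)} (g : V' ⟶ V) (y : ↥(prd U V).left)
    (z : Points (X ⨯ (yon (base k)).obj V'))
    (h : Points.ofPt (chart a V) y = Points.map (prod.map (𝟙 X) ((yon (base k)).map g)) z) :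
    ∃ w, (chartMap U g).left w = y ∧ Points.ofPt (chart a V') w = z := by
  obtain ⟨p, hp, hp'⟩ := exists_point_of_isPullback (isPullback_chartMap a g) (x := Points.ofScheme _ y) (y := z)
    ((Points.ofPt_eq_map_ofScheme _ y).symm.trans h)
  refine ⟨Points.toScheme _ p, ?_, ?_⟩
  · rw [← Points.toScheme_ofPt (chartMap U g), Points.ofPt_eq_map_ofScheme, Points.ofScheme_toScheme, hp,
      Points.toScheme_ofScheme]
  · rw [Points.ofPt_eq_map_ofScheme, Points.ofScheme_toScheme, hp']

end Groth.Agent.AlgSpDec.FieldBC
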