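import Groth.Agent.AlgSpDec.RelNorm.Zmt
import Groth.Agent.AlgSpDec.AffineProps
import Groth.Agent.AlgSpPts.Sep
import Groth.Agent.AlgSpPts.OpenSub
import Groth.Agent.S10313

/-!
# Finite = proper + quasi-finite, and finiteness over a neighbourhood
-/

set_option autoImplicit false
set_option backward.isDefEq.respectTransparency false
set_option backward.isDefEq.respectTransparency.types false

universe u

open CategoryTheory CategoryTheory.Limits AlgebraicGeometry AlgSp Groth.Agent.AlgSpLib Groth.Agent.AlgSpPts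

namespace Groth.Agent.AlgSpDec.FiniteNbhd

open Groth.Agent.AlgSpDec

variable {S : Scheme.{u}}

/-- A proper, locally quasi-finite morphism of algebraic spaces is finite. -/
theorem isFiniteMor_of_proper_lqf {F G : Sp S} (hF : IsAlgSpace F) (hG : IsAlgSpace G) {f : F ⟶ G}
    (hp : IsProperMor f) (hq : LocP (@LocallyQuasiFinite ⊓ @LocallyOfFiniteType) f) : IsFiniteMor f := by
  have hr := representable_of_lqf_separated hF hG f hq hp.1
  have hu := repWith_universallyClosed_of_univClosed hr hp.2.2
  have hc := RelNorm.repWith_quasiCompact_of_representable hr hp.2.1.2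
  rw [isFiniteMor_iff_repWith]
  refine ⟨hr, fun T U g fst snd sq => ?_⟩
  have : UniversallyClosed snd.left := hu.2 g fst snd sq
  have : QuasiCompact snd.left := hc.2 g fst snd sq
  have : IsSeparated snd.left := (isSeparatedMor_yon_map_iff snd).1 (isSeparatedMor_of_isPullback sq hp.1)
  have hl := locP_yon_map (locP_of_isPullback sq hF hG (IsAlgSpace.yon_obj T) hq)
  have : LocallyQuasiFinite snd.left := hl.1
  have : LocallyOfFiniteType snd.left := hl.2
  have : IsProper snd.left := {}
  exact IsFinite.of_isProper_of_locallyQuasiFinite snd.left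

/-- A proper morphism which is quasi-finite at all points over `y` is finite over a neighbourhood of `y`. -/
theorem exists_open_finite {X Y : AlgSp.Space S} (f : X ⟶ Y) (hf : IsProperMor f.hom) (y : Points Y.obj)
    (hq : ∀ x : Points X.obj, Points.map f.hom x = y →
      HasAtMor (fun U _ h u => ∃ W : U.Opens, u ∈ W ∧ LocallyQuasiFinite (W.ι ≫ h) ∧
        LocallyOfFiniteType (W.ι ≫ h)) f.hom x) :
    ∃ (V : AlgSp.Space S) (j : V ⟶ Y), RepWith @IsOpenImmersion j.hom ∧
      y ∈ Set.range (Points.map j.hom) ∧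
        ∀ (P : AlgSp.Space S) (fst : P ⟶ X) (snd : P ⟶ V), IsPullback fst.hom snd.hom f.hom j.hom →
          IsFiniteMor snd.hom := by
  have hl := hf.2.1.1
  obtain ⟨X', i, hi, -, -, hbc⟩ := Groth.Agent.S10313.result f hl
  have hid : IsPullback (𝟙 X.obj) f.hom f.hom (𝟙 Y.obj) := IsPullback.id_horiz _
  have hqf : ∀ x, x ∈ Set.range (Points.map i.hom) ↔ HasAtMor (fun U _ h u => ∃ W : U.Opens, u ∈ W ∧
      LocallyQuasiFinite (W.ι ≫ h) ∧ LocallyOfFiniteType (W.ι ≫ h)) f.hom x := fun x => by
    have := hbc Y X (𝟙 Y) (𝟙 X) f hid x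
    rwa [show (𝟙 X : X ⟶ X).hom = 𝟙 X.obj from rfl, Points.map_id] at this
  have hopen : IsOpen (Set.range (Points.map i.hom)) := (isOpenMap_map (repWith_mono (fun _ _ e (_ : IsOpenImmersion e) => inferInstanceAs (UniversallyOpen e)) _ hi)).isOpen_range
  have hcl : IsClosedMap (Points.map f.hom) := hf.2.2 Y.property (𝟙 _) (𝟙 _) f.hom hid
  obtain ⟨V, j, hV, hj, hrange⟩ := exists_open_subspace Y.property
    (hcl _ hopen.isClosed_compl).isOpen_compl
  refine ⟨⟨V, hV⟩, ObjectProperty.homMk j, hj, ?_, fun P fst snd sq => ?_⟩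
  · change y ∈ Set.range (Points.map j)
    rw [hrange]
    rintro ⟨x, hx, hxy⟩
    exact hx ((hqf x).2 (hq x hxy))
  · change IsPullback fst.hom snd.hom f.hom j at sq
    have hsn : LocP @LocallyOfFiniteType snd.hom := locP_of_isPullback sq X.property Y.property hV hl
    refine isFiniteMor_of_proper_lqf P.property hV (isProperMor_of_isPullback sq X.property Y.property hV hf)
      ((RelDimSp.lqf_iff P.property hV hsn).2 fun p => (S10313.qfAt_iff hsn p).1 ?_)
    refine (hbc ⟨V, hV⟩ P (ObjectProperty.homMk j) fst snd sq p).1 ?_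
    by_contra h
    have h1 : Points.map f.hom (Points.map fst.hom p) ∈ Set.range (Points.map j) :=
      ⟨Points.map snd.hom p, by rw [← Points.map_comp, ← sq.w, Points.map_comp]⟩
    rw [hrange] at h1
    exact h1 ⟨_, h, rfl⟩

end Groth.Agent.AlgSpDec.FiniteNbhd
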