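import Mathlib.RingTheory.LocalRing.Module
import Mathlib.AlgebraicGeometry.Sites.Fpqc
import Mathlib.RingTheory.FinitePresentation
import Groth.Agent.GrpdLib.Basis
import Groth.Agent.AlgSpDec.MonoRep
import Groth.Agent.AlgSpDec.Glue

/-!
# The quotient of a local affine scheme by a finite etale equivalence relation
-/

set_option backward.isDefEq.respectTransparency false
set_option backward.isDefEq.respectTransparency.types false

universe u

open CategoryTheory Limits Opposite AlgebraicGeometry AlgSp Groth.Agent.AlgSpLib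
open scoped TensorProduct

namespace Groth.Agent.AlgSpDec

/-- If `s, t : A → B` are jointly epimorphic and `s` is finite, then `t` spans `B` over `s`. -/
theorem span_range_eq_top_of_joint_epi {A B : Type u} [CommRing A] [CommRing B] (s t : A →+* B)
    (hs : s.Finite)
    (hgen : ∀ (C : Type u) [CommRing C] (q q' : B →+* C), q.comp s = q'.comp s → q.comp t = q'.comp t → q = q') :
    letI := s.toAlgebra
    Submodule.span A (Set.range t) = (⊤ : Submodule A B) := by
  let _ : Algebra A B := s.toAlgebra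
  have : Module.Finite A B := hs
  let tZ : A →ₐ[ℤ] B := t.toIntAlgHom
  let φ : A ⊗[ℤ] A →ₐ[A] B := Algebra.TensorProduct.lift (Algebra.ofId A B) tZ fun _ _ => mul_comm _ _
  let _ : Algebra (A ⊗[ℤ] A) B := φ.toRingHom.toAlgebra
  have : IsScalarTower A (A ⊗[ℤ] A) B := IsScalarTower.of_algebraMap_eq fun x => (φ.commutes x).symm
  have : Module.Finite (A ⊗[ℤ] A) B := Module.Finite.of_restrictScalars_finite A (A ⊗[ℤ] A) B
  have : Algebra.IsEpi (A ⊗[ℤ] A) B := (Algebra.isEpi_iff_forall_one_tmul_eq (A ⊗[ℤ] A) B).2 fun b => by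
    refine RingHom.congr_fun (hgen _
      (Algebra.TensorProduct.includeRight (R := A ⊗[ℤ] A) (A := B) (B := B)).toRingHom
      Algebra.TensorProduct.includeLeftRingHom ?_ ?_) b
    · ext x
      have h : φ (x ⊗ₜ[ℤ] 1) = s x := by simp [φ, RingHom.algebraMap_toAlgebra]
      have h2 := (Algebra.TensorProduct.tmul_one_eq_one_tmul (R := A ⊗[ℤ] A) (A := B) (B := B) (x ⊗ₜ 1)).symm
      change (1 : B) ⊗ₜ[A ⊗[ℤ] A] φ (x ⊗ₜ 1) = φ (x ⊗ₜ 1) ⊗ₜ[A ⊗[ℤ] A] (1 : B) at h2
      rw [h] at h2
      exact h2
    · ext x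
      have h : φ (1 ⊗ₜ[ℤ] x) = t x := by simp [φ, tZ]
      have h2 := (Algebra.TensorProduct.tmul_one_eq_one_tmul (R := A ⊗[ℤ] A) (A := B) (B := B) (1 ⊗ₜ x)).symm
      change (1 : B) ⊗ₜ[A ⊗[ℤ] A] φ (1 ⊗ₜ x) = φ (1 ⊗ₜ x) ⊗ₜ[A ⊗[ℤ] A] (1 : B) at h2
      rw [h] at h2
      exact h2
  have hsurj : Function.Surjective φ := Algebra.isEpi_iff_surjective_algebraMap_of_finite.1 this
  rw [eq_top_iff]
  rintro b -
  obtain ⟨z, rfl⟩ := hsurj b
  induction z using TensorProduct.induction_on with
  | zero => simp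
  | add z w hz hw => rw [map_add]; exact add_mem hz hw
  | tmul a a' =>
    have : φ (a ⊗ₜ[ℤ] a') = a • t a' := by simp [φ, tZ, Algebra.smul_def]
    rw [this]
    exact Submodule.smul_mem _ _ (Submodule.subset_span ⟨a', rfl⟩)

variable {S : Scheme.{u}} {X : Sp S} {U R : Over S} {a : (yon S).obj U ⟶ X} {t s : R ⟶ U}

theorem rel_ext (sq : IsPullback ((yon S).map t) ((yon S).map s) a a) {T : Scheme.{u}} {y y' : T ⟶ R.left}
    (ht : y ≫ t.left = y' ≫ t.left) (hs : y ≫ s.left = y' ≫ s.left) : y = y' := by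
  have hy : y' ≫ R.hom = y ≫ R.hom := by
    rw [← Over.w t, ← Category.assoc, ← Category.assoc, ht]
  let Y : Over S := Over.mk (y ≫ R.hom)
  let yo : Y ⟶ R := CategoryTheory.Over.homMk y rfl
  let yo' : Y ⟶ R := CategoryTheory.Over.homMk y' hy
  have : (yon S).map yo = (yon S).map yo' := sq.hom_ext
    (by rw [← Functor.map_comp, ← Functor.map_comp]; congr 1; exact Over.OverMorphism.ext ht)
    (by rw [← Functor.map_comp, ← Functor.map_comp]; congr 1; exact Over.OverMorphism.ext hs)
  exact congrArg Over.Hom.left ((yon S).map_injective this)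

theorem exists_rel_lift (sq : IsPullback ((yon S).map t) ((yon S).map s) a a) {T : Over S} (y z : T ⟶ U)
    (h : (yon S).map y ≫ a = (yon S).map z ≫ a) : ∃ r : T ⟶ R, r ≫ t = y ∧ r ≫ s = z := by
  obtain ⟨r, hr⟩ := (yon S).map_surjective (sq.lift _ _ h)
  exact ⟨r, (yon S).map_injective (by rw [Functor.map_comp, hr, sq.lift_fst]),
    (yon S).map_injective (by rw [Functor.map_comp, hr, sq.lift_snd])⟩

/-- The groupoid underlying the relation of a chart. -/
theorem exists_groupoid_over (sq : IsPullback ((yon S).map t) ((yon S).map s) a a) :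
    ∃ G : Grpd.GroupoidScheme S, ∃ (hU : G.U = U.left) (hR : G.R = R.left),
      HEq G.s s.left ∧ HEq G.t t.left ∧ HEq G.pU U.hom ∧ HEq G.pR R.hom := by
  obtain ⟨e, he₁, he₂⟩ := exists_rel_lift sq (𝟙 U) (𝟙 U) rfl
  obtain ⟨i, hi₁, hi₂⟩ := exists_rel_lift sq s t (by rw [sq.w])
  let P : Over S := Over.mk (pullback.fst s.left t.left ≫ R.hom)
  let p₁ : P ⟶ R := CategoryTheory.Over.homMk (pullback.fst s.left t.left) rfl
  let p₂ : P ⟶ R := CategoryTheory.Over.homMk (pullback.snd s.left t.left) (by
    change _ = pullback.fst s.left t.left ≫ R.hom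
    conv_rhs => rw [← Over.w s, ← Category.assoc, pullback.condition, Category.assoc, Over.w t])
  have hp : p₁ ≫ s = p₂ ≫ t := Over.OverMorphism.ext pullback.condition
  obtain ⟨c, hc₁, hc₂⟩ := exists_rel_lift sq (p₁ ≫ t) (p₂ ≫ s) (by
    rw [Functor.map_comp, Functor.map_comp, Category.assoc, Category.assoc, sq.w, ← Category.assoc,
      ← Functor.map_comp, hp, Functor.map_comp, Category.assoc, sq.w])
  have hct : c.left ≫ t.left = pullback.fst s.left t.left ≫ t.left := congrArg Over.Hom.left hc₁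
  have hcs : c.left ≫ s.left = pullback.snd s.left t.left ≫ s.left := congrArg Over.Hom.left hc₂
  have het : e.left ≫ t.left = 𝟙 _ := congrArg Over.Hom.left he₁
  have hes : e.left ≫ s.left = 𝟙 _ := congrArg Over.Hom.left he₂
  have hit : i.left ≫ t.left = s.left := congrArg Over.Hom.left hi₁
  have his : i.left ≫ s.left = t.left := congrArg Over.Hom.left hi₂
  refine ⟨{
    U := U.left, R := R.left, pU := U.hom, pR := R.hom, s := s.left, t := t.left, e := e.left, i := i.left
    c := c.left
    s_over := Over.w s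
    t_over := Over.w t
    comp_s := fun α β h => by rw [Category.assoc, hcs, pullback.lift_snd_assoc]
    comp_t := fun α β h => by rw [Category.assoc, hct, pullback.lift_fst_assoc]
    assoc := fun α β γ h₁ h₂ => rel_ext sq (by simp [hct]) (by simp [hcs])
    e_s := hes
    e_t := het
    comp_e := fun α => rel_ext sq (by simp [hct]) (by simp [hcs, hes])
    e_comp := fun α => rel_ext sq (by simp [hct, het]) (by simp [hcs])
    i_s := his
    i_t := hit
    comp_i := fun α => rel_ext sq (by simp [hct, het]) (by simp [hcs, hes, his])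
    i_comp := fun α => rel_ext sq (by simp [hct, het, hit]) (by simp [hcs, hes]) },
    rfl, rfl, HEq.rfl, HEq.rfl, HEq.rfl, HEq.rfl⟩

theorem exists_groupoid (sq : IsPullback ((yon S).map t) ((yon S).map s) a a) :
    ∃ G : Grpd.GroupoidScheme S, ∃ (hU : G.U = U.left) (hR : G.R = R.left),
      HEq G.s s.left ∧ HEq G.t t.left := by
  obtain ⟨G, hU, hR, hs, ht, -⟩ := exists_groupoid_over sq
  exact ⟨G, hU, hR, hs, ht⟩

/-- A space with a chart by a local affine scheme whose relation is finite is an affine scheme. -/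
theorem exists_iso_of_finite_relation (hX : IsAlgSpace X) [IsAffine U.left] [IsLocalRing Γ(U.left, ⊤)]
    (ha : RepWith @Etale a) (ha' : RepWith @Surjective a)
    (sq : IsPullback ((yon S).map t) ((yon S).map s) a a) [IsFinite s.left] :
    ∃ Z : Over S, IsAffine Z.left ∧ Nonempty ((yon S).obj Z ≅ X) := by
  have hse : Etale s.left := ha.property _ _ _ sq
  have hsfl : Flat s.left := inferInstance
  have hsfp : LocallyOfFinitePresentation s.left := inferInstance
  have hRa : IsAffine R.left := isAffine_of_isAffineHom s.left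
  obtain ⟨G, hU, hR, hs, ht⟩ := exists_groupoid sq
  obtain ⟨GU, GR, pU, pR, gs, gt, ge, gi, gc, h1, h2, h3, h4, h5, h6, h7, h8, h9, h10, h11, h12, h13⟩ := G
  subst hU hR
  obtain rfl : gs = s.left := eq_of_heq hs
  obtain rfl : gt = t.left := eq_of_heq ht
  let G : Grpd.GroupoidScheme S :=
    ⟨_, _, pU, pR, _, _, ge, gi, gc, h1, h2, h3, h4, h5, h6, h7, h8, h9, h10, h11, h12, h13⟩
  have iU : IsAffine G.U := ‹IsAffine U.left›
  have iR : IsAffine G.R := hRa
  have iF : IsFinite G.s := ‹IsFinite s.left›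
  have iFl : Flat G.s := hsfl
  have iFp : LocallyOfFinitePresentation G.s := hsfp
  let D := GrpdLib.affData G
  let _ : IsLocalRing D.A := ‹IsLocalRing Γ(U.left, ⊤)›
  have hfin : D.s.Finite := s.left.finite_appTop
  have hflat : D.s.Flat := s.left.flat_appTop
  have hfp : D.s.FinitePresentation :=
    (HasRingHomProperty.iff_of_isAffine (P := @LocallyOfFinitePresentation)).1 hsfp
  have hgen : ∀ (C : Type u) [CommRing C] (q q' : D.B →+* C),
      q.comp D.s = q'.comp D.s → q.comp D.t = q'.comp D.t → q = q' := by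
    intro C _ q q' hs ht
    let f : CommRingCat.of D.B ⟶ CommRingCat.of C := CommRingCat.ofHom q
    let f' : CommRingCat.of D.B ⟶ CommRingCat.of C := CommRingCat.ofHom q'
    have key : ∀ (r : R.left ⟶ U.left) (g : CommRingCat.of D.B ⟶ CommRingCat.of C),
        (Spec.map g ≫ R.left.isoSpec.inv) ≫ r = Spec.map (r.appTop ≫ g) ≫ U.left.isoSpec.inv := fun r g => by
      rw [Category.assoc, ← Scheme.isoSpec_inv_naturality, ← Category.assoc, ← Spec.map_comp]
    have h : Spec.map f ≫ R.left.isoSpec.inv = Spec.map f' ≫ R.left.isoSpec.inv := rel_ext sq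
      (by rw [key, key, show t.left.appTop ≫ f = t.left.appTop ≫ f' from CommRingCat.hom_ext ht])
      (by rw [key, key, show s.left.appTop ≫ f = s.left.appTop ≫ f' from CommRingCat.hom_ext hs])
    exact congrArg CommRingCat.Hom.hom (Spec.map_injective ((cancel_mono R.left.isoSpec.inv).1 h) : f = f')
  have hspan := span_range_eq_top_of_joint_epi D.s D.t hfin hgen
  obtain ⟨I, x, hb⟩ : ∃ (I : Type u) (x : I → D.A),
      letI := D.s.toAlgebra; ∃ b : Module.Basis I D.A D.B, ∀ i, b i = D.t (x i) := by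
    algebraize [D.s]
    have : Module.FinitePresentation D.A D.B :=
      Module.FinitePresentation.of_finite_of_finitePresentation _ _
    obtain ⟨κ, x, b, hb⟩ := Module.exists_basis_of_span_of_flat (R := D.A) (fun y : D.A => D.t y) hspan
    exact ⟨κ, x, b, hb⟩
  let K : Subring D.A := G.invariants
  have hK : ∀ y, y ∈ K ↔ D.s y = D.t y := GrpdLib.mem_invariants_iff G
  obtain ⟨bA, -⟩ := D.exists_basis x K hK hb
  have hI : Finite I := by
    obtain ⟨b, -⟩ := hb
    algebraize [D.s]
    exact Module.Finite.finite_basis b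
  have : Nonempty I := by
    by_contra hne
    have : IsEmpty I := not_nonempty_iff.1 hne
    have : Subsingleton D.A := bA.repr.toEquiv.subsingleton
    exact not_subsingleton D.A this
  let ι : CommRingCat.of K ⟶ Γ(U.left, ⊤) := CommRingCat.ofHom K.subtype
  let π : U.left ⟶ Spec (CommRingCat.of K) := U.left.isoSpec.hom ≫ Spec.map ι
  have : Module.Free K D.A := Module.Free.of_basis bA
  have : Module.Finite K D.A := Module.Finite.of_basis bA
  have hπs : Surjective π := by
    have : Surjective (Spec.map ι) := ⟨GrpdLib.surjective_comap_invariants (G := G)⟩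
    infer_instance
  have hπf : Flat π := by
    have : Flat (Spec.map ι) := by
      rw [HasRingHomProperty.Spec_iff (P := @Flat)]
      exact RingHom.flat_algebraMap_iff.2 (inferInstance : Module.Flat K D.A)
    infer_instance
  have hπp : LocallyOfFinitePresentation π := by
    have : LocallyOfFinitePresentation (Spec.map ι) := by
      rw [HasRingHomProperty.Spec_iff (P := @LocallyOfFinitePresentation)]
      have : Module.FinitePresentation K D.A := Module.finitePresentation_of_projective K D.A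
      exact RingHom.finitePresentation_algebraMap.2 (Algebra.FinitePresentation.of_finitePresentation K D.A)
    infer_instance
  have sqπ : IsPullback t.left s.left π π := by
    let _ : Algebra D.A D.B := D.s.toAlgebra
    let _ : Algebra K D.B := (D.s.comp K.subtype).toAlgebra
    have : IsScalarTower K D.A D.B := IsScalarTower.of_algebraMap_eq fun _ => rfl
    let tK : D.A →ₐ[K] D.B := { D.t with commutes' := fun y => ((hK _).1 y.2).symm }
    let φ : D.A ⊗[K] D.A →ₐ[K] D.B :=
      Algebra.TensorProduct.lift tK (IsScalarTower.toAlgHom K D.A D.B) fun _ _ => mul_comm _ _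
    have hbij : Function.Bijective φ := D.bijective_of_basis x K hK hb φ.toLinearMap fun y y' => by
      change φ (y ⊗ₜ y') = _
      simp [φ, tK]
      rfl
    have hpo : IsPushout ι ι t.left.appTop s.left.appTop :=
      (CommRingCat.isPushout_tensorProduct K D.A D.A).of_iso (Iso.refl _) (Iso.refl _) (Iso.refl _)
        (RingEquiv.ofBijective φ.toRingHom hbij).toCommRingCatIso
        (by simp; rfl) (by simp; rfl)
        (by ext y; change φ (y ⊗ₜ 1) = D.t y; simp [φ, tK])
        (by ext y; change φ (1 ⊗ₜ y) = D.s y; simp [φ, tK]; rfl)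
    exact (isPullback_SpecMap_of_isPushout _ _ _ _ hpo).of_iso R.left.isoSpec.symm U.left.isoSpec.symm
      U.left.isoSpec.symm (Iso.refl _) (by simp [Scheme.isoSpec_inv_naturality])
      (by simp [Scheme.isoSpec_inv_naturality]) (by simp [π]) (by simp [π])
  have : QuasiCompact π := inferInstance
  have : EffectiveEpi π := inferInstance
  have hdesc : ∀ {W : Scheme.{u}} (g₁ g₂ : W ⟶ U.left), g₁ ≫ π = g₂ ≫ π → g₁ ≫ U.hom = g₂ ≫ U.hom :=
      fun g₁ g₂ h => by
    rw [← sqπ.lift_fst g₁ g₂ h, Category.assoc, Over.w t, ← Over.w s, ← Category.assoc, sqπ.lift_snd]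
  let str₀ : Spec (CommRingCat.of K) ⟶ S := EffectiveEpi.desc π U.hom hdesc
  let Z : Over S := Over.mk str₀
  let q : U ⟶ Z := CategoryTheory.Over.homMk π (EffectiveEpi.fac π U.hom hdesc)
  have hq : fppf q.left := fppf_of π
  have hlift : ∀ {T : Over S} (y z : T ⟶ U), y ≫ q = z ≫ q → ∃ r : T ⟶ R, r ≫ t = y ∧ r ≫ s = z := by
    intro T y z h
    let r := sqπ.lift y.left z.left (congrArg Over.Hom.left h)
    refine ⟨CategoryTheory.Over.homMk r ?_, Over.OverMorphism.ext (sqπ.lift_fst _ _ _),
      Over.OverMorphism.ext (sqπ.lift_snd _ _ _)⟩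
    rw [← Over.w t, ← Category.assoc, sqπ.lift_fst, Over.w y]
  -- descend `a`
  obtain ⟨v, hv, -⟩ := Presieve.isSheafFor_singleton.1
    ((Presieve.isSheafFor_iff_generate _).2 (((isSheaf_iff_isSheaf_of_type _ _).1 X.property) _
      (mem_J_of_fppf q hq (Sieve.generate (Presieve.singleton q))
        ⟨_, 𝟙 _, q, Presieve.singleton_self q, Category.id_comp _⟩)))
    ((J S).uliftYonedaEquiv a) (fun {W} y z h => by
      obtain ⟨r, rfl, rfl⟩ := hlift y z h
      rw [uliftYonedaEquiv_precomp, uliftYonedaEquiv_precomp, Functor.map_comp, Functor.map_comp,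
        Category.assoc, Category.assoc, sq.w])
  obtain ⟨m, rfl⟩ : ∃ m : (yon S).obj Z ⟶ X, (J S).uliftYonedaEquiv m = v := ⟨_, Equiv.apply_symm_apply _ _⟩
  have hm : (yon S).map q ≫ m = a := (J S).uliftYonedaEquiv.injective (by rw [← uliftYonedaEquiv_precomp]; exact hv)
  have hls : Sheaf.IsLocallySurjective m := by
    refine isLocallySurjective_of_lifts m fun T g => ?_
    obtain ⟨hfl, hl⟩ : RepWith fppf a ∧ True := ⟨⟨ha.rep, fun _ _ g' fst snd sq' =>
      have : Etale snd.left := ha.property g' fst snd sq'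
      have : Surjective snd.left := ha'.property g' fst snd sq'
      fppf_of_etale snd.left⟩, trivial⟩
    exact ⟨_, hfl.rep.snd g, hfl.rep.fst g ≫ (yon S).map q, hfl.property_snd g, by
      rw [Category.assoc, hm]; exact hfl.rep.w g⟩
  have hmono : Mono m := mono_of_yon_injective fun T y z hyz => by
    obtain ⟨y, rfl⟩ := (yon S).map_surjective y
    obtain ⟨z, rfl⟩ := (yon S).map_surjective z
    have hlocal : ∀ {T : Over S} (y : T ⟶ Z),
        ∃ (T' : Over S) (φ : T' ⟶ T) (y' : T' ⟶ U), fppf φ.left ∧ y' ≫ q = φ ≫ y := by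
      intro T y
      have hi := representable_yon_map (S := S) q
      refine ⟨_, hi.snd ((yon S).map y), hi.fst' ((yon S).map y),
        ((repWith_yon_map_iff fppf q).2 hq).property _ _ _ (hi.isPullback ((yon S).map y)),
        (yon S).map_injective ?_⟩
      rw [Functor.map_comp, Functor.map_comp]
      exact (hi.isPullback' ((yon S).map y)).w
    obtain ⟨T₁, φ₁, y₁, hφ₁, hy₁⟩ := hlocal y
    obtain ⟨T₂, φ₂, z', hφ₂, hz'⟩ := hlocal (φ₁ ≫ z)
    have hy' : (φ₂ ≫ y₁) ≫ q = (φ₂ ≫ φ₁) ≫ y := by rw [Category.assoc, hy₁, Category.assoc]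
    have hz'' : z' ≫ q = (φ₂ ≫ φ₁) ≫ z := by rw [hz', Category.assoc]
    have hyz' : (yon S).map (φ₂ ≫ y₁) ≫ a = (yon S).map z' ≫ a := by
      rw [← hm, ← Category.assoc, ← Category.assoc, ← Functor.map_comp, ← Functor.map_comp, hy', hz'',
        Functor.map_comp _ _ y, Functor.map_comp _ _ z, Category.assoc, Category.assoc, hyz]
    obtain ⟨r, e₁, e₂⟩ := exists_rel_lift sq _ _ hyz'
    have hrq : (φ₂ ≫ y₁) ≫ q = z' ≫ q := by
      rw [← e₁, ← e₂, Category.assoc, Category.assoc]
      exact congrArg (r ≫ ·) (Over.OverMorphism.ext sqπ.w)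
    refine hom_ext_of_fppf (φ₂ ≫ φ₁) (MorphismProperty.comp_mem _ φ₂.left φ₁.left hφ₂ hφ₁) _ _ ?_
    rw [← Functor.map_comp, ← Functor.map_comp, ← hy', ← hz'', hrq]
  have := isIso_of_mono_of_locallySurjective m
  exact ⟨Z, inferInstanceAs (IsAffine (Spec (CommRingCat.of K))), ⟨asIso m⟩⟩

end Groth.Agent.AlgSpDec
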