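import Groth.Agent.AlgSpDec.FiniteNbhd
import Groth.Agent.FibDim.GenerizeDim
import Groth.Agent.FibDim.LocDim
import Groth.Agent.MorLib.LimCons
import Groth.Agent.AlgSpDec.FieldFibre
import Groth.Agent.AlgSpPts.SepDescent

/-!
# Flat morphisms of relative dimension zero over a dense open are quasi-finite
-/

set_option autoImplicit false
set_option backward.isDefEq.respectTransparency false
set_option backward.isDefEq.respectTransparency.types false

universe u

open CategoryTheory CategoryTheory.Limits AlgebraicGeometry AlgSp Groth.Agent.AlgSpLib Groth.Agent.AlgSpPts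
open Topology

namespace Groth.Agent.AlgSpDec.FlatFibreDim

open Groth.Agent.AlgSpDec Groth.Agent.FibDim

/-- For a flat morphism, points of relative degree zero over a generization propagate. -/
theorem rd_eq_zero_of_generization {U V : Scheme.{u}} (h : U ⟶ V) [Flat h] [LocallyOfFiniteType h]
    (W : U.Opens) {v' : V} {x : U} (hx : x ∈ W) (hv : v' ⤳ h x)
    (h0 : ∀ z ∈ W, h z = v' → rd h z = 0) : rd h x = 0 := by
  by_cases hne : h x = v'
  · exact h0 x hx hne
  obtain ⟨A, _, _, _, τ, pt, η, hpt, hη, hgen⟩ := exists_valuation_lift hv hne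
  have sq := IsPullback.of_hasPullback h τ
  obtain ⟨x', hx'p, hx'q, hx'rd⟩ := exists_rd_baseChange_eq sq x pt hpt.symm
  obtain ⟨ζ, hζ, hζη⟩ := Flat.generalizingMap (pullback.snd h τ) (hx'q ▸ hgen pt : η ⤳ pullback.snd h τ x')
  have h1 := rd_le_of_valuationRing (pullback.snd h τ) hζ (fun t => hζη ▸ hgen t)
  have h2 := rd_baseChange_le sq ζ
  have h3 : rd h (pullback.fst h τ ζ) = 0 := by
    refine h0 _ (((hζ.map (pullback.fst h τ).continuous).trans (specializes_of_eq hx'p)).mem_open W.isOpen hx) ?_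
    show (pullback.fst h τ ≫ h) ζ = v'
    rw [pullback.condition, Scheme.Hom.comp_apply, hζη, hη]
  omega

/-- Flat, and relative dimension zero over a dense open: relative dimension zero everywhere. -/
theorem fibreDimAt_eq_zero {U V : Scheme.{u}} (h : U ⟶ V) [Flat h] [LocallyOfFiniteType h] (O : Set V)
    (hO : IsOpen O) (hd : Dense O) (hz : ∀ u, h u ∈ O → FlatMor.fibreDimAt h u = 0)
    (hcase : LocallyOfFinitePresentation h ∨ ∀ v : V, ∃ v' ∈ O, v' ⤳ v) (u : U) :
    FlatMor.fibreDimAt h u = 0 := by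
  have hrd : ∀ z, h z ∈ O → rd h z = 0 := fun z hzO =>
    (FieldFibre.fibreDimAt_eq_zero_iff_rd h z).1 (hz z hzO) z specializes_rfl rfl
  rw [FieldFibre.fibreDimAt_eq_zero_iff_rd]
  intro z hzu hhz
  rcases hcase with hl | hq
  · obtain ⟨A, hA, huA, -⟩ := exists_isAffineOpen_mem_and_subset (x := h u) (U := ⊤) trivial
    obtain ⟨U₁, hU₁, hzU₁, hU₁A⟩ :=
      exists_isAffineOpen_mem_and_subset (x := z) (U := h ⁻¹ᵁ A) (show h z ∈ A by rwa [hhz])
    by_contra hzne
    have : IsAffine U₁.toScheme := hU₁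
    have : IsAffine A.toScheme := hA
    let g := h.resLE A U₁ hU₁A
    have : LocallyOfFinitePresentation g := inferInstance
    let s : Set U := {x | FlatMor.fibreDimAt h x ≤ ((0 : ℕ) : WithBot ℕ∞)}
    have hcs : IsCompact (U₁.ι ⁻¹' s) := by
      rw [U₁.ι.isOpenEmbedding.isEmbedding.isCompact_iff, Set.image_preimage_eq_inter_range, Scheme.Opens.range_ι]
      exact isRetrocompact_setOf_fibreDimAt_le h 0 hU₁.isCompact U₁.isOpen
    let B : Set ↥U₁.toScheme := (U₁.ι ⁻¹' s)ᶜ
    have hBc : IsConstructible B :=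
      (hcs.isConstructible ((Groth.Agent.S0402.result h 0).preimage U₁.ι.continuous)).compl
    have hE := g.isConstructible_image hBc
    have hgz : ∀ w : ↥U₁.toScheme, (g w).1 = h (U₁.ι w) := fun w => fiber_apply_resLE h hU₁A w
    have hbad : ∀ w : ↥U₁.toScheme, w ∈ B → ∀ y', y' ⤳ (g w).1 → ∃ w' ∈ B, (g w').1 = y' := by
      intro w hw y' hy'
      by_contra hcon
      push Not at hcon
      refine hw ((fibreDimAt_le_iff h _ 0).2 fun x hx hhx => le_of_eq ?_)
      refine rd_eq_zero_of_generization h U₁ (hx.mem_open U₁.isOpen w.2) (hhx ▸ hgz w ▸ hy') fun p hp hhp => ?_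
      by_contra hp0
      exact hcon ⟨p, hp⟩ (fun hle => hp0 (Nat.le_zero.1 ((fibreDimAt_le_iff h p 0).1 hle p specializes_rfl rfl)))
        ((hgz _).trans hhp)
    have hmem : (⟨z, hzU₁⟩ : ↥U₁.toScheme) ∈ B := fun hle =>
      hzne (Nat.le_zero.1 ((fibreDimAt_le_iff h z 0).1 hle z specializes_rfl rfl))
    have hn : g '' B ∈ nhds (g ⟨z, hzU₁⟩) := by
      refine mem_nhds_of_generizations hE.isLocallyConstructible fun y' hy' => ?_
      obtain ⟨w', hw', he⟩ := hbad _ hmem (A.ι y') (hy'.map A.ι.continuous)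
      exact ⟨w', hw', Subtype.ext he⟩
    obtain ⟨N, hN, hNo, hgN⟩ := mem_nhds_iff.1 hn
    obtain ⟨_, ⟨a, haN, rfl⟩, haO⟩ :=
      hd.inter_open_nonempty _ (A.ι.isOpenEmbedding.isOpenMap N hNo) ⟨_, _, hgN, rfl⟩
    obtain ⟨w, hwB, rfl⟩ := hN haN
    exact hwB (show FlatMor.fibreDimAt h (U₁.ι w) ≤ ((0 : ℕ) : WithBot ℕ∞) from
      le_of_eq (hz _ (hgz w ▸ haO)))
  · obtain ⟨v', hv', hsp⟩ := hq (h z)
    exact rd_eq_zero_of_generization h ⊤ (x := z) trivial hsp fun p _ hp => hrd p (hp ▸ hv')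

variable {S : Scheme.{u}}

theorem lqf_of_flat {X Y V : AlgSp.Space S} (f : X ⟶ Y) (j : V ⟶ Y)
    (hf1 : LocP @Flat f.hom) (hl : LocP @LocallyOfFiniteType f.hom) (hj1 : RepWith @IsOpenImmersion j.hom)
    (hj2 : Dense (Set.range (Points.map j.hom))) (P : AlgSp.Space S) (fst : P ⟶ X) (snd : P ⟶ V)
    (hP : IsPullback fst.hom snd.hom f.hom j.hom) (hq : LocP (@LocallyQuasiFinite ⊓ @LocallyOfFiniteType) snd.hom)
    (h : LocP @LocallyOfFinitePresentation f.hom ∨ IsQuasiCompactMor j.hom) :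
    LocP (@LocallyQuasiFinite ⊓ @LocallyOfFiniteType) f.hom := by
  refine (RelDimSp.lqf_iff X.property Y.property hl).2 fun x => ?_
  obtain ⟨U, V₀, a, b, k, ha, ha', hb, -, w⟩ := exists_chart X.property Y.property f.hom
  obtain ⟨u, rfl⟩ := surjective_ofPt ha' x
  refine ⟨U, V₀, a, b, k, u, ha, hb, w, rfl, ?_⟩
  have : Flat k.left := hf1 a b k ha hb w
  have : LocallyOfFiniteType k.left := hl a b k ha hb w
  let O : Set ↥V₀.left := Points.ofPt b ⁻¹' Set.range (Points.map j.hom)
  have hOo : IsOpen O := ((isOpenMap_map (repWith_mono (fun _ _ e (_ : IsOpenImmersion e) =>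
    inferInstanceAs (UniversallyOpen e)) _ hj1)).isOpen_range).preimage (Points.continuous_ofPt b)
  have hsn : LocP @LocallyOfFiniteType snd.hom := locP_of_isPullback hP X.property Y.property V.property hl
  refine fibreDimAt_eq_zero k.left O hOo (hj2.preimage (isOpenMap_ofPt hb)) ?_ ?_ u
  · rintro t ⟨v, hv⟩
    obtain ⟨p, hp, -⟩ := exists_point_of_isPullback hP (x := Points.ofPt a t) (y := v) (by
      rw [hv, Points.map_ofPt, w, ofPt_comp])
    have hd : HasAtMor (fun _ _ h u => FlatMor.fibreDimAt h u = FlatMor.fibreDimAt k.left t) f.hom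
        (Points.map fst.hom p) := ⟨U, V₀, a, b, k, t, ha, hb, w, hp.symm, rfl⟩
    obtain ⟨_, _, a₁, b₁, k₁, t₁, ha₁, hb₁, w₁, he₁, hd₁⟩ :=
      RelDimSp.baseChange hP X.property Y.property V.property hl p _ hd
    obtain ⟨_, _, a₂, b₂, k₂, t₂, ha₂, hb₂, w₂, he₂, hd₂⟩ :=
      (RelDimSp.lqf_iff P.property V.property hsn).1 hq p
    rw [← hd₁, RelDimSp.fibreDimAt_congr hsn ha₁ hb₁ w₁ ha₂ hb₂ w₂ (he₁.trans he₂.symm), hd₂]
  · refine h.imp (fun hp => hp a b k ha hb w) fun hqc v => ?_
    have hc := repWith_quasiCompact hj1.1 hqc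
    let i := hj1.rep.snd b
    have : IsOpenImmersion i.left := hj1.property_snd b
    have : QuasiCompact i.left := hc.property_snd b
    have sq : IsPullback (hj1.rep.fst b) ((yon S).map i) j.hom b := hj1.rep.isPullback b
    have hr : Set.range i.left = O := by
      ext t
      constructor
      · rintro ⟨s, rfl⟩
        exact ⟨Points.ofPt (hj1.rep.fst b) s, by rw [Points.map_ofPt, sq.w, ofPt_comp]⟩
      · rintro ⟨y, hy⟩
        rw [Points.ofPt_eq_map_ofScheme] at hy
        obtain ⟨p, -, hp⟩ := exists_point_of_isPullback sq hy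
        refine ⟨Points.toScheme _ p, ?_⟩
        rw [← Points.ofScheme_toScheme _ p, Points.map_ofPt, Category.id_comp] at hp
        exact ((Points.toScheme_ofPt i _).symm.trans (congrArg (Points.toScheme _) hp)).trans
          (Points.toScheme_ofScheme _ t)
    obtain ⟨s, -, hs⟩ := ProConsLib.exists_specializes_of_mem_closure_image_scheme MorLib.LimCons.pro_univ i.left
      (y := v) (by rw [Set.image_univ, hr]; exact (hj2.preimage (isOpenMap_ofPt hb)) v)
    exact ⟨_, hr.subset ⟨s, rfl⟩, hs⟩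


/-- A flat proper morphism which is finite over a dense open is finite. -/
theorem isFiniteMor_of_flat {X Y V : AlgSp.Space S} (f : X ⟶ Y) (j : V ⟶ Y)
    (hf1 : LocP @Flat f.hom) (hf2 : IsProperMor f.hom) (hj1 : RepWith @IsOpenImmersion j.hom)
    (hj2 : Dense (Set.range (Points.map j.hom))) (P : AlgSp.Space S) (fst : P ⟶ X) (snd : P ⟶ V)
    (hP : IsPullback fst.hom snd.hom f.hom j.hom) (hV : IsFiniteMor snd.hom)
    (h : LocP @LocallyOfFinitePresentation f.hom ∨ IsQuasiCompactMor j.hom) : IsFiniteMor f.hom :=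
  FiniteNbhd.isFiniteMor_of_proper_lqf X.property Y.property hf2
    (lqf_of_flat f j hf1 hf2.2.1.1 hj1 hj2 P fst snd hP
      (locP_of_repWith (repWith_mono (fun _ _ e (_ : IsFinite e) => ⟨inferInstance, inferInstance⟩) _
        (isFiniteMor_iff_repWith.1 hV))) h)

end Groth.Agent.AlgSpDec.FlatFibreDim
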