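import Groth.Agent.AlgSpDec.SchDenseFacts
import Groth.Agent.ProConsLib.Basic
import Mathlib.AlgebraicGeometry.Morphisms.FlatDescent
import Mathlib.AlgebraicGeometry.Morphisms.UniversallyInjective
import Mathlib.RingTheory.Flat.Localization

/-!
# Flat monomorphisms which are isomorphisms over a schematically dense open
-/

set_option autoImplicit false
set_option backward.isDefEq.respectTransparency false
set_option backward.isDefEq.respectTransparency.types false

universe u

open CategoryTheory CategoryTheory.Limits AlgebraicGeometry TopologicalSpace Topology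

namespace Groth.Agent.AlgSpDec.SchDenseFlat

/-- A flat surjective quasi-compact monomorphism of schemes is an isomorphism. -/
theorem isIso_of_flat_surjective_mono {X Y : Scheme.{u}} (f : X ⟶ Y) [Flat f] [Surjective f] [QuasiCompact f]
    [Mono f] : IsIso f :=
  MorphismProperty.of_pullback_fst_of_descendsAlong (P := MorphismProperty.isomorphisms Scheme.{u})
    (Q := @Surjective ⊓ @Flat ⊓ @QuasiCompact) (f := f) (g := f)
    ⟨⟨inferInstance, inferInstance⟩, inferInstance⟩ (inferInstanceAs (IsIso (pullback.fst f f)))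

/-- At a prime, a flat monomorphism of finite type is surjective after inverting one element. -/
theorem exists_surjective_away {R T : Type u} [CommRing R] [CommRing T] [Algebra R T] [Module.Flat R T]
    [Algebra.FiniteType R T] [Mono (Spec.map (CommRingCat.ofHom (algebraMap R T)))] (q : Ideal T) [q.IsPrime] :
    ∃ s : R, algebraMap R T s ∉ q ∧ ∀ b : T, ∃ (n : ℕ) (r : R), algebraMap R T s ^ n * b = algebraMap R T r := by
  classical
  let p := q.comap (algebraMap R T)
  let Rp := Localization.AtPrime p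
  let M := Algebra.algebraMapSubmonoid T p.primeCompl
  let T' := Localization M
  let l : Rp →+* T' := IsLocalization.map T' (algebraMap R T) (T := M) p.primeCompl.le_comap_map
  let := l.toAlgebra
  have : IsScalarTower R Rp T' := IsScalarTower.of_algebraMap_eq fun r => by
    rw [RingHom.algebraMap_toAlgebra, IsLocalization.map_eq, ← IsScalarTower.algebraMap_apply]
  have hflat : l.Flat := by
    rw [RingHom.Flat]
    refine (Module.flat_iff_of_isLocalization Rp p.primeCompl T').2 ?_
    exact Module.Flat.trans R T T'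
  let f := Spec.map (CommRingCat.ofHom l)
  have : Flat f := (HasRingHomProperty.Spec_iff (P := @Flat)).2 hflat
  have : Mono f := by
    have : Mono (f ≫ Spec.map (CommRingCat.ofHom (algebraMap R Rp))) := by
      have e : f ≫ Spec.map (CommRingCat.ofHom (algebraMap R Rp)) =
          Spec.map (CommRingCat.ofHom (algebraMap T T')) ≫ Spec.map (CommRingCat.ofHom (algebraMap R T)) := by
        rw [← Spec.map_comp, ← Spec.map_comp, ← CommRingCat.ofHom_comp, ← CommRingCat.ofHom_comp,
          IsLocalization.map_comp]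
      rw [e]
      have : IsPreimmersion (Spec.map (CommRingCat.ofHom (algebraMap T T'))) := .of_isLocalization M
      infer_instance
    exact mono_of_mono f (Spec.map (CommRingCat.ofHom (algebraMap R Rp)))
  have hdisj : Disjoint (M : Set T) (q : Set T) := Set.disjoint_left.2 fun b hb hbq => by
    obtain ⟨r, hr, rfl⟩ := hb
    exact hr hbq
  have : Surjective f := ⟨fun P => by
    have hq' := IsLocalization.isPrime_of_isPrime_disjoint M T' q inferInstance hdisj
    let Q : PrimeSpectrum T' := ⟨Ideal.map (algebraMap T T') q, hq'⟩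
    have hQ : f Q = IsLocalRing.closedPoint Rp := by
      refine PrimeSpectrum.ext ?_
      show Ideal.comap l (Ideal.map (algebraMap T T') q) = IsLocalRing.maximalIdeal Rp
      rw [← Localization.AtPrime.map_eq_maximalIdeal, ← IsLocalization.map_under p.primeCompl Rp
        (Ideal.comap l (Ideal.map (algebraMap T T') q))]
      congr 1
      rw [Ideal.under, Ideal.comap_comap, IsLocalization.map_comp, ← Ideal.comap_comap]
      exact congrArg (Ideal.comap (algebraMap R T))
        (IsLocalization.under_map_of_isPrime_disjoint M T' ‹q.IsPrime› hdisj)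
    obtain ⟨z, -, hz⟩ := Flat.generalizingMap f (show P ⤳ f Q from hQ ▸ IsLocalRing.specializes_closedPoint P)
    exact ⟨z, hz⟩⟩
  have := isIso_of_flat_surjective_mono f
  have hbij : Function.Bijective l := by
    exact (isIso_SpecMap_iff (f := CommRingCat.ofHom l)).1 this
  have hloc : ∀ b : T, ∃ (r t : R), t ∉ p ∧ algebraMap R T t * b = algebraMap R T r := by
    intro b
    obtain ⟨x, hx⟩ := hbij.2 (algebraMap T T' b)
    obtain ⟨r, t, rfl⟩ := IsLocalization.exists_mk'_eq p.primeCompl x
    rw [IsLocalization.map_mk', IsLocalization.mk'_eq_iff_eq_mul, ← map_mul] at hx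
    obtain ⟨⟨_, c, hc, rfl⟩, hc'⟩ := (IsLocalization.eq_iff_exists M T').1 hx
    refine ⟨c * r, c * t.1, p.primeCompl.mul_mem hc t.2, ?_⟩
    simp only [map_mul] at hc' ⊢
    rw [hc']; ring
  obtain ⟨g, hg⟩ := ‹Algebra.FiniteType R T›.out
  choose r t ht he using hloc
  refine ⟨∏ b ∈ g, t b, fun h => ?_, fun b => ?_⟩
  · obtain ⟨b, -, hb⟩ := (Ideal.IsPrime.comap (algebraMap R T) : p.IsPrime).prod_mem_iff.1 (show ∏ b ∈ g, t b ∈ p from h)
    exact ht b hb
  · induction (show b ∈ Algebra.adjoin R (g : Set T) from hg ▸ Algebra.mem_top) using Algebra.adjoin_induction with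
    | mem x hx =>
      refine ⟨1, (∏ y ∈ g.erase x, t y) * r x, ?_⟩
      rw [pow_one, ← Finset.mul_prod_erase g t hx, map_mul, map_mul, mul_comm (algebraMap R T (t x)),
        mul_assoc, he]
    | algebraMap a => exact ⟨0, a, by rw [pow_zero, one_mul]⟩
    | add x y _ _ hx hy =>
      obtain ⟨n, a, hn⟩ := hx
      obtain ⟨m, c, hm⟩ := hy
      refine ⟨n + m, (∏ b ∈ g, t b) ^ m * a + (∏ b ∈ g, t b) ^ n * c, ?_⟩
      rw [map_add, map_mul, map_mul, map_pow, map_pow, ← hn, ← hm, pow_add]; ring
    | mul x y _ _ hx hy =>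
      obtain ⟨n, a, hn⟩ := hx
      obtain ⟨m, c, hm⟩ := hy
      refine ⟨n + m, a * c, ?_⟩
      rw [map_mul, ← hn, ← hm, pow_add]; ring

/-- A closed immersion through which a retrocompact schematically dense open factors is an isomorphism. -/
theorem isIso_of_factor {E T : Scheme.{u}} (e : E ⟶ T) [IsClosedImmersion e] (W : T.Opens)
    (hW : CInt.IsSchematicallyDense W) [QuasiCompact W.ι] (l : W.toScheme ⟶ E) (hl : l ≫ e = W.ι) : IsIso e := by
  rw [IsClosedImmersion.isIso_iff_ker_eq_bot, eq_bot_iff, ← (SchDenseFacts.iff_ker_eq_bot W).1 hW, ← hl]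
  exact Scheme.Hom.le_ker_comp l e

variable {A B : Scheme.{u}} (k : A ⟶ B) [Flat k] [LocallyOfFiniteType k] [Mono k]

/-- A flat monomorphism locally of finite type is a closed immersion locally on the source and target. -/
theorem exists_closedImmersion (x : A) :
    ∃ (D : B.Opens) (A₁ : A.Opens) (e : A₁ ≤ k ⁻¹ᵁ D), IsAffineOpen D ∧ x ∈ A₁ ∧
      IsClosedImmersion (k.resLE D A₁ e) := by
  obtain ⟨Bo, hBo, hxB, -⟩ := exists_isAffineOpen_mem_and_subset (x := k x) (U := ⊤) trivial
  obtain ⟨Ao, hAo, hxA, hAB⟩ := exists_isAffineOpen_mem_and_subset (x := x) (U := k ⁻¹ᵁ Bo) hxB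
  let φ := k.appLE Bo Ao hAB
  let := φ.hom.toAlgebra
  have : Module.Flat Γ(B, Bo) Γ(A, Ao) := k.flat_appLE hBo hAo hAB
  have : Algebra.FiniteType Γ(B, Bo) Γ(A, Ao) := k.finiteType_appLE hBo hAo hAB
  have hm : Mono (Spec.map φ) := by
    have : Mono (Spec.map φ ≫ hBo.fromSpec) := by
      rw [IsAffineOpen.SpecMap_appLE_fromSpec k hBo hAo hAB]; infer_instance
    exact mono_of_mono _ hBo.fromSpec
  obtain ⟨s, hs, hsurj⟩ := @exists_surjective_away Γ(B, Bo) Γ(A, Ao) _ _ _ _ _ hm
    (hAo.primeIdealOf ⟨x, hxA⟩).asIdeal _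
  have hle : A.basicOpen (φ s) ≤ k ⁻¹ᵁ B.basicOpen s := by
    show A.basicOpen ((k.app Bo ≫ A.presheaf.map (homOfLE hAB).op) s) ≤ _
    rw [CommRingCat.comp_apply, Scheme.basicOpen_res, Scheme.preimage_basicOpen]
    exact inf_le_right
  have : IsAffine (B.basicOpen s).toScheme := hBo.basicOpen s
  have : IsAffine (A.basicOpen (φ s)).toScheme := hAo.basicOpen _
  refine ⟨B.basicOpen s, A.basicOpen (φ s), hle, hBo.basicOpen s, ?_, IsClosedImmersion.of_surjective_of_isAffine _ ?_⟩
  · have h : hAo.primeIdealOf ⟨x, hxA⟩ ∈ hAo.fromSpec ⁻¹ᵁ A.basicOpen (φ s) := by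
      rw [hAo.fromSpec_preimage_basicOpen]
      exact hs
    change hAo.fromSpec (hAo.primeIdealOf ⟨x, hxA⟩) ∈ A.basicOpen (φ s) at h
    rwa [hAo.fromSpec_primeIdealOf] at h
  · suffices h : Function.Surjective (k.appLE (B.basicOpen s) (A.basicOpen (φ s)) hle).hom by
      rw [Scheme.Hom.appTop, Scheme.Hom.resLE_app_top]
      exact (((A.basicOpen (φ s)).topIso.symm.commRingCatIsoToRingEquiv.surjective).comp h).comp
        (B.basicOpen s).topIso.commRingCatIsoToRingEquiv.surjective
    intro z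
    have := hAo.isLocalization_basicOpen (φ s)
    have := hBo.isLocalization_basicOpen s
    obtain ⟨b, ⟨_, n, rfl⟩, rfl⟩ := IsLocalization.exists_mk'_eq (Submonoid.powers (φ s)) z
    obtain ⟨m, r, hr⟩ := hsurj b
    refine ⟨IsLocalization.mk' _ r (⟨s ^ (m + n), m + n, rfl⟩ : Submonoid.powers s), ?_⟩
    let := (k.appLE (B.basicOpen s) (A.basicOpen (φ s)) hle).hom
    rw [IsLocalization.eq_mk'_iff_mul_eq]
    have hres : ∀ a, k.appLE (B.basicOpen s) (A.basicOpen (φ s)) hle (algebraMap Γ(B, Bo) _ a) =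
        algebraMap Γ(A, Ao) Γ(A, A.basicOpen (φ s)) (φ a) := fun a => by
      show (B.presheaf.map _ ≫ k.appLE _ _ hle) a = (φ ≫ A.presheaf.map _) a
      rw [Scheme.Hom.map_appLE, Scheme.Hom.appLE_map]
    have h1 := congrArg (k.appLE (B.basicOpen s) (A.basicOpen (φ s)) hle).hom
      (IsLocalization.mk'_spec Γ(B, B.basicOpen s) r (⟨s ^ (m + n), m + n, rfl⟩ : Submonoid.powers s))
    generalize hY : IsLocalization.mk' Γ(B, B.basicOpen s) r (⟨s ^ (m + n), m + n, rfl⟩ : Submonoid.powers s) = Y at h1 ⊢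
    rw [map_mul, hres, hres] at h1
    have hu : IsUnit (algebraMap Γ(A, Ao) Γ(A, A.basicOpen (φ s)) (φ s ^ m)) :=
      IsLocalization.map_units _ (⟨φ s ^ m, m, rfl⟩ : Submonoid.powers (φ s))
    rw [show φ (s ^ (m + n)) = φ s ^ m * φ s ^ n by rw [map_pow, pow_add], map_mul] at h1
    refine hu.mul_left_cancel ?_
    rw [← map_mul]
    have e : φ s ^ m * b = φ r := hr
    rw [e, ← h1]
    ring

/-- A flat monomorphism with a section over a retrocompact schematically dense open is an open immersion. -/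
theorem isOpenImmersion [IsSeparated k] (W : B.Opens) (hW : CInt.IsSchematicallyDense W) [QuasiCompact W.ι]
    (σ : W.toScheme ⟶ A) (hσ : σ ≫ k = W.ι) : IsOpenImmersion k := by
  have hinj : Function.Injective k := k.injective
  have hloc : ∀ x : A, ∃ (T : Scheme.{u}) (i : T ⟶ A), IsOpenImmersion i ∧ x ∈ Set.range i ∧
      IsOpenImmersion (i ≫ k) := by
    intro x
    obtain ⟨D, A₁, e, hD, hxA, hc⟩ := exists_closedImmersion k x
    let c := k.resLE D A₁ e
    have hck : c ≫ D.ι = A₁.ι ≫ k := Scheme.Hom.resLE_comp_ι k e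
    have : IsAffine D.toScheme := hD
    have hmem : ∀ w : ↥W.toScheme, ∀ a : ↥A₁.toScheme, D.ι (c a) = W.ι w → σ w ∈ A₁ := by
      intro w a h
      have h1 : k (σ w) = k (A₁.ι a) := by
        rw [← Scheme.Hom.comp_apply, hσ, ← h, ← Scheme.Hom.comp_apply, hck, Scheme.Hom.comp_apply]
      rw [hinj h1]
      exact a.2
    let bad : Set ↥D.toScheme := D.ι ⁻¹' W ∩ (Set.range c)ᶜ
    have hbo : IsOpen bad := (W.isOpen.preimage D.ι.continuous).inter c.isClosedEmbedding.isClosed_range.isOpen_compl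
    have hbc : IsCompact bad := by
      let G : Set ↥D.toScheme := D.ι ⁻¹' (W.ι '' (σ ⁻¹' A₁))
      have hG : IsOpen G := (W.ι.isOpenEmbedding.isOpenMap _ (A₁.isOpen.preimage σ.continuous)).preimage D.ι.continuous
      have hWc : IsCompact (D.ι ⁻¹' (W : Set B)) := by
        rw [D.ι.isOpenEmbedding.isEmbedding.isCompact_iff, Set.image_preimage_eq_inter_range,
          Scheme.Opens.range_ι, Set.inter_comm]
        exact SchDenseFacts.isCompact_inf_of_quasiCompact W D hD
      convert! hWc.diff hG using 1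
      ext d
      simp only [bad, G, Set.mem_inter_iff, Set.mem_compl_iff, Set.mem_sdiff, Set.mem_preimage]
      refine and_congr_right fun hdW => not_congr ⟨?_, ?_⟩
      · rintro ⟨a, rfl⟩
        obtain ⟨w, hw⟩ : D.ι (c a) ∈ Set.range W.ι := by rw [Scheme.Opens.range_ι]; exact hdW
        exact ⟨w, hmem w a hw.symm, hw⟩
      · rintro ⟨w, hw, hwd⟩
        refine ⟨⟨σ w, hw⟩, D.ι.injective ?_⟩
        rw [← Scheme.Hom.comp_apply, hck, ← hwd, ← hσ]
        rfl
    let N₀ : D.toScheme.Opens := ⟨(closure bad)ᶜ, isClosed_closure.isOpen_compl⟩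
    have hxN : c ⟨x, hxA⟩ ∈ N₀ := fun h => by
      obtain ⟨v, hv, hvx⟩ := (ProConsLib.consClosed_of_isConstructible
        (hbc.isConstructible hbo)).exists_specializes_of_mem_closure h
      obtain ⟨z, hz, hzv⟩ := Flat.generalizingMap k (show D.ι v ⤳ k x by
          have := hvx.map D.ι.continuous
          rwa [← Scheme.Hom.comp_apply, hck] at this)
      refine hv.2 ⟨⟨z, hz.mem_open A₁.isOpen hxA⟩, D.ι.injective ?_⟩
      rw [← Scheme.Hom.comp_apply, hck]
      exact hzv
    let g := c ∣_ N₀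
    let f := N₀.ι ≫ D.ι
    let W' := f ⁻¹ᵁ W
    have : QuasiCompact W'.ι :=
      MorphismProperty.of_isPullback (P := @QuasiCompact) (isPullback_morphismRestrict f W) inferInstance
    have hrange : Set.range ((f ∣_ W) ≫ σ) ⊆ Set.range A₁.ι := by
      rintro _ ⟨w, rfl⟩
      rw [Scheme.Opens.range_ι, Scheme.Hom.comp_apply]
      have hn : N₀.ι (W'.ι w) ∉ bad := fun h => (W'.ι w).2 (subset_closure h)
      obtain ⟨a, ha⟩ := not_not.1 fun h => hn ⟨w.2, h⟩
      refine hmem _ a ?_
      rw [ha, ← Scheme.Hom.comp_apply (f ∣_ W), morphismRestrict_ι]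
      rfl
    let l₀ := IsOpenImmersion.lift A₁.ι ((f ∣_ W) ≫ σ) hrange
    have hl₀ : l₀ ≫ c = W'.ι ≫ N₀.ι := by
      rw [← cancel_mono D.ι, Category.assoc, hck, IsOpenImmersion.lift_fac_assoc, Category.assoc, hσ,
        morphismRestrict_ι, Category.assoc]
    have sq := isPullback_morphismRestrict c N₀
    have : IsIso g := isIso_of_factor g W' (SchDenseFacts.preimage_of_flat_qc f W hW fun V hV =>
      SchDenseFacts.isCompact_inf_of_quasiCompact W V hV) (sq.flip.lift l₀ W'.ι hl₀) (sq.flip.lift_snd ..)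
    refine ⟨_, (c ⁻¹ᵁ N₀).ι ≫ A₁.ι, inferInstance, ⟨⟨⟨x, hxA⟩, hxN⟩, rfl⟩, ?_⟩
    rw [Category.assoc, ← hck, ← Category.assoc, ← morphismRestrict_ι, Category.assoc]
    infer_instance
  have : ∀ x, IsIso (k.stalkMap x) := by
    intro x
    obtain ⟨T, i, hi, ⟨t, rfl⟩, hik⟩ := hloc x
    have := (IsOpenImmersion.iff_isIso_stalkMap.1 hik).2 t
    rw [Scheme.Hom.stalkMap_comp] at this
    exact IsIso.of_isIso_comp_right _ (i.stalkMap t)
  refine IsOpenImmersion.iff_isIso_stalkMap.2 ⟨IsOpenEmbedding.of_continuous_injective_isOpenMap k.continuous hinj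
    fun O hO => isOpen_iff_forall_mem_open.2 ?_, this⟩
  rintro _ ⟨x, hx, rfl⟩
  obtain ⟨T, i, hi, ⟨t, rfl⟩, hik⟩ := hloc x
  refine ⟨(i ≫ k) '' (i ⁻¹' O), ?_, (i ≫ k).isOpenEmbedding.isOpenMap _ (hO.preimage i.continuous), t, hx, rfl⟩
  rintro _ ⟨t', ht', rfl⟩
  exact ⟨i t', ht', rfl⟩

omit [Mono k] in
/-- A separated flat morphism locally of finite type which is an isomorphism over a retrocompact
schematically dense open is an open immersion. -/
theorem isOpenImmersion_of_isPullback [IsSeparated k] (W : B.Opens) (hW : CInt.IsSchematicallyDense W)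
    [QuasiCompact W.ι] (σ : W.toScheme ⟶ A) (sq : IsPullback σ (𝟙 _) k W.ι) : IsOpenImmersion k := by
  let t := pullback.fst k k ≫ k
  let W' := t ⁻¹ᵁ W
  have : QuasiCompact W'.ι :=
    MorphismProperty.of_isPullback (P := @QuasiCompact) (isPullback_morphismRestrict t W) inferInstance
  have key : ∀ p : W'.toScheme ⟶ A, p ≫ k = W'.ι ≫ t → p = (t ∣_ W) ≫ σ := fun p hp => by
    obtain ⟨p', rfl, hp'⟩ : ∃ p', p = p' ≫ σ ∧ p' = t ∣_ W := by
      refine ⟨sq.lift p (t ∣_ W) (by rw [hp, morphismRestrict_ι]), (sq.lift_fst ..).symm, ?_⟩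
      have h := sq.lift_snd p (t ∣_ W) (by rw [hp, morphismRestrict_ι])
      rwa [Category.comp_id] at h
    rw [hp']
  have h1 := key (W'.ι ≫ pullback.fst k k) (by rw [Category.assoc])
  have h2 := key (W'.ι ≫ pullback.snd k k) (by rw [Category.assoc, ← pullback.condition])
  have : IsIso (pullback.diagonal k) := isIso_of_factor _ W' (SchDenseFacts.preimage_of_flat_qc t W hW fun V hV =>
      SchDenseFacts.isCompact_inf_of_quasiCompact W V hV) ((t ∣_ W) ≫ σ) (by
    apply pullback.hom_ext
    · rw [Category.assoc, pullback.diagonal_fst, Category.comp_id, h1]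
    · rw [Category.assoc, pullback.diagonal_snd, Category.comp_id, h2])
  have : Mono k := (pullback.isIso_diagonal_iff k).1 this
  exact isOpenImmersion k W hW σ (by rw [sq.w, Category.id_comp])

end Groth.Agent.AlgSpDec.SchDenseFlat
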