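import Groth.Prelude.Def_AlgSpSub
import Groth.Agent.AlgSpDec.SchDenseFacts
import Groth.Agent.AlgSpDec.PointsSpectral
import Groth.Agent.AlgSpPts.Univ

/-!
# Scheme theoretically dense open subspaces on all charts
-/

set_option backward.isDefEq.respectTransparency false
set_option backward.isDefEq.respectTransparency.types false

universe u

open CategoryTheory CategoryTheory.Limits AlgebraicGeometry TopologicalSpace AlgSp Groth.Agent.AlgSpLib Groth.Agent.AlgSpPts

namespace Groth.Agent.AlgSpDec.SchDenseSp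

variable {S : Scheme.{u}} {X G : Sp S} {j : G ⟶ X}

/-- The inverse image of an open subspace in a chart. -/
def pre (hX : IsAlgSpace X) (hj : RepWith @IsOpenImmersion j) {V : Over S} (φ : (yon S).obj V ⟶ X) :
    V.left.Opens :=
  ⟨Points.ofPt φ ⁻¹' Set.range (Points.map j),
    (isOpenEmbedding_map' hX hj).isOpen_range.preimage (Points.continuous_ofPt φ)⟩

theorem mem_pre (hX : IsAlgSpace X) (hj : RepWith @IsOpenImmersion j) {V : Over S} (φ : (yon S).obj V ⟶ X)
    (v : ↥V.left) : v ∈ pre hX hj φ ↔ Points.ofPt φ v ∈ Set.range (Points.map j) := Iff.rfl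

theorem range_snd (hX : IsAlgSpace X) (hj : RepWith @IsOpenImmersion j) {V : Over S} {φ : (yon S).obj V ⟶ X}
    {P : Over S} {fst : (yon S).obj P ⟶ G} {snd : P ⟶ V} (sq : IsPullback fst ((yon S).map snd) j φ) :
    Set.range snd.left = (pre hX hj φ : Set ↥V.left) := by
  ext v
  constructor
  · rintro ⟨w, rfl⟩
    refine ⟨Points.ofPt fst w, ?_⟩
    rw [Points.map_ofPt, sq.w, ofPt_comp]
  · rintro ⟨y, hy⟩
    obtain ⟨w, -, hw⟩ := AlgSpPts.exists_lift sq hy
    exact ⟨w, hw⟩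

theorem eq_pre (hX : IsAlgSpace X) (hj : RepWith @IsOpenImmersion j) {V : Over S} {φ : (yon S).obj V ⟶ X}
    {W : V.left.Opens} {fst : (yon S).obj (Over.mk (W.ι ≫ V.hom)) ⟶ G}
    (sq : IsPullback fst ((yon S).map (Over.homMk W.ι rfl : Over.mk (W.ι ≫ V.hom) ⟶ V)) j φ) :
    W = pre hX hj φ :=
  TopologicalSpace.Opens.ext ((Scheme.Opens.range_ι W).symm.trans (range_snd hX hj sq))

theorem exists_isPullback (hX : IsAlgSpace X) (hj : RepWith @IsOpenImmersion j) {V : Over S}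
    (φ : (yon S).obj V ⟶ X) :
    ∃ fst : (yon S).obj (Over.mk ((pre hX hj φ).ι ≫ V.hom)) ⟶ G,
      IsPullback fst ((yon S).map (Over.homMk (pre hX hj φ).ι rfl : Over.mk ((pre hX hj φ).ι ≫ V.hom) ⟶ V)) j φ := by
  have sq := hj.rep.isPullback φ
  let r := hj.rep.snd φ
  have : IsOpenImmersion r.left := hj.property_snd φ
  let W := pre hX hj φ
  let e₀ : (hj.rep.pullback φ).left ≅ W.toScheme := IsOpenImmersion.isoOfRangeEq r.left W.ι
    (by rw [Scheme.Opens.range_ι]; exact range_snd hX hj sq)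
  let e : hj.rep.pullback φ ≅ Over.mk (W.ι ≫ V.hom) := Over.isoMk e₀ (by
    show e₀.hom ≫ W.ι ≫ V.hom = _
    rw [IsOpenImmersion.isoOfRangeEq_hom_fac_assoc]
    exact Over.w r)
  refine ⟨(yon S).map e.inv ≫ hj.rep.fst φ, IsPullback.of_iso sq ((yon S).mapIso e) (Iso.refl _) (Iso.refl _)
    (Iso.refl _) ?_ ?_ ?_ ?_⟩
  · simp [← Functor.map_comp_assoc]
  · simp only [Functor.mapIso_hom, Iso.refl_hom, Category.comp_id]
    rw [← Functor.map_comp]
    congr 1
    ext1
    exact (IsOpenImmersion.isoOfRangeEq_hom_fac r.left W.ι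
      (by rw [Scheme.Opens.range_ι]; exact range_snd hX hj sq)).symm
  · simp
  · simp

theorem preimage_pre (hX : IsAlgSpace X) (hj : RepWith @IsOpenImmersion j) {V R : Over S}
    (φ : (yon S).obj V ⟶ X) (q : R ⟶ V) : q.left ⁻¹ᵁ pre hX hj φ = pre hX hj ((yon S).map q ≫ φ) := by
  ext v
  show Points.ofPt φ (q.left v) ∈ Set.range (Points.map j) ↔
    Points.ofPt ((yon S).map q ≫ φ) v ∈ Set.range (Points.map j)
  rw [ofPt_comp]

/-- On every etale chart the inverse image of a scheme theoretically dense open subspace is dense. -/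
theorem dense_pre (hX : IsAlgSpace X) (hj : IsSchDense j) {V : Over S} {φ : (yon S).obj V ⟶ X}
    (hφ : RepWith @Etale φ) : CInt.IsSchematicallyDense (pre hX hj.1 φ) := by
  obtain ⟨hjo, V₀, φ₀, W₀, fst₀, he₀, hs₀, sq₀, hd₀⟩ := hj
  rw [eq_pre hX hjo sq₀] at hd₀
  let R := he₀.rep.pullback φ
  let p₁ : R ⟶ V₀ := he₀.rep.fst' φ
  let p₂ : R ⟶ V := he₀.rep.snd φ
  have : Etale p₂.left := he₀.property_snd φ
  have : Surjective p₂.left := hs₀.property _ _ _ (he₀.rep.isPullback φ)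
  have : Etale p₁.left := hφ.property _ _ _ (he₀.rep.isPullback' φ).flip
  refine SchDenseFacts.of_preimage p₂.left _ ?_
  rw [preimage_pre, ← (he₀.rep.isPullback' φ).w, ← preimage_pre]
  exact SchDenseLib.preimage_of_flat_lfp p₁.left _ hd₀

theorem isSchDense_of_atlas (hX : IsAlgSpace X) (hj : RepWith @IsOpenImmersion j) {V : Over S}
    {φ : (yon S).obj V ⟶ X} (he : RepWith @Etale φ) (hs : RepWith @Surjective φ)
    (h : CInt.IsSchematicallyDense (pre hX hj φ)) : IsSchDense j := by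
  obtain ⟨fst, sq⟩ := exists_isPullback hX hj φ
  exact ⟨hj, V, φ, pre hX hj φ, fst, he, hs, sq, h⟩

theorem quasiCompact_pre_ι (hX : IsAlgSpace X) (hj : RepWith @IsOpenImmersion j) (hq : IsQuasiCompactMor j)
    {V : Over S} (φ : (yon S).obj V ⟶ X) : QuasiCompact (pre hX hj φ).ι := by
  refine (quasiCompact_iff_forall_isAffineOpen).2 fun O hO => ?_
  let T : Over S := Over.mk (O.ι ≫ V.hom)
  let o : T ⟶ V := Over.homMk O.ι rfl
  have : IsAffine T.left := hO
  obtain ⟨fst, sq⟩ := exists_isPullback hX hj ((yon S).map o ≫ φ)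
  have hc := hq (IsAlgSpace.yon_obj T) (AlgSpLib.isQuasiCompactSp_yon T) ((yon S).map o ≫ φ) _ _ sq
  rw [isQuasiCompactSp_yon_iff] at hc
  let W' : O.toScheme.Opens := pre hX hj ((yon S).map o ≫ φ)
  have h1 : IsCompact (W' : Set ↥O.toScheme) := isCompact_iff_compactSpace.2 hc
  have e : W' = O.ι ⁻¹ᵁ pre hX hj φ := (preimage_pre hX hj φ o).symm
  rw [e] at h1
  have h2 := h1.image O.ι.continuous
  rw [(pre hX hj φ).ι.isOpenEmbedding.isInducing.isCompact_iff]
  have e2 : (pre hX hj φ).ι '' (((pre hX hj φ).ι ⁻¹ᵁ O) : Set ↥(pre hX hj φ).toScheme) =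
      O.ι '' ((O.ι ⁻¹ᵁ pre hX hj φ) : Set ↥O.toScheme) := by
    show (pre hX hj φ).ι '' ((pre hX hj φ).ι ⁻¹' (O : Set ↥V.left)) = O.ι '' (O.ι ⁻¹' (pre hX hj φ : Set ↥V.left))
    rw [Set.image_preimage_eq_inter_range, Set.image_preimage_eq_inter_range, Scheme.Opens.range_ι,
      Scheme.Opens.range_ι, Set.inter_comm]
  rw [e2]
  exact h2

end Groth.Agent.AlgSpDec.SchDenseSp
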