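import Groth.Agent.AlgSpDec.FlatFibreDim
import Groth.Agent.AlgSpDec.SchDenseFlat
import Groth.Agent.AlgSpDec.SchDenseSp
import Groth.Agent.AlgSpDec.ImmCover
import Groth.Agent.S5435

/-!
# Flat separated morphisms which are isomorphisms over a schematically dense open
-/

set_option autoImplicit false
set_option backward.isDefEq.respectTransparency false
set_option backward.isDefEq.respectTransparency.types false

universe u

open CategoryTheory CategoryTheory.Limits AlgebraicGeometry AlgSp Groth.Agent.AlgSpLib Groth.Agent.AlgSpPts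

namespace Groth.Agent.AlgSpDec.FlatOpenImm

open Groth.Agent.AlgSpDec

variable {S : Scheme.{u}}

theorem repWith_isOpenImmersion {X Y V : AlgSp.Space S} (f : X ⟶ Y) (j : V ⟶ Y)
    (hf1 : IsSeparatedMor f.hom) (hf2 : LocP @LocallyOfFiniteType f.hom) (hf3 : LocP @Flat f.hom)
    (hj1 : IsQuasiCompactMor j.hom) (hj2 : IsSchDense j.hom) (P : AlgSp.Space S) (fst : P ⟶ X) (snd : P ⟶ V)
    (hP : IsPullback fst.hom snd.hom f.hom j.hom) (hV : IsIso snd.hom) : RepWith @IsOpenImmersion f.hom := by
  obtain ⟨V₀, b, hb, hbs⟩ := Y.property.atlas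
  have hd : CInt.IsSchematicallyDense (SchDenseSp.pre Y.property hj2.1 b) :=
    SchDenseSp.dense_pre Y.property hj2 hb
  have hden : Dense (Set.range (Points.map j.hom)) := by
    have h := (surjective_ofPt hbs).denseRange.dense_image (Points.continuous_ofPt b)
      (dense_iff_inter_open.2 fun O hO hne => Groth.Agent.S5435.dense_of_isSchematicallyDense hd ⟨O, hO⟩ hne)
    exact h.mono (Set.image_preimage_subset _ _)
  have hq := FlatFibreDim.lqf_of_flat f j hf3 hf2 hj2.1 hden P fst snd hP
    (locP_of_repWith (repWith_of_isIso _ snd.hom)) (Or.inr hj1)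
  have hr := representable_of_lqf_separated X.property Y.property f.hom hq hf1
  have sq := hr.isPullback b
  let k := hr.snd b
  have hl : LocP @LocallyOfFiniteType ((yon S).map k) :=
    locP_of_isPullback sq X.property Y.property (IsAlgSpace.yon_obj _) hf2
  have hfl : LocP @Flat ((yon S).map k) := locP_of_isPullback sq X.property Y.property (IsAlgSpace.yon_obj _) hf3
  have : LocallyOfFiniteType k.left := locP_yon_map hl
  have : Flat k.left := locP_yon_map hfl
  have : IsSeparated k.left := (isSeparatedMor_yon_map_iff k).1 (isSeparatedMor_of_isPullback sq hf1)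
  obtain ⟨g, sqW⟩ := SchDenseSp.exists_isPullback Y.property hj2.1 b
  let W := SchDenseSp.pre Y.property hj2.1 b
  let i : Over.mk (W.ι ≫ V₀.hom) ⟶ V₀ := Over.homMk W.ι rfl
  have : QuasiCompact W.ι := SchDenseSp.quasiCompact_pre_ι Y.property hj2.1 hj1 b
  have hlift : g ≫ inv snd.hom ≫ fst.hom ≫ f.hom = (yon S).map i ≫ b := by
    rw [hP.w, IsIso.inv_hom_id_assoc, sqW.w]
  obtain ⟨σ, hσ⟩ := (yon S).map_surjective (sq.lift (g ≫ inv snd.hom ≫ fst.hom) ((yon S).map i)
    (by simpa only [Category.assoc] using hlift))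
  have hσ₁ : (yon S).map σ ≫ hr.fst b = g ≫ inv snd.hom ≫ fst.hom := by rw [hσ, IsPullback.lift_fst]
  have hσ₂ : σ ≫ k = i := (yon S).map_injective (by rw [Functor.map_comp, hσ, IsPullback.lift_snd])
  have key : IsPullback σ (𝟙 _) k i := by
    refine IsPullback.of_isLimit' ⟨by rw [hσ₂, Category.id_comp]⟩
      (PullbackCone.IsLimit.mk _ (fun s => s.snd) (fun s => ?_) (fun s => Category.comp_id _)
        fun s m _ hm => (Category.comp_id m).symm.trans hm)
    refine (yon S).map_injective (sq.hom_ext ?_ ?_)
    · have h1 : ((yon S).map s.fst ≫ hr.fst b) ≫ f.hom = ((yon S).map s.snd ≫ g) ≫ j.hom := by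
        rw [Category.assoc, sq.w, Category.assoc, sqW.w, ← Category.assoc, ← Category.assoc,
          ← Functor.map_comp, ← Functor.map_comp, s.condition]
      have hl₁ := hP.lift_fst _ _ h1
      have hl₂ := hP.lift_snd _ _ h1
      rw [← IsIso.eq_comp_inv] at hl₂
      rw [hl₂, Category.assoc] at hl₁
      rw [Functor.map_comp, Category.assoc, hσ₁]
      exact hl₁
    · rw [← Functor.map_comp, ← Functor.map_comp, Category.assoc, hσ₂, s.condition]
  have : IsOpenImmersion k.left := SchDenseFlat.isOpenImmersion_of_isPullback k.left W hd σ.left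
    (key.map (Over.forget S))
  exact repWith_isOpenImmersion_of_etale_cover hb hbs sq ((repWith_yon_map_iff _ k).2 this)

end Groth.Agent.AlgSpDec.FlatOpenImm
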