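import Groth.Agent.AlgSpDec.MonoScheme
import Groth.Agent.AlgSpPts.OpenSub
import Mathlib.AlgebraicGeometry.Morphisms.FlatDescent
import Mathlib.AlgebraicGeometry.Morphisms.Descent
import Mathlib.AlgebraicGeometry.Morphisms.UniversallyOpen

/-!
# Descent of quasi-affine schemes and immersions along fppf coverings
-/

set_option backward.isDefEq.respectTransparency false
set_option backward.isDefEq.respectTransparency.types false

universe u

open CategoryTheory Limits Opposite AlgebraicGeometry AlgSp Groth.Agent.AlgSpLib Groth.Agent.AlgSpPts Groth.Agent.AlgSpVal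

namespace Groth.Agent.AlgSpDec.Fppf

variable {S : Scheme.{u}} {F G : Sp S} {f : F ⟶ G} {V : Over S} {p : (yon S).obj V ⟶ G}
  {P₀ : Sp S} {fst : P₀ ⟶ F} {snd : P₀ ⟶ (yon S).obj V}

/-- An fppf chart is open on points. -/
theorem isOpenMap_ofPt {U : Over S} {p : (yon S).obj U ⟶ F} (he : RepWith fppf p) :
    IsOpenMap (Points.ofPt p) := by
  intro A hA
  refine Points.isOpen_iff.2 fun T g => ?_
  obtain ⟨⟨_, _⟩, _⟩ : fppf (he.rep.snd g).left := he.property_snd g
  have heq : Points.ofPt g ⁻¹' (Points.ofPt p '' A) =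
      (he.rep.snd g).left '' ((he.rep.fst' g).left ⁻¹' A) := by
    ext t
    constructor
    · rintro ⟨u, hu, hut⟩
      obtain ⟨w, hw₁, hw₂⟩ := exists_ofPt_of_eq (he.rep.isPullback' g) hut
      exact ⟨w, by simpa [hw₁] using hu, hw₂⟩
    · rintro ⟨w, hw, rfl⟩
      refine ⟨_, hw, ?_⟩
      rw [← ofPt_comp, ← ofPt_comp, Functor.relativelyRepresentable.map_fst', he.rep.w g]
  rw [heq]
  exact (he.rep.snd g).left.isOpenMap _ (hA.preimage (he.rep.fst' g).left.continuous)

/-- Every open set of points of a sheaf is the set of points of an open subsheaf. -/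
theorem exists_open_subsheaf {W : Set (Points F)} (hW : IsOpen W) :
    ∃ (X' : Sp S) (j : X' ⟶ F), RepWith @IsOpenImmersion j ∧ Set.range (Points.map j) = W := by
  have hs : Presheaf.IsSheaf (J S) (ptsSub W).toFunctor := by
    refine AlgSpPts.isSheaf_of_fibres (ptsSub W).ι F.property fun T ξ F' fst snd sq => ?_
    obtain ⟨fst₀, sq₀⟩ := exists_isPullback_ptsSub hW (ObjectProperty.homMk ξ : (yon S).obj T ⟶ F)
    exact (Presheaf.isSheaf_of_iso_iff (sq.isoIsPullback _ _ sq₀)).2 ((yon S).obj _).property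
  let X' : Sp S := ⟨(ptsSub W).toFunctor, hs⟩
  let j : X' ⟶ F := ObjectProperty.homMk (ptsSub W).ι
  have key : ∀ ⦃T : Over S⦄ (g : (yon S).obj T ⟶ F), ∃ fst : (yon S).obj _ ⟶ X',
      IsPullback fst ((yon S).map (Over.homMk (ptsOpen hW g).ι rfl :
        Over.mk ((ptsOpen hW g).ι ≫ T.hom) ⟶ T)) j g := by
    intro T g
    obtain ⟨fst, sq⟩ := exists_isPullback_ptsSub hW g
    exact ⟨ObjectProperty.homMk fst, IsPullback.of_map_of_faithful (sheafToPresheaf (J S) (Type (u + 1))) sq⟩
  have hj : RepWith @IsOpenImmersion j := repWith_of_squares fun T g => by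
    obtain ⟨fst, sq⟩ := key g
    exact ⟨_, fst, _, sq, inferInstanceAs (IsOpenImmersion (ptsOpen hW g).ι)⟩
  refine ⟨X', j, hj, Set.Subset.antisymm ?_ fun x hx => ?_⟩
  · rintro _ ⟨z, rfl⟩
    obtain ⟨T, g, t, -, rfl⟩ := exists_ofPt_eq z
    have := ((J S).uliftYonedaEquiv g).2
    have e : (J S).uliftYonedaEquiv (g ≫ j) = ((J S).uliftYonedaEquiv g).1 := by
      rw [GrothendieckTopology.uliftYonedaEquiv_comp]
      rfl
    rw [← e] at this
    rw [Points.map_ofPt]
    exact (mem_ptsSub_iff _).1 this t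
  · obtain ⟨T, g, t, -, rfl⟩ := exists_ofPt_eq x
    obtain ⟨fst, sq⟩ := key g
    obtain ⟨v, hv⟩ := (Scheme.Opens.range_ι (ptsOpen hW g)).symm.subset (hx : t ∈ (ptsOpen hW g : Set ↥T.left))
    refine ⟨Points.ofPt fst v, ?_⟩
    rw [map_ofPt_fst sq]
    exact congrArg (Points.ofPt g) hv

/-- A surjective fppf morphism onto an affine scheme is refined by one with affine source, through finitely many
affine opens. -/
theorem exists_affine_refinement {X Y : Scheme.{u}} (e : X ⟶ Y) [Flat e] [LocallyOfFinitePresentation e] [Surjective e] [IsAffine Y] :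
    ∃ (n : ℕ) (U : Fin n → X.Opens), (∀ i, IsAffineOpen (U i)) ∧ ∀ y, ∃ i, ∃ x ∈ U i, e x = y := by
  have hopen : IsOpenMap e := e.isOpenMap
  obtain ⟨t, ht⟩ := isCompact_univ.elim_finite_subcover (fun U : X.affineOpens => e '' (U.1 : Set ↥X))
    (fun U => hopen _ U.1.2) (fun y _ => by
      obtain ⟨x, rfl⟩ := e.surjective y
      obtain ⟨V, hV, hxV, -⟩ := exists_isAffineOpen_mem_and_subset (U := (⊤ : X.Opens)) (x := x) trivial
      exact Set.mem_iUnion.2 ⟨⟨V, hV⟩, x, hxV, rfl⟩)
  refine ⟨t.card, fun i => (t.equivFin.symm i).1.1, fun i => (t.equivFin.symm i).1.2, fun y => ?_⟩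
  obtain ⟨U, hU, hy⟩ := Set.mem_iUnion₂.1 (ht (Set.mem_univ y))
  obtain ⟨x, hx, hxy⟩ := hy
  exact ⟨t.equivFin ⟨U, hU⟩, x, by simpa using hx, hxy⟩

/-- An affine fppf covering of an affine scheme through the base change of a covering of the target. -/
theorem exists_affine_cover_lift {Z V : Over S} [IsAffine Z.left] {p : (yon S).obj V ⟶ G}
    (hp : RepWith fppf p) (g : (yon S).obj Z ⟶ G) :
    ∃ (Z' : Over S) (π : Z' ⟶ Z) (v : Z' ⟶ V), IsAffine Z'.left ∧ Flat π.left ∧ LocallyOfFinitePresentation π.left ∧ Surjective π.left ∧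
      (yon S).map π ≫ g = (yon S).map v ≫ p := by
  obtain ⟨⟨_, _⟩, _⟩ : fppf (hp.rep.snd g).left := hp.property_snd g
  obtain ⟨n, U, hU, hcov⟩ := exists_affine_refinement (hp.rep.snd g).left
  let X := hp.rep.pullback g
  let Uc : Scheme.{u} := ∐ fun i : ULift.{u} (Fin n) => (U i.down).toScheme
  have : ∀ i : ULift.{u} (Fin n), IsAffine (U i.down).toScheme := fun i => hU i.down
  let j : Uc ⟶ X.left := Sigma.desc fun i => (U i.down).ι
  have hje : Flat j ∧ LocallyOfFinitePresentation j :=
    ⟨IsZariskiLocalAtSource.sigmaDesc fun i => inferInstanceAs (Flat (U i.down).ι),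
      IsZariskiLocalAtSource.sigmaDesc fun i => inferInstanceAs (LocallyOfFinitePresentation (U i.down).ι)⟩
  obtain ⟨_, _⟩ := hje
  let Z' : Over S := Over.mk (j ≫ X.hom)
  let j' : Z' ⟶ X := CategoryTheory.Over.homMk j rfl
  refine ⟨Z', j' ≫ hp.rep.snd g, j' ≫ hp.rep.fst' g, inferInstanceAs (IsAffine Uc),
    inferInstanceAs (Flat (j ≫ (hp.rep.snd g).left)),
    inferInstanceAs (LocallyOfFinitePresentation (j ≫ (hp.rep.snd g).left)), ⟨fun z => ?_⟩, ?_⟩
  · obtain ⟨i, x, hx, hxz⟩ := hcov z
    refine ⟨Sigma.ι (fun i : ULift.{u} (Fin n) => (U i.down).toScheme) ⟨i⟩ ⟨x, hx⟩, ?_⟩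
    change (j ≫ (hp.rep.snd g).left) _ = z
    rw [← Scheme.Hom.comp_apply, ← Category.assoc, Sigma.ι_desc]
    exact hxz
  · rw [Functor.map_comp, Functor.map_comp, Category.assoc, Category.assoc, (hp.rep.isPullback' g).w]

/-- A property implying affineness descends along an fppf covering of the target. -/
theorem repWith_of_fppf_cover {P : MorphismProperty Scheme.{u}} [IsZariskiLocalAtTarget P]
    [P.DescendsAlong (@Surjective ⊓ @Flat ⊓ @QuasiCompact)] (hP : P ≤ @IsAffineHom) {V : Over S}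
    {p : (yon S).obj V ⟶ G} (hp : RepWith fppf p) {P₀ : Sp S} {fst : P₀ ⟶ F}
    {snd : P₀ ⟶ (yon S).obj V} (sq : IsPullback fst snd f p) (h : RepWith P snd) : RepWith P f :=
  repWith_of_affine_test fun Z hZ g => by
    have : IsAffine Z.left := hZ
    obtain ⟨Z', π, v, hZ', _, _, _, hπ⟩ := exists_affine_cover_lift hp g
    obtain ⟨W', i, fst', sq', _, hi⟩ := affine_test_of_repWith hP h hZ' ((yon S).map v)
    exact exists_affine_of_cover π g (sq := by rw [hπ]; exact sq'.paste_horiz sq) hi

/-- Representability of a morphism which, after an fppf covering of each scheme over the target, becomes a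
morphism with an affine property over an open subscheme. -/
theorem repWith_of_open_piece {P Q : MorphismProperty Scheme.{u}} [IsZariskiLocalAtTarget P]
    [P.IsStableUnderBaseChange]
    [P.DescendsAlong (@Surjective ⊓ @Flat ⊓ @QuasiCompact)] (hP : P ≤ @IsAffineHom) [Q.IsStableUnderBaseChange]
    (hQ : ∀ {X : Scheme.{u}} {Y : Scheme.{u}} (U : Y.Opens) (i : X ⟶ U.toScheme), P i → Q (i ≫ U.ι))
    {Q₀ : MorphismProperty Scheme.{u}} {V : Over S} {p : (yon S).obj V ⟶ G}
    (hp : RepWith fppf p) {P₀ : Sp S} {fst : P₀ ⟶ F}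
    {snd : P₀ ⟶ (yon S).obj V} (sq : IsPullback fst snd f p) (h : RepWith Q₀ snd)
    (hU : ∀ {W T' T : Scheme.{u}} (m : W ⟶ T') (e : T' ⟶ T) [Flat e] [LocallyOfFinitePresentation e] [Surjective e] (R : Set T),
      Q₀ m → Set.range m = e ⁻¹' R → ∃ U : T.Opens, R ⊆ U ∧ P (m ∣_ (e ⁻¹ᵁ U))) :
    RepWith Q f := by
  refine repWith_of_squares fun T g => ?_
  obtain ⟨⟨_, _⟩, _⟩ : fppf (hp.rep.snd g).left := hp.property_snd g
  let π := hp.rep.snd g
  let v := hp.rep.fst' g
  let m := h.rep.snd ((yon S).map v)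
  have sq₁ : IsPullback (h.rep.fst ((yon S).map v) ≫ fst) ((yon S).map m) f ((yon S).map π ≫ g) := by
    have := (h.rep.isPullback ((yon S).map v)).paste_horiz sq
    rwa [(hp.rep.isPullback' g).w] at this
  let lD : (yon S).obj (h.rep.pullback ((yon S).map v)) ⟶ pullback f g :=
    pullback.lift (h.rep.fst ((yon S).map v) ≫ fst) ((yon S).map m ≫ (yon S).map π) (by rw [sq₁.w, Category.assoc])
  have sqD : IsPullback lD ((yon S).map m) (pullback.snd f g) ((yon S).map π) := by
    refine IsPullback.of_right ?_ (pullback.lift_snd _ _ _) (IsPullback.of_hasPullback f g)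
    rw [pullback.lift_fst]
    exact sq₁
  let R : Set T.left := {t | ∃ x, Points.map (pullback.snd f g) x = Points.ofScheme T t}
  have hR : Set.range m.left = π.left ⁻¹' R := by
    ext t'
    constructor
    · rintro ⟨w, rfl⟩
      refine ⟨Points.map lD (Points.ofScheme _ w), ?_⟩
      rw [← Points.map_comp, sqD.w, Points.map_comp]
      exact (congrArg _ (Points.map_yon_map_apply m w)).trans (Points.map_yon_map_apply π _)
    · rintro ⟨x, hx⟩
      obtain ⟨z, -, hz⟩ := exists_point_of_isPullback sqD (x := x) (y := Points.ofScheme _ t')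
        (hx.trans (Points.map_yon_map_apply π _).symm)
      obtain ⟨w, rfl⟩ := (Points.schemeHomeo _).surjective z
      exact ⟨w, (Points.schemeHomeo _).injective ((Points.map_yon_map_apply _ _).symm.trans hz)⟩
  obtain ⟨U, hRU, hPU⟩ := hU m.left π.left R (h.property_snd _) hR
  obtain ⟨l, hl⟩ := exists_factor_of_points U (pullback.snd f g) fun x => by
    obtain ⟨t, ht⟩ := (Points.schemeHomeo T).surjective (Points.map (pullback.snd f g) x)
    exact ⟨t, hRU ⟨x, ht.symm⟩, ht.symm⟩
  let TU : Over S := Over.mk (U.ι ≫ T.hom)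
  let inc : TU ⟶ T := CategoryTheory.Over.homMk U.ι rfl
  have : Mono inc := (Over.forget S).mono_of_mono_map (inferInstanceAs (Mono U.ι))
  have : Mono ((yon S).map inc) := (yon S).map_mono inc
  let T'U : Over S := Over.mk ((π.left ⁻¹ᵁ U).ι ≫ (hp.rep.pullback g).hom)
  let inc' : T'U ⟶ hp.rep.pullback g := CategoryTheory.Over.homMk (π.left ⁻¹ᵁ U).ι rfl
  let πU : T'U ⟶ TU := CategoryTheory.Over.homMk (π.left ∣_ U) (by
    change _ ≫ U.ι ≫ T.hom = _ ≫ (hp.rep.pullback g).hom
    rw [← Category.assoc, (isPullback_morphismRestrict π.left U).w, Category.assoc, Over.w π])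
  let WU : Over S := Over.mk ((m.left ⁻¹ᵁ (π.left ⁻¹ᵁ U)).ι ≫ (h.rep.pullback ((yon S).map v)).hom)
  let mU : WU ⟶ T'U := CategoryTheory.Over.homMk (m.left ∣_ (π.left ⁻¹ᵁ U)) (by
    change _ ≫ (π.left ⁻¹ᵁ U).ι ≫ (hp.rep.pullback g).hom = _ ≫ (h.rep.pullback ((yon S).map v)).hom
    rw [← Category.assoc, (isPullback_morphismRestrict m.left _).w, Category.assoc, Over.w m])
  let k : WU ⟶ h.rep.pullback ((yon S).map v) := CategoryTheory.Over.homMk (m.left ⁻¹ᵁ (π.left ⁻¹ᵁ U)).ι rfl
  have sqπ : IsPullback inc' πU π inc :=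
    IsPullback.of_map (Over.forget S) (Over.OverMorphism.ext (isPullback_morphismRestrict π.left U).w.symm)
      (isPullback_morphismRestrict π.left U).flip
  have sqm : IsPullback k mU m inc' :=
    IsPullback.of_map (Over.forget S) (Over.OverMorphism.ext (isPullback_morphismRestrict m.left _).w.symm)
      (isPullback_morphismRestrict m.left _).flip
  -- the piece over `U` is the whole fibre product
  have sql : IsPullback (pullback.fst f g) l f ((yon S).map inc ≫ g) :=
    ⟨⟨by rw [← Category.assoc, hl, pullback.condition]⟩, ⟨PullbackCone.IsLimit.mk _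
      (fun s => pullback.lift s.fst (s.snd ≫ (yon S).map inc) (by rw [s.condition, Category.assoc]))
      (fun s => pullback.lift_fst _ _ _)
      (fun s => by rw [← cancel_mono ((yon S).map inc), Category.assoc, hl, pullback.lift_snd])
      (fun s t h₁ h₂ => by
        ext1
        · rw [pullback.lift_fst, h₁]
        · rw [pullback.lift_snd, ← hl, ← Category.assoc, h₂])⟩⟩
  have sqW : IsPullback ((yon S).map k ≫ h.rep.fst ((yon S).map v) ≫ fst) ((yon S).map mU) f
      ((yon S).map πU ≫ (yon S).map inc ≫ g) := by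
    have := (sqm.map (yon S)).paste_horiz sq₁
    rwa [← Functor.map_comp_assoc, sqπ.w, Functor.map_comp_assoc] at this
  have hw : ((yon S).map k ≫ h.rep.fst ((yon S).map v) ≫ fst) ≫ f =
      ((yon S).map mU ≫ (yon S).map πU) ≫ (yon S).map inc ≫ g := by rw [sqW.w, Category.assoc]
  obtain ⟨w, hw₁, hw₂⟩ : ∃ w, w ≫ pullback.fst f g = (yon S).map k ≫ h.rep.fst ((yon S).map v) ≫ fst ∧
      w ≫ l = (yon S).map mU ≫ (yon S).map πU :=
    ⟨sql.lift _ _ hw, sql.lift_fst _ _ _, sql.lift_snd _ _ _⟩
  rw [← hw₁] at sqW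
  have sqU : IsPullback w ((yon S).map mU) l ((yon S).map πU) := IsPullback.of_right sqW hw₂ sql
  have hπU : RepWith fppf ((yon S).map πU) := (repWith_yon_map_iff _ _).2
    ⟨⟨IsZariskiLocalAtTarget.restrict (P := @Surjective) ‹Surjective (hp.rep.snd g).left› U,
      IsZariskiLocalAtTarget.restrict (P := @Flat) ‹Flat (hp.rep.snd g).left› U⟩,
      IsZariskiLocalAtTarget.restrict (P := @LocallyOfFinitePresentation)
        ‹LocallyOfFinitePresentation (hp.rep.snd g).left› U⟩
  have hl' : RepWith P l := repWith_of_fppf_cover hP hπU sqU ((repWith_yon_map_iff _ _).2 hPU)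
  have sql' : IsPullback (hl'.rep.fst (𝟙 _) ≫ pullback.fst f g) ((yon S).map (hl'.rep.snd (𝟙 _) ≫ inc)) f g := by
    have : IsIso (hl'.rep.fst (𝟙 _)) := (hl'.rep.isPullback (𝟙 _)).isIso_fst_of_isIso
    refine (IsPullback.of_hasPullback f g).of_iso (asIso (hl'.rep.fst (𝟙 _))).symm (Iso.refl _) (Iso.refl _)
      (Iso.refl _) (by simp) ?_ (by simp) (by simp)
    have h1 := (hl'.rep.isPullback (𝟙 _)).w
    rw [Category.comp_id] at h1
    simp only [Iso.symm_hom, asIso_inv, Iso.refl_hom, Category.comp_id, Functor.map_comp]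
    rw [← hl, IsIso.eq_inv_comp]
    exact (reassoc_of% h1) _
  exact ⟨_, _, _, sql', hQ U _ (hl'.property_snd (𝟙 _))⟩

theorem isOpen_of_preimage {X Y : Scheme.{u}} (e : X ⟶ Y) [Flat e] [LocallyOfFinitePresentation e] [Surjective e] {R : Set Y}
    (h : IsOpen (e ⁻¹' R)) : IsOpen R := by
  rw [← Set.image_preimage_eq R e.surjective]
  exact e.isOpenMap _ h

theorem repWith_isOpenImmersion_of_fppf_cover (hp : RepWith fppf p)
    (sq : IsPullback fst snd f p) (h : RepWith @IsOpenImmersion snd) : RepWith @IsOpenImmersion f := by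
  refine repWith_of_open_piece (P := MorphismProperty.isomorphisms Scheme.{u})
    (fun _ _ e (_ : IsIso e) => inferInstanceAs (IsAffineHom e))
    (fun U i (_ : IsIso i) => inferInstanceAs (IsOpenImmersion (i ≫ U.ι))) hp sq h ?_
  intro W T' T m e _ _ _ R hm hR
  have : IsOpenImmersion m := hm
  have hRo : IsOpen R := isOpen_of_preimage e (hR ▸ m.opensRange.isOpen)
  refine ⟨⟨R, hRo⟩, subset_rfl, ?_⟩
  have : Surjective (m ∣_ e ⁻¹ᵁ ⟨R, hRo⟩) := ⟨fun ⟨x, hx⟩ => by
    obtain ⟨w, hw⟩ : x ∈ Set.range m := hR ▸ hx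
    refine ⟨⟨w, show m w ∈ e ⁻¹ᵁ ⟨R, hRo⟩ from hw ▸ hx⟩, Subtype.ext ?_⟩
    rw [morphismRestrict_base]; exact hw⟩
  exact (isIso_iff_isOpenImmersion_and_surjective _).2 ⟨inferInstance, this⟩

theorem exists_quasiAffine_descent {Z Z' : Over S} [IsAffine Z.left] [IsAffine Z'.left] (π : Z' ⟶ Z)
    [Flat π.left] [LocallyOfFinitePresentation π.left] [Surjective π.left] {W' : Over S} [W'.left.IsQuasiAffine] {P : Sp S}
    {q : P ⟶ (yon S).obj Z} {w : (yon S).obj W' ⟶ P} {i : W' ⟶ Z'}
    (sq : IsPullback w ((yon S).map i) q ((yon S).map π)) : ∃ Q : Over S, Nonempty ((yon S).obj Q ≅ P) := by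
  let k : W'.left ⟶ Z.left := i.left ≫ π.left
  let W'' : Over S := Over.mk (pullback.fst k π.left ≫ W'.hom)
  let p₁ : W'' ⟶ W' := CategoryTheory.Over.homMk (pullback.fst k π.left) rfl
  let r₂ : W'' ⟶ Z' := CategoryTheory.Over.homMk (pullback.snd k π.left) (by
    change pullback.snd k π.left ≫ Z'.hom = pullback.fst k π.left ≫ W'.hom
    rw [← Over.w π, ← pullback.condition_assoc]
    simp only [k, Category.assoc, Over.w π, Over.w i])
  have hwq : w ≫ q = (yon S).map (i ≫ π) := by rw [sq.w, Functor.map_comp]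
  have hrp : r₂ ≫ π = p₁ ≫ i ≫ π := Over.OverMorphism.ext pullback.condition.symm
  obtain ⟨p₂, hp₂, hp₂i⟩ : ∃ p₂ : W'' ⟶ W', (yon S).map p₂ ≫ w = (yon S).map p₁ ≫ w ∧ p₂ ≫ i = r₂ := by
    have h : ((yon S).map p₁ ≫ w) ≫ q = (yon S).map r₂ ≫ (yon S).map π := by
      rw [Category.assoc, hwq, ← Functor.map_comp, ← Functor.map_comp, hrp]
    refine ⟨(yon S).preimage (sq.lift _ _ h), ?_, (yon S).map_injective ?_⟩
    · rw [Functor.map_preimage, sq.lift_fst]
    · rw [Functor.map_comp, Functor.map_preimage, sq.lift_snd]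
  have hp₂k : p₂.left ≫ k = p₁.left ≫ k := by
    have := congrArg Over.Hom.left (show p₂ ≫ i ≫ π = p₁ ≫ i ≫ π by rw [← Category.assoc, hp₂i, hrp])
    exact this
  let k₂ : W''.left ⟶ Z.left := p₁.left ≫ k
  let W₃ : Over S := Over.mk (pullback.fst k₂ π.left ≫ W''.hom)
  let e₃ : W₃ ⟶ W'' := CategoryTheory.Over.homMk (pullback.fst k₂ π.left) rfl
  let d₁ : W₃ ⟶ W'' := CategoryTheory.Over.homMk (pullback.lift (e₃.left ≫ p₁.left) (pullback.snd k₂ π.left)
      (by rw [Category.assoc]; exact pullback.condition)) (by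
    change pullback.lift _ _ _ ≫ pullback.fst k π.left ≫ W'.hom = e₃.left ≫ W''.hom
    rw [pullback.lift_fst_assoc, Category.assoc, Over.w p₁])
  let d₂ : W₃ ⟶ W'' := CategoryTheory.Over.homMk (pullback.lift (e₃.left ≫ p₂.left) (pullback.snd k₂ π.left)
      (by rw [Category.assoc, hp₂k]; exact pullback.condition)) (by
    change pullback.lift _ _ _ ≫ pullback.fst k π.left ≫ W'.hom = e₃.left ≫ W''.hom
    rw [pullback.lift_fst_assoc, Category.assoc, Over.w p₂])
  let σ : W' ⟶ W'' := CategoryTheory.Over.homMk (pullback.lift (𝟙 W'.left) i.left (by simp [k])) (by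
    change pullback.lift _ _ _ ≫ pullback.fst k π.left ≫ W'.hom = W'.hom
    rw [pullback.lift_fst_assoc, Category.id_comp])
  have hext : ∀ {T : Over S} (a b : T ⟶ W'), (yon S).map a ≫ w = (yon S).map b ≫ w → a ≫ i = b ≫ i → a = b :=
    fun a b h₁ h₂ => (yon S).map_injective (sq.hom_ext h₁ (by rw [← Functor.map_comp, ← Functor.map_comp, h₂]))
  have hσ : σ ≫ p₂ = 𝟙 W' := hext _ _ (by
    rw [Functor.map_comp, Category.assoc, hp₂, ← Functor.map_comp_assoc]
    congr 2
    exact Over.OverMorphism.ext (pullback.lift_fst _ _ _)) (by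
    rw [Category.assoc, hp₂i, Category.id_comp]
    exact Over.OverMorphism.ext (pullback.lift_snd _ _ _))
  have hd : d₁ ≫ p₂ = d₂ ≫ p₂ := hext _ _ (by
    have e1 : d₁ ≫ p₁ = e₃ ≫ p₁ := Over.OverMorphism.ext (pullback.lift_fst _ _ _)
    have e2 : d₂ ≫ p₁ = e₃ ≫ p₂ := Over.OverMorphism.ext (pullback.lift_fst _ _ _)
    rw [Functor.map_comp, Functor.map_comp, Category.assoc, Category.assoc, hp₂, ← Functor.map_comp_assoc,
      ← Functor.map_comp_assoc, e1, e2, Functor.map_comp, Functor.map_comp, Category.assoc, Category.assoc, hp₂]) (by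
    rw [Category.assoc, Category.assoc, hp₂i]
    exact Over.OverMorphism.ext ((pullback.lift_snd _ _ _).trans (pullback.lift_snd _ _ _).symm))
  have : IsAffineHom p₁.left := MorphismProperty.pullback_fst _ _ (show IsAffineHom π.left from inferInstance)
  have : W''.left.IsQuasiAffine := Scheme.IsQuasiAffine.of_isAffineHom p₁.left
  obtain ⟨C, c, iC, hcC, hiC, hpo⟩ := exists_affine_form π.left i.left p₁.left p₂.left r₂.left e₃.left d₁.left
    d₂.left (pullback.snd k₂ π.left) σ.left (IsPullback.of_hasPullback k π.left)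
    (IsPullback.of_hasPullback k₂ π.left) (congrArg Over.Hom.left hp₂i) (pullback.lift_fst _ _ _)
    (pullback.lift_fst _ _ _) (pullback.lift_snd _ _ _) (pullback.lift_snd _ _ _) (congrArg Over.Hom.left hσ)
    (congrArg Over.Hom.left hd)
  let Y : Over S := Over.mk ((Spec.map c ≫ Z.left.isoSpec.inv) ≫ Z.hom)
  let tY : Y ⟶ Z := CategoryTheory.Over.homMk (Spec.map c ≫ Z.left.isoSpec.inv) rfl
  have hnat : ∀ {X : Scheme.{u}} (f : X ⟶ Z.left), X.toSpecΓ ≫ Spec.map f.appTop ≫ Z.left.isoSpec.inv = f :=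
    fun f => by rw [← Scheme.toSpecΓ_naturality_assoc]; simp [Scheme.isoSpec]
  let u₀ : W'.left ⟶ Spec C := W'.left.toSpecΓ ≫ Spec.map iC
  have hu₀ : u₀ ≫ Spec.map c ≫ Z.left.isoSpec.inv = k := by
    change (W'.left.toSpecΓ ≫ Spec.map iC) ≫ _ = _
    rw [Category.assoc, ← Spec.map_comp_assoc, hcC, hnat]
  let u : W' ⟶ Y := CategoryTheory.Over.homMk u₀ (by
    change u₀ ≫ (Spec.map c ≫ Z.left.isoSpec.inv) ≫ Z.hom = W'.hom
    rw [← Category.assoc, hu₀]
    simp [k, Over.w π, Over.w i])
  have hu : p₁ ≫ u = p₂ ≫ u := Over.OverMorphism.ext (by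
    change p₁.left ≫ W'.left.toSpecΓ ≫ Spec.map iC = p₂.left ≫ W'.left.toSpecΓ ≫ Spec.map iC
    rw [Scheme.toSpecΓ_naturality_assoc, Scheme.toSpecΓ_naturality_assoc, ← Spec.map_comp, ← Spec.map_comp, hiC])
  -- descend the map to it
  have hwf : RepWith fppf w := repWith_of_isPullback sq.flip ((repWith_yon_map_iff _ _).2 (fppf_of π.left))
  have := isLocallySurjective_of_repWith hwf
  have : Epi w := Sheaf.epi_of_isLocallySurjective w
  let hreg : RegularEpi w := (IsRegularEpiCategory.regularEpiOfEpi w).regularEpi.some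
  have hpair : hreg.left ≫ (yon S).map u = hreg.right ≫ (yon S).map u := by
    apply Sheaf.hom_ext
    ext T s
    let t : (yon S).obj T.unop ⟶ hreg.W := (J S).uliftYonedaEquiv.{u + 1}.symm s
    have key : (t ≫ hreg.left) ≫ (yon S).map u = (t ≫ hreg.right) ≫ (yon S).map u := by
      obtain ⟨a, ha⟩ := (yon S).map_surjective (t ≫ hreg.left)
      obtain ⟨b, hb⟩ := (yon S).map_surjective (t ≫ hreg.right)
      rw [← ha, ← hb]
      have hab : (yon S).map a ≫ w = (yon S).map b ≫ w := by rw [ha, hb, Category.assoc, Category.assoc, hreg.w]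
      have hk : a ≫ i ≫ π = (b ≫ i) ≫ π := (yon S).map_injective (by
        rw [Functor.map_comp, ← hwq, ← Category.assoc, hab, Category.assoc, hwq, ← Functor.map_comp,
          Category.assoc])
      let z : T.unop ⟶ W'' := CategoryTheory.Over.homMk (pullback.lift a.left (b ≫ i).left (congrArg Over.Hom.left hk)) (by
        change pullback.lift _ _ _ ≫ pullback.fst k π.left ≫ W'.hom = _
        rw [pullback.lift_fst_assoc, Over.w a])
      have hz₁ : z ≫ p₁ = a := Over.OverMorphism.ext (pullback.lift_fst _ _ _)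
      have hz₂ : z ≫ p₂ = b := hext _ _ (by
        rw [Functor.map_comp, Category.assoc, hp₂, ← Functor.map_comp_assoc, hz₁, hab]) (by
        rw [Category.assoc, hp₂i]; exact Over.OverMorphism.ext (pullback.lift_snd _ _ _))
      rw [← Functor.map_comp, ← Functor.map_comp, ← hz₁, ← hz₂, Category.assoc, Category.assoc, hu]
    have h2 := congrArg (J S).uliftYonedaEquiv.{u + 1} key
    rwa [Category.assoc, Category.assoc, GrothendieckTopology.uliftYonedaEquiv_comp,
      GrothendieckTopology.uliftYonedaEquiv_comp, Equiv.apply_symm_apply] at h2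
  obtain ⟨G, hG⟩ := hreg.desc' ((yon S).map u) hpair
  -- after base change it is the canonical open immersion
  let pb := pullback.fst tY.left π.left
  let Y' : Over S := Over.mk (pb ≫ Y.hom)
  let pr : Y' ⟶ Y := CategoryTheory.Over.homMk pb rfl
  let pz : Y' ⟶ Z' := CategoryTheory.Over.homMk (pullback.snd tY.left π.left) (by
    change pullback.snd tY.left π.left ≫ Z'.hom = pullback.fst tY.left π.left ≫ Y.hom
    rw [← Over.w π, ← Over.w tY, pullback.condition_assoc])
  have sqY : IsPullback pr pz tY π :=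
    IsPullback.of_map (Over.forget S) (Over.OverMorphism.ext pullback.condition)
      (IsPullback.of_hasPullback tY.left π.left)
  have hut : u ≫ tY = i ≫ π := Over.OverMorphism.ext hu₀
  obtain ⟨j, hj₁, hj₂⟩ : ∃ j : W' ⟶ Y', j ≫ pr = u ∧ j ≫ pz = i :=
    ⟨sqY.lift u i hut, sqY.lift_fst _ _ _, sqY.lift_snd _ _ _⟩
  have hGq : G ≫ (yon S).map tY = q := by
    rw [← cancel_epi w, ← Category.assoc, hG, ← Functor.map_comp, hut, hwq]
  have sqW : IsPullback w ((yon S).map j) G ((yon S).map pr) :=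
    IsPullback.of_bot (by
      rw [hGq, ← Functor.map_comp, hj₂]
      exact sq) (by rw [hG, ← Functor.map_comp, hj₁]) (sqY.map (yon S))
  have hjo : RepWith @IsOpenImmersion ((yon S).map j) := (repWith_yon_map_iff _ _).2
    (isOpenImmersion_of_affine_form hpo (IsPullback.of_hasPullback tY.left π.left)
      (congrArg Over.Hom.left hj₁) (congrArg Over.Hom.left hj₂))
  have : Flat pr.left := MorphismProperty.pullback_fst _ _ ‹Flat π.left›
  have : LocallyOfFinitePresentation pr.left :=
    MorphismProperty.pullback_fst _ _ ‹LocallyOfFinitePresentation π.left›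
  have : Surjective pr.left := MorphismProperty.pullback_fst _ _ ‹Surjective π.left›
  have hGo : RepWith @IsOpenImmersion G := repWith_isOpenImmersion_of_fppf_cover
    ((repWith_yon_map_iff _ _).2 (fppf_of pr.left)) sqW hjo
  have := (hGo.rep.isPullback (𝟙 _)).isIso_fst_of_isIso
  exact ⟨_, ⟨asIso (hGo.rep.fst (𝟙 _))⟩⟩


/-- The case of an affine base. -/
theorem exists_rep_of_lqf_cover_affine {T T' W : Over S} [IsAffine T.left] {P : Sp S} {q : P ⟶ (yon S).obj T}
    (e : T' ⟶ T) [Flat e.left] [LocallyOfFinitePresentation e.left] [Surjective e.left] {w : (yon S).obj W ⟶ P} {i : W ⟶ T'}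
    [LocallyOfFiniteType i.left] [IsSeparated i.left] [LocallyQuasiFinite i.left] (sq : IsPullback w ((yon S).map i) q ((yon S).map e)) :
    ∃ Q : Over S, Nonempty ((yon S).obj Q ≅ P) := by
  obtain ⟨Z, π, v, hZ, hπe, hπp, hπs, hv⟩ := exists_affine_cover_lift (p := (yon S).map e)
    ((repWith_yon_map_iff _ _).2 (fppf_of e.left)) (𝟙 ((yon S).obj T))
  rw [Category.comp_id, ← Functor.map_comp] at hv
  obtain rfl := (yon S).map_injective hv
  let R : Over S := Over.mk (pullback.fst i.left v.left ≫ W.hom)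
  let r₁ : R ⟶ W := CategoryTheory.Over.homMk (pullback.fst i.left v.left) rfl
  let r₂ : R ⟶ Z := CategoryTheory.Over.homMk (pullback.snd i.left v.left) (by
    change _ = pullback.fst i.left v.left ≫ W.hom
    rw [← Over.w v, ← Over.w i, pullback.condition_assoc])
  have sqr : IsPullback r₁ r₂ i v :=
    IsPullback.of_map (Over.forget S) (Over.OverMorphism.ext pullback.condition) (IsPullback.of_hasPullback i.left v.left)
  have sqR : IsPullback ((yon S).map r₁ ≫ w) ((yon S).map r₂) q ((yon S).map (v ≫ e)) := by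
    rw [Functor.map_comp]
    exact (sqr.map (yon S)).paste_horiz sq
  have : LocallyOfFiniteType r₂.left := MorphismProperty.pullback_snd _ _ ‹LocallyOfFiniteType i.left›
  have : IsSeparated r₂.left := MorphismProperty.pullback_snd _ _ ‹IsSeparated i.left›
  have : LocallyQuasiFinite r₂.left := MorphismProperty.pullback_snd _ _ ‹LocallyQuasiFinite i.left›
  let wR : (yon S).obj R ⟶ P := (yon S).map r₁ ≫ w
  have : Flat (v ≫ e).left := inferInstanceAs (Flat (v.left ≫ e.left))
  have : LocallyOfFinitePresentation (v ≫ e).left := inferInstanceAs (LocallyOfFinitePresentation (v.left ≫ e.left))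
  have : Surjective (v ≫ e).left := inferInstanceAs (Surjective (v.left ≫ e.left))
  have hwf : RepWith fppf wR :=
    repWith_of_isPullback sqR.flip ((repWith_yon_map_iff _ _).2 (fppf_of (v ≫ e).left))
  have hws : RepWith @Surjective wR := repWith_mono (fun _ _ _ h => h.1.1) _ hwf
  have hopen : ∀ O : R.left.affineOpens, IsOpen (Points.ofPt wR '' (O.1 : Set ↥R.left)) :=
    fun O => isOpenMap_ofPt hwf _ O.1.2
  choose X' j hj hrange using fun O => exists_open_subsheaf (hopen O)
  have hpiece : ∀ O, ∃ Q : Over S, Nonempty ((yon S).obj Q ≅ X' O) := fun O => by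
    let V := (hj O).rep.pullback wR
    let s := (hj O).rep.snd wR
    have : IsOpenImmersion s.left := (hj O).property_snd _
    have : IsAffineHom (v ≫ e).left := inferInstance
    -- the saturation of an affine open is quasi-compact
    let K : Scheme.{u} := pullback (r₂ ≫ v ≫ e).left (v ≫ e).left
    let KO : Over S := Over.mk (pullback.fst (r₂ ≫ v ≫ e).left (v ≫ e).left ≫ R.hom)
    let c₁ : KO ⟶ R := CategoryTheory.Over.homMk (pullback.fst _ _) rfl
    let c₂ : KO ⟶ Z := CategoryTheory.Over.homMk (pullback.snd (r₂ ≫ v ≫ e).left (v ≫ e).left) (by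
      change pullback.snd (r₂ ≫ v ≫ e).left (v ≫ e).left ≫ Z.hom = pullback.fst _ _ ≫ R.hom
      rw [← Over.w (r₂ ≫ v ≫ e), ← Over.w (v ≫ e), pullback.condition_assoc])
    have hc : ((yon S).map c₁ ≫ wR) ≫ q = (yon S).map c₂ ≫ (yon S).map (v ≫ e) := by
      rw [Category.assoc, sqR.w, ← Functor.map_comp, ← Functor.map_comp, ← Functor.map_comp]
      congr 1
      exact Over.OverMorphism.ext pullback.condition
    obtain ⟨c, hc₁, hc₂⟩ : ∃ c : KO ⟶ R, (yon S).map c ≫ wR = (yon S).map c₁ ≫ wR ∧ c ≫ r₂ = c₂ :=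
      ⟨(yon S).preimage (sqR.lift _ _ hc), by rw [Functor.map_preimage, sqR.lift_fst], (yon S).map_injective (by
        rw [Functor.map_comp, Functor.map_preimage, sqR.lift_snd])⟩
    have sqKK : IsPullback ((yon S).map c₁) ((yon S).map c) wR wR := by
      refine IsPullback.of_bot ?_ hc₁.symm sqR
      rw [sqR.w, ← Functor.map_comp, ← Functor.map_comp, hc₂]
      have sqKO : IsPullback c₁ c₂ (r₂ ≫ v ≫ e) (v ≫ e) :=
        IsPullback.of_map (Over.forget S) (Over.OverMorphism.ext pullback.condition)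
          (IsPullback.of_hasPullback (r₂ ≫ v ≫ e).left (v ≫ e).left)
      exact sqKO.map (yon S)
    have hset : Set.range s.left = c.left '' (c₁.left ⁻¹' (O.1 : Set ↥R.left)) := by
      ext x
      constructor
      · rintro ⟨y, rfl⟩
        have h1 : Points.ofPt wR (s.left y) ∈ Points.ofPt wR '' (O.1 : Set ↥R.left) := by
          rw [← hrange O]
          exact ⟨_, map_ofPt_fst ((hj O).rep.isPullback wR) y⟩
        obtain ⟨o, ho, hoy⟩ := h1
        obtain ⟨z, hz₁, hz₂⟩ := exists_ofPt_of_eq sqKK hoy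
        exact ⟨z, show c₁.left z ∈ O.1 by rw [hz₁]; exact ho, hz₂⟩
      · rintro ⟨z, hz, rfl⟩
        have h1 : Points.ofPt wR (c.left z) ∈ Set.range (Points.map (j O)) := by
          rw [hrange O]
          exact ⟨c₁.left z, hz, by rw [← ofPt_comp, ← ofPt_comp, hc₁]⟩
        obtain ⟨x, hx⟩ := h1
        obtain ⟨p, -, hp⟩ := exists_point_of_isPullback ((hj O).rep.isPullback wR) (x := x)
          (y := Points.ofScheme R (c.left z)) (hx.trans (Points.ofPt_eq_map_ofScheme _ _))
        obtain ⟨y, rfl⟩ := (Points.schemeHomeo _).surjective p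
        exact ⟨y, (Points.schemeHomeo R).injective ((Points.map_yon_map_apply s y).symm.trans hp)⟩
    have : CompactSpace ↥V.left := by
      have h1 : IsCompact (c₁.left ⁻¹' (O.1 : Set ↥R.left)) := by
        have : QuasiCompact c₁.left := MorphismProperty.pullback_fst _ _ (show QuasiCompact (v ≫ e).left from inferInstance)
        exact c₁.left.isCompact_preimage O.2.isCompact
      exact ⟨s.left.isOpenEmbedding.isEmbedding.isInducing.isCompact_iff.2 (by
        rw [Set.image_univ, hset]; exact h1.image c.left.continuous)⟩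
    have : V.left.IsQuasiAffine := Groth.Agent.MorLib.IQA.qa_of_locallyQuasiFinite (s.left ≫ r₂.left)
    exact exists_quasiAffine_descent (v ≫ e) (W' := V) (i := s ≫ r₂)
      (q := j O ≫ q) (by
        have := ((hj O).rep.isPullback wR).paste_vert sqR
        rwa [← Functor.map_comp] at this)
  choose Q hQ using hpiece
  have hc : ∀ x, ∃ O t, Points.ofPt ((hQ O).some.hom ≫ j O) t = x := fun x => by
    obtain ⟨r, rfl⟩ := surjective_ofPt hws x
    obtain ⟨O, hO, hrO, -⟩ := exists_isAffineOpen_mem_and_subset (U := (⊤ : R.left.Opens)) (x := r) trivial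
    have h1 : Points.ofPt wR r ∈ Set.range (Points.map (j ⟨O, hO⟩)) := by
      rw [hrange]; exact ⟨r, hrO, rfl⟩
    obtain ⟨y, hy⟩ := h1
    obtain ⟨t, ht⟩ := (Points.schemeHomeo _).surjective (Points.map (hQ ⟨O, hO⟩).some.inv y)
    refine ⟨⟨O, hO⟩, t, ?_⟩
    rw [← hy, Points.ofPt_eq_map_ofScheme, Points.map_comp]
    change Points.map _ (Points.map _ ((Points.schemeHomeo _) t)) = _
    rw [ht, ← Points.map_comp _ _ y, Iso.inv_hom_id]
    congr 1
    induction y using Points.ind with
    | h p => rfl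
  obtain ⟨Q', hQ', -⟩ := exists_iso_of_open_cover Q (fun O => (hQ O).some.hom ≫ j O)
    (fun O => repWith_comp (repWith_of_isIso @IsOpenImmersion _) (hj O)) hc
  exact ⟨Q', hQ'⟩

/-- A sheaf over a scheme which, after an fppf covering, is separated locally quasi-finite,
has a scheme as source. -/
theorem exists_rep_of_lqf_cover {T T' W : Over S} {P : Sp S} {q : P ⟶ (yon S).obj T} (e : T' ⟶ T)
    [Flat e.left] [LocallyOfFinitePresentation e.left] [Surjective e.left] {w : (yon S).obj W ⟶ P} {i : W ⟶ T'} [LocallyOfFiniteType i.left]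
    [IsSeparated i.left] [LocallyQuasiFinite i.left] (sq : IsPullback w ((yon S).map i) q ((yon S).map e)) : ∃ Q : Over S, Nonempty ((yon S).obj Q ≅ P) := by
  have hpiece : ∀ U : T.left.affineOpens, ∃ (Q : Over S) (j : (yon S).obj Q ⟶ P), RepWith @IsOpenImmersion j ∧
      ∀ (x : Points P) (t : ↥U.1), Points.map q x = Points.ofScheme T (U.1.ι t) → ∃ v, Points.ofPt j v = x := by
    intro U
    let TU : Over S := Over.mk (U.1.ι ≫ T.hom)
    let inc : TU ⟶ T := CategoryTheory.Over.homMk U.1.ι rfl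
    have : IsAffine TU.left := U.2
    let T'U : Over S := Over.mk ((e.left ⁻¹ᵁ U.1).ι ≫ T'.hom)
    let inc' : T'U ⟶ T' := CategoryTheory.Over.homMk (e.left ⁻¹ᵁ U.1).ι rfl
    let eU : T'U ⟶ TU := CategoryTheory.Over.homMk (e.left ∣_ U.1) (by
      change _ ≫ U.1.ι ≫ T.hom = _ ≫ T'.hom
      rw [← Category.assoc, (isPullback_morphismRestrict e.left U.1).w, Category.assoc, Over.w e])
    let WU : Over S := Over.mk ((i.left ⁻¹ᵁ (e.left ⁻¹ᵁ U.1)).ι ≫ W.hom)
    let iU : WU ⟶ T'U := CategoryTheory.Over.homMk (i.left ∣_ (e.left ⁻¹ᵁ U.1)) (by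
      change _ ≫ (e.left ⁻¹ᵁ U.1).ι ≫ T'.hom = _ ≫ W.hom
      rw [← Category.assoc, (isPullback_morphismRestrict i.left _).w, Category.assoc, Over.w i])
    let k : WU ⟶ W := CategoryTheory.Over.homMk (i.left ⁻¹ᵁ (e.left ⁻¹ᵁ U.1)).ι rfl
    have : Flat eU.left := IsZariskiLocalAtTarget.restrict (P := @Flat) ‹Flat e.left› U.1
    have : LocallyOfFinitePresentation eU.left :=
      IsZariskiLocalAtTarget.restrict (P := @LocallyOfFinitePresentation) ‹LocallyOfFinitePresentation e.left› U.1
    have : Surjective eU.left := IsZariskiLocalAtTarget.restrict (P := @Surjective) ‹Surjective e.left› U.1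
    have : LocallyOfFiniteType iU.left :=
      IsZariskiLocalAtTarget.restrict (P := @LocallyOfFiniteType) ‹LocallyOfFiniteType i.left› _
    have : IsSeparated iU.left :=
      IsZariskiLocalAtTarget.restrict (P := @IsSeparated) ‹IsSeparated i.left› _
    have : LocallyQuasiFinite iU.left :=
      IsZariskiLocalAtTarget.restrict (P := @LocallyQuasiFinite) ‹LocallyQuasiFinite i.left› _
    have sqe : IsPullback inc' eU e inc :=
      IsPullback.of_map (Over.forget S) (Over.OverMorphism.ext (isPullback_morphismRestrict e.left U.1).w.symm)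
        (isPullback_morphismRestrict e.left U.1).flip
    have sqi : IsPullback k iU i inc' :=
      IsPullback.of_map (Over.forget S) (Over.OverMorphism.ext (isPullback_morphismRestrict i.left _).w.symm)
        (isPullback_morphismRestrict i.left _).flip
    have sq₁ := (sqi.map (yon S)).paste_horiz sq
    rw [← Functor.map_comp, sqe.w, Functor.map_comp] at sq₁
    have hw : ((yon S).map k ≫ w) ≫ q = ((yon S).map iU ≫ (yon S).map eU) ≫ (yon S).map inc := by
      rw [sq₁.w, Category.assoc]
    let w' : (yon S).obj WU ⟶ pullback q ((yon S).map inc) := pullback.lift _ _ hw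
    have sqU : IsPullback w' ((yon S).map iU) (pullback.snd q ((yon S).map inc)) ((yon S).map eU) := by
      refine IsPullback.of_right ?_ (pullback.lift_snd _ _ _) (IsPullback.of_hasPullback _ _)
      rw [pullback.lift_fst]
      exact sq₁
    obtain ⟨Q, ⟨φ⟩⟩ := exists_rep_of_lqf_cover_affine eU sqU
    refine ⟨Q, φ.hom ≫ pullback.fst q ((yon S).map inc), repWith_comp (repWith_of_isIso @IsOpenImmersion φ.hom)
      (repWith_of_isPullback (IsPullback.of_hasPullback q ((yon S).map inc)).flip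
        ((repWith_yon_map_iff _ _).2 (inferInstanceAs (IsOpenImmersion U.1.ι)))), fun x t hx => ?_⟩
    obtain ⟨z, hz, -⟩ := exists_point_of_isPullback (IsPullback.of_hasPullback q ((yon S).map inc)) (x := x)
      (y := Points.ofScheme TU t) (hx.trans (Points.map_yon_map_apply inc _).symm)
    obtain ⟨v, hv⟩ := (Points.schemeHomeo Q).surjective (Points.map φ.inv z)
    refine ⟨v, ?_⟩
    rw [Points.ofPt_eq_map_ofScheme, Points.map_comp]
    change Points.map _ (Points.map _ ((Points.schemeHomeo _) v)) = _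
    rw [hv, ← Points.map_comp _ _ z, Iso.inv_hom_id, ← Points.map_comp, Category.id_comp, hz]
  choose Q j hj hv using hpiece
  obtain ⟨Q', hQ', -⟩ := exists_iso_of_open_cover Q j hj fun x => by
    obtain ⟨t, ht⟩ := (Points.schemeHomeo T).surjective (Points.map q x)
    obtain ⟨U, hU, htU, -⟩ := exists_isAffineOpen_mem_and_subset (U := (⊤ : T.left.Opens)) (x := t) trivial
    exact ⟨⟨U, hU⟩, hv ⟨U, hU⟩ x ⟨t, htU⟩ ht.symm⟩
  exact ⟨Q', hQ'⟩

/-- A monomorphism into a scheme which, after an fppf covering, is a morphism of schemes locally of finite type,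
has a scheme as source. -/
theorem exists_rep_of_mono {T T' W : Over S} {P : Sp S} {q : P ⟶ (yon S).obj T} [Mono q] (e : T' ⟶ T)
    [Flat e.left] [LocallyOfFinitePresentation e.left] [Surjective e.left] {w : (yon S).obj W ⟶ P} {i : W ⟶ T'}
    [LocallyOfFiniteType i.left] (sq : IsPullback w ((yon S).map i) q ((yon S).map e)) :
    ∃ Q : Over S, Nonempty ((yon S).obj Q ≅ P) := by
  have : Mono i.left := by
    have h1 : Mono ((yon S).map i) := MorphismProperty.of_isPullback
      (P := MorphismProperty.monomorphisms (Sp S)) sq ‹Mono q›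
    have : Mono i := (yon S).mono_of_mono_map h1
    exact inferInstanceAs (Mono ((Over.forget S).map i))
  exact exists_rep_of_lqf_cover e sq

end Groth.Agent.AlgSpDec.Fppf
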