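import Groth.Agent.AlgSpDec.Cofan
import Groth.Agent.AlgSpDec.ZarCover
import Groth.Agent.AlgSpPts.RepByDiag
import Groth.Agent.S9876
import Mathlib.AlgebraicGeometry.Morphisms.ClosedImmersion

/-!
# Sheaves covered by open algebraic subspaces, and coproducts of algebraic spaces
-/

set_option backward.isDefEq.respectTransparency false
set_option backward.isDefEq.respectTransparency.types false

universe u

open CategoryTheory Limits Opposite AlgebraicGeometry AlgSp Groth.Agent.AlgSpLib Groth.Agent.AlgSpPts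

namespace Groth.Agent.AlgSpDec

variable {S : Scheme.{u}} {ι : Type u}

/-- A covering sieve of a nonempty scheme has a member with nonempty domain. -/
theorem exists_nonempty_mem {T : Over S} [Nonempty ↥T.left] {R : Sieve T} (hR : R ∈ J S T) :
    ∃ (T' : Over S) (φ : T' ⟶ T), R φ ∧ Nonempty ↥T'.left := by
  by_contra hne
  have he : ∀ ⦃T' : Over S⦄ (φ : T' ⟶ T), R φ → IsEmpty ↥T'.left := fun T' φ hφ =>
    ⟨fun z => hne ⟨T', φ, hφ, ⟨z⟩⟩⟩
  let two : ULift.{u} Bool → Over S := fun _ => T
  have h := hom_ext_of_covering ((yon S).map (sigmaι two ⟨true⟩)) ((yon S).map (sigmaι two ⟨false⟩)) hR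
    fun T' φ hφ => by
      have := he φ hφ
      exact hom_ext_of_isEmpty _ _
  obtain ⟨t⟩ := ‹Nonempty ↥T.left›
  have h2 := congrArg ULift.down (sigmaι_injective two (i := ⟨true⟩) (j := ⟨false⟩) (v := t) (w := t)
    (congrArg (fun f : T ⟶ sigmaOver two => f.left t) ((yon S).map_injective h)))
  exact Bool.noConfusion h2

/-- Maps which cover locally cover points. -/
theorem exists_mem_range_of_covering {F : Sp S} {Y : ι → Sp S} (j : ∀ i, Y i ⟶ F)
    (h : ∀ ⦃T : Over S⦄ (t : (yon S).obj T ⟶ F), ∃ R ∈ J S T, ∀ ⦃T' : Over S⦄ (φ : T' ⟶ T), R φ →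
      ∃ i, ∃ s : (yon S).obj T' ⟶ Y i, s ≫ j i = (yon S).map φ ≫ t) (x : Points F) :
    ∃ i, x ∈ Set.range (Points.map (j i)) := by
  induction x using Points.ind with
  | h p =>
    obtain ⟨R, hR, hR'⟩ := h p.toHom
    have : Nonempty ↥(Over.mk p.str).left := ⟨IsLocalRing.closedPoint p.K⟩
    obtain ⟨T', φ, hφ, ⟨z⟩⟩ := exists_nonempty_mem hR
    obtain ⟨i, s, hs⟩ := hR' φ hφ
    refine ⟨i, Points.ofPt s z, ?_⟩
    rw [Points.map_ofPt, hs, ofPt_comp, mk_eq_ofPt]
    congr 1
    have : Subsingleton ↥(Spec (CommRingCat.of p.K)) := inferInstanceAs (Subsingleton (PrimeSpectrum p.K))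
    exact @Subsingleton.elim ↥(Spec (CommRingCat.of p.K)) _ _ _

/-- A sheaf mapping representably to an algebraic space is an algebraic space. -/
theorem isAlgSpace_of_representable {X G : Sp S} (hX : IsAlgSpace X) (j : G ⟶ X) (hj : Representable j) :
    IsAlgSpace G :=
  (isAlgSpaceP_obj_iff G).1 (S9876.result S ⟨X, hX⟩ G.obj j.hom (fun T ξ => by
    obtain ⟨T', p, fst, hsq⟩ := hj (ObjectProperty.homMk ξ : (yon S).obj T ⟶ X)
    exact ⟨T', p, fst.hom, hsq.map (sheafToPresheaf (J S) (Type (u + 1)))⟩))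

/-- A sheaf covered by open algebraic subspaces is an algebraic space. -/
theorem isAlgSpace_of_zarCover {F : Sp S} {Y : ι → Sp S} {j : ∀ i, Y i ⟶ F} (hj : IsZarCover Y j)
    (hY : ∀ i, IsAlgSpace (Y i)) : IsAlgSpace F := by
  have hmap : ∀ ⦃T : Over S⦄ (a : (yon S).obj T ⟶ F), Representable a := fun T a => by
    refine representable_of_zarCover (X := fun i => (yon S).obj ((hj.1 i).rep.pullback a)) hj
      (p := fun i => (yon S).map ((hj.1 i).rep.snd a)) (q := fun i => (hj.1 i).rep.fst a)
      (fun i => ((hj.1 i).rep.isPullback a).flip) fun i => (hY i).representable_from_yon _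
  have hdiag : Representable (Limits.diag F) := Functor.relativelyRepresentable.diag_iff.2 hmap
  refine ⟨hdiag, ?_⟩
  choose U b hb hbs using fun i => (hY i).atlas
  obtain ⟨p, hp⟩ := exists_hom_sigma U fun i => b i ≫ j i
  have hbj : ∀ i, RepWith @Etale (b i ≫ j i) := fun i =>
    repWith_comp (hb i) (repWith_mono (fun _ _ e (_ : IsOpenImmersion e) => inferInstanceAs (Etale e)) _ (hj.1 i))
  refine ⟨sigmaOver U, p, ⟨hmap p, fun V W g fst snd sq => ?_⟩, repWith_surjective_of_surjective (hmap p) fun x => ?_⟩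
  · change Etale snd.left
    obtain ⟨fst', rfl⟩ := (yon S).map_surjective fst
    let 𝒲 := (sigmaOpenCover fun i => (U i).left).pullback₁ fst'.left
    refine IsZariskiLocalAtSource.of_openCover 𝒲 fun i => ?_
    let P : Over S := Over.mk (𝒲.f i ≫ W.hom)
    let k : P ⟶ W := CategoryTheory.Over.homMk (𝒲.f i) rfl
    let r : P ⟶ U i := CategoryTheory.Over.homMk (pullback.snd fst'.left (Sigma.ι (fun i => (U i).left) i)) (by
      change _ = pullback.fst fst'.left _ ≫ W.hom
      rw [← Over.w fst', ← Category.assoc, pullback.condition, Category.assoc]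
      exact congrArg (pullback.snd _ _ ≫ ·) (Sigma.ι_desc (fun i => (U i).hom) i).symm)
    have sqk : IsPullback r k (sigmaι U i) fst' :=
      IsPullback.of_map (Over.forget S) (Over.OverMorphism.ext pullback.condition.symm)
        (IsPullback.of_hasPullback fst'.left (Sigma.ι (fun i => (U i).left) i)).flip
    have h1 := (sqk.map (yon S)).paste_vert sq
    rw [hp, ← Functor.map_comp] at h1
    exact (hbj i).property _ _ _ h1
  · obtain ⟨i, y, rfl⟩ := hj.2 x
    obtain ⟨v, rfl⟩ := surjective_map_of_repWith (hbs i) y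
    exact ⟨Points.map ((yon S).map (sigmaι U i)) v, by rw [← Points.map_comp, hp, Points.map_comp]⟩

/-- The inclusion of a copy of the base is open and closed. -/
theorem isClosedImmersion_copyι (i : ι) : IsClosedImmersion (copyι S ι i).left := by
  refine IsClosedImmersion.of_isPreimmersion _ ?_
  have h : Set.range (copyι S ι i).left =
      (⋃ k : {k : ι // k ≠ i}, Set.range (copyι S ι k.1).left)ᶜ := by
    ext w
    simp only [Set.mem_compl_iff, Set.mem_iUnion, not_exists]
    constructor
    · rintro ⟨v, rfl⟩ k ⟨v', hv'⟩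
      exact k.2 (sigmaι_injective (fun _ : ι => Over.mk (𝟙 S)) hv')
    · intro hw
      obtain ⟨k, v, rfl⟩ := exists_sigmaι (fun _ : ι => Over.mk (𝟙 S)) w
      by_cases hk : k = i
      · subst hk
        exact ⟨v, rfl⟩
      · exact absurd ⟨v, rfl⟩ (hw ⟨k, hk⟩)
  rw [h]
  exact (isOpen_iUnion fun k : {k : ι // k ≠ i} => (copyι S ι k.1).left.isOpenEmbedding.isOpen_range).isClosed_compl

variable {F : ι → Sp S} {c : Cofan F}

/-- The injections of a coproduct are open and closed immersions. -/
theorem repWith_openClosed_inj (hc : IsColimit c) (i : ι) :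
    RepWith (@IsOpenImmersion ⊓ @IsClosedImmersion : MorphismProperty Scheme.{u}) (c.inj i) :=
  repWith_of_isPullback (isPullback_inj c hc i).flip
    ((repWith_yon_map_iff _ _).2 ⟨inferInstanceAs (IsOpenImmersion (sigmaι _ i).left), isClosedImmersion_copyι i⟩)

theorem isZarCover_inj (hc : IsColimit c) : IsZarCover F (fun i => c.inj i) :=
  ⟨fun i => repWith_mono (fun _ _ _ h => h.1) _ (repWith_openClosed_inj hc i),
    exists_mem_range_of_covering _ fun _ t => exists_covering_inj c hc t⟩

theorem isAlgSpace_summand (hc : IsColimit c) (h : IsAlgSpace c.pt) (i : ι) : IsAlgSpace (F i) :=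
  isAlgSpace_of_representable h (c.inj i) (repWith_openClosed_inj hc i).rep

theorem isAlgSpace_coproduct (hc : IsColimit c) (h : ∀ i, IsAlgSpace (F i)) : IsAlgSpace c.pt :=
  isAlgSpace_of_zarCover (isZarCover_inj hc) h

/-- Open subspaces jointly locally surjective form a Zariski covering. -/
theorem isZarCover_of_locallySurjective {G : Sp S} (f : ∀ i, F i ⟶ G)
    (hf : ∀ i, RepWith @IsOpenImmersion (f i)) (hc : IsColimit c)
    (hs : Sheaf.IsLocallySurjective (Cofan.IsColimit.desc hc f)) : IsZarCover F f :=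
  ⟨hf, fun x => by
    obtain ⟨-, y, hy⟩ := exists_mem_range_of_covering (ι := PUnit.{u + 1})
      (fun _ => Cofan.IsColimit.desc hc f) (fun T t => by
        obtain ⟨R, hR, h⟩ := exists_covering_lifts (Cofan.IsColimit.desc hc f) t
        exact ⟨R, hR, fun T' φ hφ => ⟨⟨⟩, h φ hφ⟩⟩) x
    obtain ⟨i, z, hz⟩ := (isZarCover_inj hc).2 y
    refine ⟨i, z, ?_⟩
    rw [← hy, ← hz, ← Points.map_comp, Cofan.IsColimit.fac]⟩

end Groth.Agent.AlgSpDec
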