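import Groth.Agent.AlgSpDec.SpQuot
import Groth.Agent.AlgSpDec.OpenCoverSpace
import Groth.Agent.AlgSpLib.Covers

/-!
# Sheaves covered by an fppf family of schemes with space fibre products
-/

set_option backward.isDefEq.respectTransparency false
set_option backward.isDefEq.respectTransparency.types false

universe u

open CategoryTheory Limits Opposite AlgebraicGeometry AlgSp Groth.Agent.AlgSpLib Groth.Agent.AlgSpPts

namespace Groth.Agent.AlgSpDec

variable {S : Scheme.{u}} {ι : Type u}

/-- A map from a space over a scheme has a property local on the source if it does on a Zariski cover. -/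
theorem locP_of_zarCover {P : MorphismProperty Scheme.{u}} [IsEtLocal P] [IsZariskiLocalAtSource P]
    {G : Sp S} {Y : ι → Sp S} {j : ∀ i, Y i ⟶ G} (hj : IsZarCover Y j) (hY : ∀ i, IsAlgSpace (Y i))
    {T : Over S} (f : G ⟶ (yon S).obj T) (hf : ∀ i, LocP P (j i ≫ f)) : LocP P f := by
  have hG := isAlgSpace_of_zarCover hj hY
  choose U b hb hbs using fun i => (hY i).atlas
  have hbj : ∀ i, RepWith @Etale (b i ≫ j i) := fun i =>
    repWith_comp (hb i) (repWith_mono (fun _ _ e (_ : IsOpenImmersion e) => inferInstanceAs (Etale e)) _ (hj.1 i))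
  obtain ⟨p, hp⟩ := exists_hom_sigma U fun i => b i ≫ j i
  have hpr : Representable p := representable_from_yon' hG _
  have hpe : RepWith @Etale p := repWith_etale_sigma hpr fun i => by rw [hp]; exact hbj i
  have hps : RepWith @Surjective p := repWith_surjective_of_surjective hpr fun x => by
    obtain ⟨i, y, rfl⟩ := hj.2 x
    obtain ⟨v, rfl⟩ := surjective_map_of_repWith (hbs i) y
    exact ⟨Points.map ((yon S).map (sigmaι U i)) v, by rw [← Points.map_comp, hp, Points.map_comp]⟩
  obtain ⟨h, hh⟩ := (yon S).map_surjective (p ≫ f)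
  refine locP_of_chart hpe hps (repWith_id _ T) (by rw [Category.comp_id, hh]) ?_
  rw [IsZariskiLocalAtSource.iff_of_openCover (P := P) (sigmaOpenCover fun i => (U i).left)]
  intro i
  have := hf i (b i) (𝟙 _) (sigmaι U i ≫ h) (hb i) (repWith_id _ T) (by
    rw [Category.comp_id, Functor.map_comp, hh, reassoc_of% (hp i)])
  exact this

/-- A sheaf covered by schemes, flat lfp and representable by spaces over it, is an algebraic space. -/
theorem isAlgSpace_of_fppf_family {F : Sp S} {V : ι → Over S} (m : ∀ i, (yon S).obj (V i) ⟶ F)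
    (hP : ∀ (i : ι) ⦃T : Over S⦄ (ξ : (yon S).obj T ⟶ F), IsAlgSpace (pullback (m i) ξ) ∧
      LocP @Flat (pullback.snd (m i) ξ) ∧ LocP @LocallyOfFinitePresentation (pullback.snd (m i) ξ))
    (hlift : ∀ ⦃T : Over S⦄ (ξ : (yon S).obj T ⟶ F), ∃ (U : ι → Over S) (v : ∀ i, U i ⟶ T)
      (l : ∀ i, U i ⟶ V i), (∀ i, (yon S).map (l i) ≫ m i = (yon S).map (v i) ≫ ξ) ∧
        ∀ x : T.left, ∃ i, x ∈ Set.range (v i).left) : IsAlgSpace F := by
  obtain ⟨q, hq⟩ := exists_hom_sigma V m
  refine isAlgSpace_of_fppf_space_cover (IsAlgSpace.yon_obj (sigmaOver V)) (p := q) ?_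
  rw [repBySpWith_hom_iff]
  intro T ξ F' fst snd sq
  let J : ∀ i, pullback (m i) ξ ⟶ F' := fun i => sq.lift (pullback.fst (m i) ξ ≫ (yon S).map (sigmaι V i))
    (pullback.snd (m i) ξ) (by rw [Category.assoc, hq, pullback.condition])
  have hJ1 : ∀ i, J i ≫ fst = pullback.fst (m i) ξ ≫ (yon S).map (sigmaι V i) := fun i => sq.lift_fst _ _ _
  have hJ2 : ∀ i, J i ≫ snd = pullback.snd (m i) ξ := fun i => sq.lift_snd _ _ _
  have sqJ : ∀ i, IsPullback (J i) (pullback.fst (m i) ξ) fst ((yon S).map (sigmaι V i)) := fun i =>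
    IsPullback.of_right (h₁₂ := snd) (v₁₃ := ξ) (h₂₂ := q) (by
      rw [hJ2, hq]; exact (IsPullback.of_hasPullback (m i) ξ).flip) (hJ1 i) sq.flip
  have hJ : ∀ i, RepWith @IsOpenImmersion (J i) := fun i => repWith_of_isPullback (sqJ i).flip
    ((repWith_yon_map_iff _ _).2 (inferInstanceAs (IsOpenImmersion (sigmaι V i).left)))
  have hcov : IsZarCover (fun i => pullback (m i) ξ) J := by
    refine ⟨hJ, fun x => ?_⟩
    obtain ⟨A, g, w, -, rfl⟩ := exists_ofPt_eq x
    obtain ⟨a, ha⟩ := (yon S).map_surjective (g ≫ fst)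
    obtain ⟨i, v, hv⟩ := exists_sigmaι V (a.left w)
    obtain ⟨ω, hω, -⟩ := Scheme.exists_preimage_of_isPullback
      ((IsPullback.of_hasPullback a (sigmaι V i)).map (Over.forget S)) w v hv.symm
    refine ⟨i, Points.ofPt (pullback.lift (f := m i) (g := ξ) ((yon S).map (pullback.snd a (sigmaι V i)))
      ((yon S).map (pullback.fst a (sigmaι V i)) ≫ g ≫ snd) (by
        rw [← hq, ← Functor.map_comp_assoc, ← pullback.condition, Functor.map_comp, Category.assoc,
          Category.assoc, Category.assoc, reassoc_of% ha, sq.w])) ω, ?_⟩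
    rw [Points.map_ofPt, show (pullback.lift _ _ _) ≫ J i = (yon S).map (pullback.fst a (sigmaι V i)) ≫ g from
      sq.hom_ext (by rw [Category.assoc, hJ1, pullback.lift_fst_assoc, ← Functor.map_comp, ← pullback.condition,
          Functor.map_comp, ha, Category.assoc])
        (by rw [Category.assoc, hJ2, pullback.lift_snd, Category.assoc]), ofPt_comp]
    exact congrArg (Points.ofPt g) hω
  have hF' : IsAlgSpace F' := isAlgSpace_of_zarCover hcov fun i => (hP i ξ).1
  refine ⟨hF', ⟨fun y => ?_, locP_of_zarCover hcov (fun i => (hP i ξ).1) snd fun i => by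
    rw [hJ2]; exact (hP i ξ).2.1⟩,
    locP_of_zarCover hcov (fun i => (hP i ξ).1) snd fun i => by rw [hJ2]; exact (hP i ξ).2.2⟩
  obtain ⟨τ, rfl⟩ : ∃ τ : T.left, Points.ofPt (𝟙 ((yon S).obj T)) τ = y := surjective_ofPt (repWith_id _ T) y
  obtain ⟨U, v, l, hl, hv⟩ := hlift ξ
  obtain ⟨i, w, hw⟩ := hv τ
  refine ⟨Points.ofPt (sq.lift ((yon S).map (l i ≫ sigmaι V i)) ((yon S).map (v i)) (by
    rw [Functor.map_comp, Category.assoc, hq, hl])) w, ?_⟩
  rw [Points.map_ofPt, sq.lift_snd, ← hw, ← ofPt_comp, Category.comp_id]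

/-- Effectiveness of fppf descent for algebraic spaces. -/
theorem isAlgSpace_of_fppf_local {X F : Sp S} (hX : IsAlgSpace X) {Xi : ι → Sp S} (hXi : ∀ i, IsAlgSpace (Xi i))
    (g : ∀ i, Xi i ⟶ X) (hcov : IsFppfCover Xi g) (p : F ⟶ X) (h : ∀ i, IsAlgSpace (pullback p (g i))) :
    IsAlgSpace F := by
  choose V c hc hcs using fun i => (h i).atlas
  refine isAlgSpace_of_fppf_family (fun i => c i ≫ pullback.fst p (g i)) (fun i T ξ => ?_) (fun T ξ => ?_)
  · let P := pullback p (g i)
    let M := pullback (pullback.fst p (g i)) ξ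
    have sqM : IsPullback (pullback.fst (pullback.fst p (g i)) ξ ≫ pullback.snd p (g i))
        (pullback.snd (pullback.fst p (g i)) ξ) (g i) (ξ ≫ p) :=
      (IsPullback.of_hasPullback (pullback.fst p (g i)) ξ).paste_horiz (IsPullback.of_hasPullback p (g i)).flip
        |> fun h => by simpa using h
    have hM : IsAlgSpace M := isAlgSpace_of_isPullback sqM (hXi i) (IsAlgSpace.yon_obj T) hX
    let N := pullback (c i ≫ pullback.fst p (g i)) ξ
    let n : N ⟶ M := pullback.lift (pullback.fst _ _ ≫ c i) (pullback.snd _ _)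
      (by rw [Category.assoc]; exact pullback.condition)
    have hn2 : n ≫ pullback.snd (pullback.fst p (g i)) ξ = pullback.snd (c i ≫ pullback.fst p (g i)) ξ :=
      pullback.lift_snd _ _ _
    have sqN : IsPullback (pullback.fst (c i ≫ pullback.fst p (g i)) ξ) n (c i) (pullback.fst (pullback.fst p (g i)) ξ) :=
      IsPullback.of_bot (by rw [hn2]; exact IsPullback.of_hasPullback _ _) (pullback.lift_fst _ _ _).symm
        (IsPullback.of_hasPullback _ _)
    have hN : IsAlgSpace N := isAlgSpace_of_isPullback sqN (IsAlgSpace.yon_obj _) hM (h i)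
    have hne : RepWith @Etale n := repWith_of_isPullback sqN (hc i)
    refine ⟨hN, ?_, ?_⟩
    · rw [← hn2]
      exact locP_comp hN hM (IsAlgSpace.yon_obj T) (locP_mono (fun _ _ e (_ : Etale e) => inferInstanceAs (Flat e))
        (locP_of_repWith hne)) (locP_of_isPullback sqM (hXi i) hX (IsAlgSpace.yon_obj T) (hcov.1 i).1)
    · rw [← hn2]
      exact locP_comp hN hM (IsAlgSpace.yon_obj T)
        (locP_mono (fun _ _ e (_ : Etale e) => inferInstanceAs (LocallyOfFinitePresentation e))
          (locP_of_repWith hne)) (locP_of_isPullback sqM (hXi i) hX (IsAlgSpace.yon_obj T) (hcov.1 i).2)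
  · obtain ⟨U, l, v, hl, -, -, hv⟩ := exists_fppf_family hX hXi g hcov (ξ ≫ p)
    let x : ∀ i, (yon S).obj (U i) ⟶ pullback p (g i) := fun i => pullback.lift ((yon S).map (v i) ≫ ξ) (l i)
      (by rw [Category.assoc, hl])
    refine ⟨fun i => (hc i).rep.pullback (x i), fun i => (hc i).rep.snd (x i) ≫ v i,
      fun i => (hc i).rep.fst' (x i), fun i => ?_, fun t => ?_⟩
    · rw [← Category.assoc, Functor.relativelyRepresentable.map_fst', (hc i).rep.w, Category.assoc,
        pullback.lift_fst, Functor.map_comp, Category.assoc]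
    · obtain ⟨i, w, rfl⟩ := hv t
      have : Surjective ((hc i).rep.snd (x i)).left := (hcs i).property _ _ _ ((hc i).rep.isPullback _)
      obtain ⟨w', rfl⟩ := ((hc i).rep.snd (x i)).left.surjective w
      exact ⟨i, w', rfl⟩

end Groth.Agent.AlgSpDec
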