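import Groth.Agent.AlgSpDec.SpQuot
import Groth.Prelude.Def_AlgSpGpd

/-!
# Quotients by free actions
-/

set_option backward.isDefEq.respectTransparency false
set_option backward.isDefEq.respectTransparency.types false

universe u

open CategoryTheory Limits Opposite AlgebraicGeometry AlgSp MonoidalCategory CartesianMonoidalCategory MonObj
open Groth.Agent.AlgSpLib Groth.Agent.AlgSpPts

namespace Groth.Agent.AlgSpDec

variable {S : Scheme.{u}} {B : Sp S} {G X : Over B} [GrpObj G] (a : GAction G X)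

theorem act_one {Z : Over B} (x : Z ⟶ X) : lift (1 : Z ⟶ G) x ≫ a.act = x := by
  have h : lift (1 : Z ⟶ G) x = lift (toUnit Z) x ≫ (η[G] ▷ X) := by
    rw [Hom.one_def]; ext <;> simp
  rw [h, Category.assoc, a.one_act]
  simp

theorem act_mul {Z : Over B} (g h : Z ⟶ G) (x : Z ⟶ X) :
    lift (g * h) x ≫ a.act = lift g (lift h x ≫ a.act) ≫ a.act := by
  have e1 : lift (g * h) x = lift (lift g h) x ≫ (μ[G] ▷ X) := by
    rw [Hom.mul_def]; ext <;> simp
  rw [e1, Category.assoc, a.mul_act]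
  have e2 : lift (lift g h) x ≫ (α_ G G X).hom = lift g (lift h x) := by
    ext <;> simp
  rw [reassoc_of% e2]
  have e3 : lift g (lift h x) ≫ (G ◁ a.act) = lift g (lift h x ≫ a.act) := by
    ext <;> simp
  rw [reassoc_of% e3]

theorem eq_of_act_eq (ha : a.IsFree) {T : Over S} (β : (yon S).obj T ⟶ B) (g g' : Over.mk β ⟶ G)
    (x : Over.mk β ⟶ X) (h : lift g x ≫ a.act = lift g' x ≫ a.act) : g = g' := by
  have h' : lift (g⁻¹ * g') x ≫ a.act = x := by
    rw [act_mul, ← h, ← act_mul, inv_mul_cancel, act_one]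
  have : g⁻¹ * g' = 1 := by rw [Hom.one_def]; exact ha β _ x h'
  exact inv_mul_eq_one.1 this

theorem isEqvRelSp_action (ha : a.IsFree) : IsEqvRelSp (snd G X).left a.act.left := by
  have key : ∀ {T : Over S} (p q : (yon S).obj T ⟶ X.left),
      (∃ r : (yon S).obj T ⟶ (G ⊗ X).left, r ≫ a.act.left = p ∧ r ≫ (snd G X).left = q) ↔
      ∃ (h : p ≫ X.hom = q ≫ X.hom) (g : Over.mk (q ≫ X.hom) ⟶ G),
        lift g (CategoryTheory.Over.homMk q rfl) ≫ a.act = CategoryTheory.Over.homMk p h := by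
    intro T p q
    constructor
    · rintro ⟨r, rfl, rfl⟩
      have h : (r ≫ a.act.left) ≫ X.hom = (r ≫ (snd G X).left) ≫ X.hom := by
        rw [Category.assoc, Category.assoc, Over.w, Over.w]
      let R : Over.mk ((r ≫ (snd G X).left) ≫ X.hom) ⟶ G ⊗ X := CategoryTheory.Over.homMk r (by
        show r ≫ (G ⊗ X).hom = _
        rw [Category.assoc, Over.w]
        rfl)
      refine ⟨h, R ≫ fst G X, ?_⟩
      have : lift (R ≫ fst G X) (CategoryTheory.Over.homMk (r ≫ (snd G X).left) rfl) = R := by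
        apply CartesianMonoidalCategory.hom_ext
        · simp
        · rw [lift_snd]; exact Over.OverMorphism.ext rfl
      rw [this]
      exact Over.OverMorphism.ext rfl
    · rintro ⟨h, g, hg⟩
      refine ⟨(lift g (CategoryTheory.Over.homMk q rfl)).left, congrArg Over.Hom.left hg, ?_⟩
      rw [← Over.comp_left, lift_snd]
      rfl
  refine ⟨fun T r r' h1 h2 => ?_, fun T => ⟨fun p => ?_, fun {p q} hpq => ?_, fun {p q w} hpq hqw => ?_⟩⟩
  · let β := r ≫ (G ⊗ X).hom
    have hβ : r' ≫ (G ⊗ X).hom = β := by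
      show _ = r ≫ _
      rw [← Over.w (snd G X), ← Category.assoc, ← Category.assoc, h2]
    let R : Over.mk β ⟶ G ⊗ X := CategoryTheory.Over.homMk r rfl
    let R' : Over.mk β ⟶ G ⊗ X := CategoryTheory.Over.homMk r' hβ
    have e2 : R ≫ snd G X = R' ≫ snd G X := Over.OverMorphism.ext h2
    have e1 : lift (R ≫ fst G X) (R ≫ snd G X) ≫ a.act = lift (R' ≫ fst G X) (R ≫ snd G X) ≫ a.act := by
      rw [show lift (R ≫ fst G X) (R ≫ snd G X) = R by ext <;> simp,
        show lift (R' ≫ fst G X) (R ≫ snd G X) = R' by rw [e2]; ext <;> simp]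
      exact Over.OverMorphism.ext h1
    have e3 := eq_of_act_eq a ha β _ _ _ e1
    exact congrArg Over.Hom.left (CartesianMonoidalCategory.hom_ext R R' e3 e2)
  · exact (key p p).2 ⟨rfl, 1, act_one a _⟩
  · obtain ⟨h, g, hg⟩ := (key p q).1 hpq
    refine (key q p).2 ⟨h.symm, ?_⟩
    let c : Over.mk (p ≫ X.hom) ⟶ Over.mk (q ≫ X.hom) := CategoryTheory.Over.homMk (𝟙 _) (by simp [h])
    refine ⟨(c ≫ g)⁻¹, ?_⟩
    have hp : (CategoryTheory.Over.homMk p rfl : Over.mk (p ≫ X.hom) ⟶ X) =
        lift (c ≫ g) (c ≫ CategoryTheory.Over.homMk q rfl) ≫ a.act := by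
      rw [← comp_lift, Category.assoc, hg]
      exact Over.OverMorphism.ext (Category.id_comp p).symm
    rw [hp, ← act_mul, inv_mul_cancel, act_one]
    exact Over.OverMorphism.ext (Category.id_comp q)
  · obtain ⟨h, g, hg⟩ := (key p q).1 hpq
    obtain ⟨h', g', hg'⟩ := (key q w).1 hqw
    let c : Over.mk (w ≫ X.hom) ⟶ Over.mk (q ≫ X.hom) := CategoryTheory.Over.homMk (𝟙 _) (by simp [h'])
    refine (key p w).2 ⟨h.trans h', (c ≫ g) * g', ?_⟩
    rw [act_mul, hg', show (CategoryTheory.Over.homMk q h' : Over.mk (w ≫ X.hom) ⟶ X) =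
      c ≫ CategoryTheory.Over.homMk q rfl from Over.OverMorphism.ext (Category.id_comp q).symm,
      ← comp_lift, Category.assoc, hg]
    exact Over.OverMorphism.ext (Category.id_comp p)

/-- The inverse on the action groupoid. -/
noncomputable def actInv : G ⊗ X ⟶ G ⊗ X := lift (fst G X)⁻¹ a.act

theorem actInv_snd : actInv a ≫ snd G X = a.act := lift_snd _ _

theorem actInv_act : actInv a ≫ a.act = snd G X := by
  have h : a.act = lift (fst G X) (snd G X) ≫ a.act := by simp
  show lift (fst G X)⁻¹ a.act ≫ a.act = snd G X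
  conv_lhs => arg 1; rw [h]
  rw [← act_mul, inv_mul_cancel, act_one]

theorem actInv_actInv : actInv a ≫ actInv a = 𝟙 _ := by
  apply CartesianMonoidalCategory.hom_ext
  · rw [Category.assoc, actInv, lift_fst, ← actInv, GrpObj.comp_inv, actInv, lift_fst, inv_inv, Category.id_comp]
  · rw [Category.assoc, actInv_snd, actInv_act, Category.id_comp]

/-- The quotient by a free action of a flat lfp group is an algebraic space with torsor structure. -/
theorem quot_of_isFree (hB : IsAlgSpace B) (hG : IsAlgSpace G.left) (hX : IsAlgSpace X.left) (ha : a.IsFree)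
    (hfl : LocP @Flat G.hom ∧ LocP @LocallyOfFinitePresentation G.hom) :
    IsAlgSpace a.quot ∧
      (IsSurjectiveMor a.quotπ ∧ LocP @Flat a.quotπ ∧ LocP @LocallyOfFinitePresentation a.quotπ) ∧
      IsPullback a.act.left (snd G X).left a.quotπ a.quotπ := by
  have hGX : IsAlgSpace (G ⊗ X).left := isAlgSpace_pullback hG hX hB G.hom X.hom
  have sqp : IsPullback (fst G X).left (snd G X).left G.hom X.hom := IsPullback.of_hasPullback G.hom X.hom
  have hi : IsIso (actInv a) := ⟨actInv a, actInv_actInv a, actInv_actInv a⟩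
  have : IsIso (actInv a).left := inferInstanceAs (IsIso ((Over.forget B).map (actInv a)))
  have key : ∀ {P : MorphismProperty Scheme.{u}} [IsEtLocal P] [P.IsStableUnderComposition],
      (∀ {A C : Scheme.{u}} (g : A ⟶ C), Etale g → P g) → LocP P G.hom →
      LocP P (snd G X).left ∧ LocP P a.act.left := by
    intro P _ _ hP h
    have h1 : LocP P (snd G X).left := locP_of_isPullback sqp hG hB hX h
    refine ⟨h1, ?_⟩
    rw [← actInv_snd a, Over.comp_left]
    exact locP_comp hGX hGX hX (locP_mono (fun _ _ g (hg : Etale g) => hP g hg)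
      (locP_of_repWith (repWith_of_isIso @Etale _))) h1
  obtain ⟨hs1, ht1⟩ := key (P := @Flat) (fun g _ => inferInstance) hfl.1
  obtain ⟨hs2, ht2⟩ := key (P := @LocallyOfFinitePresentation) (fun g _ => inferInstance) hfl.2
  have hj := isEqvRelSp_action a ha
  exact ⟨isAlgSpace_quotSp hGX hX hj ⟨hs1, hs2⟩ ⟨ht1, ht2⟩,
    quotSpπ_props hGX hX hj ⟨hs1, hs2⟩ ⟨ht1, ht2⟩,
    isPullback_quotSpπ hGX hX hj ⟨hs1, hs2⟩ ⟨ht1, ht2⟩⟩

end Groth.Agent.AlgSpDec
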