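import Groth.Agent.AlgSpDec.LqfQuot
import Groth.Agent.AlgSpPts.Misc
import Groth.Prelude.Def_AlgSp4

/-!
# Quotients of flat lfp equivalence relations of algebraic spaces
-/

set_option backward.isDefEq.respectTransparency false
set_option backward.isDefEq.respectTransparency.types false

universe u

open CategoryTheory Limits Opposite AlgebraicGeometry AlgSp Groth.Agent.AlgSpLib Groth.Agent.AlgSpPts

namespace Groth.Agent.AlgSpDec

variable {S : Scheme.{u}}

/-- Properties etale local on the source descend along an etale chart. -/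
theorem locP_of_precomp {P : MorphismProperty Scheme.{u}} [IsEtLocal P] {V : Over S} {U G : Sp S}
    {c : (yon S).obj V ⟶ U} (hc : RepWith @Etale c) (hcs : RepWith @Surjective c) {f : U ⟶ G}
    (h : LocP P (c ≫ f)) : LocP P f := by
  intro U' W a b k ha hb w
  let e : hc.rep.pullback a ⟶ U' := hc.rep.snd a
  let d : hc.rep.pullback a ⟶ V := hc.rep.fst' a
  have he : Etale e.left := hc.property_snd a
  have hes : Surjective e.left := hcs.property a _ _ (hc.rep.isPullback a)
  have hd : Etale d.left := ha.property c _ _ (hc.rep.isPullback' a).flip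
  have hde : (yon S).map d ≫ c = (yon S).map e ≫ a := by
    rw [Functor.relativelyRepresentable.map_fst', hc.rep.w]
  refine IsEtLocal.of_precomp e.left k.left he hes ?_
  rw [← Over.comp_left]
  exact h ((yon S).map d) b (e ≫ k) ((repWith_yon_map_iff _ _).2 hd) hb (by
    rw [reassoc_of% hde, w, Functor.map_comp, Category.assoc])

/-- A sheaf with a flat lfp surjection from an algebraic space, representable by spaces, is an algebraic
space. -/
theorem isAlgSpace_of_fppf_space_cover {F X : Sp S} (hX : IsAlgSpace X) {p : X ⟶ F}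
    (hp : RepBySpWith (IsSurjectiveMor ⊓ LocP @Flat ⊓ LocP @LocallyOfFinitePresentation) p.hom) :
    IsAlgSpace F := by
  have hd := representable_diag_of_fppf_space_cover hX hp
  obtain ⟨U, c, hc, hcs⟩ := hX.atlas
  let q := c ≫ p
  have hq : Representable q := Functor.relativelyRepresentable.of_diag hd _
  let R := hq.pullback q
  let t : R ⟶ U := hq.fst' q
  let s : R ⟶ U := hq.snd q
  have sq : IsPullback ((yon S).map t) ((yon S).map s) q q := hq.isPullback' q
  have key : ∀ (a b : R ⟶ U), IsPullback ((yon S).map a) ((yon S).map b) q q →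
      Flat b.left ∧ LocallyOfFinitePresentation b.left := by
    intro a b sq'
    obtain ⟨hA, ⟨-, hf⟩, hl⟩ := (repBySpWith_hom_iff _ p).1 hp q _ _ (IsPullback.of_hasPullback p q)
    let l : (yon S).obj R ⟶ pullback p q := pullback.lift ((yon S).map a ≫ c) ((yon S).map b)
      (by rw [Category.assoc]; exact sq'.w)
    have hl1 : l ≫ pullback.fst p q = (yon S).map a ≫ c := pullback.lift_fst _ _ _
    have hl2 : l ≫ pullback.snd p q = (yon S).map b := pullback.lift_snd _ _ _
    have sql : IsPullback ((yon S).map a) l c (pullback.fst p q) :=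
      IsPullback.of_bot (by rw [hl2]; exact sq') hl1.symm (IsPullback.of_hasPullback p q)
    have hle : RepWith @Etale l := repWith_of_isPullback sql hc
    have hw : l ≫ pullback.snd p q = (yon S).map b ≫ 𝟙 _ := by rw [hl2, Category.comp_id]
    exact ⟨hf l (𝟙 _) b hle (repWith_id _ U) hw, hl l (𝟙 _) b hle (repWith_id _ U) hw⟩
  obtain ⟨_, _⟩ := key t s sq
  obtain ⟨_, _⟩ := key s t sq.flip
  have : Sheaf.IsLocallySurjective q := isLocallySurjective_of_lifts q fun T ξ => by
    obtain ⟨V, k, x, hk, hx⟩ := exists_fppf_lift hp ξ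
    let e := hc.rep.snd x
    have he : Etale e.left := hc.property_snd x
    have hes : Surjective e.left := hcs.property x _ _ (hc.rep.isPullback x)
    refine ⟨_, e ≫ k, hc.rep.fst x, MorphismProperty.comp_mem _ e.left k.left (fppf_of_etale e.left) hk, ?_⟩
    show hc.rep.fst x ≫ c ≫ p = _
    rw [reassoc_of% hc.rep.w x, hx, Functor.map_comp, Category.assoc]
  exact isAlgSpace_of_flat_kernelPair sq

section Relation

variable {R U : Sp S} {s t : R ⟶ U}

/-- A chart of an equivalence relation of algebraic spaces. -/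
theorem exists_chart_relation (hR : IsAlgSpace R) (hU : IsAlgSpace U) (hj : IsEqvRelSp s t)
    (hs : LocP @Flat s ∧ LocP @LocallyOfFinitePresentation s)
    (ht : LocP @Flat t ∧ LocP @LocallyOfFinitePresentation t) :
    ∃ (V Rs : Over S) (c : (yon S).obj V ⟶ U) (t' s' : Rs ⟶ V), RepWith @Etale c ∧ RepWith @Surjective c ∧
      IsPullback ((yon S).map t') ((yon S).map s') (c ≫ quotSpπ s t) (c ≫ quotSpπ s t) ∧
      Sheaf.IsLocallySurjective (c ≫ quotSpπ s t) ∧
      Flat t'.left ∧ LocallyOfFinitePresentation t'.left ∧ Flat s'.left ∧ LocallyOfFinitePresentation s'.left ∧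
      ∀ {T : Over S} (x y : T ⟶ V), (yon S).map x ≫ c ≫ quotSpπ s t = (yon S).map y ≫ c ≫ quotSpπ s t →
        ∃ r : (yon S).obj T ⟶ R, r ≫ t = (yon S).map x ≫ c ∧ r ≫ s = (yon S).map y ≫ c := by
  obtain ⟨V, c, hc, hcs⟩ := hU.atlas
  have hV := IsAlgSpace.yon_obj V
  let P₀ := pullback c t
  have hP₀ : IsAlgSpace P₀ := isAlgSpace_pullback hV hR hU c t
  let hm : P₀ ⟶ U := pullback.snd c t ≫ s
  let Rp := pullback hm c
  have hRp : IsAlgSpace Rp := isAlgSpace_pullback hP₀ hV hU hm c
  obtain ⟨tp, htp⟩ : ∃ tp : Rp ⟶ (yon S).obj V, tp = pullback.fst hm c ≫ pullback.fst c t := ⟨_, rfl⟩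
  obtain ⟨sp, hsp⟩ : ∃ sp : Rp ⟶ (yon S).obj V, sp = pullback.snd hm c := ⟨_, rfl⟩
  obtain ⟨rp, hrp⟩ : ∃ rp : Rp ⟶ R, rp = pullback.fst hm c ≫ pullback.snd c t := ⟨_, rfl⟩
  have hrt : rp ≫ t = tp ≫ c := by
    simp only [hrp, htp, Category.assoc, pullback.condition]
  have hrs : rp ≫ s = sp ≫ c := by
    simp only [hrp, hsp, Category.assoc]
    exact pullback.condition (f := hm) (g := c)
  -- properties of the projections
  have hflat : ∀ {P : MorphismProperty Scheme.{u}} [IsEtLocal P] [P.IsStableUnderComposition],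
      (∀ {X Y : Scheme.{u}} (g : X ⟶ Y), Etale g → P g) → LocP P s → LocP P t → LocP P tp ∧ LocP P sp := by
    intro P _ _ hP hPs hPt
    have hPc : LocP P c := locP_mono (fun _ _ g (hg : Etale g) => hP g hg) (locP_of_repWith hc)
    rw [htp, hsp]
    refine ⟨locP_comp hRp hP₀ hV (locP_of_isPullback (IsPullback.of_hasPullback hm c).flip hV hU hP₀ hPc)
      (locP_of_isPullback (IsPullback.of_hasPullback c t).flip hR hU hV hPt), ?_⟩
    exact locP_of_isPullback (IsPullback.of_hasPullback hm c) hP₀ hU hV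
      (locP_comp hP₀ hR hU (locP_of_isPullback (IsPullback.of_hasPullback c t) hV hU hR hPc) hPs)
  obtain ⟨htf, hsf⟩ := hflat (P := @Flat) (fun g _ => inferInstance) hs.1 ht.1
  obtain ⟨htl, hsl⟩ := hflat (P := @LocallyOfFinitePresentation) (fun g _ => inferInstance) hs.2 ht.2
  -- the relation is a scheme
  let pc := inv (prodComparison (yon S) V V)
  let m : Rp ⟶ (yon S).obj (V ⨯ V) := prod.lift tp sp ≫ pc
  have hm1 : m ≫ (yon S).map prod.fst = tp := by simp [m, pc, inv_prodComparison_map_fst]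
  have hm2 : m ≫ (yon S).map prod.snd = sp := by simp [m, pc, inv_prodComparison_map_snd]
  have : Mono m := mono_of_yon_injective fun T y y' hy => by
    have h1 : y ≫ tp = y' ≫ tp := by rw [← hm1, reassoc_of% hy]
    have h2 : y ≫ sp = y' ≫ sp := by rw [← hm2, reassoc_of% hy]
    have h3 : y ≫ rp = y' ≫ rp := hj.injective T _ _
      (by rw [Category.assoc, Category.assoc, hrt, reassoc_of% h1])
      (by rw [Category.assoc, Category.assoc, hrs, reassoc_of% h2])
    refine pullback.hom_ext (pullback.hom_ext ?_ ?_) (hsp ▸ h2)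
    · simpa [htp] using h1
    · simpa [hrp] using h3
  have hml : LocP @LocallyOfFiniteType m := locP_of_comp (fun f g (_ : LocallyOfFiniteType (f ≫ g)) =>
      locallyOfFiniteType_of_comp f g) (g := (yon S).map prod.snd) (IsAlgSpace.yon_obj V) (by
    rw [hm2]
    exact locP_mono (fun _ _ g (_ : LocallyOfFinitePresentation g) => inferInstanceAs (LocallyOfFiniteType g)) hsl)
  obtain ⟨Rs, ⟨e⟩⟩ := exists_iso_of_lqf_separated hRp m (locP_lqf_of_mono m hml) (isSeparatedMor_of_mono m)
  obtain ⟨t', ht'⟩ := (yon S).map_surjective (e.hom ≫ tp)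
  obtain ⟨s', hs'⟩ := (yon S).map_surjective (e.hom ≫ sp)
  have hee : RepWith @Etale e.hom := repWith_of_isIso _ e.hom
  have hwt : e.hom ≫ tp = (yon S).map t' ≫ 𝟙 _ := by rw [Category.comp_id, ht']
  have hws : e.hom ≫ sp = (yon S).map s' ≫ 𝟙 _ := by rw [Category.comp_id, hs']
  have : Flat t'.left := htf e.hom (𝟙 _) t' hee (repWith_id _ V) hwt
  have : LocallyOfFinitePresentation t'.left := htl e.hom (𝟙 _) t' hee (repWith_id _ V) hwt
  have : Flat s'.left := hsf e.hom (𝟙 _) s' hee (repWith_id _ V) hws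
  have : LocallyOfFinitePresentation s'.left := hsl e.hom (𝟙 _) s' hee (repWith_id _ V) hws
  have hrel : ∀ {T : Over S} (x y : T ⟶ V), (∃ ρ : T ⟶ Rs, ρ ≫ t' = x ∧ ρ ≫ s' = y) ↔
      ∃ r : (yon S).obj T ⟶ R, r ≫ t = (yon S).map x ≫ c ∧ r ≫ s = (yon S).map y ≫ c := by
    intro T x y
    constructor
    · rintro ⟨ρ, rfl, rfl⟩
      refine ⟨(yon S).map ρ ≫ e.hom ≫ rp, ?_, ?_⟩
      · rw [Category.assoc, Category.assoc, hrt, (yon S).map_comp ρ t', ht', Category.assoc, Category.assoc]
      · rw [Category.assoc, Category.assoc, hrs, (yon S).map_comp ρ s', hs', Category.assoc, Category.assoc]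
    · rintro ⟨r, h1, h2⟩
      let l₀ := pullback.lift (f := c) (g := t) ((yon S).map x) r h1.symm
      let l := pullback.lift (f := hm) (g := c) l₀ ((yon S).map y) (by
        simp only [l₀, hm, pullback.lift_snd_assoc]; exact h2)
      obtain ⟨ρ, hρ⟩ := (yon S).map_surjective (l ≫ e.inv)
      refine ⟨ρ, (yon S).map_injective ?_, (yon S).map_injective ?_⟩
      · rw [Functor.map_comp, hρ, ht', Category.assoc, e.inv_hom_id_assoc]
        simp [l, l₀, htp]
      · rw [Functor.map_comp, hρ, hs', Category.assoc, e.inv_hom_id_assoc]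
        simp [l, hsp]
  have heq : IsEqvRel s' t' := by
    refine ⟨fun T ρ ρ' h1 h2 => (yon S).map_injective ((cancel_mono (e.hom ≫ m)).1 ?_), fun T => ⟨?_, ?_, ?_⟩⟩
    · refine yon_prod_ext _ _ ?_ ?_
      · simp only [Category.assoc, hm1]
        rw [← ht', ← Functor.map_comp, ← Functor.map_comp, h1]
      · simp only [Category.assoc, hm2]
        rw [← hs', ← Functor.map_comp, ← Functor.map_comp, h2]
    · exact fun x => (hrel x x).2 ((hj.equivalence T).refl _)
    · exact fun {x y} h => (hrel y x).2 ((hj.equivalence T).symm ((hrel x y).1 h))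
    · exact fun {x y z} h h' => (hrel x z).2 ((hj.equivalence T).trans ((hrel x y).1 h) ((hrel y z).1 h'))
  -- compare the two quotients
  obtain ⟨G, q, sqq, hls⟩ : ∃ (G : Sp S) (q : (yon S).obj V ⟶ G),
      IsPullback ((yon S).map t') ((yon S).map s') q q ∧ Sheaf.IsLocallySurjective q := by
    refine ⟨_, quotMap s' t', isPullback_quotMap heq, ?_⟩
    have : Epi (QuotSh.quotπ Scheme.fppfPrecoverage s' t') := by
      unfold QuotSh.quotπ
      infer_instance
    exact (CategoryTheory.Sheaf.isLocallySurjective_iff_epi (quotMap s' t')).2 (epi_comp _ _)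
  have hclift : ∀ {T : Over S} (a : (yon S).obj T ⟶ U), ∃ (T' : Over S) (k : T' ⟶ T) (x : T' ⟶ V),
      fppf k.left ∧ (yon S).map x ≫ c = (yon S).map k ≫ a := fun {T} a => by
    have : Etale (hc.rep.snd a).left := hc.property_snd a
    have : Surjective (hc.rep.snd a).left := hcs.property a _ _ (hc.rep.isPullback a)
    exact ⟨_, hc.rep.snd a, hc.rep.fst' a, fppf_of_etale _, by
      rw [Functor.relativelyRepresentable.map_fst', hc.rep.w]⟩
  have : Sheaf.IsLocallySurjective c := isLocallySurjective_of_lifts c fun T a => by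
    obtain ⟨T', k, x, hk, hx⟩ := hclift a
    exact ⟨T', k, _, hk, hx⟩
  obtain ⟨π', hπ'⟩ := exists_desc_of_kernelPair (hc.rep.isPullback' c) q (by
    obtain ⟨ρ, hρ1, hρ2⟩ := (hrel (hc.rep.fst' c) (hc.rep.snd c)).2 (by
      rw [(hc.rep.isPullback' c).w]
      exact (hj.equivalence _).refl _)
    rw [← hρ1, ← hρ2, Functor.map_comp, Functor.map_comp, Category.assoc, Category.assoc, sqq.w])
  have hst : s ≫ π' = t ≫ π' := by
    obtain ⟨X, d, hd, hds⟩ := hR.atlas
    have : Epi d := epi_of_etale_surjective hd hds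
    rw [← cancel_epi d]
    obtain ⟨X₁, k₁, x, hk₁, hx⟩ := hclift (d ≫ t)
    obtain ⟨X₂, k₂, y, hk₂, hy⟩ := hclift ((yon S).map k₁ ≫ d ≫ s)
    obtain ⟨ρ, hρ1, hρ2⟩ := (hrel (k₂ ≫ x) y).2 ⟨(yon S).map (k₂ ≫ k₁) ≫ d, by
      rw [Category.assoc, Functor.map_comp, Functor.map_comp, Category.assoc, Category.assoc, hx], by
      rw [Category.assoc, Functor.map_comp, Category.assoc, hy]⟩
    refine hom_ext_of_fppf (k₂ ≫ k₁) (MorphismProperty.comp_mem _ k₂.left k₁.left hk₂ hk₁) _ _ ?_
    rw [Functor.map_comp, Category.assoc, Category.assoc, ← reassoc_of% hy, hπ', ← reassoc_of% hx, hπ',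
      ← Functor.map_comp_assoc, ← hρ1, ← hρ2, Functor.map_comp, Functor.map_comp, Category.assoc, Category.assoc,
      sqq.w]
  let φ := quotSpDesc π' hst
  have hφ : quotSpπ s t ≫ φ = π' := coequalizer.π_desc _ _
  obtain ⟨ψ, hψ⟩ := exists_desc_of_kernelPair sqq (c ≫ quotSpπ s t) (by
    obtain ⟨r, h1, h2⟩ := (hrel t' s').1 ⟨𝟙 _, Category.id_comp _, Category.id_comp _⟩
    rw [← Category.assoc, ← Category.assoc, ← h1, ← h2, Category.assoc, Category.assoc, quotSp_condition])
  have : Epi c := (Sheaf.isLocallySurjective_iff_epi c).1 inferInstance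
  have : Epi q := (Sheaf.isLocallySurjective_iff_epi q).1 hls
  have : Epi (quotSpπ s t) := coequalizer.π_epi
  have : IsIso φ := ⟨ψ, by
      rw [← cancel_epi (quotSpπ s t), ← cancel_epi c, Category.comp_id, reassoc_of% hφ, reassoc_of% hπ', hψ], by
      rw [← cancel_epi q, Category.comp_id, reassoc_of% hψ, hφ, hπ']⟩
  have hpq : (c ≫ quotSpπ s t) ≫ φ = q := by rw [Category.assoc, hφ, hπ']
  have sqp : IsPullback ((yon S).map t') ((yon S).map s') (c ≫ quotSpπ s t) (c ≫ quotSpπ s t) :=
    sqq.of_iso (Iso.refl _) (Iso.refl _) (Iso.refl _) (asIso φ).symm (by simp) (by simp)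
      (by simp [← hpq]) (by simp [← hpq])
  refine ⟨V, Rs, c, t', s', hc, hcs, sqp, ?_, inferInstance, inferInstance, inferInstance, inferInstance,
    fun {T} x y hxy => (hrel x y).1 (exists_rel_lift sqp x y hxy)⟩
  exact (Sheaf.isLocallySurjective_iff_epi _).2 (epi_comp _ _)

/-- The quotient of a flat lfp equivalence relation of algebraic spaces is an algebraic space. -/
theorem isAlgSpace_quotSp (hR : IsAlgSpace R) (hU : IsAlgSpace U) (hj : IsEqvRelSp s t)
    (hs : LocP @Flat s ∧ LocP @LocallyOfFinitePresentation s)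
    (ht : LocP @Flat t ∧ LocP @LocallyOfFinitePresentation t) : IsAlgSpace (quotSp s t) := by
  obtain ⟨V, Rs, c, t', s', -, -, sq, hls, h1, h2, h3, h4, -⟩ := exists_chart_relation hR hU hj hs ht
  exact isAlgSpace_of_flat_kernelPair sq

/-- The quotient map of a flat lfp equivalence relation of algebraic spaces is flat, lfp and surjective. -/
theorem quotSpπ_props (hR : IsAlgSpace R) (hU : IsAlgSpace U) (hj : IsEqvRelSp s t)
    (hs : LocP @Flat s ∧ LocP @LocallyOfFinitePresentation s)
    (ht : LocP @Flat t ∧ LocP @LocallyOfFinitePresentation t) :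
    IsSurjectiveMor (quotSpπ s t) ∧ LocP @Flat (quotSpπ s t) ∧
      LocP @LocallyOfFinitePresentation (quotSpπ s t) := by
  obtain ⟨V, Rs, c, t', s', hc, hcs, sq, hls, h1, h2, h3, h4, -⟩ := exists_chart_relation hR hU hj hs ht
  have hF := isAlgSpace_of_flat_kernelPair sq
  have hr : Representable (c ≫ quotSpπ s t) := representable_from_yon' hF _
  have := isLocalAtTarget_fppf (@Flat : MorphismProperty Scheme.{u})
  have := isLocalAtTarget_fppf (@LocallyOfFinitePresentation : MorphismProperty Scheme.{u})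
  have := isLocalAtTarget_fppf (@Surjective : MorphismProperty Scheme.{u})
  have hss : Surjective s'.left := ⟨fun x => by
    obtain ⟨e, -, he⟩ := exists_rel_lift sq (𝟙 V) (𝟙 V) rfl
    exact ⟨e.left x, by rw [← Scheme.Hom.comp_apply, ← Over.comp_left, he, Over.id_left]; rfl⟩⟩
  refine ⟨fun x => ?_, locP_of_precomp hc hcs (locP_of_repWith
    (repWith_of_locallySurjective hr _ sq @Flat ((repWith_yon_map_iff _ _).2 h3))), locP_of_precomp hc hcs
    (locP_of_repWith (repWith_of_locallySurjective hr _ sq @LocallyOfFinitePresentation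
      ((repWith_yon_map_iff _ _).2 h4)))⟩
  obtain ⟨y, rfl⟩ := surjective_map_of_repWith
    (repWith_of_locallySurjective hr _ sq @Surjective ((repWith_yon_map_iff _ _).2 hss)) x
  exact ⟨Points.map c y, by rw [← Points.map_comp]⟩

/-- The relation is the kernel pair of its quotient map. -/
theorem isPullback_quotSpπ (hR : IsAlgSpace R) (hU : IsAlgSpace U) (hj : IsEqvRelSp s t)
    (hs : LocP @Flat s ∧ LocP @LocallyOfFinitePresentation s)
    (ht : LocP @Flat t ∧ LocP @LocallyOfFinitePresentation t) :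
    IsPullback t s (quotSpπ s t) (quotSpπ s t) := by
  obtain ⟨V, Rs, c, t', s', hc, hcs, sq, -, -, -, -, -, hrel⟩ := exists_chart_relation hR hU hj hs ht
  let π := quotSpπ s t
  let κ : R ⟶ pullback π π := pullback.lift t s (quotSp_condition s t).symm
  have hκ1 : κ ≫ pullback.fst π π = t := pullback.lift_fst _ _ _
  have hκ2 : κ ≫ pullback.snd π π = s := pullback.lift_snd _ _ _
  have : Mono κ := mono_of_yon_injective fun T r r' h => hj.injective T r r'
    (by rw [← hκ1, reassoc_of% h]) (by rw [← hκ2, reassoc_of% h])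
  have : Sheaf.IsLocallySurjective κ := isLocallySurjective_of_lifts κ fun T ξ => by
    let e₁ := hc.rep.snd (ξ ≫ pullback.fst π π)
    have : Etale e₁.left := hc.property_snd _
    have : Surjective e₁.left := hcs.property _ _ _ (hc.rep.isPullback _)
    let b := (yon S).map e₁ ≫ ξ ≫ pullback.snd π π
    let e₂ := hc.rep.snd b
    have : Etale e₂.left := hc.property_snd _
    have : Surjective e₂.left := hcs.property _ _ _ (hc.rep.isPullback _)
    have w1 : (yon S).map (e₂ ≫ hc.rep.fst' (ξ ≫ pullback.fst π π)) ≫ c =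
        (yon S).map (e₂ ≫ e₁) ≫ ξ ≫ pullback.fst π π := by
      rw [Functor.map_comp, Functor.map_comp, Category.assoc, Category.assoc,
        Functor.relativelyRepresentable.map_fst', hc.rep.w]
    have w2 : (yon S).map (hc.rep.fst' b) ≫ c = (yon S).map (e₂ ≫ e₁) ≫ ξ ≫ pullback.snd π π := by
      rw [Functor.relativelyRepresentable.map_fst', hc.rep.w, Functor.map_comp, Category.assoc]
    obtain ⟨r, hr1, hr2⟩ := hrel (e₂ ≫ hc.rep.fst' (ξ ≫ pullback.fst π π)) (hc.rep.fst' b) (by
      show _ ≫ c ≫ π = _ ≫ c ≫ π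
      rw [reassoc_of% w1, reassoc_of% w2, pullback.condition])
    refine ⟨_, e₂ ≫ e₁, r, MorphismProperty.comp_mem _ e₂.left e₁.left (fppf_of_etale _) (fppf_of_etale _),
      pullback.hom_ext ?_ ?_⟩
    · rw [Category.assoc, hκ1, hr1, w1, Category.assoc]
    · rw [Category.assoc, hκ2, hr2, w2, Category.assoc]
  have := isIso_of_mono_of_locallySurjective κ
  exact (IsPullback.of_hasPullback π π).of_iso (asIso κ).symm (Iso.refl _) (Iso.refl _) (Iso.refl _)
    (by simp [← hκ1]) (by simp [← hκ2]) (by simp [π]) (by simp [π])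

end Relation

end Groth.Agent.AlgSpDec
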