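import Groth.Agent.AlgSpDec.FiniteNbhd
import Groth.Agent.AlgSpDec.LimDescent
import Groth.Agent.AlgSpDec.ImmCover
import Groth.Agent.AlgSpDec.Basic
import Groth.Agent.S2080
import Groth.Agent.S16833

/-!
# Generic finiteness for algebraic spaces
-/

set_option autoImplicit false
set_option linter.style.haveILetI false
set_option backward.isDefEq.respectTransparency false
set_option backward.isDefEq.respectTransparency.types false

universe u

open CategoryTheory CategoryTheory.Limits AlgebraicGeometry AlgSp Groth.Agent.AlgSpLib Groth.Agent.AlgSpPts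

namespace Groth.Agent.AlgSpDec.GenericFinite

open Groth.Agent.AlgSpDec

variable {S : Scheme.{u}}

/-- A space over a scheme is separated if, for a chart, the morphism `R ⟶ U ×_V U` is a closed immersion. -/
theorem isSeparatedMor_of_chart {X : Sp S} {U V R Q : Over S} (g : X ⟶ (yon S).obj V) (a : (yon S).obj U ⟶ X)
    (ha : RepWith @Etale a) (has : RepWith @Surjective a) (k : U ⟶ V) (hk : a ≫ g = (yon S).map k)
    {t s : R ⟶ U} (sR : IsPullback ((yon S).map t) ((yon S).map s) a a) {q₁ q₂ : Q ⟶ U}
    (sQ : IsPullback q₁ q₂ k k) (r : R ⟶ Q) (hr₁ : r ≫ q₁ = t) (hr₂ : r ≫ q₂ = s)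
    [IsClosedImmersion r.left] : IsSeparatedMor g := by
  have sQ' : IsPullback ((yon S).map q₁) ((yon S).map q₂) (a ≫ g) (a ≫ g) := by
    rw [hk]; exact sQ.map (yon S)
  let p := pullback.map (a ≫ g) (a ≫ g) g g a a (𝟙 _) (Category.comp_id _) (Category.comp_id _)
  have hpe : RepWith @Etale p := MorphismProperty.pullbackMap (P := RepWith (S := S) @Etale) ha ha rfl rfl
  have hps : RepWith @Surjective p := MorphismProperty.pullbackMap (P := RepWith (S := S) @Surjective) has has rfl rfl
  let m := pullback.map a a (a ≫ g) (a ≫ g) _ _ g (Category.id_comp _).symm (Category.id_comp _).symm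
  have hm : RepWith @IsClosedImmersion m := by
    have : m = sR.isoPullback.inv ≫ (yon S).map r ≫ sQ'.isoPullback.hom := by
      apply pullback.hom_ext
      · simp only [m, pullback.lift_fst, Category.assoc, IsPullback.isoPullback_hom_fst, Category.comp_id,
          ← Functor.map_comp, hr₁, IsPullback.isoPullback_inv_fst]
      · simp only [m, pullback.lift_snd, Category.assoc, IsPullback.isoPullback_hom_snd, Category.comp_id,
          ← Functor.map_comp, hr₂, IsPullback.isoPullback_inv_snd]
    rw [this]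
    exact repWith_comp (repWith_of_isIso _ _) (repWith_comp ((repWith_yon_map_iff _ r).2 ‹_›) (repWith_of_isIso _ _))
  have sq : IsPullback (pullback.fst a a ≫ a) m (pullback.diagonal g) p :=
    pullback_map_diagonal_isPullback a a g
  let e := sQ'.isoPullback
  exact repWith_isClosedImmersion_of_etale_cover (repWith_comp (repWith_of_isIso _ e.hom) hpe)
    (repWith_comp (repWith_of_isIso _ e.hom) hps)
    (show IsPullback (pullback.fst a a ≫ a) (m ≫ e.inv) (pullback.diagonal g) (e.hom ≫ p) from
      IsPullback.of_iso sq (Iso.refl _) (Iso.refl _) e.symm (Iso.refl _) (by simp) (by simp) (by simp) (by simp))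
    (repWith_comp hm (repWith_of_isIso _ e.inv))

theorem isFinite_of_le {X Y : Scheme.{u}} (f : X ⟶ Y) {W : Y.Opens} [IsFinite (f ∣_ W)] {Y' : Y.Opens}
    (h : Y' ≤ W) {X' : Scheme.{u}} {i : X' ⟶ X} {f' : X' ⟶ Y'.toScheme}
    (sq : IsPullback i f' f Y'.ι) : IsFinite f' := by
  let l := Y.homOfLE h
  have hl : l ≫ W.ι = Y'.ι := Y.homOfLE_ι h
  have s₀ := (isPullback_morphismRestrict f W).flip
  let m : X' ⟶ (f ⁻¹ᵁ W).toScheme := s₀.lift i (f' ≫ l) (by rw [Category.assoc, hl, sq.w])
  have : IsPullback m f' (f ∣_ W) l := IsPullback.of_right (h₁₂ := (f ⁻¹ᵁ W).ι) (h₂₂ := W.ι)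
    (by rwa [s₀.lift_fst, hl]) (s₀.lift_snd _ _ _) s₀
  exact MorphismProperty.of_isPullback (P := @IsFinite) this inferInstance

/-- A quasi-separated finite type space over an affine scheme, quasi-finite over a maximal point `v`, is
finite over an affine neighbourhood of `v`. -/
theorem exists_finite_nbhd {P : Sp S} (hP : IsAlgSpace P) {V : Over S} [IsAffine V.left]
    (g : P ⟶ (yon S).obj V) (hl : LocP @LocallyOfFiniteType g) (hqc : IsQuasiCompactMor g)
    (hqs : IsQuasiSeparatedMor g) (v : V.left) (hv : Order.coheight v = 0)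
    (hqf : ∀ z : Points P, Points.map g z = Points.ofScheme V v →
      HasAtMor (fun _ _ h u => FlatMor.fibreDimAt h u = 0) g z) :
    ∃ (V' : Over S) (ι : V' ⟶ V), IsOpenImmersion ι.left ∧ v ∈ Set.range ι.left ∧
      IsFiniteMor (pullback.snd g ((yon S).map ι)) := by
  have hqcV : IsQuasiCompactSp ((yon S).obj V) :=
    ⟨V, 𝟙 _, repWith_id _ _, repWith_id _ _, inferInstanceAs (CompactSpace ↥V.left)⟩
  obtain ⟨U, a, hU, ha, has⟩ := exists_affine_atlas
    (hqc (IsAlgSpace.yon_obj _) hqcV (𝟙 _) (𝟙 _) g (IsPullback.id_horiz _))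
  obtain ⟨k, hk⟩ := (yon S).map_surjective (a ≫ g)
  haveI : IsAffine U.left := hU
  haveI hkl : LocallyOfFiniteType k.left := hl a (𝟙 _) k ha (repWith_id _ _) (by rw [Category.comp_id, hk])
  have hfin : (k.left ⁻¹' {v}).Finite := by
    refine (FieldFibre.finite_qf_points k.left v).subset fun u hu => ⟨hu, ?_⟩
    obtain ⟨U₁, V₁, a₁, b₁, h₁, u₁, ha₁, hb₁, w₁, hx₁, hd₁⟩ := hqf (Points.ofPt a u) (by
      rw [Points.map_ofPt, ← hk, ← Category.comp_id ((yon S).map k), ofPt_comp, show k.left u = v from hu]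
      try rfl)
    rw [RelDimSp.fibreDimAt_congr hl ha (repWith_id _ _) (by rw [Category.comp_id, hk]) ha₁ hb₁ w₁ hx₁.symm, hd₁]
  have haq : RepWith @QuasiCompact a := by
    refine of_comp_of_diagonal (RepWith @QuasiCompact) a g ?_ hqs
    rw [← hk]
    exact (repWith_yon_map_iff _ k).2 inferInstance
  let R := ha.rep.pullback a
  let t := ha.rep.fst' a
  let s := ha.rep.snd a
  have sR : IsPullback ((yon S).map t) ((yon S).map s) a a := ha.rep.isPullback' a
  haveI : Etale s.left := ha.property_snd a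
  haveI : QuasiCompact s.left := haq.property a _ _ (ha.rep.isPullback a)
  let Q := Limits.pullback k k
  have sQ : IsPullback (pullback.fst k k) (pullback.snd k k) k k := IsPullback.of_hasPullback k k
  have hts : t ≫ k = s ≫ k := (yon S).map_injective (by
    rw [Functor.map_comp, Functor.map_comp, hk, ← Category.assoc, sR.w, Category.assoc])
  let r : R ⟶ Q := pullback.lift t s hts
  haveI : Mono r := ⟨fun x y hxy => by
    have h1 := congrArg (· ≫ pullback.fst k k) hxy
    have h2 := congrArg (· ≫ pullback.snd k k) hxy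
    simp only [Category.assoc, r, pullback.lift_fst, pullback.lift_snd] at h1 h2
    exact (yon S).map_injective (sR.hom_ext (by rw [← Functor.map_comp, ← Functor.map_comp, h1])
      (by rw [← Functor.map_comp, ← Functor.map_comp, h2]))⟩
  haveI : Mono r.left := inferInstance
  have sQl : IsPullback (pullback.fst k k).left (pullback.snd k k).left k.left k.left :=
    sQ.map (Over.forget S)
  haveI : IsAffineHom k.left := inferInstance
  haveI : IsAffineHom (pullback.snd k k).left := MorphismProperty.of_isPullback sQl inferInstance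
  haveI : IsSeparated r.left := inferInstance
  have hrs : r.left ≫ (pullback.snd k k).left = s.left := by rw [← Over.comp_left, pullback.lift_snd]
  haveI : IsSeparated s.left := by rw [← hrs]; infer_instance
  haveI : LocallyQuasiFinite s.left := locallyQuasiFinite_of_formallyUnramified s.left
  let w : R.left ⟶ V.left := s.left ≫ k.left
  have hwfin : (w ⁻¹' {v}).Finite := by
    refine (hfin.biUnion fun u _ => s.left.finite_preimage_singleton u).subset fun x hx => ?_
    exact Set.mem_biUnion (show s.left x ∈ k.left ⁻¹' {v} from hx) rfl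
  have hcl : closure {v} ∈ irreducibleComponents (↥V.left) :=
    FDescent.closure_mem_irreducibleComponents fun z hz => eq_of_specializes_of_coheight hv hz
  obtain ⟨W₁, -, hvW₁, hf₁⟩ := (Groth.Agent.S2080.result k.left v hcl).1 hfin
  obtain ⟨W₂, -, hvW₂, hf₂⟩ := (Groth.Agent.S2080.result w v hcl).1 hwfin
  obtain ⟨V₀, hV₀, hvV₀, hle⟩ := exists_isAffineOpen_mem_and_subset (U := W₁ ⊓ W₂) (x := v) ⟨hvW₁, hvW₂⟩
  let V' : Over S := Over.mk (V₀.ι ≫ V.hom)
  let ι : V' ⟶ V := Over.homMk V₀.ι rfl
  refine ⟨V', ι, inferInstanceAs (IsOpenImmersion V₀.ι), by exact ⟨⟨v, hvV₀⟩, rfl⟩, ?_⟩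
  let P₀ := pullback g ((yon S).map ι)
  have hP₀ : IsAlgSpace P₀ := isAlgSpace_pullback hP (IsAlgSpace.yon_obj _) (IsAlgSpace.yon_obj _) _ _
  let U₀ := Limits.pullback k ι
  have sU : IsPullback (pullback.fst k ι) (pullback.snd k ι) k ι := IsPullback.of_hasPullback k ι
  let a₀ : (yon S).obj U₀ ⟶ P₀ := pullback.lift ((yon S).map (pullback.fst k ι) ≫ a)
    ((yon S).map (pullback.snd k ι)) (by rw [Category.assoc, ← hk, ← Functor.map_comp, ← Functor.map_comp, sU.w])
  have sA : IsPullback ((yon S).map (pullback.fst k ι)) a₀ a (pullback.fst g ((yon S).map ι)) :=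
    IsPullback.of_bot (by rw [pullback.lift_snd, ← hk]; exact sU.map (yon S)) (pullback.lift_fst _ _ _).symm
      (IsPullback.of_hasPullback g ((yon S).map ι))
  have ha₀ : RepWith @Etale a₀ := repWith_of_isPullback sA ha
  have ha₀s : RepWith @Surjective a₀ := repWith_of_isPullback sA has
  let R₀ := ha₀.rep.pullback a₀
  let t₀ := ha₀.rep.fst' a₀
  let s₀ := ha₀.rep.snd a₀
  have sR₀ : IsPullback ((yon S).map t₀) ((yon S).map s₀) a₀ a₀ := ha₀.rep.isPullback' a₀
  have hU₀ : IsFinite (pullback.snd k ι).left := by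
    haveI := hf₁
    exact isFinite_of_le k.left (hle.trans inf_le_left) (sU.map (Over.forget S))
  have hR₀ : IsFinite (s₀ ≫ pullback.snd k ι).left := by
    have h1 : IsPullback ((yon S).map (t₀ ≫ pullback.fst k ι)) ((yon S).map s₀) a
        ((yon S).map (pullback.fst k ι) ≫ a) := by
      rw [Functor.map_comp, ← pullback.lift_fst (f := g) (g := (yon S).map ι) ((yon S).map (pullback.fst k ι) ≫ a)
        ((yon S).map (pullback.snd k ι))]
      exact sR₀.paste_horiz sA
    obtain ⟨l, hl'⟩ := (yon S).map_surjective (sR.lift ((yon S).map (t₀ ≫ pullback.fst k ι))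
      ((yon S).map (s₀ ≫ pullback.fst k ι)) (by rw [h1.w, (yon S).map_comp s₀, Category.assoc]))
    have h2 : IsPullback ((yon S).map l) ((yon S).map s₀) ((yon S).map s) ((yon S).map (pullback.fst k ι)) :=
      IsPullback.of_right (by rw [hl', sR.lift_fst]; exact h1) (by rw [hl', sR.lift_snd, Functor.map_comp]) sR
    have h3 : IsPullback l (s₀ ≫ pullback.snd k ι) (s ≫ k) ι :=
      (IsPullback.of_map (yon S) ((yon S).map_injective (by simpa using h2.w)) h2).paste_vert sU
    haveI := hf₂
    exact isFinite_of_le w (hle.trans inf_le_right) (h3.map (Over.forget S))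
  let Q₀ := Limits.pullback (pullback.snd k ι) (pullback.snd k ι)
  have sQ₀ : IsPullback (pullback.fst (pullback.snd k ι) (pullback.snd k ι))
    (pullback.snd (pullback.snd k ι) (pullback.snd k ι)) (pullback.snd k ι) (pullback.snd k ι) :=
    IsPullback.of_hasPullback _ _
  have hg₀ : a₀ ≫ pullback.snd g ((yon S).map ι) = (yon S).map (pullback.snd k ι) := pullback.lift_snd _ _ _
  let r₀ : R₀ ⟶ Q₀ := pullback.lift t₀ s₀ ((yon S).map_injective (by
    rw [Functor.map_comp, Functor.map_comp, ← hg₀, ← Category.assoc, sR₀.w, Category.assoc]))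
  haveI : Mono r₀ := ⟨fun x y hxy => by
    have h1 := congrArg (· ≫ pullback.fst (pullback.snd k ι) (pullback.snd k ι)) hxy
    have h2 := congrArg (· ≫ pullback.snd (pullback.snd k ι) (pullback.snd k ι)) hxy
    simp only [Category.assoc, r₀, pullback.lift_fst, pullback.lift_snd] at h1 h2
    exact (yon S).map_injective (sR₀.hom_ext (by rw [← Functor.map_comp, ← Functor.map_comp, h1])
      (by rw [← Functor.map_comp, ← Functor.map_comp, h2]))⟩
  let q := (pullback.snd (pullback.snd k ι) (pullback.snd k ι)).left ≫ (pullback.snd k ι).left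
  haveI : IsFinite (pullback.snd (pullback.snd k ι) (pullback.snd k ι)).left :=
    MorphismProperty.of_isPullback (sQ₀.map (Over.forget S)) hU₀
  haveI : IsFinite q := inferInstance
  haveI : IsFinite (r₀.left ≫ q) := by
    rw [← Category.assoc, ← Over.comp_left, pullback.lift_snd, ← Over.comp_left]; exact hR₀
  haveI : IsFinite r₀.left := IsFinite.of_comp r₀.left q
  haveI : IsClosedImmersion r₀.left := (IsClosedImmersion.iff_isFinite_and_mono _).2 ⟨inferInstance, inferInstance⟩
  have hsep : IsSeparatedMor (pullback.snd g ((yon S).map ι)) :=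
    isSeparatedMor_of_chart _ a₀ ha₀ ha₀s _ hg₀ sR₀ sQ₀ r₀ (pullback.lift_fst _ _ _) (pullback.lift_snd _ _ _)
  refine Groth.Agent.S16833.result (U := ⟨_, IsAlgSpace.yon_obj U₀⟩) (X := ⟨P₀, hP₀⟩) (Y := ⟨_, IsAlgSpace.yon_obj V'⟩)
    (ObjectProperty.homMk a₀) (ObjectProperty.homMk (pullback.snd g ((yon S).map ι)))
    (isEtaleMor_of_repWith ha₀) (surjective_map_of_repWith ha₀s) hsep ?_
  change IsFiniteMor (a₀ ≫ pullback.snd g ((yon S).map ι))
  rw [hg₀]
  exact isFiniteMor_iff_repWith.2 ((repWith_yon_map_iff _ _).2 hU₀)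

end Groth.Agent.AlgSpDec.GenericFinite
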