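import Groth.Agent.AlgSpDec.GenericFinite
import Groth.Agent.AlgSpDec.AffineCheck
import Groth.Agent.AlgSpDec.CodimZero
import Groth.Agent.AlgSpDec.MonoRep
import Groth.Agent.AlgSpDec.More
import Groth.Agent.AlgSpPts.Dim
import Groth.Agent.DimFormula.QuasiSection

/-!
# Generic finiteness without quasi-separatedness
-/

set_option autoImplicit false
set_option linter.style.haveILetI false
set_option backward.isDefEq.respectTransparency false
set_option backward.isDefEq.respectTransparency.types false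

universe u

open CategoryTheory CategoryTheory.Limits AlgebraicGeometry AlgSp Groth.Agent.AlgSpLib Groth.Agent.AlgSpPts

namespace Groth.Agent.AlgSpDec.GenericFinite

open Groth.Agent.AlgSpDec
open Order (coheight)

variable {S : Scheme.{u}}

/-- The points of codimension zero of `P` are exactly those over `v`. -/
def MaxOver {P : Sp S} {V : Over S} (g : P ⟶ (yon S).obj V) (v : V.left) : Prop :=
  ∀ ⦃T : Over S⦄ (c : (yon S).obj T ⟶ P) (t : T.left), RepWith @Etale c →
    (coheight t = 0 ↔ Points.map g (Points.ofPt c t) = Points.ofScheme V v)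

theorem map_ofPt_eq {P : Sp S} {V U : Over S} {g : P ⟶ (yon S).obj V} {a : (yon S).obj U ⟶ P} {k : U ⟶ V}
    (hk : a ≫ g = (yon S).map k) (u : U.left) :
    Points.map g (Points.ofPt a u) = Points.ofScheme V (k.left u) := by
  rw [Points.map_ofPt, hk, ← Category.comp_id ((yon S).map k), ofPt_comp]
  try rfl

theorem MaxOver.apply {P : Sp S} {V U : Over S} {g : P ⟶ (yon S).obj V} {v : V.left} (hm : MaxOver g v)
    {a : (yon S).obj U ⟶ P} (ha : RepWith @Etale a) {k : U ⟶ V} (hk : a ≫ g = (yon S).map k) (u : U.left) :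
    coheight u = 0 ↔ k.left u = v := by
  rw [hm a u ha, map_ofPt_eq hk]
  exact (Points.schemeHomeo V).injective.eq_iff

theorem MaxOver.baseChange {P : Sp S} {V V' : Over S} {g : P ⟶ (yon S).obj V} {v : V.left} (hm : MaxOver g v)
    (ι : V' ⟶ V) [IsOpenImmersion ι.left] (v' : V'.left) (hv : ι.left v' = v) :
    MaxOver (pullback.snd g ((yon S).map ι)) v' := fun T c t hc => by
  have hι : RepWith @Etale ((yon S).map ι) := (repWith_yon_map_iff _ ι).2 (inferInstanceAs (Etale ι.left))
  obtain ⟨k, hk⟩ := (yon S).map_surjective (c ≫ pullback.snd g ((yon S).map ι))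
  refine Iff.trans ?_ (Iff.of_eq (congrArg (· = Points.ofScheme V' v') (map_ofPt_eq hk.symm t).symm))
  refine Iff.trans ?_ (Points.schemeHomeo V').injective.eq_iff.symm
  rw [hm.apply (repWith_comp hc (repWith_fst g hι)) (k := k ≫ ι)
      (by rw [Category.assoc, pullback.condition, ← Category.assoc, ← hk, Functor.map_comp]),
    Over.comp_left, Scheme.Hom.comp_apply, ← hv]
  exact ι.left.isOpenEmbedding.injective.eq_iff

/-- Finitely many points of a chart lie in an affine chart. -/
theorem exists_affine_cover_finite {F : Sp S} {W : Over S} (e : (yon S).obj W ⟶ F) (he : RepWith @Etale e)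
    {T : Set W.left} (hT : T.Finite) :
    ∃ (U : Over S) (a : (yon S).obj U ⟶ F), IsAffine U.left ∧ RepWith @Etale a ∧
      ∀ t ∈ T, ∃ u, Points.ofPt a u = Points.ofPt e t := by
  haveI := hT.to_subtype
  choose V hV htV _ using fun t : ↥T =>
    exists_isAffineOpen_mem_and_subset (U := (⊤ : W.left.Opens)) (x := t.1) trivial
  haveI : ∀ t, IsAffine (V t).toScheme := hV
  let jU : (∐ fun t => (V t).toScheme) ⟶ W.left := Sigma.desc fun t => (V t).ι
  have : Etale jU := etale_sigma_desc V
  let Z : Over S := Over.mk (jU ≫ W.hom)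
  let z : Z ⟶ W := Over.homMk jU rfl
  refine ⟨Z, (yon S).map z ≫ e, inferInstanceAs (IsAffine (∐ fun t => (V t).toScheme)),
    repWith_comp ((repWith_yon_map_iff _ z).2 (inferInstanceAs (Etale jU))) he, fun t ht => ?_⟩
  refine ⟨Sigma.ι (fun t => (V t).toScheme) ⟨t, ht⟩ ⟨t, htV ⟨t, ht⟩⟩, ?_⟩
  rw [ofPt_comp]
  congr 1
  show jU _ = t
  rw [← Scheme.Hom.comp_apply, Sigma.ι_desc]
  rfl

/-- Base change of a chart to an open of the base. -/
theorem exists_rebase {P : Sp S} {U V V' : Over S} (g : P ⟶ (yon S).obj V) (a : (yon S).obj U ⟶ P)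
    (ha : RepWith @Etale a) (k : U ⟶ V) (hk : a ≫ g = (yon S).map k) (ι : V' ⟶ V) :
    ∃ (U₀ : Over S) (p : U₀ ⟶ U) (k₀ : U₀ ⟶ V') (a₀ : (yon S).obj U₀ ⟶ pullback g ((yon S).map ι)),
      IsPullback p k₀ k ι ∧ RepWith @Etale a₀ ∧ IsPullback ((yon S).map p) a₀ a (pullback.fst g ((yon S).map ι)) ∧
        a₀ ≫ pullback.snd g ((yon S).map ι) = (yon S).map k₀ := by
  have sU : IsPullback (pullback.fst k ι) (pullback.snd k ι) k ι := IsPullback.of_hasPullback k ι
  let a₀ : (yon S).obj (Limits.pullback k ι) ⟶ pullback g ((yon S).map ι) :=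
    pullback.lift ((yon S).map (pullback.fst k ι) ≫ a) ((yon S).map (pullback.snd k ι))
      (by rw [Category.assoc, hk, ← Functor.map_comp, ← Functor.map_comp, sU.w])
  have sA : IsPullback ((yon S).map (pullback.fst k ι)) a₀ a (pullback.fst g ((yon S).map ι)) :=
    IsPullback.of_bot (by rw [pullback.lift_snd, hk]; exact sU.map (yon S)) (pullback.lift_fst _ _ _).symm
      (IsPullback.of_hasPullback g ((yon S).map ι))
  exact ⟨_, _, _, a₀, sU, repWith_of_isPullback sA ha, sA, pullback.lift_snd _ _ _⟩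

/-- A chart of a finite source with finite `R ⟶ V` shows finiteness. -/
theorem isFiniteMor_of_chart {P : Sp S} (hP : IsAlgSpace P) {U V : Over S} (g : P ⟶ (yon S).obj V)
    (a : (yon S).obj U ⟶ P) (ha : RepWith @Etale a) (has : RepWith @Surjective a) (k : U ⟶ V)
    (hk : a ≫ g = (yon S).map k) [IsFinite k.left] {R : Over S} {t s : R ⟶ U}
    (sR : IsPullback ((yon S).map t) ((yon S).map s) a a) (hR : IsFinite (s ≫ k).left) : IsFiniteMor g := by
  let Q := Limits.pullback k k
  have sQ : IsPullback (pullback.fst k k) (pullback.snd k k) k k := IsPullback.of_hasPullback k k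
  let r : R ⟶ Q := pullback.lift t s ((yon S).map_injective (by
    rw [Functor.map_comp, Functor.map_comp, ← hk, ← Category.assoc, sR.w, Category.assoc]))
  haveI : Mono r := ⟨fun x y hxy => by
    have h1 := congrArg (· ≫ pullback.fst k k) hxy
    have h2 := congrArg (· ≫ pullback.snd k k) hxy
    simp only [Category.assoc, r, pullback.lift_fst, pullback.lift_snd] at h1 h2
    exact (yon S).map_injective (sR.hom_ext (by rw [← Functor.map_comp, ← Functor.map_comp, h1])
      (by rw [← Functor.map_comp, ← Functor.map_comp, h2]))⟩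
  let q := (pullback.snd k k).left ≫ k.left
  haveI : IsFinite (pullback.snd k k).left := MorphismProperty.of_isPullback (sQ.map (Over.forget S)) ‹IsFinite k.left›
  haveI : IsFinite q := inferInstance
  haveI : IsFinite (r.left ≫ q) := by
    rw [← Category.assoc, ← Over.comp_left, pullback.lift_snd, ← Over.comp_left]; exact hR
  haveI : IsFinite r.left := IsFinite.of_comp r.left q
  haveI : IsClosedImmersion r.left := (IsClosedImmersion.iff_isFinite_and_mono _).2 ⟨inferInstance, inferInstance⟩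
  have hsep : IsSeparatedMor g :=
    isSeparatedMor_of_chart _ a ha has k hk sR sQ r (pullback.lift_fst _ _ _) (pullback.lift_snd _ _ _)
  refine Groth.Agent.S16833.result (U := ⟨_, IsAlgSpace.yon_obj U⟩) (X := ⟨P, hP⟩) (Y := ⟨_, IsAlgSpace.yon_obj V⟩)
    (ObjectProperty.homMk a) (ObjectProperty.homMk g)
    (isEtaleMor_of_repWith ha) (surjective_map_of_repWith has) hsep ?_
  change IsFiniteMor (a ≫ g)
  rw [hk]
  exact isFiniteMor_iff_repWith.2 ((repWith_yon_map_iff _ _).2 ‹IsFinite k.left›)

/-- An open subscheme finite over the base which contains all points over `v` is everything, if all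
points of codimension zero lie over `v`. -/
theorem isFinite_of_open_part {R V : Scheme.{u}} (w : R ⟶ V) [IsSeparated w] (K : R.Opens) [IsFinite (K.ι ≫ w)]
    (v : V) (hK : ∀ r, w r = v → r ∈ K) (hmax : ∀ r : R, coheight r = 0 → w r = v) : IsFinite w := by
  haveI : IsFinite K.ι := IsFinite.of_comp K.ι w
  have hcl : IsClosed (K : Set R) := by
    rw [← Scheme.Opens.range_ι K]; exact K.ι.isClosedMap.isClosed_range
  have htop : ∀ r, r ∈ K := fun r => by
    by_contra hr
    obtain ⟨η, hη, hη0⟩ := exists_codimZero_mem ⟨(K : Set R)ᶜ, hcl.isOpen_compl⟩ ⟨r, hr⟩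
    exact hη (hK η (hmax η hη0))
  haveI : Surjective K.ι := ⟨fun r => ⟨⟨r, htop r⟩, rfl⟩⟩
  haveI : IsIso K.ι := (isIso_iff_isOpenImmersion_and_surjective _).2 ⟨inferInstance, inferInstance⟩
  have : w = inv K.ι ≫ K.ι ≫ w := by simp
  rw [this]
  infer_instance

/-- For an affine chart finite over `V`, after shrinking `V` the space is finite. -/
theorem exists_finite_of_atlas {P : Sp S} (hP : IsAlgSpace P) {U V : Over S} [IsAffine V.left]
    (g : P ⟶ (yon S).obj V) (v : V.left) (hv : coheight v = 0) (hm : MaxOver g v)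
    (a : (yon S).obj U ⟶ P) (ha : RepWith @Etale a) (has : RepWith @Surjective a) (k : U ⟶ V)
    (hk : a ≫ g = (yon S).map k) [IsFinite k.left] :
    ∃ (V' : Over S) (ι : V' ⟶ V), IsOpenImmersion ι.left ∧ v ∈ Set.range ι.left ∧
      IsFiniteMor (pullback.snd g ((yon S).map ι)) := by
  let R := ha.rep.pullback a
  let t := ha.rep.fst' a
  let s := ha.rep.snd a
  have sR : IsPullback ((yon S).map t) ((yon S).map s) a a := ha.rep.isPullback' a
  haveI : Etale s.left := ha.property_snd a
  let Q := Limits.pullback k k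
  have sQ : IsPullback (pullback.fst k k) (pullback.snd k k) k k := IsPullback.of_hasPullback k k
  let r : R ⟶ Q := pullback.lift t s ((yon S).map_injective (by
    rw [Functor.map_comp, Functor.map_comp, ← hk, ← Category.assoc, sR.w, Category.assoc]))
  haveI : Mono r := ⟨fun x y hxy => by
    have h1 := congrArg (· ≫ pullback.fst k k) hxy
    have h2 := congrArg (· ≫ pullback.snd k k) hxy
    simp only [Category.assoc, r, pullback.lift_fst, pullback.lift_snd] at h1 h2
    exact (yon S).map_injective (sR.hom_ext (by rw [← Functor.map_comp, ← Functor.map_comp, h1])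
      (by rw [← Functor.map_comp, ← Functor.map_comp, h2]))⟩
  haveI : Mono r.left := inferInstance
  haveI : IsFinite (pullback.snd k k).left := MorphismProperty.of_isPullback (sQ.map (Over.forget S)) ‹IsFinite k.left›
  let w : R.left ⟶ V.left := s.left ≫ k.left
  have hrw : w = r.left ≫ (pullback.snd k k).left ≫ k.left := by
    rw [← Category.assoc, ← Over.comp_left, pullback.lift_snd]
  haveI : IsSeparated w := by rw [hrw]; infer_instance
  have hwfin : (w ⁻¹' {v}).Finite := by
    have hq : (((pullback.snd k k).left ≫ k.left) ⁻¹' {v}).Finite :=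
      ((pullback.snd k k).left ≫ k.left).finite_preimage_singleton v
    refine (hq.preimage fun x _ y _ h => r.left.injective h).subset fun x hx => ?_
    show ((pullback.snd k k).left ≫ k.left) (r.left x) = v
    rw [← Scheme.Hom.comp_apply, ← hrw]
    exact hx
  haveI := hwfin.to_subtype
  choose A hA hxA _ using fun x : ↥(w ⁻¹' {v}) =>
    exists_isAffineOpen_mem_and_subset (U := (⊤ : R.left.Opens)) (x := x.1) trivial
  let K : R.left.Opens := ⨆ x, A x
  have hKc : IsCompact (K : Set R.left) := by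
    rw [TopologicalSpace.Opens.coe_iSup]
    exact isCompact_iUnion fun x => (hA x).isCompact
  have hKv : ∀ x, w x = v → x ∈ K := fun x hx => TopologicalSpace.Opens.mem_iSup.2 ⟨⟨x, hx⟩, hxA ⟨x, hx⟩⟩
  haveI : CompactSpace ↥K.toScheme := isCompact_iff_compactSpace.1 hKc
  haveI : QuasiCompact (K.ι ≫ w) := HasAffineProperty.iff_of_isAffine.2 ‹CompactSpace ↥K.toScheme›
  haveI : LocallyOfFiniteType w := inferInstance
  have hcl : closure {v} ∈ irreducibleComponents (↥V.left) :=
    FDescent.closure_mem_irreducibleComponents fun z hz => eq_of_specializes_of_coheight hv hz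
  obtain ⟨W, -, hvW, hf⟩ := (Groth.Agent.S2080.result (K.ι ≫ w) v hcl).1
    ((hwfin.preimage fun x _ y _ h => K.ι.isOpenEmbedding.injective h).subset fun x hx => hx)
  obtain ⟨V₀, hV₀, hvV₀, hle⟩ := exists_isAffineOpen_mem_and_subset (U := W) (x := v) hvW
  let V' : Over S := Over.mk (V₀.ι ≫ V.hom)
  let ι : V' ⟶ V := Over.homMk V₀.ι rfl
  haveI : IsOpenImmersion ι.left := inferInstanceAs (IsOpenImmersion V₀.ι)
  refine ⟨V', ι, inferInstance, by exact ⟨⟨v, hvV₀⟩, rfl⟩, ?_⟩
  obtain ⟨U₀, p, k₀, a₀, sU, ha₀, sA, hk₀⟩ := exists_rebase g a ha k hk ι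
  haveI : IsFinite k₀.left := MorphismProperty.of_isPullback (sU.map (Over.forget S)) ‹IsFinite k.left›
  haveI : IsOpenImmersion p.left := MorphismProperty.of_isPullback (P := @IsOpenImmersion) (sU.map (Over.forget S)).flip
    ‹IsOpenImmersion ι.left›
  have sR₀ := ha₀.rep.isPullback' a₀
  let t₀ := ha₀.rep.fst' a₀
  let s₀ := ha₀.rep.snd a₀
  refine isFiniteMor_of_chart (isAlgSpace_pullback hP (IsAlgSpace.yon_obj _) (IsAlgSpace.yon_obj _) _ _) _ a₀ ha₀
    (repWith_of_isPullback sA has) k₀ hk₀ sR₀ ?_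
  have h1 : IsPullback ((yon S).map (t₀ ≫ p)) ((yon S).map s₀) a ((yon S).map p ≫ a) := by
    rw [Functor.map_comp, sA.w]
    exact sR₀.paste_horiz sA
  obtain ⟨l, hl'⟩ := (yon S).map_surjective (sR.lift ((yon S).map (t₀ ≫ p))
    ((yon S).map (s₀ ≫ p)) (by rw [h1.w, (yon S).map_comp s₀, Category.assoc]))
  have h2 : IsPullback ((yon S).map l) ((yon S).map s₀) ((yon S).map s) ((yon S).map p) :=
    IsPullback.of_right (by rw [hl', sR.lift_fst]; exact h1) (by rw [hl', sR.lift_snd, Functor.map_comp]) sR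
  have h3 : IsPullback l.left (s₀ ≫ k₀).left (s ≫ k).left ι.left :=
    ((IsPullback.of_map (yon S) ((yon S).map_injective (by simpa using h2.w)) h2).paste_vert sU).map (Over.forget S)
  let K₀ := l.left ⁻¹ᵁ K
  have sK : IsPullback (l.left ∣_ K) (K₀.ι ≫ (s₀ ≫ k₀).left) (K.ι ≫ w) ι.left :=
    (isPullback_morphismRestrict l.left K).flip.flip.paste_vert h3
  haveI : IsFinite (K₀.ι ≫ (s₀ ≫ k₀).left) := by
    haveI := hf
    exact isFinite_of_le (K.ι ≫ w) hle sK
  haveI : IsSeparated (s₀ ≫ k₀).left := MorphismProperty.of_isPullback h3 ‹IsSeparated w›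
  haveI : Etale s₀.left := ha₀.property_snd a₀
  refine isFinite_of_open_part (s₀ ≫ k₀).left K₀ ⟨v, hvV₀⟩ (fun x hx => ?_) fun x hx => ?_
  · show l.left x ∈ K
    refine hKv _ ?_
    show (s ≫ k).left (l.left x) = v
    rw [← Scheme.Hom.comp_apply, h3.w, Scheme.Hom.comp_apply, hx]
    rfl
  · show k₀.left (s₀.left x) = _
    refine ((hm.baseChange ι ⟨v, hvV₀⟩ rfl).apply ha₀ hk₀ _).1 ?_
    rw [← coheight_eq_of_etale s₀.left x]
    exact hx

/-- Generic finiteness over an affine base with one maximal point. -/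
theorem exists_finite_nbhd_max {P : Sp S} (hP : IsAlgSpace P) {V : Over S} [IsAffine V.left]
    (g : P ⟶ (yon S).obj V) (hl : LocP @LocallyOfFiniteType g) (v : V.left) (hv : coheight v = 0)
    (hm : MaxOver g v)
    (hcase : IsQuasiCompactMor g ∨ (IsSeparatedMor g ∧ ∃ (W : Over S) (e : (yon S).obj W ⟶ P) (T : Set W.left),
      RepWith @Etale e ∧ T.Finite ∧ ∀ z, Points.map g z = Points.ofScheme V v → ∃ t ∈ T, Points.ofPt e t = z)) :
    ∃ (V' : Over S) (ι : V' ⟶ V), IsOpenImmersion ι.left ∧ v ∈ Set.range ι.left ∧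
      IsFiniteMor (pullback.snd g ((yon S).map ι)) := by
  have hcl : closure {v} ∈ irreducibleComponents (↥V.left) :=
    FDescent.closure_mem_irreducibleComponents fun z hz => eq_of_specializes_of_coheight hv hz
  obtain ⟨U, a, hU, ha, hcov⟩ : ∃ (U : Over S) (a : (yon S).obj U ⟶ P), IsAffine U.left ∧ RepWith @Etale a ∧
      ((IsQuasiCompactMor g ∧ RepWith @Surjective a) ∨
        (IsSeparatedMor g ∧ ∀ z, Points.map g z = Points.ofScheme V v → z ∈ Set.range (Points.ofPt a))) := by
    rcases hcase with hqc | ⟨hsep, W, e, T, he, hT, hcov⟩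
    · have hqcV : IsQuasiCompactSp ((yon S).obj V) :=
        ⟨V, 𝟙 _, repWith_id _ _, repWith_id _ _, inferInstanceAs (CompactSpace ↥V.left)⟩
      obtain ⟨U, a, hU, ha, has⟩ := exists_affine_atlas
        (hqc (IsAlgSpace.yon_obj _) hqcV (𝟙 _) (𝟙 _) g (IsPullback.id_horiz _))
      exact ⟨U, a, hU, ha, .inl ⟨hqc, has⟩⟩
    · obtain ⟨U, a, hU, ha, hTa⟩ := exists_affine_cover_finite e he hT
      refine ⟨U, a, hU, ha, .inr ⟨hsep, fun z hz => ?_⟩⟩
      obtain ⟨t, ht, rfl⟩ := hcov z hz
      exact hTa t ht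
  obtain ⟨k, hk⟩ := (yon S).map_surjective (a ≫ g)
  haveI : IsAffine U.left := hU
  haveI : LocallyOfFiniteType k.left := hl a (𝟙 _) k ha (repWith_id _ _) (by rw [Category.comp_id, hk])
  have hfin : (k.left ⁻¹' {v}).Finite := by
    refine (FieldFibre.finite_qf_points k.left v).subset fun u hu => ⟨hu, ?_⟩
    refine (FieldFibre.fibreDimAt_eq_zero_iff_rd k.left u).2 fun z _ hkz =>
      DimFormula.rd_eq_zero_of_closed k.left fun x hkx hs => ?_
    exact (eq_of_specializes_of_coheight
      ((hm.apply ha hk.symm x).2 ((hkx.trans hkz).trans hu)) hs).symm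
  obtain ⟨W, -, hvW, hf⟩ := (Groth.Agent.S2080.result k.left v hcl).1 hfin
  obtain ⟨V₁, hV₁, hvV₁, hle⟩ := exists_isAffineOpen_mem_and_subset (U := W) (x := v) hvW
  let V' : Over S := Over.mk (V₁.ι ≫ V.hom)
  let ι : V' ⟶ V := Over.homMk V₁.ι rfl
  haveI : IsOpenImmersion ι.left := inferInstanceAs (IsOpenImmersion V₁.ι)
  haveI : IsAffine V'.left := hV₁
  obtain ⟨U₀, p, k₀, a₀, sU, ha₀, sA, hk₀⟩ := exists_rebase g a ha k hk.symm ι
  haveI : IsFinite k₀.left := by haveI := hf; exact isFinite_of_le k.left hle (sU.map (Over.forget S))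
  let v' : V'.left := ⟨v, hvV₁⟩
  have hv' : coheight v' = 0 := (coheight_eq_of_etale ι.left v').trans hv
  have hm' := hm.baseChange ι v' rfl
  have hP' := isAlgSpace_pullback hP (IsAlgSpace.yon_obj V') (IsAlgSpace.yon_obj V) g ((yon S).map ι)
  rcases hcov with ⟨-, has⟩ | ⟨hsep, hcov⟩
  · obtain ⟨V'', ι', hι', ⟨v'', hv''⟩, hfin'⟩ :=
      exists_finite_of_atlas hP' _ v' hv' hm' a₀ ha₀ (repWith_of_isPullback sA has) k₀ hk₀
    refine ⟨V'', ι' ≫ ι, by rw [Over.comp_left]; infer_instance, ⟨v'', by rw [Over.comp_left, Scheme.Hom.comp_apply, hv'']; rfl⟩, ?_⟩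
    have sq₃ : IsPullback (pullback.fst (pullback.snd g ((yon S).map ι)) ((yon S).map ι') ≫ pullback.fst g ((yon S).map ι))
        (pullback.snd (pullback.snd g ((yon S).map ι)) ((yon S).map ι')) g ((yon S).map (ι' ≫ ι)) := by
      rw [Functor.map_comp]
      exact (IsPullback.of_hasPullback _ _).paste_horiz (IsPullback.of_hasPullback _ _)
    rw [isFiniteMor_iff_repWith] at hfin' ⊢
    rw [← (IsPullback.of_hasPullback g ((yon S).map (ι' ≫ ι))).isoIsPullback_hom_snd _ _ sq₃]
    exact repWith_comp (repWith_of_isIso _ _) hfin'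
  · refine ⟨V', ι, inferInstance, by exact ⟨v', rfl⟩, ?_⟩
    let g' := pullback.snd g ((yon S).map ι)
    have hsep' : IsSeparatedMor g' := isSeparatedMor_of_isPullback (IsPullback.of_hasPullback _ _) hsep
    have hg₀ : IsFiniteMor (a₀ ≫ g') := by
      rw [hk₀]; exact isFiniteMor_iff_repWith.2 ((repWith_yon_map_iff _ _).2 ‹IsFinite k₀.left›)
    -- the image of the chart is closed, open and contains all points of codimension zero
    have hclr : IsClosed (Set.range (Points.map a₀)) := by
      have hF := isFiniteMor_iff_repWith.1 hg₀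
      have : RepWith @IsFinite a₀ := repWith_of_postcomp
        (repWith_mono (fun _ _ e (_ : IsClosedImmersion e) => inferInstanceAs (IsFinite e)) _ hsep') hF
      exact (isClosedMap_map (repWith_mono (fun _ _ e (_ : IsFinite e) => inferInstanceAs (UniversallyClosed e)) _ this)).isClosed_range
    have has₀ : IsSurjectiveMor a₀ := by
      intro z
      by_contra hz
      obtain ⟨T, c, hc, hcs⟩ := hP'.atlas
      obtain ⟨t, rfl⟩ := surjective_ofPt hcs z
      obtain ⟨η, hη, hη0⟩ := exists_codimZero_mem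
        ⟨Points.ofPt c ⁻¹' (Set.range (Points.map a₀))ᶜ, hclr.isOpen_compl.preimage (Points.continuous_ofPt c)⟩ ⟨t, hz⟩
      refine hη ?_
      have hη1 := (hm' c η hc).1 hη0
      obtain ⟨u, hu⟩ := hcov (Points.map (pullback.fst g ((yon S).map ι)) (Points.ofPt c η)) (by
        rw [← Points.map_comp, pullback.condition, Points.map_comp, hη1, Points.ofScheme, Points.map_ofPt,
          Category.id_comp, ← Category.comp_id ((yon S).map ι), ofPt_comp]
        rfl)
      obtain ⟨z', -, hz'⟩ := exists_point_of_isPullback sA (x := Points.ofScheme U u)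
        (y := Points.ofPt c η) (by rw [← Points.ofPt_eq_map_ofScheme, hu])
      exact ⟨z', hz'⟩
    exact Groth.Agent.S16833.result (U := ⟨_, IsAlgSpace.yon_obj U₀⟩) (X := ⟨_, hP'⟩) (Y := ⟨_, IsAlgSpace.yon_obj V'⟩)
      (ObjectProperty.homMk a₀) (ObjectProperty.homMk g') (isEtaleMor_of_repWith ha₀) has₀ hsep' hg₀

end Groth.Agent.AlgSpDec.GenericFinite
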