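import Groth.Agent.AlgSpDec.FibreDiscrete
import Groth.Agent.AlgSpDec.DecentGeneric
import Groth.Agent.AlgSpDec.ResTrdeg
import Groth.Agent.S2080
import Groth.Agent.FDescent.MaxPoint

/-!
# Morphisms of integral spaces which are quasi-finite at the generic point
-/

set_option autoImplicit false
set_option linter.style.haveILetI false
set_option backward.isDefEq.respectTransparency false
set_option backward.isDefEq.respectTransparency.types false

universe u

open CategoryTheory CategoryTheory.Limits AlgebraicGeometry AlgSp Groth.Agent.AlgSpLib Groth.Agent.AlgSpPts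
  Order TopologicalSpace

namespace Groth.Agent.AlgSpDec.GenericQf

open Groth.Agent.AlgSpDec Groth.Agent.AlgSpDec.FibreDiscrete

variable {S : Scheme.{u}} {X Y : Sp S} {f : X ⟶ Y}

theorem mem_of_isGenericPoint {α : Type*} [TopologicalSpace α] {x : α} (hx : IsGenericPoint x (Set.univ : Set α))
    {O : Set α} (hO : IsOpen O) (hne : O.Nonempty) : x ∈ O := by
  obtain ⟨o, ho⟩ := hne
  exact (hx.specializes (Set.mem_univ o)).mem_open hO ho

theorem map_generic (hY : IsAlgSpace Y) (hYd : IsDecent Y) (hd : IsDominantMor f) {x : Points X}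
    (hx : IsGenericPoint x (Set.univ : Set (Points X))) {y : Points Y}
    (hy : IsGenericPoint y (Set.univ : Set (Points Y))) : Points.map f x = y := by
  haveI := t0Space_points hY hYd
  have h : IsGenericPoint (Points.map f x) (Set.univ : Set (Points Y)) := by
    have h1 := hx.image (Points.continuous_map f)
    rw [Set.image_univ, (show DenseRange (Points.map f) from hd).closure_range] at h1
    exact h1
  exact h.eq hy

theorem unique_of_q0 (hX : IsAlgSpace X) (hY : IsAlgSpace Y) (hYd : IsDecent Y) (hf : LocP @LocallyOfFiniteType f)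
    {x : Points X} (hx : IsGenericPoint x (Set.univ : Set (Points X))) (h0 : Q0 f x) (x' : Points X)
    (hx' : Points.map f x' = Points.map f x) : x' = x := by
  let F₀ := Points.map f ⁻¹' {Points.map f x}
  have hc := isClosed_of_q0 hX hY hYd hf (⟨x, rfl⟩ : ↥F₀) h0
  have hs : (⟨x, rfl⟩ : ↥F₀) ⤳ ⟨x', hx'⟩ := (subtype_specializes_iff _ _).2 (hx.specializes (Set.mem_univ _))
  exact congrArg Subtype.val (hc.closure_eq.le (specializes_iff_mem_closure.1 hs))

theorem q0_of_unique (hX : IsAlgSpace X) (hY : IsAlgSpace Y) (hXd : IsDecent X) (hf : LocP @LocallyOfFiniteType f)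
    {x : Points X} {y : Points Y} (hxy : Points.map f x = y)
    (h : ∀ x' : Points X, Points.map f x' = y → x' = x) : Q0 f x :=
  q0_of_finite hX hY hf hXd ((Set.finite_singleton x).subset fun x' hx' => h x' hx') x hxy

theorem q0_iff_trdeg (hX : IsAlgSpace X) (hY : IsAlgSpace Y) (hXd : IsDecent X) (hf : LocP @LocallyOfFiniteType f)
    {x : Points X} (hx : IsGenericPoint x (Set.univ : Set (Points X))) :
    HasAtMor (fun _ _ h u => Dual3.resTrdeg h u = 0) f x ↔ Q0 f x := by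
  haveI := t0Space_points hX hXd
  obtain ⟨U, V, a, b, h, ha, ha', hb, -, w⟩ := exists_chart hX hY f
  obtain ⟨u, rfl⟩ := surjective_ofPt ha' x
  haveI : LocallyOfFiniteType h.left := hf a b h ha hb w
  show _ ↔ HasAtMor (fun _ _ h u => FlatMor.fibreDimAt h u = 0) f (Points.ofPt a u)
  rw [ResTrdeg.hasAtMor_iff ha hb w u 0, FieldFibre.hasAtMor_iff hf ha hb w u 0, ← FibDim.rd_eq_rdeg,
    FieldFibre.fibreDimAt_eq_zero_iff_rd]
  refine ⟨fun h0 z hz _ => ?_, fun h0 => by rw [h0 u specializes_rfl rfl]; exact Nat.cast_zero⟩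
  have hzu : Points.ofPt a z = Points.ofPt a u :=
    ((hz.map (Points.continuous_ofPt a)).antisymm (hx.specializes (Set.mem_univ _))).eq
  rw [rd_congr hf ha hb w hzu]
  exact_mod_cast h0

theorem exists_open_chart_at (hX : IsAlgSpace X) (hXd : IsDecent X) {x : Points X}
    (hx : IsGenericPoint x (Set.univ : Set (Points X))) :
    ∃ (T : Over S) (j : (yon S).obj T ⟶ X) (t : ↥T.left), RepWith @IsOpenImmersion j ∧ Points.ofPt j t = x := by
  obtain ⟨X', j, hj, hrep, hd⟩ := exists_dense_open_subscheme_of_isDecent ⟨X, hX⟩ hXd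
  obtain ⟨T, ⟨r⟩⟩ := hrep.has_representation
  let e : (yon S).obj T ≅ X'.obj := AlgSp.isoOfRepresentableBy r
  have hj' : RepWith @IsOpenImmersion (e.hom ≫ j.hom) :=
    (MorphismProperty.cancel_left_of_respectsIso (RepWith @IsOpenImmersion) e.hom j.hom).2 hj
  have hne : (Set.range (Points.ofPt (e.hom ≫ j.hom))).Nonempty := by
    obtain ⟨_, -, ⟨y, rfl⟩⟩ := dense_iff_inter_open.1 hd Set.univ isOpen_univ ⟨x, trivial⟩
    refine ⟨_, Points.toScheme T (Points.map e.inv y), rfl⟩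
  obtain ⟨t, ht⟩ := mem_of_isGenericPoint hx (isOpenEmbedding_ofPt hX hj').isOpen_range hne
  exact ⟨T, e.hom ≫ j.hom, t, hj', ht⟩

theorem exists_finite_pair (hX : IsAlgSpace X) (hY : IsAlgSpace Y) (hXd : IsDecent X) (hYd : IsDecent Y)
    (hf : LocP @LocallyOfFiniteType f) {x : Points X} (hx : IsGenericPoint x (Set.univ : Set (Points X)))
    {y : Points Y} (hy : IsGenericPoint y (Set.univ : Set (Points Y))) (hxy : Points.map f x = y)
    (huniq : ∀ x' : Points X, Points.map f x' = y → x' = x) :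
    ∃ (U V : Over S) (a : (yon S).obj U ⟶ X) (b : (yon S).obj V ⟶ Y) (g : U ⟶ V),
      IsAffine U.left ∧ IsAffine V.left ∧ Nonempty ↥U.left ∧
        RepWith @IsOpenImmersion a ∧ RepWith @IsOpenImmersion b ∧
          a ≫ f = (yon S).map g ≫ b ∧ IsFinite g.left := by
  obtain ⟨T, j, v, hj, hv⟩ := exists_open_chart_at hY hYd hy
  obtain ⟨W, i, u, hi, hu⟩ := exists_open_chart_at hX hXd hx
  have sq := hj.rep.isPullback (i ≫ f)
  let P := hj.rep.pullback (i ≫ f)
  let p : P ⟶ W := hj.rep.snd (i ≫ f)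
  haveI : IsOpenImmersion p.left := hj.property_snd (i ≫ f)
  obtain ⟨q, hq⟩ := (yon S).map_surjective (hj.rep.fst (i ≫ f))
  have hw : ((yon S).map p ≫ i) ≫ f = (yon S).map q ≫ j := by rw [Category.assoc, hq]; exact sq.w.symm
  obtain ⟨u₀, -, hu₀⟩ := exists_ofPt_of_eq (hj.rep.isPullback' (i ≫ f)) (u := v) (v := u)
    (by rw [hv, ← hxy, ← hu, Points.map_ofPt])
  have hi₀ : RepWith @IsOpenImmersion ((yon S).map p ≫ i) :=
    repWith_comp ((repWith_yon_map_iff _ p).2 inferInstance) hi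
  have hu₁ : Points.ofPt ((yon S).map p ≫ i) u₀ = x := by
    rw [ofPt_comp]; exact (congrArg _ hu₀).trans hu
  have hqv : q.left u₀ = v := (isOpenEmbedding_ofPt hY hj).injective (by
    rw [hv, ← hxy, ← hu₁, Points.map_ofPt, hw, ofPt_comp])
  obtain ⟨V₀, hV₀, hvV₀, -⟩ := exists_isAffineOpen_mem_and_subset (U := (⊤ : T.left.Opens)) (x := v) trivial
  obtain ⟨U₀, hU₀, huU₀, hle⟩ := exists_isAffineOpen_mem_and_subset (U := q.left ⁻¹ᵁ V₀) (x := u₀)
    (by show q.left u₀ ∈ V₀; rw [hqv]; exact hvV₀)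
  let c := q.left.resLE V₀ U₀ hle
  haveI : IsAffine V₀.toScheme := hV₀
  haveI : IsAffine U₀.toScheme := hU₀
  have hje : RepWith @Etale j := repWith_mono (fun _ _ e (_ : IsOpenImmersion e) => inferInstanceAs (Etale e)) _ hj
  have hie : RepWith @Etale ((yon S).map p ≫ i) :=
    repWith_mono (fun _ _ e (_ : IsOpenImmersion e) => inferInstanceAs (Etale e)) _ hi₀
  haveI : LocallyOfFiniteType q.left := hf _ j q hie hje hw
  haveI : LocallyOfFiniteType c := by
    haveI : LocallyOfFiniteType (c ≫ V₀.ι) := by rw [Scheme.Hom.resLE_comp_ι]; infer_instance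
    exact locallyOfFiniteType_of_comp _ V₀.ι
  haveI : QuasiCompact c := HasAffineProperty.iff_of_isAffine.2 (inferInstanceAs (CompactSpace ↥U₀.toScheme))
  haveI : QuasiSeparated c := inferInstance
  let η : ↥V₀.toScheme := ⟨v, hvV₀⟩
  have hcι : ∀ t, V₀.ι (c t) = q.left (U₀.ι t) := fun t => by
    rw [← Scheme.Hom.comp_apply, Scheme.Hom.resLE_comp_ι]; rfl
  have hη : closure {η} ∈ irreducibleComponents (↥V₀.toScheme) :=
    FDescent.closure_mem_irreducibleComponents fun z hz => by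
      haveI := t0Space_points hY hYd
      refine V₀.ι.injective ((isOpenEmbedding_ofPt hY hj).injective (Eq.trans ?_ hv.symm))
      have h1 := (hz.map V₀.ι.continuous).map (Points.continuous_ofPt j)
      have h2 : Points.ofPt j (V₀.ι η) = y := hv
      rw [h2] at h1
      exact (h1.antisymm (hy.specializes (Set.mem_univ _))).eq
  have hfin : (c.base ⁻¹' {η}).Finite := by
    refine (Set.finite_singleton (⟨u₀, huU₀⟩ : ↥U₀.toScheme)).subset fun t (ht : c t = η) => ?_
    refine U₀.ι.injective ((isOpenEmbedding_ofPt hX hi₀).injective (Eq.trans ?_ hu₁.symm))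
    refine huniq _ ?_
    rw [Points.map_ofPt, hw, ofPt_comp, ← hcι, ht]
    exact hv
  obtain ⟨V₁, hV₁, hηV₁, hfin₁⟩ := (Groth.Agent.S2080.result c η hη).1 hfin
  haveI := hfin₁
  haveI : IsAffine V₁.toScheme := hV₁
  haveI : IsAffine (c ⁻¹ᵁ V₁).toScheme := isAffine_of_isAffineHom (c ∣_ V₁)
  let V' : Over S := Over.mk (V₁.ι ≫ V₀.ι ≫ T.hom)
  let U' : Over S := Over.mk ((c ⁻¹ᵁ V₁).ι ≫ U₀.ι ≫ P.hom)
  let kV : V' ⟶ T := Over.homMk (V₁.ι ≫ V₀.ι) (Category.assoc _ _ _)
  let kU : U' ⟶ P := Over.homMk ((c ⁻¹ᵁ V₁).ι ≫ U₀.ι) (Category.assoc _ _ _)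
  have hcomm : (c ∣_ V₁) ≫ V₁.ι ≫ V₀.ι = ((c ⁻¹ᵁ V₁).ι ≫ U₀.ι) ≫ q.left := by
    rw [← Category.assoc, morphismRestrict_ι, Category.assoc, Scheme.Hom.resLE_comp_ι, Category.assoc]
  let g : U' ⟶ V' := Over.homMk (c ∣_ V₁) (by
    show (c ∣_ V₁) ≫ V₁.ι ≫ V₀.ι ≫ T.hom = (c ⁻¹ᵁ V₁).ι ≫ U₀.ι ≫ P.hom
    rw [← Category.assoc (V₁.ι), ← Category.assoc, hcomm, Category.assoc, Over.w q, Category.assoc])
  haveI : IsOpenImmersion kV.left := inferInstanceAs (IsOpenImmersion (V₁.ι ≫ V₀.ι))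
  haveI : IsOpenImmersion kU.left := inferInstanceAs (IsOpenImmersion ((c ⁻¹ᵁ V₁).ι ≫ U₀.ι))
  refine ⟨U', V', (yon S).map kU ≫ (yon S).map p ≫ i, (yon S).map kV ≫ j, g, ?_, ?_, ?_,
    repWith_comp ((repWith_yon_map_iff _ kU).2 inferInstance) hi₀,
    repWith_comp ((repWith_yon_map_iff _ kV).2 inferInstance) hj, ?_, hfin₁⟩
  · exact inferInstanceAs (IsAffine (c ⁻¹ᵁ V₁).toScheme)
  · exact inferInstanceAs (IsAffine V₁.toScheme)
  · refine ⟨(⟨⟨u₀, huU₀⟩, ?_⟩ : ↥(c ⁻¹ᵁ V₁).toScheme)⟩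
    show c ⟨u₀, huU₀⟩ ∈ V₁
    rw [show c ⟨u₀, huU₀⟩ = η from V₀.ι.injective ((hcι _).trans hqv)]
    exact hηV₁
  · have h1 : kU ≫ q = g ≫ kV := Over.OverMorphism.ext hcomm.symm
    rw [Category.assoc, hw, ← Category.assoc, ← Functor.map_comp, h1, Functor.map_comp, Category.assoc]

theorem q0_of_finite_pair (hX : IsAlgSpace X) (hf : LocP @LocallyOfFiniteType f) {x : Points X}
    (hx : IsGenericPoint x (Set.univ : Set (Points X))) {U V : Over S} {a : (yon S).obj U ⟶ X}
    {b : (yon S).obj V ⟶ Y} {g : U ⟶ V} [Nonempty ↥U.left] (ha : RepWith @IsOpenImmersion a)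
    (hb : RepWith @IsOpenImmersion b) (w : a ≫ f = (yon S).map g ≫ b) [IsFinite g.left] : Q0 f x := by
  have hae : RepWith @Etale a := repWith_mono (fun _ _ e (_ : IsOpenImmersion e) => inferInstanceAs (Etale e)) _ ha
  have hbe : RepWith @Etale b := repWith_mono (fun _ _ e (_ : IsOpenImmersion e) => inferInstanceAs (Etale e)) _ hb
  obtain ⟨u, rfl⟩ := mem_of_isGenericPoint hx (isOpenEmbedding_ofPt hX ha).isOpen_range (Set.range_nonempty _)
  haveI : LocallyOfFiniteType g.left := hf a b g hae hbe w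
  exact (FieldFibre.hasAtMor_iff hf hae hbe w u 0).2 (fibreDimAt_eq_zero_of_lqf g.left u)

end Groth.Agent.AlgSpDec.GenericQf
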