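import Groth.Agent.AlgSpDec.ReducedStalk
import Groth.Agent.AlgSpPts.Diag
import Groth.Agent.AlgSpLib.WeakAssUnit
import Groth.Agent.GeomField.Reduced
import Groth.Agent.S2521

/-!
# Geometrically reduced algebraic spaces over a field
-/

set_option backward.isDefEq.respectTransparency false
set_option backward.isDefEq.respectTransparency.types false

universe u

open CategoryTheory CategoryTheory.Limits AlgebraicGeometry Opposite AlgSp

namespace Groth.Agent.AlgSpDec.GeomRed

open Groth.Agent.AlgSpLib

variable {k : Type u} [Field k]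

/-- Geometric reducedness at a point is invariant under etale morphisms. -/
theorem isGeomReducedAt_comp_etale {U V : Scheme.{u}} (g : U ⟶ V) [Etale g]
    (f : V ⟶ Spec (CommRingCat.of k)) (u : U) :
    FBase.IsGeomReducedAt (g ≫ f) u ↔ FBase.IsGeomReducedAt f (g u) := by
  constructor
  · intro h K _ _ x' hx'
    let t := Spec.map (CommRingCat.ofHom (algebraMap k K))
    obtain ⟨z, hz₁, hz₂⟩ := Scheme.Pullback.exists_preimage_pullback (f := g) (g := pullback.fst f t) u x'
      hx'.symm
    let e := pullbackRightPullbackFstIso f t g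
    have hr : _root_.IsReduced ((pullback (g ≫ f) t).presheaf.stalk (e.hom z)) := by
      refine h K (e.hom z) ?_
      change (pullback.fst (g ≫ f) t) (e.hom z) = u
      rw [← hz₁, ← Scheme.Hom.comp_apply, pullbackRightPullbackFstIso_hom_fst]
    have := (isReduced_stalk_iff_of_etale e.hom z).2 hr
    rw [← hz₂]
    exact (isReduced_stalk_iff_of_etale (pullback.snd g (pullback.fst f t)) z).1 this
  · intro h K _ _ x' hx'
    let t := Spec.map (CommRingCat.ofHom (algebraMap k K))
    let e := pullbackRightPullbackFstIso f t g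
    let z := e.inv x'
    have hr : _root_.IsReduced ((pullback f t).presheaf.stalk (pullback.snd g (pullback.fst f t) z)) := by
      refine h K _ ?_
      rw [← hx']
      change (pullback.snd g (pullback.fst f t) ≫ pullback.fst f t) z = _
      rw [← pullback.condition]
      simp only [z, ← Scheme.Hom.comp_apply]
      rw [pullbackRightPullbackFstIso_inv_fst_assoc]
      rfl
    exact (isReduced_stalk_iff_of_etale e.inv x').2
      ((isReduced_stalk_iff_of_etale (pullback.snd g (pullback.fst f t)) z).2 hr)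

/-- Two etale charts through the same point are linked by a third one. -/
theorem exists_link {S : Scheme.{u}} {F : Sp S} {U V : Over S} {a : (yon S).obj U ⟶ F}
    {b : (yon S).obj V ⟶ F} (ha : RepWith @Etale a) (hb : RepWith @Etale b) {u : ↥U.left} {v : ↥V.left}
    (h : Points.ofPt a u = Points.ofPt b v) :
    ∃ (R : Over S) (p : R ⟶ U) (q : R ⟶ V) (r : ↥R.left), Etale p.left ∧ Etale q.left ∧
      p.left r = u ∧ q.left r = v ∧ (yon S).map p ≫ a = (yon S).map q ≫ b := by
  have sq := ha.rep.isPullback' b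
  obtain ⟨w, hw₁, hw₂⟩ := exists_ofPt_of_eq sq h
  exact ⟨_, ha.rep.fst' b, ha.rep.snd b, w, hb.property _ _ _ sq.flip, ha.property_snd b, hw₁, hw₂, sq.w⟩

variable {X : Sp (Spec (CommRingCat.of k))}

theorem isGeomReducedAt_of_charts {U V : Over (Spec (CommRingCat.of k))} {a : (yon _).obj U ⟶ X}
    {b : (yon _).obj V ⟶ X} (ha : RepWith @Etale a) (hb : RepWith @Etale b) {u : ↥U.left} {v : ↥V.left}
    (h : Points.ofPt a u = Points.ofPt b v) (hu : FBase.IsGeomReducedAt U.hom u) :
    FBase.IsGeomReducedAt V.hom v := by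
  obtain ⟨R, p, q, r, hp, hq, rfl, rfl, -⟩ := exists_link ha hb h
  rw [← isGeomReducedAt_comp_etale p.left] at hu
  rw [← isGeomReducedAt_comp_etale q.left]
  rwa [Over.w q, ← Over.w p]

theorem exists_chart_iff {U : Over (Spec (CommRingCat.of k))} {a : (yon _).obj U ⟶ X} (ha : RepWith @Etale a)
    (u : ↥U.left) :
    (∃ (U' : Over (Spec (CommRingCat.of k))) (a' : (yon _).obj U' ⟶ X) (u' : ↥U'.left),
      RepWith @Etale a' ∧ Points.ofPt a' u' = Points.ofPt a u ∧ FBase.IsGeomReducedAt U'.hom u') ↔
      FBase.IsGeomReducedAt U.hom u :=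
  ⟨fun ⟨_, _, _, ha', h, hr⟩ => isGeomReducedAt_of_charts ha' ha h hr, fun h => ⟨U, a, u, ha, rfl, h⟩⟩

variable (K : Type u) [Field K] [Algebra k K]

/-- The spectrum of an extension field over `k`. -/
noncomputable abbrev ext : Over (Spec (CommRingCat.of k)) := Over.mk (Spec.map (CommRingCat.ofHom (algebraMap k K)))

/-- The chart of the base change induced by a chart. -/
noncomputable def bcChart {U : Over (Spec (CommRingCat.of k))} (a : (yon _).obj U ⟶ X) :
    (yon _).obj (U ⨯ ext K) ⟶ X ⨯ (yon _).obj (ext K) :=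
  prod.lift ((yon _).map prod.fst ≫ a) ((yon _).map prod.snd)

theorem bcChart_snd {U : Over (Spec (CommRingCat.of k))} (a : (yon _).obj U ⟶ X) :
    bcChart K a ≫ prod.snd = (yon _).map prod.snd := prod.lift_snd _ _

theorem isPullback_bcChart {U : Over (Spec (CommRingCat.of k))} (a : (yon _).obj U ⟶ X) :
    IsPullback ((yon _).map (prod.fst : U ⨯ ext K ⟶ U)) (bcChart K a) a prod.fst := by
  refine ⟨⟨(prod.lift_fst _ _).symm⟩, ⟨PullbackCone.IsLimit.mk _
    (fun s => prod.lift s.fst (s.snd ≫ prod.snd) ≫ inv (prodComparison (yon _) U (ext K))) ?_ ?_ ?_⟩⟩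
  · intro s
    rw [Category.assoc, inv_prodComparison_map_fst, prod.lift_fst]
  · intro s
    apply Limits.prod.hom_ext
    · rw [Category.assoc, Category.assoc, bcChart, prod.lift_fst, inv_prodComparison_map_fst_assoc,
        prod.lift_fst_assoc]
      exact s.condition
    · rw [Category.assoc, Category.assoc, bcChart, prod.lift_snd, inv_prodComparison_map_snd, prod.lift_snd]
  · intro s m h₁ h₂
    apply AlgSpPts.yon_prod_ext
    · rw [h₁, Category.assoc, inv_prodComparison_map_fst, prod.lift_fst]
    · rw [Category.assoc, inv_prodComparison_map_snd, prod.lift_snd, ← h₂, Category.assoc, bcChart,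
        prod.lift_snd]

theorem bcChart_etale {U : Over (Spec (CommRingCat.of k))} {a : (yon _).obj U ⟶ X} (ha : RepWith @Etale a) :
    RepWith @Etale (bcChart K a) :=
  repWith_of_isPullback (isPullback_bcChart K a) ha

theorem bcChart_surjective {U : Over (Spec (CommRingCat.of k))} {a : (yon _).obj U ⟶ X}
    (ha : RepWith @Surjective a) : RepWith @Surjective (bcChart K a) :=
  repWith_of_isPullback (isPullback_bcChart K a) ha

/-- The scheme underlying the chart of the base change. -/
noncomputable def bcIso (U : Over (Spec (CommRingCat.of k))) : (U ⨯ ext K).left ≅ FBase.bc U.hom K :=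
  Over.prodLeftIsoPullback U (ext K)

theorem bcIso_π (U : Over (Spec (CommRingCat.of k))) :
    (bcIso K U).hom ≫ FBase.bcπ U.hom K = (prod.fst : U ⨯ ext K ⟶ U).left :=
  Over.prodLeftIsoPullback_hom_fst U (ext K)

theorem bcIso_str (U : Over (Spec (CommRingCat.of k))) :
    (bcIso K U).hom ≫ FBase.bcStr U.hom K = (prod.snd : U ⨯ ext K ⟶ ext K).left :=
  Over.prodLeftIsoPullback_hom_snd U (ext K)

/-- The base change is reduced exactly when the local rings of a base changed chart are. -/
theorem bc_isReduced_iff {U : Over (Spec (CommRingCat.of k))} {a : (yon _).obj U ⟶ X} (ha : RepWith @Etale a)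
    (hs : RepWith @Surjective a) :
    EtaleLocally (fun U => IsReduced U) (X ⨯ (yon _).obj (ext K)) ↔
      ∀ z : ↥(FBase.bc U.hom K), _root_.IsReduced ((FBase.bc U.hom K).presheaf.stalk z) := by
  constructor
  · intro h z
    have : IsReduced (U ⨯ ext K).left := WeakAssUnit.isReduced_chart h _ (bcChart_etale K ha)
    have : IsReduced (FBase.bc U.hom K) := isReduced_of_isOpenImmersion (bcIso K U).inv
    infer_instance
  · intro h
    have : IsReduced (FBase.bc U.hom K) := isReduced_of_isReduced_stalk _
    exact ⟨_, _, bcChart_etale K ha, bcChart_surjective K hs, isReduced_of_isOpenImmersion (bcIso K U).hom⟩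

theorem bc_isReduced_of_geomReduced {U : Over (Spec (CommRingCat.of k))} {a : (yon _).obj U ⟶ X}
    (ha : RepWith @Etale a) (hs : RepWith @Surjective a) (h : ∀ u, FBase.IsGeomReducedAt U.hom u) :
    EtaleLocally (fun U => IsReduced U) (X ⨯ (yon _).obj (ext K)) :=
  (bc_isReduced_iff K ha hs).2 fun z => h _ K z rfl

/-- Reducedness over one perfect field gives geometric reducedness. -/
theorem geomReduced_of_perfect [PerfectField K] {U : Over (Spec (CommRingCat.of k))}
    {a : (yon _).obj U ⟶ X} (ha : RepWith @Etale a) (hs : RepWith @Surjective a)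
    (h : EtaleLocally (fun U => IsReduced U) (X ⨯ (yon _).obj (ext K))) (u : ↥U.left) :
    FBase.IsGeomReducedAt U.hom u := by
  obtain ⟨z, hz, -⟩ := Scheme.Pullback.exists_preimage_pullback (f := U.hom)
    (g := Spec.map (CommRingCat.ofHom (algebraMap k K))) u (IsLocalRing.closedPoint K)
    (Subsingleton.elim (α := PrimeSpectrum k) _ _)
  exact S2521.result U.hom u z hz ((bc_isReduced_iff K ha hs).1 h z)

/-- Geometric reducedness at a point of a base change. -/
theorem exists_chart_bc_iff {U : Over (Spec (CommRingCat.of k))} {a : (yon _).obj U ⟶ X}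
    (ha : RepWith @Etale a) (w : ↥(U ⨯ ext K).left) :
    (∃ (U' : Over (Spec (CommRingCat.of k))) (a' : (yon _).obj U' ⟶ X ⨯ (yon _).obj (ext K))
        (q : U' ⟶ ext K) (u' : ↥U'.left),
        RepWith @Etale a' ∧ a' ≫ Limits.prod.snd = (yon _).map q ∧
          Points.ofPt a' u' = Points.ofPt (bcChart K a) w ∧ FBase.IsGeomReducedAt q.left u') ↔
      FBase.IsGeomReducedAt U.hom ((prod.fst : U ⨯ ext K ⟶ U).left w) := by
  have hw : FBase.IsGeomReducedAt U.hom ((prod.fst : U ⨯ ext K ⟶ U).left w) ↔
      FBase.IsGeomReducedAt (prod.snd : U ⨯ ext K ⟶ ext K).left w := by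
    rw [← bcIso_π, ← bcIso_str, Scheme.Hom.comp_apply, isGeomReducedAt_comp_etale,
      GeomField.isGeomReducedAt_bc_iff]
  rw [hw]
  refine ⟨fun ⟨U', a', q, u', ha', hq, hu, hr⟩ => ?_, fun h => ⟨_, _, prod.snd, w, bcChart_etale K ha,
    bcChart_snd K a, rfl, h⟩⟩
  obtain ⟨R, p₁, p₂, r, hp₁, hp₂, rfl, rfl, e⟩ := exists_link ha' (bcChart_etale K ha) hu
  have e' : p₁ ≫ q = p₂ ≫ prod.snd := (yon _).map_injective (by
    rw [Functor.map_comp, Functor.map_comp, ← hq, ← bcChart_snd K a, ← Category.assoc, ← Category.assoc, e])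
  rw [← isGeomReducedAt_comp_etale p₂.left, ← Over.comp_left, ← e', Over.comp_left,
    isGeomReducedAt_comp_etale]
  exact hr

/-- Points of a base change come from the base changed chart. -/
theorem exists_bc_point {U : Over (Spec (CommRingCat.of k))} {a : (yon _).obj U ⟶ X}
    (hs : RepWith @Surjective a) (x' : Points (X ⨯ (yon _).obj (ext K))) :
    ∃ w, Points.ofPt (bcChart K a) w = x' ∧
      Points.map prod.fst x' = Points.ofPt a ((prod.fst : U ⨯ ext K ⟶ U).left w) := by
  obtain ⟨w, rfl⟩ := surjective_ofPt (bcChart_surjective K hs) x'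
  refine ⟨w, rfl, ?_⟩
  rw [Points.map_ofPt, bcChart, prod.lift_fst, ofPt_comp]

theorem surjective_fst (u : Points X) {U : Over (Spec (CommRingCat.of k))} {a : (yon _).obj U ⟶ X}
    (hs : RepWith @Surjective a) :
    ∃ x', Points.map (prod.fst : X ⨯ (yon _).obj (ext K) ⟶ X) x' = u := by
  obtain ⟨u, rfl⟩ := surjective_ofPt hs u
  obtain ⟨z, hz, -⟩ := Scheme.Pullback.exists_preimage_pullback (f := U.hom)
    (g := Spec.map (CommRingCat.ofHom (algebraMap k K))) u (IsLocalRing.closedPoint K)
    (Subsingleton.elim (α := PrimeSpectrum k) _ _)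
  refine ⟨Points.ofPt (bcChart K a) ((bcIso K U).inv z), ?_⟩
  rw [Points.map_ofPt, bcChart, prod.lift_fst, ofPt_comp]
  congr 1
  rw [← bcIso_π, Scheme.Hom.comp_apply, ← Scheme.Hom.comp_apply _ (bcIso K U).hom, Iso.inv_hom_id]
  exact hz

end Groth.Agent.AlgSpDec.GeomRed
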