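import Groth.Agent.AlgSpDec.GeomRed
import Groth.Agent.GeomRedFlat5.Inv
import Groth.Agent.S2549
import Groth.Agent.FlatMisc.GeomRedConstr
import Groth.Agent.S10561

/-!
# Geometrically reduced fibres of morphisms of algebraic spaces
-/

set_option backward.isDefEq.respectTransparency false
set_option backward.isDefEq.respectTransparency.types false

universe u

open CategoryTheory CategoryTheory.Limits AlgebraicGeometry Opposite AlgSp

namespace Groth.Agent.AlgSpDec.GeomRedFib

open Groth.Agent.AlgSpLib Groth.Agent.GeomRedFlat5 Groth.Agent.FlatMisc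

section scheme

variable {X Y : Scheme.{u}}

/-- Geometric reducedness of the fibre at a point is invariant under etale morphisms. -/
theorem E_comp_etale {U : Scheme.{u}} (j : U ⟶ X) [Etale j] (f : X ⟶ Y) (u : U) :
    E (j ≫ f) u ↔ E f (j.base u) := by
  let Ω := AlgebraicClosure (IsLocalRing.ResidueField (Y.presheaf.stalk (f (j u))))
  let φ : Y.residueField (f (j u)) ⟶ CommRingCat.of Ω :=
    CommRingCat.ofHom (algebraMap (IsLocalRing.ResidueField (Y.presheaf.stalk (f (j u)))) Ω)
  let g := Spec.map φ ≫ Y.fromSpecResidueField (f (j u))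
  let m : pullback (j ≫ f) g ⟶ pullback f g :=
    (pullbackRightPullbackFstIso f g j).inv ≫ pullback.snd j (pullback.fst f g)
  haveI : Etale m := inferInstance
  have hm : m ≫ pullback.fst f g = pullback.fst (j ≫ f) g ≫ j := by
    simp only [m, Category.assoc]
    rw [← pullback.condition, pullbackRightPullbackFstIso_inv_fst_assoc]
  obtain ⟨v, hv⟩ : ∃ v : ↥(pullback (j ≫ f) g), (pullback.fst (j ≫ f) g).base v = u :=
    exists_point (j ≫ f) u Ω φ
  have hmv : (pullback.fst f g).base (m.base v) = j u := by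
    refine (Scheme.Hom.comp_apply m _ v).symm.trans ((congrArg (fun m' : _ ⟶ X => m'.base v) hm).trans ?_)
    exact congrArg j.base hv
  have hiff := isReduced_stalk_iff_of_etale m v
  exact ⟨fun h => E_of_isReduced Ω φ (m.base v) hmv (hiff.1 (isReduced_pullback_of_E h Ω φ v hv)),
    fun h => E_of_isReduced (f := j ≫ f) (x := u) Ω φ v hv (hiff.2 (isReduced_pullback_of_E h Ω φ _ hmv))⟩

/-- The fibre is geometrically reduced when it is so at each point. -/
theorem mem_locus_iff (f : X ⟶ Y) (v : Y) :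
    v ∈ GeomRedConstr.locus f ↔ ∀ x : X, f x = v → E f x := by
  letI : (f.fiber v).Over (Spec (CommRingCat.of ↑(Y.residueField v))) := ⟨f.fiberToSpecResidueField v⟩
  refine (GeomField.geometricallyReduced_iff (k := ↑(Y.residueField v)) (X := f.fiber v)).trans ?_
  constructor
  · intro h x hx
    subst hx
    exact h (f.asFiber x)
  · intro h w
    have hw : f (f.fiberι v w) = v := by
      have : f.fiberι v w ∈ Set.range (f.fiberι v) := ⟨w, rfl⟩
      simpa [Scheme.Hom.range_fiberι] using this
    suffices key : ∀ (x : X) (y : Y) (w : ↥(f.fiber y)), f x = y → f.fiberι y w = x → E f x →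
        FBase.IsGeomReducedAt (f.fiberToSpecResidueField y) w from key _ v w hw rfl (h _ hw)
    intro x y w hy hwx he
    subst hy
    obtain rfl : w = f.asFiber x := (f.fiberι _).isEmbedding.injective (by
      rw [hwx, Scheme.Hom.fiberι_asFiber])
    exact he

end scheme

variable {S : Scheme.{u}} {X Y : Space S} (f : X ⟶ Y)

/-- The fibre over a field valued point is reduced. -/
def RedFib (p : FieldPt Y.obj) : Prop :=
  ∀ (P : Sp S) (a : P ⟶ X.obj) (b : P ⟶ (yon S).obj p.pt), IsPullback a b f.hom p.toHom →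
    EtaleLocally (fun U => IsReduced U) P

/-- The field valued point obtained by extending the field. -/
noncomputable def extPt (p : FieldPt Y.obj) (k' : Type u) [Field k'] (φ : p.K →+* k') : FieldPt Y.obj :=
  ⟨k', Spec.map (CommRingCat.ofHom φ) ≫ p.str,
    (J S).uliftYonedaEquiv ((yon S).map (Over.homMk (Spec.map (CommRingCat.ofHom φ)) rfl :
      Over.mk (Spec.map (CommRingCat.ofHom φ) ≫ p.str) ⟶ p.pt) ≫ p.toHom)⟩

theorem extPt_toHom (p : FieldPt Y.obj) (k' : Type u) [Field k'] (φ : p.K →+* k') :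
    (extPt p k' φ).toHom = (yon S).map (Over.homMk (Spec.map (CommRingCat.ofHom φ)) rfl :
      Over.mk (Spec.map (CommRingCat.ofHom φ) ≫ p.str) ⟶ p.pt) ≫ p.toHom :=
  (J S).uliftYonedaEquiv.symm_apply_apply _

/-- All field extensions of a point have reduced fibres. -/
def GRFib (p : FieldPt Y.obj) : Prop :=
  ∀ (k' : Type u) [Field k'] (φ : p.K →+* k'), RedFib f (extPt p k' φ)

theorem grFib_iff (p : FieldPt Y.obj) :
    GRFib f p ↔ ∀ (k' : Type u) [Field k'] (φ : p.K →+* k') (Xk' : Sp S) (a : Xk' ⟶ X.obj)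
      (b : Xk' ⟶ (yon S).obj (Over.mk (Spec.map (CommRingCat.ofHom φ) ≫ p.str))),
      IsPullback a b f.hom ((yon S).map (Over.homMk (Spec.map (CommRingCat.ofHom φ)) rfl :
        Over.mk (Spec.map (CommRingCat.ofHom φ) ≫ p.str) ⟶ p.pt) ≫ p.toHom) →
      EtaleLocally (fun U => IsReduced U) Xk' := by
  constructor
  · intro h k' _ φ P a b hP
    exact h k' φ P a b (by rw [extPt_toHom]; exact hP)
  · intro h k' _ φ P a b hP
    exact h k' φ P a b (by rw [← extPt_toHom]; exact hP)

theorem eq_of_rel_map {p : FieldPt Y.obj} {T : Over S} (σ : T ⟶ p.pt) :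
    (yon S).map σ ≫ p.toHom = (J S).uliftYonedaEquiv.symm (Y.obj.obj.map σ.op p.val) := by
  apply (J S).uliftYonedaEquiv.injective
  rw [← GrothendieckTopology.uliftYonedaEquiv_naturality, Equiv.apply_symm_apply]
  exact congrArg _ (FieldPt.uliftYonedaEquiv_toHom p)

/-- Reduced fibres descend along field extensions. -/
theorem redFib_descend {p p' : FieldPt Y.obj} (σ : p'.pt ⟶ p.pt)
    (hσ : (yon S).map σ ≫ p.toHom = p'.toHom) (h : RedFib f p') : RedFib f p := by
  intro P a b hP
  have sq := IsPullback.of_hasPullback b ((yon S).map σ)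
  have hP' : IsAlgSpace P :=
    isAlgSpace_of_isPullback hP X.property (IsAlgSpace.yon_obj _) Y.property
  have hQ : IsAlgSpace (pullback b ((yon S).map σ)) :=
    isAlgSpace_of_isPullback sq hP' (IsAlgSpace.yon_obj _) (IsAlgSpace.yon_obj _)
  have : Surjective σ.left := surjective_of_subsingleton_aux σ.left
  have : Flat σ.left := flat_of_field σ.left
  refine S10561.result (X := ⟨_, hQ⟩) (Y := ⟨P, hP'⟩) (ObjectProperty.homMk (pullback.fst b ((yon S).map σ)))
    (locP_of_repWith (repWith_of_isPullback sq.flip ((repWith_yon_map_iff _ _).2 ‹Flat σ.left›)))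
    (surjective_map_of_repWith (repWith_of_isPullback sq.flip ((repWith_yon_map_iff _ _).2 ‹Surjective σ.left›)))
    (h _ (pullback.fst b ((yon S).map σ) ≫ a) (pullback.snd b ((yon S).map σ)) ?_)
  rw [← hσ]
  exact sq.paste_horiz hP
where
  surjective_of_subsingleton_aux {A B : Type u} [Field A] [Field B]
      (g : Spec (CommRingCat.of A) ⟶ Spec (CommRingCat.of B)) : Surjective g :=
    ⟨fun _ => ⟨IsLocalRing.closedPoint A, Subsingleton.elim (α := PrimeSpectrum B) _ _⟩⟩
  flat_of_field {A B : Type u} [Field A] [Field B]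
      (g : Spec (CommRingCat.of A) ⟶ Spec (CommRingCat.of B)) : Flat g := by
    obtain ⟨φ, rfl⟩ := Spec.map_surjective g
    refine HasRingHomProperty.Spec_iff.2 ?_
    algebraize [φ.hom]
    exact inferInstanceAs (Module.Flat B A)

/-- Geometric reducedness of the fibre only depends on the point. -/
theorem redFib_of_grFib {p q : FieldPt Y.obj} (h : GRFib f q) (e : Points.mk p = Points.mk q) :
    RedFib f p := by
  obtain ⟨Ω, _, w, σ, τ, hστ⟩ := Points.mk_eq_mk_iff.1 e
  obtain ⟨φ, hφ⟩ := Spec.map_surjective τ.left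
  have hw : Spec.map (CommRingCat.ofHom φ.hom) ≫ q.str = w := by
    rw [CommRingCat.ofHom_hom, hφ]; exact Over.w τ
  let ι : Over.mk (Spec.map (CommRingCat.ofHom φ.hom) ≫ q.str) ⟶ Over.mk w :=
    Over.homMk (𝟙 _) (by simpa using hw.symm)
  refine redFib_descend f (p' := extPt q Ω φ.hom) (ι ≫ σ) ?_ (h Ω φ.hom)
  have e' : (Over.homMk (Spec.map (CommRingCat.ofHom φ.hom)) rfl :
      Over.mk (Spec.map (CommRingCat.ofHom φ.hom) ≫ q.str) ⟶ q.pt) = ι ≫ τ :=
    Over.OverMorphism.ext (by simp [ι, hφ])
  rw [extPt_toHom, e', Functor.map_comp, Functor.map_comp, Category.assoc, Category.assoc,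
    eq_of_rel_map, eq_of_rel_map, hστ]

theorem rel_of_comp_eq {p q : FieldPt Y.obj} {T : Over S} (σ : T ⟶ p.pt) (τ : T ⟶ q.pt)
    (h : (yon S).map σ ≫ p.toHom = (yon S).map τ ≫ q.toHom) :
    Y.obj.obj.map σ.op p.val = Y.obj.obj.map τ.op q.val := by
  rw [eq_of_rel_map, eq_of_rel_map] at h
  exact (J S).uliftYonedaEquiv.symm.injective h

theorem grFib_of_forall_redFib {q : FieldPt Y.obj} (h : ∀ p, Points.mk p = Points.mk q → RedFib f p) :
    GRFib f q := fun k' _ φ => h _ (Points.sound ⟨k', inferInstance, _, 𝟙 _,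
      Over.homMk (Spec.map (CommRingCat.ofHom φ)) rfl,
      rel_of_comp_eq (p := extPt q k' φ) _ _
        (by rw [CategoryTheory.Functor.map_id, Category.id_comp, extPt_toHom])⟩)

/-- The fibre condition on a class of points. -/
theorem forall_grFib_iff (y : Points Y.obj) :
    (∀ k : FieldPt Y.obj, Points.mk k = y → GRFib f k) ↔ ∀ p, Points.mk p = y → RedFib f p :=
  ⟨fun h p hp => redFib_of_grFib f (h p hp) rfl,
    fun h k hk => grFib_of_forall_redFib f fun p hp => h p (hp.trans hk)⟩

variable {V U : Over S} (b : (yon S).obj V ⟶ Y.obj) (c : (yon S).obj U ⟶ pullback f.hom b) (h : U ⟶ V)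

/-- The fibres over points of a scheme over the target, on a chart. -/
theorem grFib_iff_mem_locus (hc : RepWith @Etale c) (hcs : RepWith @Surjective c)
    (hh : c ≫ pullback.snd f.hom b = (yon S).map h) (v : ↥V.left) :
    (∀ p : FieldPt Y.obj, Points.mk p = Points.ofPt b v → RedFib f p) ↔
      v ∈ GeomRedConstr.locus h.left := by
  have sqX := IsPullback.of_hasPullback f.hom b
  have hX' : IsAlgSpace (pullback f.hom b) :=
    isAlgSpace_of_isPullback sqX X.property (IsAlgSpace.yon_obj _) Y.property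
  have fib : ∀ (K : Type u) [Field K] (τ : Spec (CommRingCat.of K) ⟶ V.left),
      RedFib f ⟨K, τ ≫ V.hom, (J S).uliftYonedaEquiv ((yon S).map (Over.homMk τ rfl : Over.mk (τ ≫ V.hom) ⟶ V) ≫ b)⟩ ↔
        IsReduced (pullback h.left τ) := by
    intro K _ τ
    let p : FieldPt Y.obj :=
      ⟨K, τ ≫ V.hom, (J S).uliftYonedaEquiv ((yon S).map (Over.homMk τ rfl : Over.mk (τ ≫ V.hom) ⟶ V) ≫ b)⟩
    have hp : p.toHom = (yon S).map (Over.homMk τ rfl : Over.mk (τ ≫ V.hom) ⟶ V) ≫ b :=
      (J S).uliftYonedaEquiv.symm_apply_apply _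
    let t : Over.mk (τ ≫ V.hom) ⟶ V := Over.homMk τ rfl
    let W : Over S := Over.mk (pullback.fst h.left τ ≫ U.hom)
    let w₁ : W ⟶ U := Over.homMk (pullback.fst h.left τ) rfl
    let w₂ : W ⟶ Over.mk (τ ≫ V.hom) := Over.homMk (pullback.snd h.left τ) (by
      change pullback.snd h.left τ ≫ τ ≫ V.hom = pullback.fst h.left τ ≫ U.hom
      rw [← Over.w h, ← Category.assoc, ← pullback.condition, Category.assoc])
    have sqW : IsPullback w₁ w₂ h t :=
      IsPullback.of_map (Over.forget S) (Over.OverMorphism.ext pullback.condition)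
        (IsPullback.of_hasPullback h.left τ)
    have sqP := IsPullback.of_hasPullback (pullback.snd f.hom b) ((yon S).map t)
    have sqW' := sqW.map (yon S)
    rw [← hh] at sqW'
    let l := sqP.lift ((yon S).map w₁ ≫ c) ((yon S).map w₂) (by rw [Category.assoc]; exact sqW'.w)
    have sql : IsPullback ((yon S).map w₁) l c (pullback.fst (pullback.snd f.hom b) ((yon S).map t)) :=
      IsPullback.of_bot (by rw [sqP.lift_snd]; exact sqW') (sqP.lift_fst _ _ _).symm sqP
    have hl : RepWith @Etale l := repWith_of_isPullback sql hc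
    have hls : RepWith @Surjective l := repWith_of_isPullback sql hcs
    constructor
    · intro H
      exact WeakAssUnit.isReduced_chart (H _ _ _ (by rw [hp]; exact sqP.paste_horiz sqX)) l hl
    · intro H P a b' hP
      rw [hp] at hP
      let e := (sqP.paste_horiz sqX).isoIsPullback _ _ hP
      exact ⟨W, l ≫ e.hom, repWith_comp hl (repWith_of_isIso _ _), repWith_comp hls (repWith_of_isIso _ _), H⟩
  refine Iff.trans ?_ (GeomRedConstr.geometricallyReduced_fiber_iff h.left v).symm
  constructor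
  · intro H K _ φ
    refine (fib K _).1 (H _ ?_)
    rw [mk_eq_ofPt]
    refine (congrArg (fun g => Points.ofPt g _) ((J S).uliftYonedaEquiv.symm_apply_apply _)).trans ?_
    rw [ofPt_comp]
    congr 1
    change V.left.fromSpecResidueField v (φ _) = v
    exact Scheme.fromSpecResidueField_apply _ _
  · intro H p hp
    obtain ⟨Ω, _, w, σ, τ, hστ⟩ := Points.mk_eq_mk_iff.1 hp
    let t₀ : Spec (CommRingCat.of Ω) ⟶ V.left := τ.left ≫ V.left.fromSpecResidueField v
    have hw : t₀ ≫ V.hom = w := (Category.assoc _ _ _).trans (Over.w τ)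
    let ι : Over.mk (t₀ ≫ V.hom) ⟶ Over.mk w := Over.homMk (𝟙 _) (by simpa using hw.symm)
    refine redFib_descend f
      (p' := ⟨Ω, t₀ ≫ V.hom, (J S).uliftYonedaEquiv ((yon S).map (Over.homMk t₀ rfl : Over.mk (t₀ ≫ V.hom) ⟶ V) ≫ b)⟩)
      (ι ≫ σ) ?_ ((fib Ω t₀).2 (H Ω τ.left))
    refine Eq.trans ?_ ((J S).uliftYonedaEquiv.symm_apply_apply _).symm
    have e' : (Over.homMk t₀ rfl : Over.mk (t₀ ≫ V.hom) ⟶ V) =
        ι ≫ τ ≫ (Over.homMk (V.left.fromSpecResidueField v) rfl : _ ⟶ V) :=
      Over.OverMorphism.ext (by simp [ι, t₀])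
    have key : (yon S).map σ ≫ p.toHom = (yon S).map τ ≫
        (yon S).map (Over.homMk (V.left.fromSpecResidueField v) rfl : _ ⟶ V) ≫ b :=
      (eq_of_rel_map σ).trans ((congrArg _ hστ).trans ((eq_of_rel_map (Y := Y) τ).symm.trans
        (congrArg _ (FieldPt.toHom_ofPt b v))))
    rw [e']
    simp only [Functor.map_comp, Category.assoc]
    exact congrArg ((yon S).map ι ≫ ·) key

/-- The bad points of a chart have closed image. -/
theorem isOpen_locus_chart (hc : RepWith @Etale c) (hcs : RepWith @Surjective c)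
    (hh : c ≫ pullback.snd f.hom b = (yon S).map h) [Flat h.left] [LocallyOfFinitePresentation h.left]
    (hcl : IsUnivClosedMor (pullback.snd f.hom b)) : IsOpen (GeomRedConstr.locus h.left) := by
  let B : Set U.left := {u | ¬ E h.left u}
  have hB : IsClosed B := (Groth.Agent.S2549.result h.left).isClosed_compl
  have hsat : Points.ofPt c ⁻¹' (Points.ofPt c '' B) = B := by
    refine Set.Subset.antisymm ?_ (Set.subset_preimage_image _ _)
    rintro u ⟨u', hu', e⟩
    obtain ⟨R, p₁, p₂, r, hp₁, hp₂, rfl, rfl, he⟩ := GeomRed.exists_link hc hc e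
    have e' : p₁ ≫ h = p₂ ≫ h := (yon S).map_injective (by
      rw [Functor.map_comp, Functor.map_comp, ← hh, ← Category.assoc, ← Category.assoc, he])
    intro H
    apply hu'
    rw [← E_comp_etale p₁.left, ← Over.comp_left, e', Over.comp_left, E_comp_etale]
    exact H
  have hC : IsClosed (Points.ofPt c '' B) := by
    rw [← (isQuotientMap_ofPt hc hcs).isClosed_preimage, hsat]
    exact hB
  have hcm : IsClosedMap (Points.map (pullback.snd f.hom b)) :=
    hcl (IsAlgSpace.yon_obj V) (𝟙 _) (𝟙 _) _ (IsPullback.of_horiz_isIso ⟨by simp⟩)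
  have hclosed : IsClosed (h.left '' B) := by
    have e : h.left '' B = Points.ofPt (𝟙 ((yon S).obj V)) ⁻¹'
        (Points.map (pullback.snd f.hom b) '' (Points.ofPt c '' B)) := by
      ext v
      constructor
      · rintro ⟨u, hu, rfl⟩
        refine ⟨_, ⟨u, hu, rfl⟩, ?_⟩
        rw [Points.map_ofPt, hh, ← Category.comp_id ((yon S).map h), ofPt_comp]
      · rintro ⟨_, ⟨u, hu, rfl⟩, huv⟩
        refine ⟨u, hu, (Points.schemeEquiv V).injective ?_⟩
        rw [Points.map_ofPt, hh, ← Category.comp_id ((yon S).map h), ofPt_comp] at huv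
        exact huv
    rw [e]
    exact (hcm _ hC).preimage (Points.continuous_ofPt _)
  have e : GeomRedConstr.locus h.left = (h.left '' B)ᶜ := by
    ext v
    rw [mem_locus_iff]
    simp only [Set.mem_compl_iff, Set.mem_image, not_exists, not_and, B, Set.mem_ofPred_eq]
    exact ⟨fun H u hu e => hu (H u e), fun H u e => by_contra fun hu => H u hu e⟩
  rw [e]
  exact hclosed.isOpen_compl

end Groth.Agent.AlgSpDec.GeomRedFib
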