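import Groth.Agent.LC.GorFlat
import Groth.Agent.LC.GorRing
import Groth.Agent.WEtLib.Stalks
import Groth.Agent.Triage.CMMor
import Groth.Agent.IsoNatLib.SmoothCrit
import Groth.Agent.S0342
import Groth.Agent.S0538
import Groth.Agent.S0539
import Groth.Agent.S0540
import Groth.Agent.S0736
import Groth.Agent.S12237

/-!
# Gorenstein local homomorphisms
-/

set_option autoImplicit false
set_option linter.style.haveILetI false
set_option linter.unusedSectionVars false
set_option backward.isDefEq.respectTransparency false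
set_option backward.isDefEq.respectTransparency.types false

universe u

open IsLocalRing TensorProduct

namespace Groth.Agent.AlgSpDec.Gor

/-- A flat homomorphism with Gorenstein closed fibre. -/
def GorMap {A B : Type u} [CommRing A] [IsLocalRing A] [CommRing B] (ψ : A →+* B) : Prop :=
  ψ.Flat ∧ LocCoh.IsGorensteinLocalRing (B ⧸ (maximalIdeal A).map ψ)

theorem gor_congr {A B : Type u} [CommRing A] [CommRing B] (e : A ≃+* B) :
    LocCoh.IsGorensteinLocalRing A ↔ LocCoh.IsGorensteinLocalRing B := by
  refine ⟨fun h => ?_, fun h => ?_⟩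
  · haveI := h
    haveI : IsLocalRing B := e.isLocalRing
    haveI : IsNoetherianRing B := isNoetherianRing_of_ringEquiv A e
    exact LC.gorenstein_of_ringEquiv e
  · haveI := h
    haveI : IsLocalRing A := e.symm.isLocalRing
    haveI : IsNoetherianRing A := isNoetherianRing_of_ringEquiv B e.symm
    exact LC.gorenstein_of_ringEquiv e.symm

variable {A B C : Type u} [CommRing A] [CommRing B] [CommRing C] [IsLocalRing A] [IsLocalRing B] [IsLocalRing C]

theorem gor_of_map_eq (φ : B →+* C) (h : (maximalIdeal B).map φ = maximalIdeal C) :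
    LocCoh.IsGorensteinLocalRing (C ⧸ (maximalIdeal B).map φ) := by
  refine (gor_congr (Ideal.quotEquivOfEq h)).2 ?_
  show LocCoh.IsGorensteinLocalRing (ResidueField C)
  exact Groth.Agent.S0342.result (ResidueField C)

/-- The closed fibres along a composite of local homomorphisms, the second flat. -/
theorem fibre_comp (ψ : A →+* B) (φ : B →+* C) [IsLocalHom ψ] [IsLocalHom φ] (hφ : φ.Flat)
    [IsNoetherianRing (B ⧸ (maximalIdeal A).map ψ)] [IsNoetherianRing (C ⧸ (maximalIdeal A).map (φ.comp ψ))] :
    LocCoh.IsGorensteinLocalRing (C ⧸ (maximalIdeal A).map (φ.comp ψ)) ↔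
      LocCoh.IsGorensteinLocalRing (B ⧸ (maximalIdeal A).map ψ) ∧
        LocCoh.IsGorensteinLocalRing (C ⧸ (maximalIdeal B).map φ) := by
  let I := (maximalIdeal A).map ψ
  have hIm : I ≤ maximalIdeal B := map_maximalIdeal_le ψ
  have hJ : (maximalIdeal A).map (φ.comp ψ) = I.map φ := (Ideal.map_map ψ φ).symm
  haveI : IsNoetherianRing (C ⧸ I.map φ) :=
    isNoetherianRing_of_ringEquiv (C ⧸ (maximalIdeal A).map (φ.comp ψ)) (Ideal.quotEquivOfEq hJ)
  rw [gor_congr (Ideal.quotEquivOfEq hJ)]
  haveI : Nontrivial (B ⧸ I) :=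
    Ideal.Quotient.nontrivial_iff.2 fun h => (maximalIdeal.isMaximal B).ne_top (top_le_iff.1 (h ▸ hIm))
  haveI : Nontrivial (C ⧸ I.map φ) :=
    Ideal.Quotient.nontrivial_iff.2 fun h => (maximalIdeal.isMaximal C).ne_top
      (top_le_iff.1 (h ▸ (Ideal.map_mono hIm).trans (map_maximalIdeal_le φ)))
  haveI : IsLocalRing (B ⧸ I) := .of_surjective' (Ideal.Quotient.mk _) Ideal.Quotient.mk_surjective
  haveI : IsLocalRing (C ⧸ I.map φ) := .of_surjective' (Ideal.Quotient.mk _) Ideal.Quotient.mk_surjective
  letI : Algebra B C := φ.toAlgebra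
  haveI : Module.Flat B C := hφ
  haveI : Module.Flat (B ⧸ I) (C ⧸ I.map (algebraMap B C)) := LC.exists_quotientMap_flat I
  haveI : IsLocalRing (C ⧸ I.map (algebraMap B C)) := ‹IsLocalRing (C ⧸ I.map φ)›
  haveI : IsNoetherianRing (C ⧸ I.map (algebraMap B C)) := ‹IsNoetherianRing (C ⧸ I.map φ)›
  haveI : IsLocalHom (algebraMap (B ⧸ I) (C ⧸ I.map (algebraMap B C))) := by
    constructor
    intro b hb
    obtain ⟨b, rfl⟩ := Ideal.Quotient.mk_surjective b
    have hb' : IsUnit (Ideal.Quotient.mk (I.map φ) (φ b)) := hb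
    haveI : IsLocalHom (Ideal.Quotient.mk (I.map φ)) := IsLocalHom.of_surjective _ Ideal.Quotient.mk_surjective
    exact (isUnit_of_map_unit φ b (isUnit_of_map_unit _ _ hb')).map _
  show LocCoh.IsGorensteinLocalRing (C ⧸ I.map (algebraMap B C)) ↔
    LocCoh.IsGorensteinLocalRing (B ⧸ I) ∧ LocCoh.IsGorensteinLocalRing (C ⧸ (maximalIdeal B).map φ)
  rw [LC.gorenstein_flat_local_iff (B ⧸ I) (C ⧸ I.map (algebraMap B C))]
  refine and_congr_right fun _ => ?_
  refine gor_congr ?_
  have hmB : maximalIdeal (B ⧸ I) = (maximalIdeal B).map (Ideal.Quotient.mk I) :=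
    (IsLocalRing.map_maximalIdeal_of_surjective _ Ideal.Quotient.mk_surjective).symm
  refine (Ideal.quotEquivOfEq (show (maximalIdeal (B ⧸ I)).map (algebraMap (B ⧸ I) (C ⧸ I.map (algebraMap B C))) =
    ((maximalIdeal B).map φ).map (Ideal.Quotient.mk (I.map φ)) from ?_)).trans
    (DoubleQuot.quotQuotEquivQuotOfLE (Ideal.map_mono hIm))
  rw [hmB]
  exact (Ideal.map_map (Ideal.Quotient.mk I) (algebraMap (B ⧸ I) (C ⧸ I.map (algebraMap B C)))).trans
    (Ideal.map_map φ (Ideal.Quotient.mk (I.map φ))).symm

theorem flat_comp_iff (ψ : A →+* B) (φ : B →+* C) [IsLocalHom φ] (hφ : φ.Flat) :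
    (φ.comp ψ).Flat ↔ ψ.Flat := by
  refine ⟨fun hf => ?_, fun hf => hf.comp hφ⟩
  let := ψ.toAlgebra
  let := φ.toAlgebra
  let := (φ.comp ψ).toAlgebra
  have : IsScalarTower A B C := IsScalarTower.of_algebraMap_eq fun _ => rfl
  have : IsLocalHom (algebraMap B C) := ‹IsLocalHom φ›
  have : Module.Flat B C := hφ
  have : Module.FaithfullyFlat B C := Module.FaithfullyFlat.of_flat_of_isLocalHom
  have : Module.Flat A C := hf
  exact SmallFlat.flat_of_faithfullyFlat_tower A B C

/-- Gorenstein homomorphisms do not see a flat local homomorphism at the source with maximal ideal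
generating the maximal ideal. -/
theorem gorMap_comp_iff_left (ψ : A →+* B) (φ : B →+* C) [IsLocalHom ψ] [IsLocalHom φ] (hφ : φ.Flat)
    (hm : (maximalIdeal B).map φ = maximalIdeal C) [IsNoetherianRing (B ⧸ (maximalIdeal A).map ψ)]
    [IsNoetherianRing (C ⧸ (maximalIdeal A).map (φ.comp ψ))] :
    GorMap (φ.comp ψ) ↔ GorMap ψ := by
  refine and_congr (flat_comp_iff ψ φ hφ) ?_
  rw [fibre_comp ψ φ hφ, and_iff_left (gor_of_map_eq φ hm)]

/-- Gorenstein homomorphisms do not see a weakly etale unramified homomorphism at the target. -/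
theorem gorMap_comp_iff_right (ψ : A →+* B) (φ : B →+* C)
    (hψ : letI := ψ.toAlgebra; Algebra.WeaklyEtale A B) (hm : (maximalIdeal A).map ψ = maximalIdeal B) :
    GorMap (φ.comp ψ) ↔ GorMap φ := by
  have hI : (maximalIdeal A).map (φ.comp ψ) = (maximalIdeal B).map φ := by rw [← Ideal.map_map, hm]
  refine and_congr ⟨fun hf => ?_, fun hf => ?_⟩ (gor_congr (Ideal.quotEquivOfEq hI))
  · let := ψ.toAlgebra
    let := φ.toAlgebra
    let := (φ.comp ψ).toAlgebra
    have : IsScalarTower A B C := IsScalarTower.of_algebraMap_eq fun _ => rfl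
    have : Module.Flat A C := hf
    exact WEtLib.flat_of_flat (A := A) (B := B) C
  · letI := ψ.toAlgebra
    haveI := hψ
    exact (show ψ.Flat from (inferInstance : Module.Flat A B)).comp hf

section Hensel

variable (R : Type u) [CommRing R] [Algebra B R] [IsLocalRing R] [IsLocalHom (algebraMap B R)]
  [Hensel.IsStrictHenselization B R]

theorem weaklyEtale_strict : Algebra.WeaklyEtale B R :=
  Groth.Agent.S0736.result _ _ (Groth.Agent.S12237.result B R)

/-- A strict henselization of a quotient. -/
theorem isNoetherianRing_quotient_strict (I : Ideal B) (hI : I ≤ maximalIdeal B) [IsNoetherianRing (B ⧸ I)] :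
    IsNoetherianRing (R ⧸ I.map (algebraMap B R)) := by
  let J := I.map (algebraMap B R)
  have hJ : J ≤ maximalIdeal R := (Ideal.map_mono hI).trans (map_maximalIdeal_le _)
  haveI hh : HenselianLocalRing R := Hensel.IsStrictHenselization.henselian B
  haveI hsc : IsSepClosure (ResidueField B) (ResidueField R) := Hensel.IsStrictHenselization.isSepClosure
  have hJt : J ≠ ⊤ := fun h => (maximalIdeal.isMaximal R).ne_top (top_le_iff.1 (h ▸ hJ))
  have hIt : I ≠ ⊤ := fun h => (maximalIdeal.isMaximal B).ne_top (top_le_iff.1 (h ▸ hI))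
  haveI : Nontrivial (B ⧸ I) := Ideal.Quotient.nontrivial_iff.2 hIt
  haveI : Nontrivial (R ⧸ J) := Ideal.Quotient.nontrivial_iff.2 hJt
  haveI : IsLocalRing (B ⧸ I) := .of_surjective' _ Ideal.Quotient.mk_surjective
  haveI : IsLocalRing (R ⧸ J) := .of_surjective' _ Ideal.Quotient.mk_surjective
  haveI hB : IsLocalHom (Ideal.Quotient.mk I) := .of_surjective _ Ideal.Quotient.mk_surjective
  haveI hR : IsLocalHom (Ideal.Quotient.mk J) := .of_surjective _ Ideal.Quotient.mk_surjective
  haveI : IsLocalHom (algebraMap (B ⧸ I) (R ⧸ J)) := by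
    constructor
    intro b hb
    obtain ⟨b, rfl⟩ := Ideal.Quotient.mk_surjective b
    have hb' : IsUnit (Ideal.Quotient.mk J (algebraMap B R b)) := hb
    exact (isUnit_of_map_unit (algebraMap B R) b (isUnit_of_map_unit _ _ hb')).map _
  let eB : ResidueField B ≃+* ResidueField (B ⧸ I) := RingEquiv.ofBijective (ResidueField.map (Ideal.Quotient.mk I))
    ⟨RingHom.injective _, fun z => by
      obtain ⟨z, rfl⟩ := residue_surjective z
      obtain ⟨b, rfl⟩ := Ideal.Quotient.mk_surjective z
      exact ⟨residue B b, rfl⟩⟩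
  let eR : ResidueField R ≃+* ResidueField (R ⧸ J) := RingEquiv.ofBijective (ResidueField.map (Ideal.Quotient.mk J))
    ⟨RingHom.injective _, fun z => by
      obtain ⟨z, rfl⟩ := residue_surjective z
      obtain ⟨b, rfl⟩ := Ideal.Quotient.mk_surjective z
      exact ⟨residue R b, rfl⟩⟩
  have hs : Hensel.IsStrictHenselization (B ⧸ I) (R ⧸ J) := by
    refine ⟨IsoNatLib.henselianLocalRing_quotient J hJt, ⟨?_, ?_⟩, ?_⟩
    · haveI := hsc.sep_closed
      exact IsSepClosed.of_exists_root _ fun p _ hp hs => by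
        have hd : (p.map eR.symm.toRingHom).degree ≠ 0 := by
          rw [Polynomial.degree_map]; exact (Polynomial.degree_pos_of_irreducible hp).ne'
        obtain ⟨x, hx⟩ := IsSepClosed.exists_root (p.map eR.symm.toRingHom) hd hs.map
        refine ⟨eR x, eR.symm.injective ?_⟩
        rw [map_zero, ← hx]
        change eR.symm.toRingHom (p.eval (eR x)) = _
        rw [← Polynomial.eval_map_apply]
        simp
    · haveI := hsc.separable
      exact Algebra.IsSeparable.of_equiv_equiv eB eR (RingHom.ext fun z => by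
        obtain ⟨b, rfl⟩ := residue_surjective z
        rfl)
    · intro T _ _ f _ τ hτ
      haveI : IsLocalHom (f.comp (Ideal.Quotient.mk I)) := RingHom.isLocalHom_comp _ _
      obtain ⟨g, ⟨hg, hgr⟩, huniq⟩ := Hensel.IsStrictHenselization.universal (R := B) (S := R) T
        (f.comp (Ideal.Quotient.mk I)) (τ.comp (ResidueField.map (Ideal.Quotient.mk J))) (RingHom.ext fun z => by
          obtain ⟨b, rfl⟩ := residue_surjective z
          exact RingHom.congr_fun hτ (residue (B ⧸ I) (Ideal.Quotient.mk I b)))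
      have hker : ∀ a ∈ J, g a = 0 := by
        have : J ≤ RingHom.ker g := Ideal.map_le_iff_le_comap.2 fun b hb => by
          show g (algebraMap B R b) = 0
          rw [← RingHom.comp_apply, hg, RingHom.comp_apply, Ideal.Quotient.eq_zero_iff_mem.2 hb, map_zero]
        exact fun a ha => this ha
      refine ⟨Ideal.Quotient.lift J g hker, ⟨Ideal.Quotient.ringHom_ext (RingHom.ext fun b => ?_), fun x => ?_⟩,
        fun g' hg' => ?_⟩
      · exact RingHom.congr_fun hg b
      · obtain ⟨x, rfl⟩ := Ideal.Quotient.mk_surjective x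
        exact hgr x
      · refine Ideal.Quotient.ringHom_ext ?_
        rw [huniq (g'.comp (Ideal.Quotient.mk J)) ⟨RingHom.ext fun b =>
          RingHom.congr_fun hg'.1 (Ideal.Quotient.mk I b), fun x => hg'.2 (Ideal.Quotient.mk J x)⟩]
        exact RingHom.ext fun x => rfl
  exact (Groth.Agent.S0540.result (B ⧸ I) (R ⧸ J)).1 inferInstance

/-- Gorenstein local rings and strict henselizations. -/
theorem gor_strict_iff [IsNoetherianRing B] :
    LocCoh.IsGorensteinLocalRing R ↔ LocCoh.IsGorensteinLocalRing B := by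
  haveI : IsNoetherianRing R := (Groth.Agent.S0540.result B R).1 inferInstance
  haveI : Module.FaithfullyFlat B R := Groth.Agent.S0539.result B R
  rw [LC.gorenstein_flat_local_iff B R, and_iff_left (gor_of_map_eq (algebraMap B R) (Groth.Agent.S0538.result B R))]

/-- Gorenstein homomorphisms and strict henselizations. -/
theorem gorMap_strict_iff (ψ : A →+* B) [IsLocalHom ψ] [IsNoetherianRing (B ⧸ (maximalIdeal A).map ψ)]
    (R' : Type u) [CommRing R'] [Algebra A R'] [IsLocalRing R'] [IsLocalHom (algebraMap A R')]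
    [Hensel.IsStrictHenselization A R'] (φ : R' →+* R)
    (hφ : φ.comp (algebraMap A R') = (algebraMap B R).comp ψ) : GorMap φ ↔ GorMap ψ := by
  haveI : IsNoetherianRing (R ⧸ (maximalIdeal A).map ((algebraMap B R).comp ψ)) := by
    haveI := isNoetherianRing_quotient_strict R ((maximalIdeal A).map ψ) (map_maximalIdeal_le ψ)
    exact isNoetherianRing_of_ringEquiv (R ⧸ ((maximalIdeal A).map ψ).map (algebraMap B R))
      (Ideal.quotEquivOfEq (Ideal.map_map ψ (algebraMap B R)))
  haveI : Module.FaithfullyFlat B R := Groth.Agent.S0539.result B R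
  rw [← gorMap_comp_iff_right (algebraMap A R') φ (by
    have := weaklyEtale_strict (B := A) R'
    convert this using 1
    exact Algebra.algebra_ext _ _ fun _ => rfl) (Groth.Agent.S0538.result A R'), hφ]
  exact gorMap_comp_iff_left ψ (algebraMap B R) (RingHom.flat_algebraMap_iff.2 inferInstance) (Groth.Agent.S0538.result B R)

end Hensel

end Groth.Agent.AlgSpDec.Gor
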