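import Groth.Agent.AlgSpDec.GorAlg
import Groth.Agent.Triage.CMBC
import Groth.Agent.FlatPtDesc.Basic
import Groth.Prelude.Def_Dual3

/-!
# Base change of Gorenstein morphisms of schemes
-/

set_option autoImplicit false
set_option linter.style.haveILetI false
set_option linter.unusedSectionVars false
set_option backward.isDefEq.respectTransparency false
set_option backward.isDefEq.respectTransparency.types false

universe u

open AlgebraicGeometry CategoryTheory CategoryTheory.Limits IsLocalRing TensorProduct

namespace Groth.Agent.AlgSpDec.Gor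

/-- The local rings of a fibre of the base change by a finitely generated field extension. -/
theorem gor_stalk_of_field_pullback {k K L : Type u} [Field k] [Field K] [Field L] [Algebra k K]
    [Algebra k L] [Algebra.EssFiniteType k L] {G : Scheme.{u}} {a : G ⟶ Spec (CommRingCat.of K)}
    {b : G ⟶ Spec (CommRingCat.of L)}
    (h : IsPullback a b (Spec.map (CommRingCat.ofHom (algebraMap k K))) (Spec.map (CommRingCat.ofHom (algebraMap k L))))
    (w : G) : LocCoh.IsGorensteinLocalRing (G.presheaf.stalk w) := by
  haveI := LC.gorensteinRing_of_isRegularRing K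
  haveI := LC.gorensteinRing_field_tensor k K L
  haveI : LocCoh.IsGorensteinRing (K ⊗[k] L) :=
    LC.gorensteinRing_of_ringEquiv (Algebra.TensorProduct.comm k L K).toRingEquiv inferInstance
  let e : G ⟶ Spec (CommRingCat.of (K ⊗[k] L)) := (h.isoPullback ≪≫ pullbackSpecIso k K L).hom
  let v := e w
  refine (gor_congr ((asIso (e.stalkMap w)).commRingCatIsoToRingEquiv)).1 ?_
  exact (gor_congr (Spec.stalkIso (CommRingCat.of (K ⊗[k] L)) v).symm.commRingCatIsoToRingEquiv).1
    (LocCoh.IsGorensteinRing.isGorensteinLocalRing_localization v.asIdeal)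

variable {X S X' T : Scheme.{u}} {f : X ⟶ S} {f' : X' ⟶ T} {g' : X' ⟶ X} {g : T ⟶ S}

/-- Gorenstein local rings of the fibres along a base change. -/
theorem gor_fibre_iff (hc : IsPullback g' f' f g) [LocallyOfFiniteType g] (x' : X')
    (hN : IsLocallyNoetherian (f.fiber (g (f' x')))) :
    LocCoh.IsGorensteinLocalRing ((f'.fiber (f' x')).presheaf.stalk (f'.asFiber x')) ↔
      LocCoh.IsGorensteinLocalRing ((f.fiber (f (g' x'))).presheaf.stalk (f.asFiber (g' x'))) := by
  have hy : f (g' x') = g (f' x') := by rw [← Scheme.Hom.comp_apply, hc.w, Scheme.Hom.comp_apply]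
  obtain ⟨e, he, hι⟩ := ConsPropLib.exists_fibre_pullback hc (f' x')
  have hz' : f'.fiberι (f' x') (f'.asFiber x') = x' := f'.fiberι_asFiber x'
  generalize f'.asFiber x' = z' at hz' ⊢
  have hz : f.fiberι (g (f' x')) (e z') = g' x' := by
    rw [← Scheme.Hom.comp_apply, hι, Scheme.Hom.comp_apply, hz']
  obtain ⟨E⟩ := Triage.CMMor.exists_equiv_fibre_stalk_aux f (g' x') (f (g' x')) rfl (f.asFiber (g' x')) (f.fiberι_asFiber _)
  obtain ⟨E'⟩ := Triage.CMMor.exists_equiv_fibre_stalk_aux f (g' x') (g (f' x')) hy (e z') hz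
  rw [← gor_congr E, gor_congr (Ideal.quotEquivOfEq (FibFlat.map_max_sm f (g' x') _ hy)), gor_congr E']
  haveI hl : IsLocallyNoetherian (f.fiber (g (f' x'))) := hN
  obtain ⟨E''⟩ := Triage.CMMor.exists_equiv_fibre_stalk_aux f' x' (f' x') rfl z' hz'
  haveI := Triage.CMBC.isNoetherianRing_fibre_stalk_of_isPullback hc x' hN
  haveI : IsNoetherianRing ((f'.fiber (f' x')).presheaf.stalk z') := isNoetherianRing_of_ringEquiv _ E''
  haveI : Flat e := by
    have h1 : Flat (Spec.map (g.residueFieldMap (f' x'))) := by
      rw [Flat.SpecMap_iff]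
      let := (g.residueFieldMap (f' x')).hom.toAlgebra
      exact RingHom.flat_algebraMap_iff.2 inferInstance
    exact MorphismProperty.of_isPullback (P := (@Flat : MorphismProperty Scheme.{u})) he.flip h1
  letI : Algebra ((f.fiber (g (f' x'))).presheaf.stalk (e z')) ((f'.fiber (f' x')).presheaf.stalk z') :=
    (e.stalkMap z').hom.toAlgebra
  haveI : IsLocalHom (algebraMap ((f.fiber (g (f' x'))).presheaf.stalk (e z')) ((f'.fiber (f' x')).presheaf.stalk z')) :=
    inferInstanceAs (IsLocalHom (e.stalkMap z').hom)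
  haveI : Module.Flat ((f.fiber (g (f' x'))).presheaf.stalk (e z')) ((f'.fiber (f' x')).presheaf.stalk z') :=
    Flat.stalkMap e z'
  rw [LC.gorenstein_flat_local_iff ((f.fiber (g (f' x'))).presheaf.stalk (e z')) ((f'.fiber (f' x')).presheaf.stalk z')]
  refine ⟨And.left, fun h => ⟨h, ?_⟩⟩
  refine (gor_congr (Triage.CMMor.exists_equiv_fibre_stalk e z').some).2 ?_
  -- the fibre of `e` is the base change of a field extension
  let F := f.fiber (g (f' x'))
  let k := S.residueField (g (f' x'))
  obtain ⟨φ, hφ⟩ := Spec.map_surjective (F.fromSpecResidueField (e z') ≫ f.fiberToSpecResidueField (g (f' x')))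
  letI : Field k := inferInstance
  letI : Algebra k (F.residueField (e z')) := φ.hom.toAlgebra
  letI : Algebra k (T.residueField (f' x')) := (g.residueFieldMap (f' x')).hom.toAlgebra
  haveI : Algebra.EssFiniteType k (T.residueField (f' x')) := Triage.CMBC.essFiniteType_residueFieldMap g (f' x')
  refine gor_stalk_of_field_pullback (k := k) (K := F.residueField (e z')) (L := T.residueField (f' x'))
    (a := pullback.snd e (F.fromSpecResidueField (e z')))
    (b := pullback.fst e (F.fromSpecResidueField (e z')) ≫ f'.fiberToSpecResidueField (f' x')) ?_ _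
  show IsPullback _ _ (Spec.map φ) (Spec.map (g.residueFieldMap (f' x')))
  rw [hφ]
  exact (IsPullback.of_hasPullback e (F.fromSpecResidueField (e z'))).flip.paste_vert he

/-- The residue fields of a scheme locally of finite type over a field are finitely generated over it. -/
theorem essFiniteType_fiber {R : CommRingCat.{u}} {F : Scheme.{u}} (p : F ⟶ Spec R) [LocallyOfFiniteType p] (z : F)
    (φ : R ⟶ F.residueField z) (hφ : Spec.map φ = F.fromSpecResidueField z ≫ p) : φ.hom.EssFiniteType := by
  let ψ : R ⟶ F.residueField z := StructureSheaf.toStalk R (p z) ≫ p.stalkMap z ≫ F.residue z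
  have : φ = ψ := Spec.map_injective (by
    rw [hφ, Spec.map_comp, Spec.map_comp, Scheme.fromSpecResidueField, Category.assoc,
      ← Scheme.SpecMap_stalkMap_fromSpecStalk, Spec.fromSpecStalk_eq, Category.assoc]
    rfl)
  rw [this]
  exact (RingHom.EssFiniteType.comp (RingHom.essFiniteType_algebraMap.2
      (Algebra.EssFiniteType.of_isLocalization (S := (Spec.structureSheaf R).presheaf.stalk (p z)) (p z).asIdeal.primeCompl))
    (LocallyOfFiniteType.stalkMap p z)).comp
    (RingHom.FiniteType.essFiniteType (RingHom.FiniteType.of_surjective _ (F.residue_surjective z)))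

/-- Gorenstein local rings of the fibres along any base change of a morphism locally of finite type. -/
theorem gor_fibre_iff_lft (hc : IsPullback g' f' f g) [LocallyOfFiniteType f] (x' : X') :
    LocCoh.IsGorensteinLocalRing ((f'.fiber (f' x')).presheaf.stalk (f'.asFiber x')) ↔
      LocCoh.IsGorensteinLocalRing ((f.fiber (f (g' x'))).presheaf.stalk (f.asFiber (g' x'))) := by
  have hy : f (g' x') = g (f' x') := by rw [← Scheme.Hom.comp_apply, hc.w, Scheme.Hom.comp_apply]
  obtain ⟨e, he, hι⟩ := ConsPropLib.exists_fibre_pullback hc (f' x')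
  have hz' : f'.fiberι (f' x') (f'.asFiber x') = x' := f'.fiberι_asFiber x'
  generalize f'.asFiber x' = z' at hz' ⊢
  have hz : f.fiberι (g (f' x')) (e z') = g' x' := by
    rw [← Scheme.Hom.comp_apply, hι, Scheme.Hom.comp_apply, hz']
  obtain ⟨E⟩ := Triage.CMMor.exists_equiv_fibre_stalk_aux f (g' x') (f (g' x')) rfl (f.asFiber (g' x')) (f.fiberι_asFiber _)
  obtain ⟨E'⟩ := Triage.CMMor.exists_equiv_fibre_stalk_aux f (g' x') (g (f' x')) hy (e z') hz
  rw [← gor_congr E, gor_congr (Ideal.quotEquivOfEq (FibFlat.map_max_sm f (g' x') _ hy)), gor_congr E']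
  haveI hl : IsLocallyNoetherian (f.fiber (g (f' x'))) := DimFormula.isLocallyNoetherian_fiber f _
  haveI : LocallyOfFiniteType f' :=
    MorphismProperty.of_isPullback (P := @LocallyOfFiniteType) hc inferInstance
  haveI : IsLocallyNoetherian (f'.fiber (f' x')) := DimFormula.isLocallyNoetherian_fiber f' _
  haveI : Flat e := by
    have h1 : Flat (Spec.map (g.residueFieldMap (f' x'))) := by
      rw [Flat.SpecMap_iff]
      let := (g.residueFieldMap (f' x')).hom.toAlgebra
      exact RingHom.flat_algebraMap_iff.2 inferInstance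
    exact MorphismProperty.of_isPullback (P := (@Flat : MorphismProperty Scheme.{u})) he.flip h1
  letI : Algebra ((f.fiber (g (f' x'))).presheaf.stalk (e z')) ((f'.fiber (f' x')).presheaf.stalk z') :=
    (e.stalkMap z').hom.toAlgebra
  haveI : IsLocalHom (algebraMap ((f.fiber (g (f' x'))).presheaf.stalk (e z')) ((f'.fiber (f' x')).presheaf.stalk z')) :=
    inferInstanceAs (IsLocalHom (e.stalkMap z').hom)
  haveI : Module.Flat ((f.fiber (g (f' x'))).presheaf.stalk (e z')) ((f'.fiber (f' x')).presheaf.stalk z') :=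
    Flat.stalkMap e z'
  rw [LC.gorenstein_flat_local_iff ((f.fiber (g (f' x'))).presheaf.stalk (e z')) ((f'.fiber (f' x')).presheaf.stalk z')]
  refine ⟨And.left, fun h => ⟨h, ?_⟩⟩
  refine (gor_congr (Triage.CMMor.exists_equiv_fibre_stalk e z').some).2 ?_
  -- the fibre of `e` is the base change of a field extension
  let F := f.fiber (g (f' x'))
  let k := S.residueField (g (f' x'))
  obtain ⟨φ, hφ⟩ := Spec.map_surjective (F.fromSpecResidueField (e z') ≫ f.fiberToSpecResidueField (g (f' x')))
  letI : Field k := inferInstance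
  letI : Algebra k (F.residueField (e z')) := φ.hom.toAlgebra
  letI : Algebra k (T.residueField (f' x')) := (g.residueFieldMap (f' x')).hom.toAlgebra
  haveI : Algebra.EssFiniteType k (F.residueField (e z')) :=
    essFiniteType_fiber (f.fiberToSpecResidueField (g (f' x'))) (e z') φ hφ
  refine gor_stalk_of_field_pullback (k := k) (L := F.residueField (e z')) (K := T.residueField (f' x'))
    (b := pullback.snd e (F.fromSpecResidueField (e z')))
    (a := pullback.fst e (F.fromSpecResidueField (e z')) ≫ f'.fiberToSpecResidueField (f' x')) ?_ _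
  show IsPullback _ _ (Spec.map (g.residueFieldMap (f' x'))) (Spec.map φ)
  rw [hφ]
  exact ((IsPullback.of_hasPullback e (F.fromSpecResidueField (e z'))).flip.paste_vert he).flip

/-- Flatness at a point descends along a morphism which is flat there. -/
theorem flat_stalk_descent (hc : IsPullback g' f' f g) (x' : X') (hg : (g.stalkMap (f' x')).hom.Flat)
    (hf' : (f'.stalkMap x').hom.Flat) : (f.stalkMap (g' x')).hom.Flat := by
  have hg' : (g'.stalkMap x').hom.Flat := Triage.CMBC.flat_stalk_of_isPullback hc.flip x' hg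
  have h₁ : ((f' ≫ g).stalkMap x').hom.Flat := by
    rw [Scheme.Hom.stalkMap_comp]; exact hg.comp hf'
  have h₂ : ((g' ≫ f).stalkMap x').hom.Flat := FlatPtDesc.flat_stalkMap_of_eq hc.w.symm x' h₁
  rw [Scheme.Hom.stalkMap_comp, CommRingCat.hom_comp] at h₂
  exact (flat_comp_iff (f.stalkMap (g' x')).hom (g'.stalkMap x').hom hg').1 h₂

/-- Base change of the Gorenstein property at a point. -/
theorem gorAt_baseChange (hc : IsPullback g' f' f g) [LocallyOfFiniteType g] (x' : X')
    (hN : IsLocallyNoetherian (f.fiber (g (f' x')))) :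
    (Dual3.IsGorensteinAt f (g' x') → Dual3.IsGorensteinAt f' x') ∧
      ((f.stalkMap (g' x')).hom.Flat → Dual3.IsGorensteinAt f' x' → Dual3.IsGorensteinAt f (g' x')) ∧
      ((g.stalkMap (f' x')).hom.Flat → Dual3.IsGorensteinAt f' x' → Dual3.IsGorensteinAt f (g' x')) :=
  ⟨fun h => ⟨Triage.CMBC.flat_stalk_of_isPullback hc x' h.1, (gor_fibre_iff hc x' hN).2 h.2⟩,
    fun h h' => ⟨h, (gor_fibre_iff hc x' hN).1 h'.2⟩,
    fun h h' => ⟨flat_stalk_descent hc x' h h'.1, (gor_fibre_iff hc x' hN).1 h'.2⟩⟩

end Groth.Agent.AlgSpDec.Gor
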