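import Groth.Agent.AlgSpDec.GorSpace

/-!
# Gorenstein morphisms and fibres over points of charts
-/

set_option autoImplicit false
set_option linter.style.haveILetI false
set_option linter.unusedSectionVars false
set_option backward.isDefEq.respectTransparency false
set_option backward.isDefEq.respectTransparency.types false

universe u

open CategoryTheory CategoryTheory.Limits AlgebraicGeometry AlgSp Groth.Agent.AlgSpLib Groth.Agent.AlgSpPts
  IsLocalRing

namespace Groth.Agent.AlgSpDec.Gor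

theorem gorenstein_fibre_iff {X Y : Scheme.{u}} (h : X ⟶ Y) (v : Y) :
    (∀ x : X, h x = v → LocCoh.IsGorensteinLocalRing ((h.fiber (h x)).presheaf.stalk (h.asFiber x))) ↔
      ∀ z : h.fiber v, LocCoh.IsGorensteinLocalRing ((h.fiber v).presheaf.stalk z) := by
  refine ⟨fun H z => ?_, fun H x hx => ?_⟩
  · obtain ⟨x, rfl, hz⟩ : ∃ x, h x = v ∧ x = h.fiberι v z :=
      ⟨_, by have := h.range_fiberι v; exact this.le ⟨z, rfl⟩, rfl⟩
    have : z = h.asFiber x := (h.fiberι (h x)).isEmbedding.injective (by rw [Scheme.Hom.fiberι_asFiber]; exact hz.symm)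
    rw [this]
    exact H x rfl
  · subst hx
    exact H _

variable {S : Scheme.{u}} {F G : Sp S} {f : F ⟶ G}

/-- A chart of the fibre over a point of a chart. -/
theorem exists_fibre_chart {U V : Over S} {b : (yon S).obj V ⟶ G} {a₀ : (yon S).obj U ⟶ pullback f b} {h : U ⟶ V}
    (h1 : RepWith @Etale a₀) (h3 : a₀ ≫ pullback.snd f b = (yon S).map h) (v : ↥V.left) {Xv : Sp S}
    {a : Xv ⟶ F} {c : Xv ⟶ (yon S).obj (Over.mk (V.left.fromSpecResidueField v ≫ V.hom))}
    (sq : IsPullback a c f ((yon S).map (Over.homMk (V.left.fromSpecResidueField v) rfl :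
        Over.mk (V.left.fromSpecResidueField v ≫ V.hom) ⟶ V) ≫ b)) :
    ∃ (P : Over S) (c₀ : (yon S).obj P ⟶ Xv), RepWith @Etale c₀ ∧
      (RepWith @Surjective a₀ → RepWith @Surjective c₀) ∧ Nonempty (P.left ≅ h.left.fiber v) := by
  let φ : Over.mk (V.left.fromSpecResidueField v ≫ V.hom) ⟶ V := Over.homMk (V.left.fromSpecResidueField v) rfl
  replace sq : IsPullback a c f ((yon S).map φ ≫ b) := sq
  let q : Xv ⟶ pullback f b := pullback.lift a (c ≫ (yon S).map φ) (by rw [Category.assoc]; exact sq.w)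
  have sq₁ : IsPullback q c (pullback.snd f b) ((yon S).map φ) :=
    IsPullback.of_right (by rw [pullback.lift_fst]; exact sq) (pullback.lift_snd _ _ _)
      (IsPullback.of_hasPullback f b)
  have sP : IsPullback (pullback.fst h φ) (pullback.snd h φ) h φ := IsPullback.of_hasPullback _ _
  have big : IsPullback ((yon S).map (pullback.fst h φ)) ((yon S).map (pullback.snd h φ))
      (a₀ ≫ pullback.snd f b) ((yon S).map φ) := by
    rw [h3]; exact sP.map (yon S)
  let c₀ : (yon S).obj (pullback h φ) ⟶ Xv :=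
    sq₁.lift ((yon S).map (pullback.fst h φ) ≫ a₀) ((yon S).map (pullback.snd h φ))
      (by rw [Category.assoc]; exact big.w)
  have sc : IsPullback ((yon S).map (pullback.fst h φ)) c₀ a₀ q :=
    IsPullback.of_bot (by rw [sq₁.lift_snd]; exact big) (sq₁.lift_fst _ _ _).symm sq₁
  exact ⟨_, c₀, repWith_of_isPullback sc h1, fun h2 => repWith_of_isPullback sc h2,
    ⟨(sP.map (Over.forget S)).isoPullback⟩⟩

theorem flat_of_gor (hg : ∀ x, LocPAt (fun h u => Dual3.IsGorensteinAt h u) f x) : LocP @Flat f := by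
  intro U V a b h ha hb w
  rw [Flat.iff_flat_stalkMap]
  exact fun u => (hg _ a b h u ha hb w rfl).1

theorem gor_tfae (hF : IsAlgSpace F) (hG : IsAlgSpace G)
    (hf : ∀ (k : FieldPt G) (Xk : Sp S) (a : Xk ⟶ F) (b : Xk ⟶ (yon S).obj k.pt),
      IsPullback a b f k.toHom → IsLocNoethSp Xk) :
    [∀ x, LocPAt (fun h u => Dual3.IsGorensteinAt h u) f x,
      LocP @Flat f ∧ ∃ (V : Over S) (b : (yon S).obj V ⟶ G),
        RepWith @Etale b ∧ RepWith @Surjective b ∧
          ∀ (v : ↥V.left) (Xv : Sp S) (a : Xv ⟶ F)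
            (c : Xv ⟶ (yon S).obj (Over.mk (V.left.fromSpecResidueField v ≫ V.hom))),
            IsPullback a c f ((yon S).map (Over.homMk (V.left.fromSpecResidueField v) rfl :
              Over.mk (V.left.fromSpecResidueField v ≫ V.hom) ⟶ V) ≫ b) →
            EtaleLocally Dual3.IsGorenstein Xv,
      LocP @Flat f ∧ ∀ (V : Over S) (b : (yon S).obj V ⟶ G), RepWith @Etale b →
          ∀ (v : ↥V.left) (Xv : Sp S) (a : Xv ⟶ F)
            (c : Xv ⟶ (yon S).obj (Over.mk (V.left.fromSpecResidueField v ≫ V.hom))),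
            IsPullback a c f ((yon S).map (Over.homMk (V.left.fromSpecResidueField v) rfl :
              Over.mk (V.left.fromSpecResidueField v ≫ V.hom) ⟶ V) ≫ b) →
            EtaleLocally Dual3.IsGorenstein Xv].TFAE := by
  have lnk : ∀ {V : Over S} (b : (yon S).obj V ⟶ G) (v : ↥V.left) (Xv : Sp S) (a : Xv ⟶ F)
      (c : Xv ⟶ (yon S).obj (Over.mk (V.left.fromSpecResidueField v ≫ V.hom))),
      IsPullback a c f ((yon S).map (Over.homMk (V.left.fromSpecResidueField v) rfl :
        Over.mk (V.left.fromSpecResidueField v ≫ V.hom) ⟶ V) ≫ b) → IsLocNoethSp Xv := by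
    intro V b v Xv a c sq
    exact hf (FieldPt.ofPt b v) Xv a c (by rw [FieldPt.toHom_ofPt]; exact sq)
  tfae_have 1 → 3 := fun hg => by
    refine ⟨flat_of_gor hg, fun V b hb v Xv a c sq => ?_⟩
    obtain ⟨U, a₀, h, h1, h2, h3⟩ := exists_chart_over hF hG f b
    obtain ⟨P, c₀, hc₁, hc₂, ⟨e⟩⟩ := exists_fibre_chart h1 h3 v sq
    haveI : IsLocallyNoetherian P.left := isLocallyNoetherian_chart hc₁ (lnk b v Xv a c sq)
    haveI : IsLocallyNoetherian (h.left.fiber v) := isLocallyNoetherian_of_isOpenImmersion e.inv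
    refine ⟨P, c₀, hc₁, hc₂ h2, inferInstance, fun z => ?_⟩
    rw [gor_stalk_iff_of_etale e.hom z]
    exact (gorenstein_fibre_iff h.left v).1 (fun u _ => (hg _ (a₀ ≫ pullback.fst f b) b h u
      (repWith_comp h1 (repWith_fst f hb)) hb
      (by rw [Category.assoc, pullback.condition, ← Category.assoc, h3]) rfl).2) _
  tfae_have 3 → 2 := fun ⟨h₁, h₂⟩ => by
    obtain ⟨V, b, hb, hb'⟩ := hG.atlas
    exact ⟨h₁, V, b, hb, hb', h₂ V b hb⟩
  tfae_have 2 → 1 := fun ⟨hfl, V, b, hb, hb', h₂⟩ x => by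
    obtain ⟨U, a₀, h, h1, h2, h3⟩ := exists_chart_over hF hG f b
    have ha : RepWith @Etale (a₀ ≫ pullback.fst f b) := repWith_comp h1 (repWith_fst f hb)
    have w : (a₀ ≫ pullback.fst f b) ≫ f = (yon S).map h ≫ b := by
      rw [Category.assoc, pullback.condition, ← Category.assoc, h3]
    obtain ⟨u, rfl⟩ := surjective_ofPt
      (repWith_comp h2 (repWith_fst f hb') : RepWith @Surjective (a₀ ≫ pullback.fst f b)) x
    rw [locPAt_iff (noethFibres_of_fibres hf) ha hb w]
    haveI : Flat h.left := hfl _ b h ha hb w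
    refine ⟨Flat.stalkMap h.left u, (gorenstein_fibre_iff h.left (h.left u)).2 (fun z => ?_) u rfl⟩
    have sq := IsPullback.of_hasPullback f ((yon S).map (Over.homMk (V.left.fromSpecResidueField (h.left u)) rfl :
      Over.mk (V.left.fromSpecResidueField (h.left u) ≫ V.hom) ⟶ V) ≫ b)
    obtain ⟨P, c₀, hc₁, -, ⟨e⟩⟩ := exists_fibre_chart h1 h3 (h.left u) sq
    have hP := gor_chart (h₂ _ _ _ _ sq) hc₁
    haveI := hP.1
    haveI : IsLocallyNoetherian (h.left.fiber (h.left u)) := isLocallyNoetherian_of_isOpenImmersion e.inv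
    rw [gor_stalk_iff_of_etale e.inv z]
    exact hP.2 _
  tfae_finish

end Groth.Agent.AlgSpDec.Gor
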