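import Groth.Agent.AlgSpDec.GorBC
import Groth.Agent.AlgSpDec.GorFibres

/-!
# Base change of Gorenstein morphisms of algebraic spaces
-/

set_option autoImplicit false
set_option linter.style.haveILetI false
set_option linter.unusedSectionVars false
set_option backward.isDefEq.respectTransparency false
set_option backward.isDefEq.respectTransparency.types false

universe u

open CategoryTheory CategoryTheory.Limits AlgebraicGeometry AlgSp Groth.Agent.AlgSpLib Groth.Agent.AlgSpPts
  IsLocalRing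

namespace Groth.Agent.AlgSpDec.Gor

variable {S : Scheme.{u}} {F G F' G' : Sp S} {f : F ⟶ G} {g : G' ⟶ G} {g' : F' ⟶ F} {f' : F' ⟶ G'}

/-- A base change square of charts through a point of the base change. -/
theorem exists_chart_square (hF : IsAlgSpace F) (hG : IsAlgSpace G) (hG' : IsAlgSpace G')
    (hsq : IsPullback g' f' f g) (x' : Points F') :
    ∃ (U V U' V' : Over S) (a : (yon S).obj U ⟶ F) (b : (yon S).obj V ⟶ G) (a' : (yon S).obj U' ⟶ F')
      (b' : (yon S).obj V' ⟶ G') (k : U ⟶ V) (l : V' ⟶ V) (k' : U' ⟶ V') (l' : U' ⟶ U) (u' : ↥U'.left),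
      RepWith @Etale a ∧ RepWith @Etale b ∧ RepWith @Etale a' ∧ RepWith @Etale b' ∧
      a ≫ f = (yon S).map k ≫ b ∧ b' ≫ g = (yon S).map l ≫ b ∧ a' ≫ f' = (yon S).map k' ≫ b' ∧
      a' ≫ g' = (yon S).map l' ≫ a ∧ IsPullback l'.left k'.left k.left l.left ∧
      Points.ofPt a' u' = x' := by
  obtain ⟨V', V, b', b, l, hb', hb'', hb, -, wg⟩ := exists_chart hG' hG g
  obtain ⟨U, a₀, k, h1, h2, h3⟩ := exists_chart_over hF hG f b
  let Z := pullback f' b'
  have big : IsPullback (pullback.fst f' b' ≫ g') (pullback.snd f' b') f (b' ≫ g) :=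
    (IsPullback.of_hasPullback f' b').paste_horiz hsq
  let q : Z ⟶ pullback f b := pullback.lift (pullback.fst f' b' ≫ g') (pullback.snd f' b' ≫ (yon S).map l) (by
    rw [Category.assoc, Category.assoc, hsq.w, ← wg, pullback.condition_assoc])
  have sq₁ : IsPullback q (pullback.snd f' b') (pullback.snd f b) ((yon S).map l) :=
    IsPullback.of_right (by rw [pullback.lift_fst, ← wg]; exact big) (pullback.lift_snd _ _ _)
      (IsPullback.of_hasPullback f b)
  have sP : IsPullback (pullback.fst k l) (pullback.snd k l) k l := IsPullback.of_hasPullback _ _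
  have big' : IsPullback ((yon S).map (pullback.fst k l)) ((yon S).map (pullback.snd k l))
      (a₀ ≫ pullback.snd f b) ((yon S).map l) := by
    rw [h3]; exact sP.map (yon S)
  let c₀ : (yon S).obj (pullback k l) ⟶ Z :=
    sq₁.lift ((yon S).map (pullback.fst k l) ≫ a₀) ((yon S).map (pullback.snd k l))
      (by rw [Category.assoc]; exact big'.w)
  have sc : IsPullback ((yon S).map (pullback.fst k l)) c₀ a₀ q :=
    IsPullback.of_bot (by rw [sq₁.lift_snd]; exact big') (sq₁.lift_fst _ _ _).symm sq₁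
  let a' := c₀ ≫ pullback.fst f' b'
  obtain ⟨u', hu'⟩ := surjective_ofPt
    (repWith_comp (repWith_of_isPullback sc h2) (repWith_fst f' hb'') : RepWith @Surjective a') x'
  refine ⟨U, V, pullback k l, V', a₀ ≫ pullback.fst f b, b, a', b', k, l, pullback.snd k l, pullback.fst k l, u',
    repWith_comp h1 (repWith_fst f hb), hb, repWith_comp (repWith_of_isPullback sc h1) (repWith_fst f' hb'), hb',
    ?_, wg, ?_, ?_, sP.map (Over.forget S), hu'⟩
  · rw [Category.assoc, pullback.condition, ← Category.assoc, h3]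
  · show (c₀ ≫ pullback.fst f' b') ≫ f' = _
    rw [Category.assoc, pullback.condition, ← Category.assoc, sq₁.lift_snd]
  · show (c₀ ≫ pullback.fst f' b') ≫ g' = _
    have h : c₀ ≫ q = (yon S).map (pullback.fst k l) ≫ a₀ := sq₁.lift_fst _ _ _
    rw [← Category.assoc, ← h, Category.assoc, Category.assoc, pullback.lift_fst]

theorem isLocallyNoetherian_fibre_chart
    (hf : ∀ (k : FieldPt G) (Xk : Sp S) (a : Xk ⟶ F) (b : Xk ⟶ (yon S).obj k.pt),
      IsPullback a b f k.toHom → IsLocNoethSp Xk) {U V : Over S} {a : (yon S).obj U ⟶ F}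
    {b : (yon S).obj V ⟶ G} {h : U ⟶ V} (ha : RepWith @Etale a) (hb : RepWith @Etale b)
    (w : a ≫ f = (yon S).map h ≫ b) (v : ↥V.left) : IsLocallyNoetherian (h.left.fiber v) := by
  have ha₀ : RepWith @Etale (pullback.lift a ((yon S).map h) w) :=
    repWith_etale_of_comp _ (pullback.fst f b)
      (by rw [pullback.lift_fst]; exact ha) (repWith_fst f hb)
  have sq := IsPullback.of_hasPullback f ((yon S).map (Over.homMk (V.left.fromSpecResidueField v) rfl :
    Over.mk (V.left.fromSpecResidueField v ≫ V.hom) ⟶ V) ≫ b)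
  obtain ⟨P, c₀, hc₁, -, ⟨e⟩⟩ := exists_fibre_chart ha₀ (pullback.lift_snd _ _ _) v sq
  haveI : IsLocallyNoetherian P.left := isLocallyNoetherian_chart hc₁
    (hf (FieldPt.ofPt b v) _ _ _ (by rw [FieldPt.toHom_ofPt]; exact sq))
  exact isLocallyNoetherian_of_isOpenImmersion e.inv

theorem fibres_baseChange (hsq : IsPullback g' f' f g)
    (hf : ∀ (k : FieldPt G) (Xk : Sp S) (a : Xk ⟶ F) (b : Xk ⟶ (yon S).obj k.pt),
      IsPullback a b f k.toHom → IsLocNoethSp Xk) :
    ∀ (k : FieldPt G') (Xk : Sp S) (a : Xk ⟶ F') (b : Xk ⟶ (yon S).obj k.pt),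
      IsPullback a b f' k.toHom → IsLocNoethSp Xk := fun k Xk a b sq =>
  hf (k.map g) Xk (a ≫ g') b (by rw [FieldPt.toHom_map]; exact sq.paste_horiz hsq)

theorem locPAt_baseChange (hF : IsAlgSpace F) (hG : IsAlgSpace G) (hG' : IsAlgSpace G')
    (hsq : IsPullback g' f' f g)
    (hf : ∀ (k : FieldPt G) (Xk : Sp S) (a : Xk ⟶ F) (b : Xk ⟶ (yon S).obj k.pt),
      IsPullback a b f k.toHom → IsLocNoethSp Xk)
    (hg : LocP @LocallyOfFiniteType g) (x' : Points F') :
    (LocPAt (fun h u => Dual3.IsGorensteinAt h u) f (Points.map g' x') →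
        LocPAt (fun h u => Dual3.IsGorensteinAt h u) f' x') ∧
      (IsFlatAtMor f (Points.map g' x') → LocPAt (fun h u => Dual3.IsGorensteinAt h u) f' x' →
        LocPAt (fun h u => Dual3.IsGorensteinAt h u) f (Points.map g' x')) ∧
      (IsFlatAtMor g (Points.map f' x') → LocPAt (fun h u => Dual3.IsGorensteinAt h u) f' x' →
        LocPAt (fun h u => Dual3.IsGorensteinAt h u) f (Points.map g' x')) := by
  obtain ⟨U, V, U', V', a, b, a', b', k, l, k', l', u', ha, hb, ha', hb', wf, wg, wf', wg', sq, rfl⟩ :=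
    exists_chart_square hF hG hG' hsq x'
  have hy : Points.map f' (Points.ofPt a' u') = Points.ofPt b' (k'.left u') := by
    rw [Points.map_ofPt, wf', ofPt_comp]
  have hx : Points.map g' (Points.ofPt a' u') = Points.ofPt a (l'.left u') := by
    rw [Points.map_ofPt, wg', ofPt_comp]
  rw [hx, hy, locPAt_iff (noethFibres_of_fibres hf) ha hb wf,
    locPAt_iff (noethFibres_of_fibres (fibres_baseChange hsq hf)) ha' hb' wf']
  haveI : LocallyOfFiniteType l.left := hg b' b l hb' hb wg
  obtain ⟨p₁, p₂, p₃⟩ := gorAt_baseChange sq u' (isLocallyNoetherian_fibre_chart hf ha hb wf _)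
  exact ⟨p₁, fun h => p₂ (h a b k (l'.left u') ha hb wf rfl),
    fun h => p₃ (h b' b l (k'.left u') hb' hb wg rfl)⟩

/-- The Gorenstein locus of a flat morphism locally of finite type commutes with every base change. -/
theorem locPAt_baseChange_of_lft (hF : IsAlgSpace F) (hG : IsAlgSpace G) (hG' : IsAlgSpace G')
    (hsq : IsPullback g' f' f g) (hf : LocP @Flat f) (hf' : LocP @LocallyOfFiniteType f)
    (hf'' : LocP @LocallyOfFiniteType f') (x' : Points F') :
    LocPAt (fun h u => Dual3.IsGorensteinAt h u) f' x' ↔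
      LocPAt (fun h u => Dual3.IsGorensteinAt h u) f (Points.map g' x') := by
  obtain ⟨U, V, U', V', a, b, a', b', k, l, k', l', u', ha, hb, ha', hb', wf, wg, wf', wg', sq, rfl⟩ :=
    exists_chart_square hF hG hG' hsq x'
  have hx : Points.map g' (Points.ofPt a' u') = Points.ofPt a (l'.left u') := by
    rw [Points.map_ofPt, wg', ofPt_comp]
  rw [hx, locPAt_iff (noethFibres_of_lft hf') ha hb wf, locPAt_iff (noethFibres_of_lft hf'') ha' hb' wf']
  haveI : LocallyOfFiniteType k.left := hf' a b k ha hb wf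
  haveI : Flat k.left := hf a b k ha hb wf
  have h := gor_fibre_iff_lft sq u'
  exact ⟨fun hx => ⟨Flat.stalkMap k.left _, h.1 hx.2⟩,
    fun hx => ⟨Triage.CMBC.flat_stalk_of_isPullback sq u' hx.1, h.2 hx.2⟩⟩

end Groth.Agent.AlgSpDec.Gor
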