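import Groth.Agent.AlgSpDec.GorAlg
import Groth.Agent.MorLib.WeightFlat
import Groth.Agent.AlgSpDec.Fibres
import Groth.Agent.AlgSpDec.ResTrdeg
import Groth.Prelude.Def_Dual3
import Groth.Prelude.Def_AlgSpMor5

/-!
# Gorenstein morphisms of algebraic spaces: independence of charts
-/

set_option autoImplicit false
set_option linter.style.haveILetI false
set_option linter.unusedSectionVars false
set_option backward.isDefEq.respectTransparency false
set_option backward.isDefEq.respectTransparency.types false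

universe u

open CategoryTheory CategoryTheory.Limits AlgebraicGeometry AlgSp Groth.Agent.AlgSpLib Groth.Agent.AlgSpPts
  IsLocalRing

namespace Groth.Agent.AlgSpDec.Gor

section Scheme

variable {X Y Z : Scheme.{u}}

/-- The closed fibre of the local homomorphism at a point is Noetherian. -/
abbrev NoethFibre (h : X ⟶ Y) (x : X) : Prop :=
  IsNoetherianRing (↑(X.presheaf.stalk x) ⧸ (maximalIdeal (Y.presheaf.stalk (h x))).map (h.stalkMap x).hom)

theorem gorAt_iff (h : X ⟶ Y) (x : X) : Dual3.IsGorensteinAt h x ↔ GorMap (h.stalkMap x).hom :=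
  and_congr_right fun _ => (gor_congr (Triage.CMMor.exists_equiv_fibre_stalk h x).some).symm

theorem map_max_stalkMap (e : X ⟶ Y) [Etale e] (x : X) :
    (maximalIdeal (Y.presheaf.stalk (e x))).map (e.stalkMap x).hom = maximalIdeal (X.presheaf.stalk x) :=
  MorLib.WT.map_maximalIdeal_stalkMap e x

theorem gorAt_comp_left (e : X ⟶ Y) (h : Y ⟶ Z) [Etale e] (x : X) (hN : NoethFibre h (e x))
    (hN' : NoethFibre (e ≫ h) x) : Dual3.IsGorensteinAt (e ≫ h) x ↔ Dual3.IsGorensteinAt h (e x) := by
  have he : ((e ≫ h).stalkMap x).hom = (e.stalkMap x).hom.comp (h.stalkMap (e x)).hom := by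
    rw [Scheme.Hom.stalkMap_comp]; rfl
  haveI := hN
  haveI : IsNoetherianRing (↑(X.presheaf.stalk x) ⧸ (maximalIdeal (Z.presheaf.stalk (h (e x)))).map
      ((e.stalkMap x).hom.comp (h.stalkMap (e x)).hom)) := by
    have := hN'
    unfold NoethFibre at this
    rw [he] at this
    exact this
  rw [gorAt_iff, gorAt_iff, he]
  exact gorMap_comp_iff_left (h.stalkMap (e x)).hom (e.stalkMap x).hom (Flat.stalkMap e x) (map_max_stalkMap e x)

theorem gorAt_comp_right (k : X ⟶ Y) (e : Y ⟶ Z) [Etale e] (x : X) :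
    Dual3.IsGorensteinAt (k ≫ e) x ↔ Dual3.IsGorensteinAt k x := by
  have he : ((k ≫ e).stalkMap x).hom = (k.stalkMap x).hom.comp (e.stalkMap (k x)).hom := by
    rw [Scheme.Hom.stalkMap_comp]; rfl
  rw [gorAt_iff, gorAt_iff, he]
  exact gorMap_comp_iff_right (e.stalkMap (k x)).hom (k.stalkMap x).hom
    ((WEtLib.weaklyEtale_iff_stalkMap e).1 inferInstance (k x)) (map_max_stalkMap e (k x))

end Scheme

variable {S : Scheme.{u}} {F G : Sp S} {f : F ⟶ G}

/-- All closed fibres of chart diagrams are Noetherian. -/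
def NoethFibres (f : F ⟶ G) : Prop :=
  ∀ ⦃U V : Over S⦄ (a : (yon S).obj U ⟶ F) (b : (yon S).obj V ⟶ G) (h : U ⟶ V) (u : ↥U.left),
    RepWith @Etale a → RepWith @Etale b → a ≫ f = (yon S).map h ≫ b → NoethFibre h.left u

theorem gorAt_congr (hN : NoethFibres f) {U V U' V' : Over S}
    {a : (yon S).obj U ⟶ F} {b : (yon S).obj V ⟶ G} {h : U ⟶ V} {u : ↥U.left}
    {a' : (yon S).obj U' ⟶ F} {b' : (yon S).obj V' ⟶ G} {h' : U' ⟶ V'} {u' : ↥U'.left}
    (ha : RepWith @Etale a) (hb : RepWith @Etale b) (w : a ≫ f = (yon S).map h ≫ b)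
    (ha' : RepWith @Etale a') (hb' : RepWith @Etale b') (w' : a' ≫ f = (yon S).map h' ≫ b')
    (he : Points.ofPt a u = Points.ofPt a' u') :
    Dual3.IsGorensteinAt h.left u ↔ Dual3.IsGorensteinAt h'.left u' := by
  let pa : ha.rep.pullback a' ⟶ U := ha.rep.fst' a'
  let pa' : ha.rep.pullback a' ⟶ U' := ha.rep.snd a'
  let wb : hb.rep.pullback b' ⟶ V := hb.rep.fst' b'
  let wb' : hb.rep.pullback b' ⟶ V' := hb.rep.snd b'
  have sqA := ha.rep.isPullback' a'
  have sqB := hb.rep.isPullback' b'
  obtain ⟨z, hz, hz'⟩ := exists_ofPt_of_eq sqA he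
  haveI : Etale pa'.left := ha.property_snd a'
  haveI : Etale pa.left := ha'.property _ _ _ sqA.flip
  haveI : Etale wb'.left := hb.property_snd b'
  haveI : Etale wb.left := hb'.property _ _ _ sqB.flip
  have hc : (yon S).map (pa ≫ h) ≫ b = (yon S).map (pa' ≫ h') ≫ b' := by
    rw [(yon S).map_comp pa h, (yon S).map_comp pa' h', Category.assoc, Category.assoc, ← w, ← w',
      ← Category.assoc, sqA.w, Category.assoc]
  obtain ⟨k, hk⟩ := (yon S).map_surjective (sqB.lift _ _ hc)
  have hk₁ : k.left ≫ wb.left = pa.left ≫ h.left := by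
    rw [← Over.comp_left, ← Over.comp_left]
    exact congrArg CommaMorphism.left ((yon S).map_injective (a₁ := k ≫ wb) (a₂ := pa ≫ h) (by
      rw [(yon S).map_comp k wb, hk]; exact sqB.lift_fst _ _ _))
  have hk₂ : k.left ≫ wb'.left = pa'.left ≫ h'.left := by
    rw [← Over.comp_left, ← Over.comp_left]
    exact congrArg CommaMorphism.left ((yon S).map_injective (a₁ := k ≫ wb') (a₂ := pa' ≫ h') (by
      rw [(yon S).map_comp k wb', hk]; exact sqB.lift_snd _ _ _))
  have hpae : RepWith @Etale ((yon S).map pa ≫ a) :=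
    repWith_comp ((repWith_yon_map_iff _ pa).2 inferInstance) ha
  have hpae' : RepWith @Etale ((yon S).map pa' ≫ a') :=
    repWith_comp ((repWith_yon_map_iff _ pa').2 inferInstance) ha'
  have n₁ : NoethFibre (pa.left ≫ h.left) z := hN ((yon S).map pa ≫ a) b (pa ≫ h) z hpae hb (by
    rw [Category.assoc, w, ← Category.assoc, ← Functor.map_comp])
  have n₂ : NoethFibre (pa'.left ≫ h'.left) z := hN ((yon S).map pa' ≫ a') b' (pa' ≫ h') z hpae' hb' (by
    rw [Category.assoc, w', ← Category.assoc, ← Functor.map_comp])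
  rw [← hz, ← hz', ← gorAt_comp_left pa.left h.left z (hN a b h _ ha hb w) n₁,
    ← gorAt_comp_left pa'.left h'.left z (hN a' b' h' _ ha' hb' w') n₂, ← hk₁, ← hk₂,
    gorAt_comp_right, gorAt_comp_right]

theorem locPAt_iff (hN : NoethFibres f) {U V : Over S} {a : (yon S).obj U ⟶ F} {b : (yon S).obj V ⟶ G}
    {h : U ⟶ V} (ha : RepWith @Etale a) (hb : RepWith @Etale b) (w : a ≫ f = (yon S).map h ≫ b) (u : ↥U.left) :
    LocPAt (fun h u => Dual3.IsGorensteinAt h u) f (Points.ofPt a u) ↔ Dual3.IsGorensteinAt h.left u :=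
  ⟨fun H => H a b h u ha hb w rfl, fun H _ _ _ _ _ _ ha' hb' w' he =>
    (gorAt_congr hN ha hb w ha' hb' w' he.symm).1 H⟩

theorem noethFibre_of_isLocallyNoetherian {X Y : Scheme.{u}} (h : X ⟶ Y) (x : X)
    (hF : IsLocallyNoetherian (h.fiber (h x))) : NoethFibre h x :=
  Triage.CMMor.isNoetherianRing_fibre_stalk h x hF

/-- The hypothesis on the fibres of the spaces gives the hypothesis on the chart diagrams. -/
theorem noethFibres_of_fibres
    (hf : ∀ (k : FieldPt G) (Xk : Sp S) (a : Xk ⟶ F) (b : Xk ⟶ (yon S).obj k.pt),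
      IsPullback a b f k.toHom → IsLocNoethSp Xk) : NoethFibres f := by
  intro U V a b h u ha hb w
  refine noethFibre_of_isLocallyNoetherian h.left u ?_
  let v := h.left u
  let k := FieldPt.ofPt b v
  let φ : k.pt ⟶ V := Over.homMk (V.left.fromSpecResidueField v) rfl
  have hk : k.toHom = (yon S).map φ ≫ b := FieldPt.toHom_ofPt b v
  have hN := hf k _ _ _ (IsPullback.of_hasPullback f k.toHom)
  have sqV := hb.rep.isPullback' k.toHom
  let sv : hb.rep.pullback k.toHom ⟶ V := hb.rep.fst' k.toHom
  let sk : hb.rep.pullback k.toHom ⟶ k.pt := hb.rep.snd k.toHom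
  let P := Limits.pullback h sv
  have sP : IsPullback (pullback.fst h sv) (pullback.snd h sv) h sv := IsPullback.of_hasPullback _ _
  have big : IsPullback ((yon S).map (pullback.fst h sv)) ((yon S).map (pullback.snd h sv) ≫ (yon S).map sk)
      (a ≫ f) k.toHom := by
    rw [w]; exact (sP.map (yon S)).paste_vert sqV
  let c : (yon S).obj P ⟶ Limits.pullback f k.toHom :=
    pullback.lift ((yon S).map (pullback.fst h sv) ≫ a) ((yon S).map (pullback.snd h sv) ≫ (yon S).map sk)
      (by rw [Category.assoc]; exact big.w)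
  have sc : IsPullback ((yon S).map (pullback.fst h sv)) c a (pullback.fst f k.toHom) :=
    IsPullback.of_bot (by rw [pullback.lift_snd]; exact big) (pullback.lift_fst _ _ _).symm
      (IsPullback.of_hasPullback f k.toHom)
  haveI : IsLocallyNoetherian P.left := isLocallyNoetherian_chart (repWith_of_isPullback sc ha) hN
  -- the section of `V ×_Y V`
  have sqVV := hb.rep.isPullback' b
  obtain ⟨δ, hδ⟩ := (yon S).map_surjective (sqVV.lift (𝟙 _) (𝟙 _) rfl)
  let p₁ := hb.rep.fst' b
  let p₂ := hb.rep.snd b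
  haveI : Etale p₂.left := hb.property_snd b
  have hδ₁ : δ ≫ p₁ = 𝟙 V := (yon S).map_injective (by
    rw [Functor.map_comp, hδ]; exact (sqVV.lift_fst _ _ _).trans ((yon S).map_id V).symm)
  have hδ₂ : δ ≫ p₂ = 𝟙 V := (yon S).map_injective (by
    rw [Functor.map_comp, hδ]; exact (sqVV.lift_snd _ _ _).trans ((yon S).map_id V).symm)
  haveI : Etale δ.left := by
    refine MorphismProperty.of_postcomp (W := @Etale) (W' := @Etale) δ.left p₂.left inferInstance ?_
    rw [← Over.comp_left, hδ₂]
    exact inferInstanceAs (Etale (𝟙 V.left))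
  obtain ⟨m, hm⟩ := (yon S).map_surjective (sqVV.lift ((yon S).map (pullback.fst h sv ≫ h))
    ((yon S).map (pullback.snd h sv ≫ sk ≫ φ)) (by
      rw [pullback.condition, Functor.map_comp, Functor.map_comp (yon S) (pullback.snd h sv),
        Functor.map_comp (yon S) sk, Category.assoc, Category.assoc, Category.assoc, ← hk, sqV.w]))
  have hm₁ : m ≫ p₁ = pullback.fst h sv ≫ h := (yon S).map_injective (by
    rw [Functor.map_comp, hm]; exact sqVV.lift_fst _ _ _)
  have hm₂ : m ≫ p₂ = pullback.snd h sv ≫ sk ≫ φ := (yon S).map_injective (by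
    rw [Functor.map_comp, hm]; exact sqVV.lift_snd _ _ _)
  let F₀ := Limits.pullback h φ
  obtain ⟨l, hl₁, hl₂⟩ : ∃ l : F₀ ⟶ hb.rep.pullback k.toHom,
      l ≫ sv = pullback.fst h φ ≫ h ∧ l ≫ sk = pullback.snd h φ := by
    obtain ⟨l, hl⟩ := (yon S).map_surjective (sqV.lift ((yon S).map (pullback.fst h φ ≫ h))
      ((yon S).map (pullback.snd h φ)) (by
        rw [hk, pullback.condition, Functor.map_comp, Category.assoc]))
    exact ⟨l, (yon S).map_injective (by rw [Functor.map_comp, hl]; exact sqV.lift_fst _ _ _),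
      (yon S).map_injective (by rw [Functor.map_comp, hl]; exact sqV.lift_snd _ _ _)⟩
  let j : F₀ ⟶ P := pullback.lift (pullback.fst h φ) l hl₁.symm
  have hj₁ : j ≫ pullback.fst h sv = pullback.fst h φ := pullback.lift_fst _ _ _
  have hj₂ : j ≫ pullback.snd h sv = l := pullback.lift_snd _ _ _
  have hjw : j ≫ m = (pullback.fst h φ ≫ h) ≫ δ := (yon S).map_injective (by
    refine sqVV.hom_ext ?_ ?_
    · rw [← Functor.map_comp, ← Functor.map_comp, Category.assoc, hm₁, reassoc_of% hj₁, Category.assoc, hδ₁,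
        Category.comp_id]
    · rw [← Functor.map_comp, ← Functor.map_comp, Category.assoc, hm₂, reassoc_of% hj₂, Category.assoc, hδ₂,
        Category.comp_id, reassoc_of% hl₂, pullback.condition])
  have sj : IsPullback j (pullback.fst h φ ≫ h) m δ := by
    refine ⟨⟨hjw⟩, ⟨PullbackCone.isLimitAux' _ fun t => ?_⟩⟩
    have h₁ : t.fst ≫ pullback.fst h sv ≫ h = t.snd := by
      rw [← hm₁, reassoc_of% t.condition, hδ₁, Category.comp_id]
    have h₂ : t.fst ≫ pullback.snd h sv ≫ sk ≫ φ = t.snd := by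
      rw [← hm₂, reassoc_of% t.condition, hδ₂, Category.comp_id]
    refine ⟨pullback.lift (t.fst ≫ pullback.fst h sv) (t.fst ≫ pullback.snd h sv ≫ sk) (by
      simp only [Category.assoc]; rw [h₁, h₂]), ?_, ?_, fun {m'} hm' _ => ?_⟩
    · show _ ≫ j = t.fst
      refine pullback.hom_ext ?_ ?_
      · rw [Category.assoc, hj₁, pullback.lift_fst]
      · rw [Category.assoc, hj₂]
        refine (yon S).map_injective (sqV.hom_ext ?_ ?_)
        · rw [← Functor.map_comp, ← Functor.map_comp, Category.assoc, hl₁, pullback.lift_fst_assoc,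
            Category.assoc, Category.assoc, pullback.condition]
        · rw [← Functor.map_comp, ← Functor.map_comp, Category.assoc, hl₂, pullback.lift_snd, Category.assoc]
    · show _ ≫ pullback.fst h φ ≫ h = t.snd
      rw [pullback.lift_fst_assoc, Category.assoc, h₁]
    · replace hm' : m' ≫ j = t.fst := hm'
      refine pullback.hom_ext (f := h) (g := φ) ?_ ?_
      · rw [pullback.lift_fst, ← hm', Category.assoc, hj₁]
      · rw [pullback.lift_snd, ← hm', Category.assoc, reassoc_of% hj₂, hl₂]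
  haveI : Etale j.left :=
    MorphismProperty.of_isPullback (P := @Etale) (sj.map (Over.forget S)).flip (inferInstanceAs (Etale δ.left))
  haveI : IsLocallyNoetherian F₀.left := LocallyOfFiniteType.isLocallyNoetherian j.left
  let e := ((IsPullback.of_hasPullback h φ).map (Over.forget S)).isoPullback
  exact isLocallyNoetherian_of_isOpenImmersion (X := h.left.fiber v) (Y := F₀.left) e.inv

theorem noethFibres_of_isLocallyNoetherian (h : ∀ (U : Over S) (a : (yon S).obj U ⟶ F), RepWith @Etale a →
    IsLocallyNoetherian U.left) : NoethFibres f := by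
  intro U V a b k u ha _ _
  haveI := h U a ha
  exact inferInstanceAs (IsNoetherianRing (_ ⧸ _))

theorem noethFibres_of_lft (hf : LocP @LocallyOfFiniteType f) : NoethFibres f := by
  intro U V a b h u ha hb w
  haveI : LocallyOfFiniteType h.left := hf a b h ha hb w
  exact noethFibre_of_isLocallyNoetherian h.left u (DimFormula.isLocallyNoetherian_fiber h.left _)

end Groth.Agent.AlgSpDec.Gor
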