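import Groth.Agent.AlgSpDec.GorCharts

/-!
# Composites of Gorenstein morphisms
-/

set_option autoImplicit false
set_option linter.style.haveILetI false
set_option linter.unusedSectionVars false
set_option backward.isDefEq.respectTransparency false
set_option backward.isDefEq.respectTransparency.types false

universe u

open CategoryTheory CategoryTheory.Limits AlgebraicGeometry AlgSp Groth.Agent.AlgSpLib Groth.Agent.AlgSpPts
  IsLocalRing

namespace Groth.Agent.AlgSpDec.Gor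

theorem gorMap_comp {A B C : Type u} [CommRing A] [CommRing B] [CommRing C] [IsLocalRing A] [IsLocalRing B]
    [IsLocalRing C] (ψ : A →+* B) (φ : B →+* C) [IsLocalHom ψ] [IsLocalHom φ]
    [IsNoetherianRing (B ⧸ (maximalIdeal A).map ψ)] [IsNoetherianRing (C ⧸ (maximalIdeal A).map (φ.comp ψ))] :
    (GorMap φ → GorMap ψ → GorMap (φ.comp ψ)) ∧ (GorMap (φ.comp ψ) → φ.Flat → GorMap φ ∧ GorMap ψ) :=
  ⟨fun h₁ h₂ => ⟨(flat_comp_iff _ _ h₁.1).2 h₂.1, (fibre_comp _ _ h₁.1).2 ⟨h₂.2, h₁.2⟩⟩, fun h hk =>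
    ⟨⟨hk, ((fibre_comp _ _ hk).1 h.2).2⟩, (flat_comp_iff _ _ hk).1 h.1, ((fibre_comp _ _ hk).1 h.2).1⟩⟩

theorem gorAt_comp {X Y Z : Scheme.{u}} (k : X ⟶ Y) (l : Y ⟶ Z) (x : X) (hl : NoethFibre l (k x))
    (hkl : NoethFibre (k ≫ l) x) :
    (Dual3.IsGorensteinAt k x → Dual3.IsGorensteinAt l (k x) → Dual3.IsGorensteinAt (k ≫ l) x) ∧
      (Dual3.IsGorensteinAt (k ≫ l) x → (k.stalkMap x).hom.Flat →
        Dual3.IsGorensteinAt k x ∧ Dual3.IsGorensteinAt l (k x)) := by
  have he : ((k ≫ l).stalkMap x).hom = (k.stalkMap x).hom.comp (l.stalkMap (k x)).hom := by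
    rw [Scheme.Hom.stalkMap_comp]; rfl
  haveI := hl
  haveI : IsNoetherianRing (↑(X.presheaf.stalk x) ⧸ (maximalIdeal (Z.presheaf.stalk (l (k x)))).map
      ((k.stalkMap x).hom.comp (l.stalkMap (k x)).hom)) := by
    have := hkl
    unfold NoethFibre at this
    rw [he] at this
    exact this
  rw [gorAt_iff k x, gorAt_iff l (k x), gorAt_iff (k ≫ l) x, he]
  exact gorMap_comp (l.stalkMap (k x)).hom (k.stalkMap x).hom

variable {S : Scheme.{u}} {F G H : Sp S}

theorem locPAt_comp (hF : IsAlgSpace F) (hG : IsAlgSpace G) (hH : IsAlgSpace H) (f : F ⟶ G) (g : G ⟶ H)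
    (hf : NoethFibres f) (hg : NoethFibres g) (hfg : NoethFibres (f ≫ g)) (x : Points F) :
    (LocPAt (fun h u => Dual3.IsGorensteinAt h u) f x →
        LocPAt (fun h u => Dual3.IsGorensteinAt h u) g (Points.map f x) →
        LocPAt (fun h u => Dual3.IsGorensteinAt h u) (f ≫ g) x) ∧
      (LocPAt (fun h u => Dual3.IsGorensteinAt h u) (f ≫ g) x → IsFlatAtMor f x →
        LocPAt (fun h u => Dual3.IsGorensteinAt h u) f x ∧
          LocPAt (fun h u => Dual3.IsGorensteinAt h u) g (Points.map f x)) := by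
  obtain ⟨V, W, b, c, l, hb, hb', hc, -, wg⟩ := exists_chart hG hH g
  obtain ⟨U, a₀, k, h1, h2, h3⟩ := exists_chart_over hF hG f b
  let a := a₀ ≫ pullback.fst f b
  have ha : RepWith @Etale a := repWith_comp h1 (repWith_fst f hb)
  have wf : a ≫ f = (yon S).map k ≫ b := by
    rw [Category.assoc, pullback.condition, ← Category.assoc, h3]
  have wfg : a ≫ f ≫ g = (yon S).map (k ≫ l) ≫ c := by
    rw [← Category.assoc, wf, Category.assoc, wg, ← Category.assoc, ← Functor.map_comp]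
  obtain ⟨u, rfl⟩ := surjective_ofPt (repWith_comp h2 (repWith_fst f hb') : RepWith @Surjective a) x
  have hy : Points.map f (Points.ofPt a u) = Points.ofPt b (k.left u) := by
    rw [Points.map_ofPt, wf, ofPt_comp]
  rw [hy, locPAt_iff hf ha hb wf, locPAt_iff hg hb hc wg, locPAt_iff hfg ha hc wfg, Over.comp_left]
  obtain ⟨p₁, p₂⟩ := gorAt_comp k.left l.left u (hg b c l _ hb hc wg) (by
    have := hfg a c (k ≫ l) u ha hc wfg
    rwa [Over.comp_left] at this)
  exact ⟨p₁, fun h h' => p₂ h (h' a b k u ha hb wf rfl)⟩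

end Groth.Agent.AlgSpDec.Gor
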