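import Groth.Agent.AlgSpDec.GorCharts

/-!
# Gorenstein algebraic spaces
-/

set_option autoImplicit false
set_option linter.style.haveILetI false
set_option linter.unusedSectionVars false
set_option backward.isDefEq.respectTransparency false
set_option backward.isDefEq.respectTransparency.types false

universe u

open CategoryTheory CategoryTheory.Limits AlgebraicGeometry AlgSp Groth.Agent.AlgSpLib Groth.Agent.AlgSpPts
  IsLocalRing

namespace Groth.Agent.AlgSpDec.Gor

section Scheme

variable {X Y : Scheme.{u}}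

/-- Gorenstein local rings along an etale morphism. -/
theorem gor_stalk_iff_of_etale (e : X ⟶ Y) [Etale e] [IsLocallyNoetherian X] [IsLocallyNoetherian Y] (x : X) :
    LocCoh.IsGorensteinLocalRing (X.presheaf.stalk x) ↔ LocCoh.IsGorensteinLocalRing (Y.presheaf.stalk (e x)) := by
  letI : Algebra (Y.presheaf.stalk (e x)) (X.presheaf.stalk x) := (e.stalkMap x).hom.toAlgebra
  haveI : Module.Flat (Y.presheaf.stalk (e x)) (X.presheaf.stalk x) := Flat.stalkMap e x
  haveI : IsLocalHom (algebraMap (Y.presheaf.stalk (e x)) (X.presheaf.stalk x)) :=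
    inferInstanceAs (IsLocalHom (e.stalkMap x).hom)
  rw [LC.gorenstein_flat_local_iff (Y.presheaf.stalk (e x)) (X.presheaf.stalk x)]
  exact and_iff_left (gor_of_map_eq (e.stalkMap x).hom (map_max_stalkMap e x))

/-- A flat morphism with Gorenstein source is Gorenstein and has Gorenstein target along its image. -/
theorem gor_of_flat (h : X ⟶ Y) [IsLocallyNoetherian X] [IsLocallyNoetherian Y] (x : X)
    (hf : (h.stalkMap x).hom.Flat) (hX : LocCoh.IsGorensteinLocalRing (X.presheaf.stalk x)) :
    Dual3.IsGorensteinAt h x ∧ LocCoh.IsGorensteinLocalRing (Y.presheaf.stalk (h x)) := by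
  letI : Algebra (Y.presheaf.stalk (h x)) (X.presheaf.stalk x) := (h.stalkMap x).hom.toAlgebra
  haveI : Module.Flat (Y.presheaf.stalk (h x)) (X.presheaf.stalk x) := hf
  haveI : IsLocalHom (algebraMap (Y.presheaf.stalk (h x)) (X.presheaf.stalk x)) :=
    inferInstanceAs (IsLocalHom (h.stalkMap x).hom)
  obtain ⟨h₁, h₂⟩ := (LC.gorenstein_flat_local_iff (Y.presheaf.stalk (h x)) (X.presheaf.stalk x)).1 hX
  exact ⟨(gorAt_iff h x).2 ⟨hf, h₂⟩, h₁⟩

end Scheme

variable {S : Scheme.{u}} {F G : Sp S}

/-- Every etale chart of a Gorenstein space is Gorenstein. -/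
theorem gor_chart (hF : EtaleLocally Dual3.IsGorenstein F) {U : Over S} {a : (yon S).obj U ⟶ F}
    (ha : RepWith @Etale a) : Dual3.IsGorenstein U.left := by
  obtain ⟨V, b, hb, hb', hV⟩ := hF
  haveI := hV.1
  haveI : IsLocallyNoetherian U.left := isLocallyNoetherian_chart ha ⟨V, b, hb, hb', hV.1⟩
  refine ⟨inferInstance, fun u => ?_⟩
  let p : hb.rep.pullback a ⟶ U := hb.rep.snd a
  let q : hb.rep.pullback a ⟶ V := hb.rep.fst' a
  haveI : Etale p.left := hb.property_snd a
  haveI : Surjective p.left := hb'.property _ _ _ (hb.rep.isPullback a)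
  haveI : Etale q.left := ha.property _ _ _ (hb.rep.isPullback' a).flip
  haveI : IsLocallyNoetherian (hb.rep.pullback a).left := LocallyOfFiniteType.isLocallyNoetherian q.left
  obtain ⟨z, rfl⟩ := p.left.surjective u
  rw [← gor_stalk_iff_of_etale p.left z, gor_stalk_iff_of_etale q.left z]
  exact hV.2 _

/-- A flat morphism from a Gorenstein space to a locally Noetherian one. -/
theorem gor_of_flat_space (hF : IsAlgSpace F) (hG : IsAlgSpace G) (f : F ⟶ G) (hf : LocP @Flat f)
    (hX : IsLocNoethSp F) (hY : IsLocNoethSp G) (hX' : EtaleLocally Dual3.IsGorenstein F) :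
    (∀ x, LocPAt (fun h u => Dual3.IsGorensteinAt h u) f x) ∧
      ∀ (x : Points F) (V : Over S) (b : (yon S).obj V ⟶ G), RepWith @Etale b →
        ∀ (v : ↥V.left), Points.ofPt b v = Points.map f x →
          LocCoh.IsGorensteinLocalRing (V.left.presheaf.stalk v) := by
  have key : ∀ {U V : Over S} (a : (yon S).obj U ⟶ F) (b : (yon S).obj V ⟶ G) (h : U ⟶ V) (u : ↥U.left),
      RepWith @Etale a → RepWith @Etale b → a ≫ f = (yon S).map h ≫ b →
      Dual3.IsGorensteinAt h.left u ∧ LocCoh.IsGorensteinLocalRing (V.left.presheaf.stalk (h.left u)) := by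
    intro U V a b h u ha hb w
    haveI := isLocallyNoetherian_chart ha hX
    haveI := isLocallyNoetherian_chart hb hY
    haveI : Flat h.left := hf a b h ha hb w
    exact gor_of_flat h.left u (Flat.stalkMap h.left u) ((gor_chart hX' ha).2 u)
  refine ⟨fun x U V a b h u ha hb w _ => (key a b h u ha hb w).1, fun x V b hb v hv => ?_⟩
  obtain ⟨U, a₀, h, h1, h2, h3⟩ := exists_chart_over hF hG f b
  obtain ⟨z, hz₁, hz₂⟩ := exists_point_of_isPullback (IsPullback.of_hasPullback f b)
    (x := x) (y := Points.ofScheme V v) (by rw [← hv]; exact Points.ofPt_eq_map_ofScheme b v)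
  obtain ⟨u, hu⟩ := surjective_ofPt h2 z
  have hv' : h.left u = v := by
    rw [← Points.toScheme_ofPt h u, ← h3, ← Points.map_ofPt, hu, hz₂, Points.toScheme_ofScheme]
  rw [← hv']
  exact (key (a₀ ≫ pullback.fst f b) b h u (repWith_comp h1 (repWith_fst f hb)) hb
    (by rw [Category.assoc, pullback.condition, ← Category.assoc, h3])).2

end Groth.Agent.AlgSpDec.Gor
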