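import Groth.Agent.AlgSpDec.GpdIdent

/-!
Fibres of the source map over points with a common target are isomorphic.
-/

set_option backward.isDefEq.respectTransparency false
set_option backward.isDefEq.respectTransparency.types false

universe u

open CategoryTheory CategoryTheory.Limits AlgebraicGeometry AlgSp

namespace Groth.Agent.AlgSpDec.GpdFibres

open GpdIdent

variable {S : Scheme.{u}} {B : Sp S} {G : GroupoidSp B}

lemma trans_hs {T : Sp S} (r r' : T ⟶ G.R) (h : r ≫ G.t = r' ≫ G.t) :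
    (r ≫ G.i) ≫ G.s = r' ≫ G.t := by rw [Category.assoc, G.i_s, h]

/-- `r⁻¹ ∘ r'` -/
noncomputable def tr {T : Sp S} (r r' : T ⟶ G.R) (h : r ≫ G.t = r' ≫ G.t) : T ⟶ G.R :=
  GpdIdent.comp G (r ≫ G.i) r' (trans_hs r r' h)

lemma tr_t {T : Sp S} (r r' : T ⟶ G.R) (h : r ≫ G.t = r' ≫ G.t) : tr r r' h ≫ G.t = r ≫ G.s := by
  rw [tr, comp_t', Category.assoc, G.i_t]

lemma tr_s {T : Sp S} (r r' : T ⟶ G.R) (h : r ≫ G.t = r' ≫ G.t) : tr r r' h ≫ G.s = r' ≫ G.s :=
  comp_s' G (r ≫ G.i) r' (trans_hs r r' h)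

/-- `(r⁻¹ ∘ r') ∘ (r'⁻¹ ∘ r) = id` -/
lemma tr_comp_tr {T : Sp S} (r r' : T ⟶ G.R) (h : r ≫ G.t = r' ≫ G.t)
    (hh : tr r r' h ≫ G.s = tr r' r h.symm ≫ G.t) :
    GpdIdent.comp G (tr r r' h) (tr r' r h.symm) hh = r ≫ G.s ≫ G.e := by
  refine (assoc' G (r ≫ G.i) r' (tr r' r h.symm) (trans_hs r r' h) (tr_t r' r h.symm).symm hh
    (by rw [comp_t']; exact trans_hs r r' h)).trans ?_
  refine (comp_congr G _ (by rw [Category.assoc, G.i_s]) rfl
    (comp_inv_comp' G r' r h.symm (trans_hs r' r h.symm) (tr_t r' r h.symm).symm)).trans ?_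
  rw [inv_comp_self]

/-- translation `(z, γ) ↦ (z, γ ∘ (r⁻¹ ∘ r')(z))` -/
noncomputable def shift {T : Sp S} (r r' : T ⟶ G.R) (h : r ≫ G.t = r' ≫ G.t) :
    pullback (r ≫ G.s) G.s ⟶ pullback (r' ≫ G.s) G.s :=
  pullback.lift (pullback.fst _ _)
    (GpdIdent.comp G (pullback.snd (r ≫ G.s) G.s) (pullback.fst (r ≫ G.s) G.s ≫ tr r r' h)
      (by rw [Category.assoc, tr_t, pullback.condition]))
    (by rw [comp_s', Category.assoc, tr_s])

@[reassoc]
lemma shift_fst {T : Sp S} (r r' : T ⟶ G.R) (h : r ≫ G.t = r' ≫ G.t) :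
    shift r r' h ≫ pullback.fst _ _ = pullback.fst _ _ := pullback.lift_fst _ _ _

lemma shift_shift {T : Sp S} (r r' : T ⟶ G.R) (h : r ≫ G.t = r' ≫ G.t) :
    shift r r' h ≫ shift r' r h.symm = 𝟙 _ := by
  apply pullback.hom_ext
  · rw [Category.assoc, shift_fst, shift_fst, Category.id_comp]
  · rw [Category.assoc, shift, shift, pullback.lift_snd, pre_comp, Category.id_comp]
    have h₁ : pullback.snd (r ≫ G.s) G.s ≫ G.s = (pullback.fst (r ≫ G.s) G.s ≫ tr r r' h) ≫ G.t := by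
      rw [Category.assoc, tr_t, pullback.condition]
    have h₂ : (pullback.fst (r ≫ G.s) G.s ≫ tr r r' h) ≫ G.s =
        (pullback.fst (r ≫ G.s) G.s ≫ tr r' r h.symm) ≫ G.t := by
      rw [Category.assoc, Category.assoc, tr_s, tr_t]
    refine (comp_congr G _ (h' := by rw [comp_s']; exact h₂) (pullback.lift_snd _ _ _)
      ((Category.assoc _ _ _).symm.trans (congrArg (· ≫ tr r' r h.symm) (pullback.lift_fst _ _ _)))).trans ?_
    rw [assoc' G _ _ _ h₁ h₂ _ (by rw [comp_t']; exact h₁)]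
    apply comp_id
    have hh : tr r r' h ≫ G.s = tr r' r h.symm ≫ G.t := by rw [tr_s, tr_t]
    have := (pre_comp G (pullback.fst (r ≫ G.s) G.s) _ _ hh).symm.trans
      (congrArg (pullback.fst (r ≫ G.s) G.s ≫ ·) (tr_comp_tr r r' h hh))
    rw [this, ← reassoc_of% (pullback.condition (f := r ≫ G.s) (g := G.s))]
    try simp only [Category.assoc]

/-- The isomorphism of fibres over the common base. -/
noncomputable def fibreIso {T : Sp S} (r r' : T ⟶ G.R) (h : r ≫ G.t = r' ≫ G.t) :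
    Over.mk (pullback.fst (r ≫ G.s) G.s) ≅ Over.mk (pullback.fst (r' ≫ G.s) G.s) :=
  Over.isoMk ⟨shift r r' h, shift r' r h.symm, shift_shift r r' h, shift_shift r' r h.symm⟩ (shift_fst r r' h)

end Groth.Agent.AlgSpDec.GpdFibres
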