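import Groth.Prelude.Def_AlgSpGpd

/-!
Elementary identities in a groupoid in sheaves.
-/

universe u

open CategoryTheory CategoryTheory.Limits AlgebraicGeometry

namespace Groth.Agent.AlgSpDec.GpdIdent

variable {S : Scheme.{u}} {B : AlgSp.Sp S} (G : AlgSp.GroupoidSp B)

/-- composition of generalized arrows -/
noncomputable abbrev comp {T : AlgSp.Sp S} (α β : T ⟶ G.R) (h : α ≫ G.s = β ≫ G.t) : T ⟶ G.R :=
  pullback.lift α β h ≫ G.c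

lemma comp_congr {T : AlgSp.Sp S} {α α' β β' : T ⟶ G.R} (h : α ≫ G.s = β ≫ G.t)
    (h' : α' ≫ G.s = β' ≫ G.t) (e₁ : α = α') (e₂ : β = β') : comp G α β h = comp G α' β' h' := by
  subst e₁ e₂; rfl

lemma pre_comp {T T' : AlgSp.Sp S} (f : T' ⟶ T) (α β : T ⟶ G.R) (h : α ≫ G.s = β ≫ G.t) :
    f ≫ comp G α β h = comp G (f ≫ α) (f ≫ β) (by rw [Category.assoc, Category.assoc, h]) := by
  rw [comp, comp, ← Category.assoc]
  congr 1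
  apply pullback.hom_ext
  · rw [Category.assoc, pullback.lift_fst, pullback.lift_fst]
  · rw [Category.assoc, pullback.lift_snd, pullback.lift_snd]

lemma comp_s' {T : AlgSp.Sp S} (α β : T ⟶ G.R) (h : α ≫ G.s = β ≫ G.t) :
    comp G α β h ≫ G.s = β ≫ G.s := G.comp_s α β h

lemma comp_t' {T : AlgSp.Sp S} (α β : T ⟶ G.R) (h : α ≫ G.s = β ≫ G.t) :
    comp G α β h ≫ G.t = α ≫ G.t := G.comp_t α β h

/-- `α⁻¹ ∘ α = id_{s α}` -/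
lemma inv_comp_self {T : AlgSp.Sp S} (α : T ⟶ G.R) :
    comp G (α ≫ G.i) α (by rw [Category.assoc, G.i_s]) = α ≫ G.s ≫ G.e := G.i_comp α

/-- `α ∘ α⁻¹ = id_{t α}` -/
lemma comp_inv_self {T : AlgSp.Sp S} (α : T ⟶ G.R) :
    comp G α (α ≫ G.i) (by rw [Category.assoc, G.i_t]) = α ≫ G.t ≫ G.e := G.comp_i α

lemma comp_id {T : AlgSp.Sp S} (α β : T ⟶ G.R) (h : α ≫ G.s = β ≫ G.t)
    (hβ : β = α ≫ G.s ≫ G.e) : comp G α β h = α := by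
  subst hβ; exact G.comp_e α

lemma id_comp {T : AlgSp.Sp S} (α β : T ⟶ G.R) (h : α ≫ G.s = β ≫ G.t)
    (hα : α = β ≫ G.t ≫ G.e) : comp G α β h = β := by
  subst hα; exact G.e_comp β

lemma assoc' {T : AlgSp.Sp S} (α β γ : T ⟶ G.R) (h₁ : α ≫ G.s = β ≫ G.t) (h₂ : β ≫ G.s = γ ≫ G.t)
    (h₃ : comp G α β h₁ ≫ G.s = γ ≫ G.t) (h₄ : α ≫ G.s = comp G β γ h₂ ≫ G.t) :
    comp G (comp G α β h₁) γ h₃ = comp G α (comp G β γ h₂) h₄ :=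
  G.assoc α β γ h₁ h₂

/-- `(α ∘ β⁻¹) ∘ β = α` -/
lemma comp_inv_comp {T : AlgSp.Sp S} (α β : T ⟶ G.R) (h : α ≫ G.s = β ≫ G.s)
    (h₁ : α ≫ G.s = (β ≫ G.i) ≫ G.t) (h₃ : comp G α (β ≫ G.i) h₁ ≫ G.s = β ≫ G.t) :
    comp G (comp G α (β ≫ G.i) h₁) β h₃ = α := by
  have h₂ : (β ≫ G.i) ≫ G.s = β ≫ G.t := by rw [Category.assoc, G.i_s]
  rw [assoc' G α (β ≫ G.i) β h₁ h₂ h₃ (by rw [comp_t', h, Category.assoc, G.i_t])]
  apply comp_id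
  rw [inv_comp_self, ← Category.assoc, ← h, Category.assoc]

/-- `(x ∘ β) ∘ β⁻¹ = x` -/
lemma comp_comp_inv {T : AlgSp.Sp S} (x β : T ⟶ G.R) (h : x ≫ G.s = β ≫ G.t)
    (h₁ : comp G x β h ≫ G.s = (β ≫ G.i) ≫ G.t) :
    comp G (comp G x β h) (β ≫ G.i) h₁ = x := by
  have h₂ : β ≫ G.s = (β ≫ G.i) ≫ G.t := by rw [Category.assoc, G.i_t]
  rw [assoc' G x β (β ≫ G.i) h h₂ h₁ (by rw [comp_t', h])]
  apply comp_id
  rw [comp_inv_self, ← Category.assoc, ← h, Category.assoc]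

/-- `α⁻¹ ∘ (α ∘ γ) = γ` -/
lemma inv_comp_comp {T : AlgSp.Sp S} (α γ : T ⟶ G.R) (h : α ≫ G.s = γ ≫ G.t)
    (h₁ : (α ≫ G.i) ≫ G.s = comp G α γ h ≫ G.t) :
    comp G (α ≫ G.i) (comp G α γ h) h₁ = γ := by
  rw [← assoc' G (α ≫ G.i) α γ (by rw [Category.assoc, G.i_s]) h (by rw [comp_s', h]) h₁]
  apply id_comp
  rw [inv_comp_self, ← Category.assoc, h, Category.assoc]

/-- `α ∘ (α⁻¹ ∘ β) = β` -/
lemma comp_inv_comp' {T : AlgSp.Sp S} (α β : T ⟶ G.R) (h : α ≫ G.t = β ≫ G.t)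
    (h₁ : (α ≫ G.i) ≫ G.s = β ≫ G.t) (h₂ : α ≫ G.s = comp G (α ≫ G.i) β h₁ ≫ G.t) :
    comp G α (comp G (α ≫ G.i) β h₁) h₂ = β := by
  rw [← assoc' G α (α ≫ G.i) β (by rw [Category.assoc, G.i_t]) h₁ (by rw [comp_s']; exact h₁) h₂]
  apply id_comp
  rw [comp_inv_self, ← Category.assoc, h, Category.assoc]

lemma comp_eq_lift {T : AlgSp.Sp S} (γ : T ⟶ pullback G.s G.t)
    (h : (γ ≫ pullback.fst G.s G.t) ≫ G.s = (γ ≫ pullback.snd G.s G.t) ≫ G.t) :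
    γ ≫ G.c = comp G (γ ≫ pullback.fst G.s G.t) (γ ≫ pullback.snd G.s G.t) h := by
  rw [comp]; congr 1; apply pullback.hom_ext
  · rw [pullback.lift_fst]
  · rw [pullback.lift_snd]

/-- `(α⁻¹)⁻¹ = α` -/
lemma inv_inv : G.i ≫ G.i = 𝟙 G.R := by
  have h : G.i ≫ G.s = (G.i ≫ G.i) ≫ G.t := by rw [Category.assoc, G.i_t]
  have e : comp G G.i (G.i ≫ G.i) h = G.s ≫ G.e := by
    refine (comp_inv_self G G.i).trans ?_
    rw [← Category.assoc, G.i_t]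
  have h₀ : 𝟙 G.R ≫ G.s = G.i ≫ G.t := by rw [G.i_t, Category.id_comp]
  have h₁ : comp G (𝟙 G.R) G.i h₀ ≫ G.s = (G.i ≫ G.i) ≫ G.t := by rw [comp_s']; exact h
  have a := comp_comp_inv G (𝟙 G.R) G.i h₀ h₁
  refine Eq.trans ?_ a
  have f : comp G (𝟙 G.R) G.i h₀ = G.t ≫ G.e := by
    exact (comp_congr G _ _ rfl (Category.id_comp _).symm).trans
      ((comp_inv_self G (𝟙 G.R)).trans (Category.id_comp _))
  refine (id_comp G _ _ h₁ ?_).symm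
  rw [f, Category.assoc G.i G.i, ← Category.assoc G.i G.t, G.i_t, ← Category.assoc G.i G.s, G.i_s]

end Groth.Agent.AlgSpDec.GpdIdent
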