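import Groth.Agent.AlgSpLib.LocP
import Groth.Agent.AlgSpLib.EtLocalInst
import Groth.Agent.AlgSpDec.GpdIdent

/-!
Properties of the source and target of a restricted groupoid.
-/

set_option backward.isDefEq.respectTransparency false
set_option backward.isDefEq.respectTransparency.types false

universe u

open CategoryTheory CategoryTheory.Limits AlgebraicGeometry AlgSp Groth.Agent.AlgSpLib

namespace Groth.Agent.AlgSpDec.GpdRestrict

variable {S : Scheme.{u}} {B : Sp S} {G G' : GroupoidSp B} (φ : GroupoidSp.Hom G' G)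

/-- the map `R' ⟶ U' ×_{U,t} R` -/
noncomputable def toTgt : G'.R ⟶ pullback φ.fU G.t :=
  pullback.lift G'.t φ.fR φ.comm_t.symm

theorem isPullback_toTgt (hφ : φ.IsRestriction) :
    IsPullback (toTgt φ) G'.s (pullback.snd φ.fU G.t ≫ G.s) φ.fU := by
  have w : toTgt φ ≫ pullback.snd φ.fU G.t ≫ G.s = G'.s ≫ φ.fU := by
    rw [← Category.assoc, toTgt, pullback.lift_snd, φ.comm_s]
  have hB : ∀ c : PullbackCone (pullback.snd φ.fU G.t ≫ G.s) φ.fU,
      (c.fst ≫ pullback.fst φ.fU G.t) ≫ G'.pU = c.snd ≫ G'.pU := fun c => by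
    rw [← φ.fU_over, ← Category.assoc, ← Category.assoc, ← c.condition, Category.assoc c.fst,
      pullback.condition]
    simp only [Category.assoc, G.t_over, G.s_over]
  have hj : ∀ c : PullbackCone (pullback.snd φ.fU G.t ≫ G.s) φ.fU,
      (c.fst ≫ pullback.snd φ.fU G.t) ≫ G.j =
        pullback.lift (c.fst ≫ pullback.fst φ.fU G.t) c.snd (hB c) ≫ φ.prodMap := fun c => by
    apply pullback.hom_ext
    · simp [GroupoidSp.Hom.prodMap, pullback.condition]
    · simpa [GroupoidSp.Hom.prodMap] using c.condition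
  refine ⟨⟨w⟩, ⟨PullbackCone.IsLimit.mk _
    (fun c => hφ.lift (c.fst ≫ pullback.snd φ.fU G.t)
      (pullback.lift (c.fst ≫ pullback.fst φ.fU G.t) c.snd (hB c)) (hj c)) ?_ ?_ ?_⟩⟩
  · intro c
    apply pullback.hom_ext
    · rw [Category.assoc, toTgt, pullback.lift_fst, ← G'.j_fst, hφ.lift_snd_assoc, pullback.lift_fst]
    · rw [Category.assoc, toTgt, pullback.lift_snd, hφ.lift_fst]
  · intro c
    rw [← G'.j_snd, hφ.lift_snd_assoc, pullback.lift_snd]
  · intro c m hm₁ hm₂
    apply hφ.hom_ext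
    · rw [hφ.lift_fst, ← hm₁, Category.assoc, toTgt, pullback.lift_snd]
    · rw [hφ.lift_snd]
      apply pullback.hom_ext
      · rw [Category.assoc, G'.j_fst, pullback.lift_fst, ← hm₁, Category.assoc, toTgt, pullback.lift_fst]
      · rw [Category.assoc, G'.j_snd, pullback.lift_snd, hm₂]

theorem locP_st {P : MorphismProperty Scheme.{u}} [IsEtLocal P] [P.IsStableUnderComposition]
    [P.IsMultiplicative]
    (hU : IsAlgSpace G.U) (hR : IsAlgSpace G.R) (hU' : IsAlgSpace G'.U) (hR' : IsAlgSpace G'.R)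
    (hφ : φ.IsRestriction) (hs : LocP P G.s) (hg : LocP P φ.fU) : LocP P G'.s ∧ LocP P G'.t := by
  have hP : IsAlgSpace (pullback φ.fU G.t) := isAlgSpace_pullback hU' hR hU φ.fU G.t
  have h1 : LocP P (pullback.snd φ.fU G.t) :=
    locP_of_isPullback (IsPullback.of_hasPullback φ.fU G.t) hU' hU hR hg
  have h2 := locP_comp hP hR hU h1 hs
  have h3 : LocP P G'.s := locP_of_isPullback (isPullback_toTgt φ hφ) hP hU hU' h2
  refine ⟨h3, ?_⟩
  let ι : G'.R ≅ G'.R := ⟨G'.i, G'.i, GpdIdent.inv_inv G', GpdIdent.inv_inv G'⟩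
  haveI : IsIso G'.i := ι.isIso_hom
  rw [← G'.i_s]
  exact locP_comp hR' hR' hU' (locP_of_repWith (repWith_of_isIso P G'.i)) h3

end Groth.Agent.AlgSpDec.GpdRestrict
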