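import Groth.Agent.AlgSpDec.QuasiAffineDescent
import Groth.Agent.AlgSpDec.ZarCover
import Groth.Prelude.Def_AlgSpMor5

/-!
# Quasi-affine morphisms descend along etale coverings
-/

set_option backward.isDefEq.respectTransparency false
set_option backward.isDefEq.respectTransparency.types false

universe u

open CategoryTheory Limits Opposite AlgebraicGeometry AlgSp Groth.Agent.AlgSpLib Groth.Agent.AlgSpPts

namespace Groth.Agent.AlgSpDec

variable {S : Scheme.{u}} {F G : Sp S} {f : F ⟶ G}

theorem isQuasiAffineMor_of_etale_cover {V : Over S} {p : (yon S).obj V ⟶ G} (hp : RepWith @Etale p)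
    (hps : RepWith @Surjective p) {P : Sp S} {fst : P ⟶ F} {snd : P ⟶ (yon S).obj V}
    (sq : IsPullback fst snd f p) (h : IsQuasiAffineMor snd) : IsQuasiAffineMor f := by
  intro Z hZ g
  have : IsAffine Z.left := hZ
  obtain ⟨Z', π, v, hZ', hπe, hπs, hπ⟩ := exists_affine_cover_lift hp hps g
  obtain ⟨W', i, fst', sq', hW'⟩ := h hZ' ((yon S).map v)
  have sq₁ : IsPullback (fst' ≫ fst) ((yon S).map i) f ((yon S).map π ≫ g) := by
    rw [hπ]; exact sq'.paste_horiz sq
  let w : (yon S).obj W' ⟶ pullback f g :=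
    pullback.lift (fst' ≫ fst) ((yon S).map i ≫ (yon S).map π) (by rw [sq₁.w, Category.assoc])
  have sqw : IsPullback w ((yon S).map i) (pullback.snd f g) ((yon S).map π) := by
    refine IsPullback.of_right ?_ (pullback.lift_snd _ _ _) (IsPullback.of_hasPullback f g)
    rw [pullback.lift_fst]
    exact sq₁
  obtain ⟨Q, hQ, ⟨e⟩⟩ := exists_quasiAffine_descent' π sqw
  obtain ⟨s, hs⟩ := (yon S).map_surjective (e.hom ≫ pullback.snd f g)
  exact ⟨Q, s, e.hom ≫ pullback.fst f g,
    (IsPullback.of_hasPullback f g).of_iso e.symm (Iso.refl _) (Iso.refl _) (Iso.refl _) (by simp) (by simp [hs])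
      (by simp) (by simp), hQ⟩

theorem representable_of_isQuasiAffineMor (h : IsQuasiAffineMor f) : Representable f := fun T g => by
  let Z : T.left.affineOpens → Over S := fun U => Over.mk (U.1.ι ≫ T.hom)
  let j : ∀ U, (yon S).obj (Z U) ⟶ (yon S).obj T := fun U =>
    (yon S).map (CategoryTheory.Over.homMk U.1.ι rfl : Z U ⟶ T)
  have hj : IsZarCover (fun U => (yon S).obj (Z U)) j := by
    refine ⟨fun U => (repWith_yon_map_iff _ _).2 (inferInstanceAs (IsOpenImmersion U.1.ι)), fun x => ?_⟩
    obtain ⟨t, rfl⟩ := (Points.schemeHomeo T).surjective x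
    obtain ⟨U, hU, htU, -⟩ := exists_isAffineOpen_mem_and_subset (U := (⊤ : T.left.Opens)) (x := t) trivial
    exact ⟨⟨U, hU⟩, Points.ofScheme (Z ⟨U, hU⟩) ⟨t, htU⟩, Points.map_yon_map_apply _ _⟩
  have hs : Representable (pullback.snd f g) := by
    refine representable_of_zarCover hj (fun U => IsPullback.of_hasPullback _ (j U)) fun U => ?_
    obtain ⟨W, i, fst', sq', -⟩ := h (show IsAffine (Z U).left from U.2) (j U ≫ g)
    have sqp : IsPullback _ _ f (j U ≫ g) :=
      (IsPullback.of_hasPullback (pullback.snd f g) (j U)).paste_horiz (IsPullback.of_hasPullback f g)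
    have e : (pullback.snd (pullback.snd f g) (j U)) = (sqp.isoIsPullback _ _ sq').hom ≫ (yon S).map i := by
      rw [IsPullback.isoIsPullback_hom_snd]
    rw [e]
    exact MorphismProperty.RespectsIso.precomp _ _ _ (representable_yon_map i)
  obtain ⟨W, s, fst', sq'⟩ := hs (𝟙 _)
  exact ⟨W, s, fst' ≫ pullback.fst f g, by
    have := sq'.paste_horiz (IsPullback.of_hasPullback f g)
    rwa [Category.id_comp] at this⟩

end Groth.Agent.AlgSpDec
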