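import Groth.Agent.AlgSpDec.ToFieldFlat
import Groth.Agent.AlgSpDec.GpdRestrict
import Groth.Agent.AlgSpPts.Sep
import Groth.Agent.AlgSpLib.AffineDescProps

/-!
The restriction of a groupoid over a field along a field extension.
-/

set_option autoImplicit false
set_option backward.isDefEq.respectTransparency false
set_option backward.isDefEq.respectTransparency.types false

universe u

open CategoryTheory CategoryTheory.Limits AlgebraicGeometry AlgSp Groth.Agent.AlgSpLib

namespace Groth.Agent.AlgSpDec.GpdFieldExt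

variable {S : Scheme.{u}} {B : Sp S}

instance : (IsOpenMor (S := S)).IsStableUnderComposition :=
  ⟨fun f g hf hg => by
    change IsOpenMap (Points.map (f ≫ g))
    rw [show Points.map (f ≫ g) = Points.map g ∘ Points.map f from funext (Points.map_comp f g)]
    exact IsOpenMap.comp hg hf⟩

/-- Surjective, flat, universally open and affine. -/
def Good {F G : Sp S} (f : F ⟶ G) : Prop :=
  IsSurjectiveMor f ∧ LocP @Flat f ∧ IsUnivOpenMor f ∧ IsAffineMor f

theorem good_comp {F G H : Sp S} (hF : IsAlgSpace F) (hG : IsAlgSpace G) (hH : IsAlgSpace H)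
    {f : F ⟶ G} {g : G ⟶ H} (hf : Good f) (hg : Good g) : Good (f ≫ g) :=
  ⟨fun x => by
      obtain ⟨y, rfl⟩ := hg.1 x
      obtain ⟨z, rfl⟩ := hf.1 y
      exact ⟨z, Points.map_comp f g z⟩,
    locP_comp hF hG hH hf.2.1 hg.2.1, AlgSpPts.univSp_comp hG hH hf.2.2.1 hg.2.2.1,
    AlgSpDec.isAffineMor_of_repWith le_rfl (repWith_comp (AlgSpDec.repWith_isAffineHom_of_isAffineMor hf.2.2.2)
      (AlgSpDec.repWith_isAffineHom_of_isAffineMor hg.2.2.2))⟩

theorem good_of_isPullback {F G F' G' : Sp S} {f : F ⟶ G} {g : G' ⟶ G} {fst : F' ⟶ F} {snd : F' ⟶ G'}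
    (sq : IsPullback fst snd f g) (hF : IsAlgSpace F) (hG : IsAlgSpace G) (hG' : IsAlgSpace G')
    (hf : Good f) : Good snd :=
  ⟨surjective_map_of_isPullback sq hf.1, locP_of_isPullback sq hF hG hG' hf.2.1,
    ToFieldFlat.univOpen_of_isPullback sq hf.2.2.1, isAffineMor_of_isPullback sq hf.2.2.2⟩

variable {k : Type u} [Field k] {σ : Spec (CommRingCat.of k) ⟶ S}

theorem flat_univOpen_to {X U : Sp S} (hX : IsAlgSpace X) (eU : U ≅ (yon S).obj (Over.mk σ)) (f : X ⟶ U) :
    LocP @Flat f ∧ IsUnivOpenMor f := by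
  have hU : IsAlgSpace U := (IsAlgSpace.yon_obj _).of_iso eU.symm
  have sq : IsPullback (𝟙 X) f (f ≫ eU.hom) eU.hom := IsPullback.of_horiz_isIso ⟨by simp⟩
  exact ⟨locP_of_isPullback sq hX (IsAlgSpace.yon_obj _) hU (ToFieldFlat.locP_flat _),
    ToFieldFlat.univOpen_of_isPullback sq (ToFieldFlat.univOpen hX _)⟩

theorem surjective_st (G : GroupoidSp B) : IsSurjectiveMor G.s ∧ IsSurjectiveMor G.t :=
  ⟨fun x => ⟨Points.map G.e x, by rw [← Points.map_comp, G.e_s, Points.map_id]⟩,
    fun x => ⟨Points.map G.e x, by rw [← Points.map_comp, G.e_t, Points.map_id]⟩⟩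

theorem good_fR {G G' : GroupoidSp B} (φ : GroupoidSp.Hom G' G) (hU : IsAlgSpace G.U) (hR : IsAlgSpace G.R)
    (hU' : IsAlgSpace G'.U) (hR' : IsAlgSpace G'.R) (hφ : φ.IsRestriction) (hg : Good φ.fU) :
    Good φ.fR := by
  have hP : IsAlgSpace (pullback φ.fU G.t) := isAlgSpace_pullback hU' hR hU φ.fU G.t
  have h1 : Good (pullback.snd φ.fU G.t) :=
    good_of_isPullback (IsPullback.of_hasPullback φ.fU G.t) hU' hU hR hg
  have h2 : Good (GpdRestrict.toTgt φ) :=
    good_of_isPullback (GpdRestrict.isPullback_toTgt φ hφ).flip hU' hU hP hg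
  have := good_comp hR' hP hR h2 h1
  rwa [GpdRestrict.toTgt, pullback.lift_snd] at this

end Groth.Agent.AlgSpDec.GpdFieldExt
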