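import Groth.Prelude.Def_AlgSpGpd
import Groth.Prelude.Def_AlgSp4
import Groth.Agent.AlgSpLib.Points
import Mathlib.FieldTheory.IsAlgClosed.Classification
import Mathlib.FieldTheory.IsAlgClosed.AlgebraicClosure
import Mathlib.RingTheory.Localization.Cardinality

/-!
Geometric points of the arrows of a groupoid over a field with both ends identified with the base.
-/

set_option autoImplicit false
set_option backward.isDefEq.respectTransparency false
set_option backward.isDefEq.respectTransparency.types false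

universe u

open CategoryTheory CategoryTheory.Limits AlgebraicGeometry AlgSp Cardinal

namespace Groth.Agent.AlgSpDec.GpdGeomPoint

theorem exists_ringEquiv_comp {R K L : Type u} [Field R] [Field K] [Field L] [Algebra R K] [Algebra R L]
    [IsAlgClosed K] [IsAlgClosed L] (h : Algebra.trdeg R K = Algebra.trdeg R L) :
    ∃ θ : K ≃+* L, ∀ a : R, θ (algebraMap R K a) = algebraMap R L a := by
  obtain ⟨s, hs⟩ := exists_isTranscendenceBasis R K
  obtain ⟨t, ht⟩ := exists_isTranscendenceBasis R L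
  rw [← hs.cardinalMk_eq_trdeg, ← ht.cardinalMk_eq_trdeg] at h
  obtain ⟨e⟩ := Cardinal.eq.1 h
  letI := IsAlgClosed.isAlgClosure_of_transcendence_basis _ hs
  letI := IsAlgClosed.isAlgClosure_of_transcendence_basis _ ht
  let E : Algebra.adjoin R (Set.range ((↑) : s → K)) ≃ₐ[R] Algebra.adjoin R (Set.range ((↑) : t → L)) :=
    hs.1.aevalEquiv.symm.trans ((MvPolynomial.renameEquiv R e).trans ht.1.aevalEquiv)
  refine ⟨IsAlgClosure.equivOfEquiv K L E.toRingEquiv, fun a => ?_⟩
  rw [IsScalarTower.algebraMap_apply R (Algebra.adjoin R (Set.range ((↑) : s → K))) K,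
    IsAlgClosure.equivOfEquiv_algebraMap, AlgEquiv.coe_ringEquiv, AlgEquiv.commutes,
    ← IsScalarTower.algebraMap_apply]

theorem trdeg_eq_of_large {R K₀ K : Type u} [Field R] [Field K₀] [Field K] [Algebra K₀ K] [Algebra R K]
    (j : R →+* K₀) (hj : ∀ a, algebraMap R K a = algebraMap K₀ K (j a)) {Λ : Type u} (x : Λ → K) (hx : AlgebraicIndependent K₀ x)
    (hK : #K ≤ #Λ) : Algebra.trdeg R K = #Λ := by
  refine le_antisymm ?_ ?_
  · obtain ⟨s, hs⟩ := exists_isTranscendenceBasis R K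
    rw [← hs.cardinalMk_eq_trdeg]
    exact (mk_set_le s).trans hK
  · letI := j.toAlgebra
    haveI : IsScalarTower R K₀ K := IsScalarTower.of_algebraMap_eq hj
    exact (hx.restrictScalars (algebraMap R K₀).injective).cardinalMk_le_trdeg

theorem exists_large (k K₀ : Type u) [Field k] [Field K₀] (j₁ j₂ : k →+* K₀) :
    ∃ (K : Type u) (_ : Field K) (_ : IsAlgClosed K) (i : K₀ →+* K) (θ : K ≃+* K),
      ∀ a, θ (i (j₁ a)) = i (j₂ a) := by
  let Λ := K₀ ⊕ ULift.{u} ℕ
  let F := FractionRing (MvPolynomial Λ K₀)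
  let K := AlgebraicClosure F
  let x : Λ → K := fun l => algebraMap F K (algebraMap (MvPolynomial Λ K₀) F (MvPolynomial.X l))
  have hΛ : ℵ₀ ≤ #Λ := Cardinal.aleph0_le_mk Λ
  have hx : AlgebraicIndependent K₀ x :=
    (MvPolynomial.algebraicIndependent_X Λ K₀).map' (f := (IsScalarTower.toAlgHom K₀ F K).comp
      (IsScalarTower.toAlgHom K₀ (MvPolynomial Λ K₀) F))
      ((algebraMap F K).injective.comp (IsFractionRing.injective (MvPolynomial Λ K₀) F))
  have hK : #K ≤ #Λ := by
    refine (Algebra.IsAlgebraic.cardinalMk_le_max F K).trans (max_le ?_ hΛ)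
    show #F ≤ #Λ
    rw [IsFractionRing.cardinalMk (R := MvPolynomial Λ K₀) F]
    refine MvPolynomial.cardinalMk_le_max.trans (max_le (max_le ?_ le_rfl) hΛ)
    exact mk_le_of_injective Sum.inl_injective
  let i : K₀ →+* K := algebraMap K₀ K
  let aK (j : k →+* K₀) : Algebra k K := (i.comp j).toAlgebra
  have htr : ∀ j : k →+* K₀, @Algebra.trdeg k K _ _ (aK j) = #Λ := fun j => by
    letI := aK j
    exact trdeg_eq_of_large j (fun _ => rfl) x hx hK
  obtain ⟨θ, hθ⟩ := @exists_ringEquiv_comp k K K _ _ _ (aK j₁) (aK j₂) _ _ ((htr j₁).trans (htr j₂).symm)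
  exact ⟨K, inferInstance, inferInstance, i, θ, hθ⟩

variable {S : Scheme.{u}} {B : Sp S} (G : GroupoidSp B) (k : Type u) [Field k]
  (σ : Spec (CommRingCat.of k) ⟶ S)

theorem exists_point_over (eU : G.U ≅ (yon S).obj (Over.mk σ)) (r : Points G.R) :
    ∃ (k' : Type u) (_ : Field k') (_ : Algebra k k'), IsAlgClosed k' ∧
      ∀ (G' : GroupoidSp B) (φ : GroupoidSp.Hom G' G), φ.IsRestriction →
        ∀ (eU' : G'.U ≅ (yon S).obj (Over.mk (Spec.map (CommRingCat.ofHom (algebraMap k k')) ≫ σ))),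
          φ.fU = eU'.hom ≫ (yon S).map (Over.homMk (Spec.map (CommRingCat.ofHom (algebraMap k k'))) rfl :
            Over.mk (Spec.map (CommRingCat.ofHom (algebraMap k k')) ≫ σ) ⟶ Over.mk σ) ≫ eU.inv →
          ∃ r' : G'.U ⟶ G'.R, (∀ x : Points G'.U, Points.map (r' ≫ φ.fR) x = r) ∧
            IsIso (r' ≫ G'.s) ∧ IsIso (r' ≫ G'.t) := by
  obtain ⟨p, rfl⟩ := Points.mk_surjective r
  obtain ⟨hs, hhs⟩ := (yon S).map_surjective (p.toHom ≫ G.s ≫ eU.hom)
  obtain ⟨ht, hht⟩ := (yon S).map_surjective (p.toHom ≫ G.t ≫ eU.hom)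
  let j₁ : k →+* p.K := (Spec.preimage hs.left).hom
  let j₂ : k →+* p.K := (Spec.preimage ht.left).hom
  obtain ⟨K, _, _, i, θ, hθ⟩ := exists_large k p.K j₁ j₂
  refine ⟨K, inferInstance, (i.comp j₁).toAlgebra, inferInstance, fun G' φ hφ eU' hfU => ?_⟩
  letI : Algebra k K := (i.comp j₁).toAlgebra
  have e₁ : Spec.map (CommRingCat.ofHom (algebraMap k K)) = Spec.map (CommRingCat.ofHom i) ≫ hs.left := by
    conv_rhs => rw [← Spec.map_preimage hs.left]
    rw [← Spec.map_comp]
    rfl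
  have e₂ : Spec.map (CommRingCat.ofHom θ.toRingHom) ≫ Spec.map (CommRingCat.ofHom (algebraMap k K)) =
      Spec.map (CommRingCat.ofHom i) ≫ ht.left := by
    conv_rhs => rw [← Spec.map_preimage ht.left]
    rw [← Spec.map_comp, ← Spec.map_comp]
    congr 1
    ext a
    exact hθ a
  have ws : hs.left ≫ σ = p.str := Over.w hs
  have wt : ht.left ≫ σ = p.str := Over.w ht
  let T' : Over S := Over.mk (Spec.map (CommRingCat.ofHom (algebraMap k K)) ≫ σ)
  let ι : T' ⟶ p.pt := Over.homMk (Spec.map (CommRingCat.ofHom i)) (by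
    show Spec.map (CommRingCat.ofHom i) ≫ p.str = Spec.map (CommRingCat.ofHom (algebraMap k K)) ≫ σ
    rw [e₁, Category.assoc, ws])
  let a : T' ⟶ T' := Over.homMk (Spec.map (CommRingCat.ofHom θ.toRingHom)) (by
    show Spec.map (CommRingCat.ofHom θ.toRingHom) ≫ Spec.map (CommRingCat.ofHom (algebraMap k K)) ≫ σ =
      Spec.map (CommRingCat.ofHom (algebraMap k K)) ≫ σ
    rw [← Category.assoc, e₂, Category.assoc, wt, e₁, Category.assoc, ws])
  haveI : IsIso a := by
    haveI : IsIso (CommRingCat.ofHom θ.toRingHom) := θ.toCommRingCatIso.isIso_hom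
    haveI : IsIso ((Over.forget S).map a) := inferInstanceAs (IsIso (Spec.map (CommRingCat.ofHom θ.toRingHom)))
    exact isIso_of_reflects_iso a (Over.forget S)
  let m : T' ⟶ Over.mk σ := Over.homMk (Spec.map (CommRingCat.ofHom (algebraMap k K))) rfl
  have hm₁ : m = ι ≫ hs := Over.OverMorphism.ext e₁
  have hm₂ : a ≫ m = ι ≫ ht := Over.OverMorphism.ext e₂
  let q : (yon S).obj T' ⟶ G.R := (yon S).map ι ≫ p.toHom
  have hq₁ : q ≫ G.s = eU'.inv ≫ φ.fU := by
    rw [← cancel_mono eU.hom, hfU]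
    simp only [q, Category.assoc, Iso.inv_hom_id, Category.comp_id, Iso.inv_hom_id_assoc]
    rw [← hhs, ← Functor.map_comp, ← hm₁]
  have hq₂ : q ≫ G.t = ((yon S).map a ≫ eU'.inv) ≫ φ.fU := by
    rw [← cancel_mono eU.hom, hfU]
    simp only [q, Category.assoc, Iso.inv_hom_id, Category.comp_id, Iso.inv_hom_id_assoc]
    rw [← hht, ← Functor.map_comp, ← Functor.map_comp, ← hm₂]
  have hB : ((yon S).map a ≫ eU'.inv) ≫ G'.pU = eU'.inv ≫ G'.pU := by
    rw [← φ.fU_over, ← Category.assoc, ← hq₂, ← Category.assoc eU'.inv, ← hq₁, Category.assoc q,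
      Category.assoc q, G.t_over, G.s_over]
  let pr := pullback.lift ((yon S).map a ≫ eU'.inv) eU'.inv hB
  have hw : q ≫ G.j = pr ≫ φ.prodMap := by
    apply pullback.hom_ext
    · simp only [pr, GroupoidSp.Hom.prodMap, Category.assoc, GroupoidSp.j_fst, pullback.lift_fst,
        pullback.lift_fst_assoc]
      exact hq₂.trans (Category.assoc _ _ _)
    · simp only [pr, GroupoidSp.Hom.prodMap, Category.assoc, GroupoidSp.j_snd, pullback.lift_snd,
        pullback.lift_snd_assoc]
      exact hq₁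
  let r₀ := hφ.lift q pr hw
  have hr₁ : r₀ ≫ G'.s = eU'.inv := by
    rw [← G'.j_snd, hφ.lift_snd_assoc]; exact pullback.lift_snd _ _ _
  have hr₂ : r₀ ≫ G'.t = (yon S).map a ≫ eU'.inv := by
    rw [← G'.j_fst, hφ.lift_snd_assoc]; exact pullback.lift_fst _ _ _
  refine ⟨eU'.hom ≫ r₀, fun x => ?_, ?_, ?_⟩
  · rw [Category.assoc, hφ.lift_fst, Points.map_comp]
    obtain ⟨y, hy⟩ := Groth.Agent.AlgSpLib.surjective_ofPt
      (Groth.Agent.AlgSpLib.repWith_of_isIso @Surjective (𝟙 ((yon S).obj T'))) (Points.map eU'.hom x)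
    rw [← hy, Points.map_ofPt, Category.id_comp, Groth.Agent.AlgSpLib.ofPt_comp,
      Groth.Agent.AlgSpLib.mk_eq_ofPt]
    exact congrArg _ (Subsingleton.elim (α := PrimeSpectrum p.K) _ _)
  · rw [Category.assoc, hr₁, Iso.hom_inv_id]; infer_instance
  · rw [Category.assoc, hr₂]; infer_instance

end Groth.Agent.AlgSpDec.GpdGeomPoint
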