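import Groth.Agent.AlgSpDec.GpdFibres
import Groth.Agent.AlgSpDec.RelDimSp
import Groth.Agent.AlgSpDec.FieldFibre

/-!
Homogeneity of the fibre dimension of the source map of a groupoid, and the dimension of a space over
a field with constant fibre dimension.
-/

set_option autoImplicit false
set_option backward.isDefEq.respectTransparency false
set_option backward.isDefEq.respectTransparency.types false

universe u

open CategoryTheory CategoryTheory.Limits AlgebraicGeometry AlgSp Groth.Agent.AlgSpLib Groth.Agent.AlgSpPts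

namespace Groth.Agent.AlgSpDec.GpdHomog

open GpdIdent GpdFibres

noncomputable local instance instSpecOrder (X : Scheme.{u}) : PartialOrder ↥X := specializationOrder _

variable {S : Scheme.{u}}

theorem hasAtMor_transport {P P' T : Sp S} (e : P ≅ P') {p : P ⟶ T} {p' : P' ⟶ T} (w : e.hom ≫ p' = p)
    {x : Points P} {d : WithBot ℕ∞}
    (h : HasAtMor (fun _ _ h u => FlatMor.fibreDimAt h u = d) p x) :
    HasAtMor (fun _ _ h u => FlatMor.fibreDimAt h u = d) p' (Points.map e.hom x) := by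
  obtain ⟨U, V, a, b, k, u, ha, hb, wk, hu, hd⟩ := h
  refine ⟨U, V, a ≫ e.hom, b, k, u, ?_, hb, by rw [Category.assoc, w, wk], ?_, hd⟩
  · exact repWith_comp ha (repWith_of_isIso _ e.hom)
  · rw [← hu, Points.map_ofPt]

theorem eq_of_hasAtMor {F G : Sp S} {f : F ⟶ G} (hf : LocP @LocallyOfFiniteType f) {x : Points F}
    {d₁ d₂ : WithBot ℕ∞} (h₁ : HasAtMor (fun _ _ h u => FlatMor.fibreDimAt h u = d₁) f x)
    (h₂ : HasAtMor (fun _ _ h u => FlatMor.fibreDimAt h u = d₂) f x) : d₁ = d₂ := by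
  obtain ⟨U, V, a, b, h, u, ha, hb, w, hx, hu⟩ := h₁
  obtain ⟨U', V', a', b', h', u', ha', hb', w', hx', hu'⟩ := h₂
  rw [← hu, ← hu', RelDimSp.fibreDimAt_congr hf ha hb w ha' hb' w' (hx.trans hx'.symm)]

theorem exists_hasAtMor {F G : Sp S} (hF : IsAlgSpace F) (hG : IsAlgSpace G) (f : F ⟶ G) (x : Points F) :
    ∃ d, HasAtMor (fun _ _ h u => FlatMor.fibreDimAt h u = d) f x := by
  obtain ⟨U, V, a, b, h, ha, ha', hb, -, w⟩ := exists_chart hF hG f
  obtain ⟨u, rfl⟩ := surjective_ofPt ha' x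
  exact ⟨_, U, V, a, b, h, u, ha, hb, w, rfl, rfl⟩

/-- The fibre dimension of the source map at an arrow equals the one at the identity of its target. -/
theorem eq_of_translate {B : Sp S} (G : GroupoidSp B) (hR : IsAlgSpace G.R) (hU : IsAlgSpace G.U)
    (hs : LocP @LocallyOfFiniteType G.s) {T : Over S} (q : (yon S).obj T ⟶ G.R) (t : ↥T.left)
    {d₁ d₂ : WithBot ℕ∞}
    (h₁ : HasAtMor (fun _ _ h u => FlatMor.fibreDimAt h u = d₁) G.s (Points.ofPt q t))
    (h₂ : HasAtMor (fun _ _ h u => FlatMor.fibreDimAt h u = d₂) G.s (Points.ofPt (q ≫ G.t ≫ G.e) t)) :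
    d₁ = d₂ := by
  set r := q ≫ G.t ≫ G.e with hr_def
  have hrt : r ≫ G.t = q ≫ G.t := by
    rw [hr_def, Category.assoc, Category.assoc, G.e_t, Category.comp_id]
  let p₁ : (yon S).obj T ⟶ pullback (q ≫ G.s) G.s := pullback.lift (𝟙 _) q (by rw [Category.id_comp])
  let p₂ : (yon S).obj T ⟶ pullback (r ≫ G.s) G.s := pullback.lift (𝟙 _) r (by rw [Category.id_comp])
  have hp : p₂ ≫ shift r q hrt = p₁ := by
    apply pullback.hom_ext
    · rw [Category.assoc, shift_fst, pullback.lift_fst, pullback.lift_fst]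
    · rw [Category.assoc, shift, pullback.lift_snd, pullback.lift_snd, pre_comp]
      have hA : (r ≫ G.i) ≫ G.s = q ≫ G.t := trans_hs r q hrt
      have hB : r ≫ G.s = GpdIdent.comp G (r ≫ G.i) q hA ≫ G.t := by
        rw [comp_t', Category.assoc r G.i, G.i_t]
      refine (comp_congr G _ hB (pullback.lift_snd _ _ _) ?_).trans (comp_inv_comp' G r q hrt hA hB)
      rw [← Category.assoc, pullback.lift_fst, Category.id_comp]
      rfl
  have hT : IsAlgSpace ((yon S).obj T) := IsAlgSpace.yon_obj _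
  have sq₁ := (IsPullback.of_hasPullback (q ≫ G.s) G.s).flip
  have sq₂ := (IsPullback.of_hasPullback (r ≫ G.s) G.s).flip
  have k₁ := RelDimSp.baseChange sq₁ hR hU hT hs (Points.ofPt p₁ t) d₁
    (by rwa [Points.map_ofPt, pullback.lift_snd])
  have k₂ := RelDimSp.baseChange sq₂ hR hU hT hs (Points.ofPt p₂ t) d₂
    (by rwa [Points.map_ofPt, pullback.lift_snd])
  have k₃ := hasAtMor_transport
    (⟨shift r q hrt, shift q r hrt.symm, shift_shift r q hrt, shift_shift q r hrt.symm⟩ : _ ≅ _)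
    (shift_fst r q hrt) k₂
  rw [Points.map_ofPt, hp] at k₃
  exact eq_of_hasAtMor (locP_of_isPullback sq₁ hR hU hT hs) k₁ k₃

section Field

variable {X : Sp S} {k : Type u} [Field k] {σ : Spec (CommRingCat.of k) ⟶ S}

theorem coheight_le_localDim (U : Scheme.{u}) (u : ↥U) :
    (Order.coheight u : WithBot ℕ∞) ≤ FlatMor.localDim ↥U u := by
  refine le_iInf fun W => ?_
  let W' : U.Opens := W.1
  let w : ↥W'.toScheme := ⟨u, W.2⟩
  show _ ≤ topologicalKrullDim ↥W'.toScheme
  rw [topologicalKrullDim_eq_krullDim, show u = W'.ι w from rfl, ← coheight_eq_of_etale]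
  exact Order.coheight_le_krullDim w

theorem localDim_eq_of_hasAtMor (hX : IsAlgSpace X) (p : X ⟶ (yon S).obj (Over.mk σ))
    (hp : LocP @LocallyOfFiniteType p) {x : Points X} {d : WithBot ℕ∞}
    (hd : HasAtMor (fun _ _ h u => FlatMor.fibreDimAt h u = d) p x)
    {U : Over S} {a : (yon S).obj U ⟶ X} (ha : RepWith @Etale a) {u : ↥U.left}
    (hu : Points.ofPt a u = x) : FlatMor.localDim ↥U.left u = d := by
  obtain ⟨h, hh⟩ := (yon S).map_surjective (a ≫ p)
  have hw : a ≫ p = (yon S).map h ≫ 𝟙 _ := by rw [Category.comp_id, hh]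
  haveI : Subsingleton ↥(Over.mk σ).left := inferInstanceAs (Subsingleton (PrimeSpectrum k))
  rw [← FieldFibre.fibreDimAt_of_subsingleton h.left u]
  exact eq_of_hasAtMor hp ⟨U, _, a, 𝟙 _, h, u, ha, repWith_of_isIso _ _, hw, hu, rfl⟩ hd

/-- A space over a field with constant fibre dimension is equidimensional. -/
theorem dim_eq_of_const (hX : IsAlgSpace X) (p : X ⟶ (yon S).obj (Over.mk σ))
    (hp : LocP @LocallyOfFiniteType p) {d : WithBot ℕ∞}
    (hd : ∀ x, HasAtMor (fun _ _ h u => FlatMor.fibreDimAt h u = d) p x) (x : Points X) :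
    AlgSp.dim X = d ∧ HasAt (fun V v => FlatMor.localDim ↥V v = AlgSp.dim X) X x := by
  obtain ⟨U, a, ha, ha'⟩ := hX.atlas
  obtain ⟨u, hu⟩ := surjective_ofPt ha' x
  have hdim : AlgSp.dim X = d := by
    refine le_antisymm ?_ ?_
    · refine (dim_le_iff (F := X) (d := d)).2 fun U' a' ha'' u' => ?_
      rw [← localDim_eq_of_hasAtMor hX p hp (hd _) ha'' (u := u') rfl]
      exact coheight_le_localDim _ u'
    · rw [← localDim_eq_of_hasAtMor hX p hp (hd _) ha hu]
      refine le_trans (iInf_le _ (⟨⊤, trivial⟩ : {W : TopologicalSpace.Opens ↥U.left // u ∈ W})) ?_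
      refine le_trans ?_ (le_iSup₂_of_le U a (le_iSup_of_le ha le_rfl))
      exact le_of_eq (IsHomeomorph.topologicalKrullDim_eq _ (Homeomorph.Set.univ ↥U.left).isHomeomorph)
  exact ⟨hdim, U, a, u, ha, hu, (localDim_eq_of_hasAtMor hX p hp (hd _) ha hu).trans hdim.symm⟩

end Field

end Groth.Agent.AlgSpDec.GpdHomog
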