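import Groth.Agent.AlgSpDec.GpdHomog

/-!
A groupoid over a field is equidimensional.
-/

set_option autoImplicit false
set_option backward.isDefEq.respectTransparency false
set_option backward.isDefEq.respectTransparency.types false

universe u

open CategoryTheory CategoryTheory.Limits AlgebraicGeometry AlgSp Groth.Agent.AlgSpLib Groth.Agent.AlgSpPts

namespace Groth.Agent.AlgSpDec.GpdHomog

variable {S : Scheme.{u}} {B : Sp S} (G : GroupoidSp B) {k : Type u} [Field k]
  {σ : Spec (CommRingCat.of k) ⟶ S}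

theorem subsingleton_points (eU : G.U ≅ (yon S).obj (Over.mk σ)) : Subsingleton (Points G.U) := by
  haveI : Subsingleton ↥(Over.mk σ).left := inferInstanceAs (Subsingleton (PrimeSpectrum k))
  refine ⟨fun x y => ?_⟩
  obtain ⟨a, rfl⟩ := surjective_ofPt (repWith_of_isIso @Surjective eU.inv) x
  obtain ⟨b, rfl⟩ := surjective_ofPt (repWith_of_isIso @Surjective eU.inv) y
  rw [Subsingleton.elim a b]

theorem fibreDimAt_s_const (hR : IsAlgSpace G.R) (eU : G.U ≅ (yon S).obj (Over.mk σ))
    (hs : LocP @LocallyOfFiniteType G.s) :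
    ∃ d, ∀ x, HasAtMor (fun _ _ h u => FlatMor.fibreDimAt h u = d) G.s x := by
  have hU : IsAlgSpace G.U := (IsAlgSpace.yon_obj _).of_iso eU.symm
  haveI := subsingleton_points G eU
  haveI : Nonempty ↥(Over.mk σ).left := inferInstanceAs (Nonempty (PrimeSpectrum k))
  let y : Points G.U := Points.ofPt eU.inv (Classical.arbitrary ↥(Over.mk σ).left)
  obtain ⟨d, hd⟩ := exists_hasAtMor hR hU G.s (Points.map G.e y)
  refine ⟨d, fun x => ?_⟩
  obtain ⟨T, q, t, -, rfl⟩ := exists_ofPt_eq x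
  obtain ⟨d₁, hd₁⟩ := exists_hasAtMor hR hU G.s (Points.ofPt q t)
  have he : Points.ofPt (q ≫ G.t ≫ G.e) t = Points.map G.e y := by
    rw [← Points.map_ofPt, Points.map_comp]
    exact congrArg _ (Subsingleton.elim _ _)
  rwa [eq_of_translate G hR hU hs q t hd₁ (he ▸ hd)] at hd₁

theorem equidim (hR : IsAlgSpace G.R) (eU : G.U ≅ (yon S).obj (Over.mk σ))
    (hs : LocP @LocallyOfFiniteType G.s) (r : Points G.R) :
    HasAt (fun V v => FlatMor.localDim ↥V v = AlgSp.dim G.R) G.R r := by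
  have hU : IsAlgSpace G.U := (IsAlgSpace.yon_obj _).of_iso eU.symm
  obtain ⟨d, hd⟩ := fibreDimAt_s_const G hR eU hs
  have hp : LocP @LocallyOfFiniteType (G.s ≫ eU.hom) := locP_comp hR hU (IsAlgSpace.yon_obj _) hs (locP_of_repWith (repWith_of_isIso _ eU.hom))
  refine (dim_eq_of_const hR (G.s ≫ eU.hom) hp (d := d) (fun x => ?_) r).2
  obtain ⟨U, V, a, b, h, u, ha, hb, w, hu, hh⟩ := hd x
  exact ⟨U, V, a, b ≫ eU.hom, h, u, ha, repWith_comp hb (repWith_of_isIso _ eU.hom),
    by rw [← Category.assoc, w, Category.assoc], hu, hh⟩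

end Groth.Agent.AlgSpDec.GpdHomog
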