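import Groth.Agent.AlgSpDec.GpdIdent
import Groth.Agent.AlgSpLib.LargestOpen
import Groth.Agent.AlgSpPts.OpenSub
import Groth.Agent.AlgSpPts.Misc
import Groth.Agent.AlgSpPts.Imm
import Groth.Agent.S10121
import Groth.Agent.S9913
import Groth.Agent.GrpdLib.LocQuot

/-!
Saturations of open subspaces in a groupoid in algebraic spaces.
-/

set_option backward.isDefEq.respectTransparency false
set_option backward.isDefEq.respectTransparency.types false

universe u

open CategoryTheory CategoryTheory.Limits AlgebraicGeometry AlgSp Groth.Agent.AlgSpLib Groth.Agent.AlgSpPts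

namespace Groth.Agent.AlgSpDec.GpdSat

open GpdIdent

variable {S : Scheme.{u}} {B : Sp S} (G : GroupoidSp B)

theorem isPreEqvRel : IsPreEqvRelSp G.s G.t := fun T => by
  refine ⟨fun x => ⟨x ≫ G.e, ?_, ?_⟩, ?_, ?_⟩
  · rw [Category.assoc, G.e_t, Category.comp_id]
  · rw [Category.assoc, G.e_s, Category.comp_id]
  · rintro x y ⟨r, rfl, rfl⟩
    exact ⟨r ≫ G.i, by rw [Category.assoc, G.i_t], by rw [Category.assoc, G.i_s]⟩
  · rintro x y z ⟨r, rfl, h⟩ ⟨r', rfl, rfl⟩
    exact ⟨GpdIdent.comp G r r' h, comp_t' G r r' h, comp_s' G r r' h⟩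

/-- saturation of a set of points -/
def sat (W : Set (Points G.U)) : Set (Points G.U) := Points.map G.s '' (Points.map G.t ⁻¹' W)

variable {G}

theorem subset_sat (W : Set (Points G.U)) : W ⊆ sat G W := fun x hx =>
  ⟨Points.map G.e x, by
    show Points.map G.t (Points.map G.e x) ∈ W
    rwa [← Points.map_comp, G.e_t, Points.map_id], by rw [← Points.map_comp, G.e_s, Points.map_id]⟩

theorem sat_iff (hU : IsAlgSpace G.U) (hR : IsAlgSpace G.R) (W : Set (Points G.U)) (r : Points G.R) :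
    Points.map G.t r ∈ sat G W ↔ Points.map G.s r ∈ sat G W := by
  have E := Groth.Agent.S10121.result S G.R G.U hR hU G.s G.t (isPreEqvRel G)
  constructor
  · rintro ⟨a, ha, e⟩
    obtain ⟨b, hb₁, hb₂⟩ := E.trans (x := Points.map G.t a) (y := Points.map G.t r) (z := Points.map G.s r)
      ⟨a, rfl, e⟩ ⟨r, rfl, rfl⟩
    exact ⟨b, by show Points.map G.t b ∈ W; rw [hb₁]; exact ha, hb₂⟩
  · rintro ⟨a, ha, e⟩
    obtain ⟨b, hb₁, hb₂⟩ := E.trans (x := Points.map G.t a) (y := Points.map G.s r) (z := Points.map G.t r)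
      ⟨a, rfl, e⟩ (E.symm ⟨r, rfl, rfl⟩)
    exact ⟨b, by show Points.map G.t b ∈ W; rw [hb₁]; exact ha, hb₂⟩

theorem isInvariant_of_range (hU : IsAlgSpace G.U) (hR : IsAlgSpace G.R) {W' : Sp S}
    (w' : W' ⟶ G.U) (hW' : IsAlgSpace W') (hw' : RepWith @IsOpenImmersion w') (V : Set (Points G.U))
    (h : Set.range (Points.map w') = sat G V) : G.IsInvariant w' := by
  intro T r
  have key : ∀ f g : G.R ⟶ G.U, (∀ z, Points.map f z ∈ sat G V → Points.map g z ∈ sat G V) →
      (∃ a : (yon S).obj T ⟶ W', a ≫ w' = r ≫ f) → ∃ a : (yon S).obj T ⟶ W', a ≫ w' = r ≫ g := by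
    intro f g hfg ⟨a, ha⟩
    refine exists_lift_openImmersion (IsAlgSpace.yon_obj T) hW' hU hw' _ ?_
    rintro _ ⟨z, rfl⟩
    rw [h, Points.map_comp]
    refine hfg _ ?_
    rw [← Points.map_comp, ← ha, Points.map_comp, ← h]
    exact ⟨_, rfl⟩
  exact ⟨key _ _ fun z => (sat_iff hU hR V z).1, key _ _ fun z => (sat_iff hU hR V z).2⟩

theorem exists_invariant_qc_nbhd (hU : IsAlgSpace G.U) (hR : IsAlgSpace G.R) (hs : IsOpenMor G.s)
    (ht : IsQuasiCompactMor G.t) (x : Points G.U) :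
    ∃ (W : Sp S) (w : W ⟶ G.U), RepWith @IsOpenImmersion w ∧ G.IsInvariant w ∧
      IsQuasiCompactSp W ∧ x ∈ Set.range (Points.map w) := by
  obtain ⟨U₀, a, ha, ha'⟩ := hU.atlas
  obtain ⟨u, hu⟩ : ∃ u, Points.ofPt a u = x := surjective_ofPt ha' x
  obtain ⟨A, hA, huA⟩ := GrpdLib.exists_affineOpen_mem u
  have hVo : IsOpen (Points.ofPt a '' (A : Set U₀.left)) := isOpenMap_ofPt ha _ A.isOpen
  have hVc : IsCompact (Points.ofPt a '' (A : Set U₀.left)) :=
    hA.isCompact.image (Points.continuous_ofPt a)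
  have hpre := Groth.Agent.S9913.result (ObjectProperty.homMk G.t : (⟨G.R, hR⟩ : Space S) ⟶ ⟨G.U, hU⟩)
    ht _ hVo hVc
  obtain ⟨W, w, hW, hw, hrange⟩ := exists_open_subspace hU
    (W := sat G (Points.ofPt a '' (A : Set U₀.left))) (hs _ (hVo.preimage (Points.continuous_map G.t)))
  refine ⟨W, w, hw, isInvariant_of_range hU hR w hW hw _ hrange, (isQuasiCompactSp_iff hW).2 ⟨?_⟩, ?_⟩
  · have he := isEmbedding_map hU (repWith_mono (P := @IsOpenImmersion) (Q := @IsImmersion)
      (fun A B g (_ : IsOpenImmersion g) => inferInstanceAs (IsImmersion g)) _ hw)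
    rw [he.isCompact_iff, Set.image_univ, hrange]
    exact hpre.image (Points.continuous_map G.s)
  · rw [hrange]
    exact subset_sat _ ⟨u, huA, hu⟩

end Groth.Agent.AlgSpDec.GpdSat
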