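import Mathlib.RingTheory.Spectrum.Prime.Chevalley
import Mathlib.RingTheory.Flat.TorsionFree
import Mathlib.RingTheory.LocalRing.ResidueField.Basic
import Mathlib.RingTheory.Ideal.MinimalPrime.Noetherian
import Mathlib.FieldTheory.IsAlgClosed.AlgebraicClosure
import Mathlib.RingTheory.Localization.Ideal

/-!
A field inside an algebra of finite type over a field consists of algebraic elements; rigidity of two maps
from a field into such an algebra.
-/

set_option autoImplicit false

universe u

open Polynomial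

namespace Groth.Agent.AlgSpDec.GpdStabAlg

/-- An element of a domain of finite type over a field all of whose `n`-th powers minus one are zero or a unit
is algebraic. -/
theorem isIntegral_of_units {k A : Type u} [Field k] [CommRing A] [IsDomain A] [Algebra k A]
    [Algebra.FiniteType k A] (c : A) (hc : ∀ n : ℕ, c ^ n = 1 ∨ IsUnit (c ^ n - 1)) : IsIntegral k c := by
  by_contra hint
  have hinj : Function.Injective (aeval (R := k) c) :=
    transcendental_iff_injective.1 fun h => hint h.isIntegral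
  letI : Algebra k[X] A := (aeval (R := k) c).toRingHom.toAlgebra
  haveI : IsScalarTower k k[X] A := IsScalarTower.of_algebraMap_eq fun x => (aeval_C c x).symm
  haveI : Algebra.FiniteType k[X] A := Algebra.FiniteType.of_restrictScalars_finiteType k k[X] A
  haveI : Algebra.FinitePresentation k[X] A :=
    Algebra.FinitePresentation.of_finiteType.1 inferInstance
  haveI : FaithfulSMul k[X] A := (faithfulSMul_iff_algebraMap_injective _ _).2 hinj
  haveI : Module.IsTorsionFree k[X] A := inferInstance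
  haveI : Module.Flat k[X] A :=
    (Module.Flat.flat_iff_torsion_eq_bot_of_isBezout).2 (Submodule.isTorsionFree_iff_torsion_eq_bot.1 inferInstance)
  have hop := (PrimeSpectrum.isOpenMap_comap_of_hasGoingDown_of_finitePresentation (R := k[X]) (S := A)).isOpen_range
  obtain ⟨_, ⟨h, rfl⟩, hbot, hsub⟩ := PrimeSpectrum.isTopologicalBasis_basic_opens.exists_subset_of_mem_open
    (Set.mem_range_self (⟨⊥, Ideal.isPrime_bot⟩ : PrimeSpectrum A)) hop
  have hh : h ≠ 0 := by rintro rfl; exact hbot (Submodule.zero_mem _)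
  obtain ⟨n, hn, hnk⟩ : ∃ n : ℕ, h.natDegree < n ∧ (n : k) ≠ 0 := by
    by_cases h1 : ((h.natDegree + 1 : ℕ) : k) = 0
    · refine ⟨h.natDegree + 2, by omega, fun h2 => one_ne_zero (α := k) ?_⟩
      have : ((h.natDegree + 2 : ℕ) : k) = ((h.natDegree + 1 : ℕ) : k) + 1 := by push_cast; ring
      rw [this, h1, zero_add] at h2
      exact h2
    · exact ⟨h.natDegree + 1, by omega, h1⟩
  let K := AlgebraicClosure k
  have hsep : ((X : K[X]) ^ n - C 1).Separable :=
    separable_X_pow_sub_C 1 (by rw [← map_natCast (algebraMap k K), ne_eq, map_eq_zero_iff _ (algebraMap k K).injective]; exact hnk) one_ne_zero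
  obtain ⟨α, hα, hαh⟩ : ∃ α : K, α ^ n = 1 ∧ aeval α h ≠ 0 := by
    classical
    by_contra hcon
    push Not at hcon
    have hcard := Polynomial.card_rootSet_eq_natDegree (K := K) hsep (IsAlgClosed.splits _)
    rw [natDegree_X_pow_sub_C, ← Set.toFinset_card, ← Set.ncard_eq_toFinset_card'] at hcard
    have hsubset : ((X : K[X]) ^ n - C 1).rootSet K ⊆ h.rootSet K := fun x hx => by
      rw [mem_rootSet] at hx ⊢
      refine ⟨hh, hcon x ?_⟩
      have := hx.2
      simp [sub_eq_zero] at this
      exact this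
    have hle := (Set.ncard_le_ncard hsubset (rootSet_finite h K)).trans (ncard_rootSet_le h K)
    omega
  let q : PrimeSpectrum k[X] := ⟨RingHom.ker (aeval (R := k) α), RingHom.ker_isPrime _⟩
  obtain ⟨m, hm⟩ := hsub (show q ∈ PrimeSpectrum.basicOpen h from hαh)
  have hmem : c ^ n - 1 ∈ m.asIdeal := by
    have h2 : (X ^ n - 1 : k[X]) ∈ (PrimeSpectrum.comap (algebraMap k[X] A) m).asIdeal := by
      rw [hm]
      show aeval α (X ^ n - 1 : k[X]) = 0
      simp [hα]
    simpa [PrimeSpectrum.comap_asIdeal, Ideal.mem_comap, RingHom.algebraMap_toAlgebra] using h2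
  rcases hc n with h1 | h1
  · refine hint ?_
    refine ⟨X ^ n - C 1, monic_X_pow_sub_C 1 (by omega), ?_⟩
    simp [h1]
  · exact m.isPrime.ne_top (Ideal.eq_top_of_isUnit_mem _ hmem h1)

theorem sub_eq_zero_of_agree {k A L : Type u} [Field k] [CommRing A] [IsDomain A] [Field L]
    (φ ψ : k →+* A) (hφ : φ.FiniteType) (χ : A →+* L) (h : χ.comp φ = χ.comp ψ) (a : k) : φ a = ψ a := by
  letI := φ.toAlgebra
  haveI : Algebra.FiniteType k A := hφ
  have hint : IsIntegral k (ψ a) := isIntegral_of_units (ψ a) fun n => by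
    by_cases h0 : a ^ n - 1 = 0
    · left; rw [← map_pow, sub_eq_zero.1 h0, map_one]
    · right; rw [← map_pow, ← map_one ψ, ← map_sub]; exact (IsUnit.mk0 (a ^ n - 1) h0).map ψ
  have hx : IsIntegral k (ψ a - φ a) := hint.sub isIntegral_algebraMap
  have hχ : χ (ψ a - φ a) = 0 := by
    rw [map_sub, sub_eq_zero]; exact (RingHom.congr_fun h a).symm
  by_contra hne
  have hne' : ψ a - φ a ≠ 0 := sub_ne_zero.2 (Ne.symm hne)
  have hev : (minpoly k (ψ a - φ a)).eval₂ (χ.comp φ) (χ (ψ a - φ a)) = 0 := by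
    rw [← hom_eval₂]
    exact (congrArg χ (minpoly.aeval k (ψ a - φ a))).trans (map_zero χ)
  rw [hχ, eval₂_at_zero] at hev
  exact minpoly.coeff_zero_ne_zero hx hne' ((χ.comp φ).injective (by rw [hev, map_zero]))

theorem isNilpotent_sub {k B L : Type u} [Field k] [CommRing B] [Field L]
    (φ ψ : k →+* B) (hφ : φ.FiniteType) (χ : B →+* L) (h : χ.comp φ = χ.comp ψ)
    (hmin : ∀ Q : Ideal B, Q.IsPrime → ∃ Q₀ : Ideal B, Q₀.IsPrime ∧ Q₀ ≤ Q ∧ Q₀ ≤ RingHom.ker χ) (a : k) :
    φ a - ψ a ∈ nilradical B := by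
  rw [nilradical_eq_sInf, Submodule.mem_sInf]
  intro Q hQ
  obtain ⟨Q₀, hp, hle, hker⟩ := hmin Q hQ
  refine hle ?_
  rw [← Ideal.Quotient.eq]
  exact sub_eq_zero_of_agree ((Ideal.Quotient.mk Q₀).comp φ) ((Ideal.Quotient.mk Q₀).comp ψ)
    ((RingHom.FiniteType.of_surjective _ Ideal.Quotient.mk_surjective).comp hφ)
    (Ideal.Quotient.lift Q₀ χ fun x hx => RingHom.mem_ker.1 (hker hx))
    (RingHom.ext fun x => by simpa using RingHom.congr_fun h x) a

/-- Near a prime of a Noetherian ring all irreducible components pass through it. -/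
theorem exists_localization {B : Type u} [CommRing B] [IsNoetherianRing B] (P : Ideal B) [P.IsPrime] :
    ∃ g : B, g ∉ P ∧ ∀ Q : Ideal (Localization.Away g), Q.IsPrime →
      ∃ Q₀ : Ideal (Localization.Away g), Q₀.IsPrime ∧ Q₀ ≤ Q ∧
        Q₀.comap (algebraMap B (Localization.Away g)) ≤ P := by
  classical
  let Bad : Finset (Ideal B) := (minimalPrimes.finite_of_isNoetherianRing B).toFinset.filter fun Q => ¬ Q ≤ P
  have hbad : ¬ Bad.inf id ≤ P := fun hle => by
    obtain ⟨Q, hQ, hQP⟩ := (Ideal.IsPrime.inf_le' (s := Bad) (f := id) ‹P.IsPrime›).1 hle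
    exact (Finset.mem_filter.1 hQ).2 hQP
  obtain ⟨g, hg, hgP⟩ := SetLike.not_le_iff_exists.1 hbad
  refine ⟨g, hgP, fun Q hQ => ?_⟩
  have hdis := (IsLocalization.isPrime_iff_isPrime_disjoint (Submonoid.powers g) (Localization.Away g) Q).1 hQ
  haveI := hdis.1
  obtain ⟨R, hR, hRQ⟩ := Ideal.exists_minimalPrimes_le (I := (⊥ : Ideal B))
    (J := Q.comap (algebraMap B (Localization.Away g))) bot_le
  haveI : R.IsPrime := Ideal.minimalPrimes_isPrime hR
  have hd : Disjoint (Submonoid.powers g : Set B) R := hdis.2.mono_right hRQ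
  refine ⟨R.map (algebraMap B _), IsLocalization.isPrime_of_isPrime_disjoint _ _ R inferInstance hd,
    Ideal.map_le_iff_le_comap.2 hRQ, ?_⟩
  rw [show Ideal.comap (algebraMap B (Localization.Away g)) (Ideal.map (algebraMap B (Localization.Away g)) R) = R from
    IsLocalization.under_map_of_isPrime_disjoint (Submonoid.powers g) (Localization.Away g) ‹R.IsPrime› hd]
  by_contra hRP
  have hmem : R ∈ Bad := Finset.mem_filter.2 ⟨(minimalPrimes.finite_of_isNoetherianRing B).mem_toFinset.2 hR, hRP⟩
  exact Set.disjoint_left.1 hd (Submonoid.mem_powers g) ((Finset.inf_le (f := id) hmem) hg)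

end Groth.Agent.AlgSpDec.GpdStabAlg
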