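import Groth.Agent.AlgSpDec.GpdHomogField
import Groth.Agent.AlgSpDec.GpdStabAlg
import Groth.Agent.S10249
import Mathlib.AlgebraicGeometry.Morphisms.UniversallyInjective

/-!
The dimension of the stabilizer of a groupoid over a field.
-/

set_option autoImplicit false
set_option backward.isDefEq.respectTransparency false
set_option backward.isDefEq.respectTransparency.types false

universe u

open CategoryTheory CategoryTheory.Limits AlgebraicGeometry AlgSp Groth.Agent.AlgSpLib Groth.Agent.AlgSpPts Topology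

namespace Groth.Agent.AlgSpDec.GpdStabDim

noncomputable local instance instSpecOrder (X : Scheme.{u}) : PartialOrder ↥X := specializationOrder _

theorem strictMono_of_injective {X Y : Scheme.{u}} (f : X ⟶ Y) (hf : Function.Injective f) :
    StrictMono (f : ↥X → ↥Y) := fun a b hab =>
  lt_of_le_of_ne ((hab.le : b ⤳ a).map f.continuous : f b ⤳ f a) fun he => hab.ne (hf he)

theorem exists_nhd_agree {X : Scheme.{u}} [IsLocallyNoetherian X] {k L : Type u} [Field k] [Field L]
    (f g : X ⟶ Spec (CommRingCat.of k)) [LocallyOfFiniteType f] (ρ : Spec (CommRingCat.of L) ⟶ X)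
    (hρ : ρ ≫ f = ρ ≫ g) :
    ∃ (X' : Scheme.{u}) (j : X' ⟶ X), IsEmbedding j ∧ IsOpen (Set.range j) ∧
      ρ (IsLocalRing.closedPoint L) ∈ Set.range j ∧ j ≫ f = j ≫ g := by
  obtain ⟨N, hN, huN, -⟩ := exists_isAffineOpen_mem_and_subset (x := ρ (IsLocalRing.closedPoint L)) (U := ⊤) trivial
  haveI : IsNoetherianRing Γ(X, N) := IsLocallyNoetherian.component_noetherian ⟨N, hN⟩
  have hr : Set.range ρ ⊆ Set.range hN.fromSpec := by
    rintro _ ⟨x, rfl⟩
    rw [hN.range_fromSpec, show x = IsLocalRing.closedPoint L from Subsingleton.elim (α := PrimeSpectrum L) _ _]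
    exact huN
  let l := IsOpenImmersion.lift hN.fromSpec ρ hr
  let χ₀ : Γ(X, N) →+* L := (Spec.preimage l).hom
  haveI : (RingHom.ker χ₀).IsPrime := RingHom.ker_isPrime _
  obtain ⟨b, hb, hmin⟩ := GpdStabAlg.exists_localization (RingHom.ker χ₀)
  let Bg := Localization.Away b
  have hbu : IsUnit (χ₀ b) := IsUnit.mk0 _ (RingHom.mem_ker.not.1 hb : χ₀ b ≠ 0)
  let χ : Bg →+* L := IsLocalization.Away.lift b hbu
  have hχ : χ.comp (algebraMap Γ(X, N) Bg) = χ₀ := IsLocalization.Away.lift_comp b hbu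
  let π : Γ(X, N) ⟶ CommRingCat.of Bg := CommRingCat.ofHom (algebraMap _ Bg)
  haveI : IsOpenImmersion (Spec.map π) := IsOpenImmersion.of_isLocalization b
  let j₀ := Spec.map π ≫ hN.fromSpec
  have hj₀ : Spec.map (CommRingCat.ofHom χ) ≫ j₀ = ρ := by
    rw [← Category.assoc, ← Spec.map_comp, ← CommRingCat.ofHom_comp, hχ, CommRingCat.ofHom_hom,
      Spec.map_preimage, IsOpenImmersion.lift_fac]
  let φ := Spec.preimage (j₀ ≫ f)
  let ψ := Spec.preimage (j₀ ≫ g)
  have hφ : φ.hom.FiniteType := (HasRingHomProperty.Spec_iff (P := @LocallyOfFiniteType)).1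
    (by rw [Spec.map_preimage]; infer_instance)
  have hag : χ.comp φ.hom = χ.comp ψ.hom := by
    have : φ ≫ CommRingCat.ofHom χ = ψ ≫ CommRingCat.ofHom χ := Spec.map_injective (by
      rw [Spec.map_comp, Spec.map_comp, Spec.map_preimage, Spec.map_preimage]
      exact (Category.assoc _ _ _).symm.trans ((congrArg (· ≫ f) hj₀).trans (hρ.trans
        ((congrArg (· ≫ g) hj₀).symm.trans (Category.assoc _ _ _)))))
    exact congrArg CommRingCat.Hom.hom this
  have hmin' : ∀ Q : Ideal Bg, Q.IsPrime → ∃ Q₀ : Ideal Bg, Q₀.IsPrime ∧ Q₀ ≤ Q ∧ Q₀ ≤ RingHom.ker χ := by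
    intro Q hQ
    obtain ⟨Q₀, h1, h2, h3⟩ := hmin Q hQ
    refine ⟨Q₀, h1, h2, ?_⟩
    rw [← IsLocalization.map_comap (Submonoid.powers b) Bg Q₀, Ideal.map_le_iff_le_comap, RingHom.comap_ker, hχ]
    exact h3
  let q : CommRingCat.of Bg ⟶ CommRingCat.of (Bg ⧸ nilradical Bg) := CommRingCat.ofHom (Ideal.Quotient.mk _)
  haveI : IsClosedImmersion (Spec.map q) := IsClosedImmersion.spec_of_surjective q Ideal.Quotient.mk_surjective
  have hsurj : Function.Surjective (Spec.map q) := fun p =>
    ⟨⟨p.asIdeal.map (Ideal.Quotient.mk _), Ideal.map_isPrime_of_surjective Ideal.Quotient.mk_surjective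
      (Ideal.mk_ker.le.trans (nilradical_le_prime p.asIdeal))⟩, PrimeSpectrum.ext
      ((Ideal.comap_map_of_surjective _ Ideal.Quotient.mk_surjective _).trans
        (sup_eq_left.2 (Ideal.mk_ker.le.trans (nilradical_le_prime p.asIdeal))))⟩
  refine ⟨_, Spec.map q ≫ j₀, ?_, ?_, ?_, ?_⟩
  · rw [Scheme.Hom.comp_base, TopCat.coe_comp]
    exact j₀.isOpenEmbedding.isEmbedding.comp (Spec.map q).isClosedEmbedding.isEmbedding
  · rw [Scheme.Hom.comp_base, TopCat.coe_comp, hsurj.range_comp]
    exact j₀.isOpenEmbedding.isOpen_range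
  · rw [Scheme.Hom.comp_base, TopCat.coe_comp, hsurj.range_comp, ← hj₀, Scheme.Hom.comp_apply]
    exact ⟨_, rfl⟩
  · show (Spec.map q ≫ j₀) ≫ f = (Spec.map q ≫ j₀) ≫ g
    refine (Category.assoc _ _ _).trans (Eq.trans ?_ (Category.assoc _ _ _).symm)
    refine (congrArg (Spec.map q ≫ ·) (Spec.map_preimage (j₀ ≫ f)).symm).trans ?_
    refine Eq.trans ?_ (congrArg (Spec.map q ≫ ·) (Spec.map_preimage (j₀ ≫ g)))
    refine (Spec.map_comp _ _).symm.trans (Eq.trans ?_ (Spec.map_comp _ _))
    congr 1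
    ext a
    exact Ideal.Quotient.eq.2 (GpdStabAlg.isNilpotent_sub φ.hom ψ.hom hφ χ hag hmin' a)

variable {S : Scheme.{u}} {B : Sp S} (G : GroupoidSp B) {k : Type u} [Field k]
  {σ : Spec (CommRingCat.of k) ⟶ S}

theorem mono_diag : Mono G.diag :=
  SplitMono.mono ⟨pullback.fst G.pU G.pU, pullback.lift_fst _ _ _⟩

theorem mono_ι : Mono G.stabilizerι := by
  haveI := mono_diag G
  exact inferInstanceAs (Mono (pullback.fst G.j G.diag))

theorem exists_chart_stabilizer (hW : IsAlgSpace (pullback G.pU G.pU)) (eU : G.U ≅ (yon S).obj (Over.mk σ))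
    {U : Over S} (a : (yon S).obj U ⟶ G.R) :
    ∃ (P : Over S) (m : P ⟶ U) (a' : (yon S).obj P ⟶ G.stabilizer),
      IsPullback ((yon S).map m) a' a G.stabilizerι ∧ Function.Injective m.left := by
  let δ : (yon S).obj (Over.mk σ) ⟶ pullback G.pU G.pU := eU.inv ≫ G.diag
  have hr : Representable δ := hW.representable_from_yon δ
  have sqA := (hr.isPullback' (a ≫ G.j)).flip
  let a' : (yon S).obj (hr.pullback (a ≫ G.j)) ⟶ G.stabilizer :=
    pullback.lift ((yon S).map (hr.snd (a ≫ G.j)) ≫ a) ((yon S).map (hr.fst' (a ≫ G.j)) ≫ eU.inv) (by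
      rw [Category.assoc, Category.assoc]; exact sqA.w)
  have sqB : IsPullback ((yon S).map (hr.snd (a ≫ G.j))) ((yon S).map (hr.fst' (a ≫ G.j)) ≫ eU.inv)
      (a ≫ G.j) G.diag :=
    sqA.of_iso (Iso.refl _) (Iso.refl _) eU.symm (Iso.refl _) (by simp) (by simp) (by simp) (by simp [δ])
  have sqC : IsPullback ((yon S).map (hr.snd (a ≫ G.j))) a' a G.stabilizerι := by
    refine IsPullback.of_bot (h₂₁ := G.stabilizerι) (v₂₁ := G.stabilizerToU) (v₂₂ := G.j) (h₃₁ := G.diag) ?_
      (pullback.lift_fst _ _ _).symm (IsPullback.of_hasPullback G.j G.diag)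
    have h2 : a' ≫ G.stabilizerToU = (yon S).map (hr.fst' (a ≫ G.j)) ≫ eU.inv := pullback.lift_snd _ _ _
    rw [h2]
    exact sqB
  haveI := mono_ι G
  haveI : Mono ((yon S).map (hr.snd (a ≫ G.j))) := by
    refine ⟨fun x y hxy => sqC.hom_ext hxy ((cancel_mono G.stabilizerι).1 ?_)⟩
    rw [Category.assoc, Category.assoc, ← sqC.w, ← Category.assoc, ← Category.assoc, hxy]
  haveI : Mono (hr.snd (a ≫ G.j)) := (yon S).mono_of_mono_map ‹_›
  exact ⟨_, _, a', sqC, Scheme.Hom.injective _⟩

theorem dim_stabilizer (hB : IsAlgSpace B) (hR : IsAlgSpace G.R) (eU : G.U ≅ (yon S).obj (Over.mk σ))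
    (hs : LocP @LocallyOfFiniteType G.s) : AlgSp.dim G.R = AlgSp.dim G.stabilizer := by
  have hU : IsAlgSpace G.U := (IsAlgSpace.yon_obj _).of_iso eU.symm
  have hW : IsAlgSpace (pullback G.pU G.pU) := isAlgSpace_pullback hU hU hB _ _
  obtain ⟨U, a, ha, has⟩ := hR.atlas
  have hst : IsAlgSpace G.stabilizer := isAlgSpace_pullback hR hU hW G.j G.diag
  obtain ⟨Q, m, a', sq, hm⟩ := exists_chart_stabilizer G hW eU a
  have ha' : RepWith @Etale a' := repWith_of_isPullback sq ha
  have has' : RepWith @Surjective a' := repWith_of_isPullback sq has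
  refine le_antisymm ?_ ?_
  · have heq : ∀ u : ↥U.left, FlatMor.localDim ↥U.left u = AlgSp.dim G.R := fun u => by
      obtain ⟨V, b, v, hb, hv, hd⟩ := GpdHomog.equidim G hR eU hs (Points.ofPt a u)
      exact (S10249.localDim_eq_of_charts ha hb hv.symm).trans hd
    let e' : (yon S).obj (Over.mk σ) ⟶ G.R := eU.inv ≫ G.e
    obtain ⟨pt⟩ : Nonempty ↥(Over.mk σ).left := inferInstanceAs (Nonempty (PrimeSpectrum k))
    obtain ⟨w, -⟩ := (has.property e' _ _ (ha.rep.isPullback e') : Surjective (ha.rep.snd e').left).surj pt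
    let p := ha.rep.fst' e'
    let P := ha.rep.pullback e'
    obtain ⟨h_s, hh_s⟩ := (yon S).map_surjective (a ≫ G.s ≫ eU.hom)
    obtain ⟨h_t, hh_t⟩ := (yon S).map_surjective (a ≫ G.t ≫ eU.hom)
    haveI : LocallyOfFiniteType h_s.left :=
      (locP_comp hR hU (IsAlgSpace.yon_obj _) hs (locP_of_repWith (repWith_of_isIso _ eU.hom)))
        a (𝟙 _) h_s ha (repWith_of_isIso _ _) (by rw [Category.comp_id, hh_s])
    haveI : IsLocallyNoetherian (Over.mk σ).left := inferInstanceAs (IsLocallyNoetherian (Spec (CommRingCat.of k)))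
    haveI : IsLocallyNoetherian U.left := LocallyOfFiniteType.isLocallyNoetherian h_s.left
    have hagree : p ≫ h_s = p ≫ h_t := (yon S).map_injective (by
      rw [Functor.map_comp, Functor.map_comp, hh_s, hh_t, reassoc_of% (ha.rep.isPullback' e').w,
        reassoc_of% (ha.rep.isPullback' e').w]
      simp only [e', Category.assoc]
      rw [reassoc_of% G.e_s, reassoc_of% G.e_t])
    obtain ⟨X', j, hj, hjo, hju, hjst⟩ := exists_nhd_agree h_s.left h_t.left
      (P.left.fromSpecResidueField w ≫ p.left) (by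
        rw [Category.assoc, Category.assoc]; exact congrArg (fun z => _ ≫ CommaMorphism.left z) hagree)
    let mT : Over.mk (j ≫ U.hom) ⟶ U := Over.homMk j
    have hts : ((yon S).map mT ≫ a) ≫ G.s = ((yon S).map mT ≫ a) ≫ G.t := by
      rw [← cancel_mono eU.hom]
      simp only [Category.assoc]
      rw [← hh_s, ← hh_t, ← Functor.map_comp, ← Functor.map_comp]
      congr 1
      exact Over.OverMorphism.ext hjst
    let β : (yon S).obj (Over.mk (j ≫ U.hom)) ⟶ G.stabilizer :=
      pullback.lift ((yon S).map mT ≫ a) (((yon S).map mT ≫ a) ≫ G.s) (by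
        apply pullback.hom_ext
        · simp only [Category.assoc, GroupoidSp.j_fst, GroupoidSp.diag, pullback.lift_fst, Category.comp_id]
          exact ((Category.assoc _ _ _).symm.trans hts.symm).trans (Category.assoc _ _ _)
        · simp only [Category.assoc, GroupoidSp.j_snd, GroupoidSp.diag, pullback.lift_snd, Category.comp_id])
    obtain ⟨l, hl⟩ := (yon S).map_surjective (sq.lift ((yon S).map mT) β (pullback.lift_fst _ _ _).symm)
    have hlm : l ≫ m = mT := (yon S).map_injective (by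
      rw [Functor.map_comp, hl]; exact sq.lift_fst _ _ _)
    have hlinj : Function.Injective l.left := fun x y hxy => hj.injective (by
      have h1 : ∀ z, j z = m.left (l.left z) := fun z => by
        rw [← Scheme.Hom.comp_apply, ← Over.comp_left, hlm]; rfl
      rw [h1, h1, hxy])
    rw [← heq (p.left w)]
    refine (iInf_le _ (⟨⟨_, hjo⟩, ?_⟩ : {W : TopologicalSpace.Opens ↥U.left // p.left w ∈ W})).trans ?_
    · rw [Scheme.Hom.comp_apply] at hju
      have h0 : (P.left.fromSpecResidueField w) (IsLocalRing.closedPoint _) = w :=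
        P.left.fromSpecResidueField_apply w _
      exact h0 ▸ hju
    refine le_trans (le_of_eq (IsHomeomorph.topologicalKrullDim_eq _ hj.toHomeomorph.symm.isHomeomorph)) ?_
    refine le_trans ?_ (le_iSup₂_of_le Q a' (le_iSup_of_le ha' le_rfl))
    rw [topologicalKrullDim_eq_krullDim, topologicalKrullDim_eq_krullDim]
    exact Order.krullDim_le_of_strictMono _ (strictMono_of_injective l.left hlinj)
  · refine (dim_le_iff (F := G.stabilizer)).2 fun V b hb v => ?_
    obtain ⟨z, hz⟩ := surjective_ofPt has' (Points.ofPt b v)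
    rw [coheight_eq_of_charts hb ha' hz.symm]
    refine le_trans (WithBot.coe_le_coe.2 ?_) (coheight_le_dim ha (m.left z))
    exact Order.coheight_le_coheight_apply_of_strictMono _ (strictMono_of_injective _ hm) z

end Groth.Agent.AlgSpDec.GpdStabDim
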