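import Groth.Prelude.Def_AlgSpGpd
import Mathlib.CategoryTheory.Monoidal.Cartesian.Grp
import Mathlib.CategoryTheory.Monoidal.Cartesian.Over
import Groth.Prelude.Def_AlgSp4

/-!
The groupoid with trivial object space defined by a group object over a base.
-/

set_option autoImplicit false
set_option backward.isDefEq.respectTransparency false
set_option backward.isDefEq.respectTransparency.types false

universe u

open CategoryTheory CategoryTheory.Limits AlgebraicGeometry MonoidalCategory MonObj CartesianMonoidalCategory AlgSp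

namespace Groth.Agent.AlgSpDec.GrpGroupoid

variable {S : Scheme.{u}} {Z : Sp S} (G : Over Z) [GrpObj G]

/-- An arrow into the underlying sheaf as a generalized element over the base. -/
abbrev el {T : Sp S} (α : T ⟶ G.left) : Over.mk (α ≫ G.hom) ⟶ G := Over.homMk α

/-- A generalized element over a given map to the base. -/
abbrev el' {T : Sp S} {b : T ⟶ Z} (α : T ⟶ G.left) (h : α ≫ G.hom = b) : Over.mk b ⟶ G := Over.homMk α h

/-- The multiplication on the fibre product. -/
noncomputable def mulPb : pullback G.hom G.hom ⟶ G.left :=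
  (el' G (b := pullback.fst G.hom G.hom ≫ G.hom) (pullback.fst _ _) rfl *
    el' G (pullback.snd _ _) pullback.condition.symm).left

theorem lift_mulPb {T : Sp S} (α β : T ⟶ G.left) (h : α ≫ G.hom = β ≫ G.hom) {b : T ⟶ Z}
    (hα : α ≫ G.hom = b) (hβ : β ≫ G.hom = b) :
    pullback.lift α β h ≫ mulPb G = (el' G α hα * el' G β hβ).left := by
  let l : Over.mk b ⟶ Over.mk (pullback.fst G.hom G.hom ≫ G.hom) :=
    Over.homMk (pullback.lift α β h) ((pullback.lift_fst_assoc _ _ _ _).trans hα)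
  have h1 : l ≫ el' G (b := pullback.fst G.hom G.hom ≫ G.hom) (pullback.fst _ _) rfl = el' G α hα :=
    Over.OverMorphism.ext (pullback.lift_fst _ _ _)
  have h2 : l ≫ el' G (b := pullback.fst G.hom G.hom ≫ G.hom) (pullback.snd _ _) pullback.condition.symm =
      el' G β hβ := Over.OverMorphism.ext (pullback.lift_snd _ _ _)
  rw [← h1, ← h2, ← MonObj.comp_mul]
  rfl

theorem one_left (W : Over Z) : (1 : W ⟶ G).left = W.hom ≫ (η[G] : 𝟙_ (Over Z) ⟶ G).left := by
  have h : (toUnit W).left = W.hom := by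
    exact (Category.comp_id _).symm.trans (Over.w (toUnit W))
  rw [Hom.one_def, Over.comp_left, h]

theorem el'_one {T : Sp S} {b : T ⟶ Z} (γ : T ⟶ G.left) (hγ : γ ≫ G.hom = b)
    (e : γ = b ≫ (η[G] : 𝟙_ (Over Z) ⟶ G).left) : el' G γ hγ = 1 := by
  ext : 1
  rw [one_left]
  exact e

theorem el'_inv {T : Sp S} {b : T ⟶ Z} (α : T ⟶ G.left) (hα : α ≫ G.hom = b)
    (h : (α ≫ (ι[G]).left) ≫ G.hom = b) : el' G (α ≫ (ι[G]).left) h = (el' G α hα)⁻¹ := by
  rw [Hom.inv_def]; rfl

theorem comp_over {T : Sp S} (α β : T ⟶ G.left) (h : α ≫ G.hom = β ≫ G.hom) :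
    (pullback.lift α β h ≫ mulPb G) ≫ G.hom = α ≫ G.hom := by
  rw [lift_mulPb G α β h rfl h.symm]
  exact Over.w _

/-- The groupoid of a group object. -/
noncomputable def groupoid : GroupoidSp Z where
  U := Z
  R := G.left
  pU := 𝟙 Z
  pR := G.hom
  s := G.hom
  t := G.hom
  e := (η[G] : 𝟙_ (Over Z) ⟶ G).left
  i := (ι[G]).left
  c := mulPb G
  s_over := Category.comp_id _
  t_over := Category.comp_id _
  comp_s α β h := (comp_over G α β h).trans h
  comp_t α β h := comp_over G α β h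
  assoc α β γ h₁ h₂ := by
    have hb : β ≫ G.hom = α ≫ G.hom := h₁.symm
    have hc : γ ≫ G.hom = α ≫ G.hom := h₂.symm.trans hb
    have w₁ : (pullback.lift α β h₁ ≫ mulPb G) ≫ G.hom = α ≫ G.hom := comp_over G α β h₁
    have w₂ : (pullback.lift β γ h₂ ≫ mulPb G) ≫ G.hom = α ≫ G.hom := (comp_over G β γ h₂).trans hb
    rw [lift_mulPb G (pullback.lift α β h₁ ≫ mulPb G) γ _ w₁ hc,
      lift_mulPb G α (pullback.lift β γ h₂ ≫ mulPb G) _ rfl w₂]
    have f₁ : el' G _ w₁ = el' G α rfl * el' G β hb :=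
      Over.OverMorphism.ext (lift_mulPb G α β h₁ rfl hb)
    have f₂ : el' G _ w₂ = el' G β hb * el' G γ hc :=
      Over.OverMorphism.ext (lift_mulPb G β γ h₂ hb hc)
    rw [f₁, f₂, _root_.mul_assoc]
  e_s := Over.w (η[G] : 𝟙_ (Over Z) ⟶ G)
  e_t := Over.w (η[G] : 𝟙_ (Over Z) ⟶ G)
  comp_e α := by
    have w : (α ≫ G.hom ≫ (η[G] : 𝟙_ (Over Z) ⟶ G).left) ≫ G.hom = α ≫ G.hom := by
      rw [Category.assoc, Category.assoc]
      erw [Over.w (η[G] : 𝟙_ (Over Z) ⟶ G), Category.comp_id]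
    rw [lift_mulPb G α _ _ rfl w, el'_one G _ w (Category.assoc _ _ _).symm, _root_.mul_one]
    rfl
  e_comp α := by
    have w : (α ≫ G.hom ≫ (η[G] : 𝟙_ (Over Z) ⟶ G).left) ≫ G.hom = α ≫ G.hom := by
      rw [Category.assoc, Category.assoc]
      erw [Over.w (η[G] : 𝟙_ (Over Z) ⟶ G), Category.comp_id]
    rw [lift_mulPb G _ α _ w rfl, el'_one G _ w (Category.assoc _ _ _).symm, _root_.one_mul]
    rfl
  i_s := Over.w (ι[G])
  i_t := Over.w (ι[G])
  comp_i α := by
    have w : (α ≫ (ι[G]).left) ≫ G.hom = α ≫ G.hom := by rw [Category.assoc, Over.w]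
    rw [lift_mulPb G α _ _ rfl w, el'_inv G α rfl w, mul_inv_cancel, one_left]
    exact Category.assoc _ _ _
  i_comp α := by
    have w : (α ≫ (ι[G]).left) ≫ G.hom = α ≫ G.hom := by rw [Category.assoc, Over.w]
    rw [lift_mulPb G _ α _ w rfl, el'_inv G α rfl w, inv_mul_cancel, one_left]
    exact Category.assoc _ _ _

end Groth.Agent.AlgSpDec.GrpGroupoid
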