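import Groth.Agent.AlgSpDec.RatLift
import Groth.Agent.AlgSpDec.LqfQuot
import Groth.Agent.AlgSpDec.Glue
import Groth.Agent.EtFound.Henselian
import Groth.Agent.HensSec7.Smooth
import Groth.Agent.IsoNatLib.SmoothCrit
import Groth.Agent.FpqcSpace13.SigmaSep
import Groth.Agent.Hensel.SmoothLift
import Groth.Agent.Hensel.PairBasic

/-!
# Lifting points with values in henselian local rings to charts of algebraic spaces
-/

set_option backward.isDefEq.respectTransparency false
set_option backward.isDefEq.respectTransparency.types false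

noncomputable section

universe u

open CategoryTheory Limits Opposite AlgebraicGeometry AlgSp Groth.Agent.AlgSpLib Groth.Agent.AlgSpPts
  Groth.Agent.AlgSpDec.ElemNbhd

namespace Groth.Agent.AlgSpDec.HensLift

variable {S : Scheme.{u}}

/-- The residue field point of a local ring point. -/
abbrev resPt (R : Type u) [CommRing R] [IsLocalRing R] (str : Spec (CommRingCat.of R) ⟶ S) : Over S :=
  Over.mk (Spec.map (CommRingCat.ofHom (IsLocalRing.residue R)) ≫ str)

/-- The inclusion of the residue field point. -/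
abbrev res (R : Type u) [CommRing R] [IsLocalRing R] (str : Spec (CommRingCat.of R) ⟶ S) :
    resPt R str ⟶ Over.mk str :=
  Over.homMk (Spec.map (CommRingCat.ofHom (IsLocalRing.residue R))) rfl

/-- Points with values in a henselian local ring lift along etale maps through a lift of the closed point. -/
theorem exists_lift_etale {X : Sp S} {V : Over S} {p : (yon S).obj V ⟶ X} (hp : RepWith @Etale p)
    (R : Type u) [CommRing R] [HenselianLocalRing R] (str : Spec (CommRingCat.of R) ⟶ S)
    (z : (yon S).obj (Over.mk str) ⟶ X) (g₀ : resPt R str ⟶ V)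
    (h : (yon S).map g₀ ≫ p = (yon S).map (res R str) ≫ z) :
    ∃ g : Over.mk str ⟶ V, (yon S).map g ≫ p = z ∧ res R str ≫ g = g₀ := by
  have sq := hp.rep.isPullback' z
  obtain ⟨l, hl1, hl2⟩ := exists_lift_yon sq g₀ (res R str) h
  haveI : Etale (hp.rep.snd z).left := hp.property_snd z
  obtain ⟨σ, ⟨hσ1, hσ2⟩, -⟩ := EtFound.existsUnique_section R (hp.rep.snd z).left l.left
    (congrArg CommaMorphism.left hl2)
  let σ' : Over.mk str ⟶ hp.rep.pullback z := Over.homMk σ (by
    show σ ≫ (hp.rep.pullback z).hom = str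
    rw [← Over.w (hp.rep.snd z), reassoc_of% hσ1]
    rfl)
  refine ⟨σ' ≫ hp.rep.fst' z, ?_, ?_⟩
  · rw [Functor.map_comp, Category.assoc, sq.w, ← Functor.map_comp_assoc,
      show σ' ≫ hp.rep.snd z = 𝟙 _ from Over.OverMorphism.ext hσ1, CategoryTheory.Functor.map_id, Category.id_comp]
  · rw [← Category.assoc, show res R str ≫ σ' = l from Over.OverMorphism.ext hσ2, hl1]

/-- Points with values in henselian local rings lift to affine etale charts. -/
theorem exists_affine_etale_lift {X : Sp S} (hX : IsAlgSpace X) (R : Type u) [CommRing R] [HenselianLocalRing R]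
    (str : Spec (CommRingCat.of R) ⟶ S) (z : (yon S).obj (Over.mk str) ⟶ X) :
    ∃ (V : Over S) (p : (yon S).obj V ⟶ X) (g : Over.mk str ⟶ V),
      IsAffine V.left ∧ RepWith @Etale p ∧ (yon S).map g ≫ p = z := by
  obtain ⟨V, p, g₀, hV, hp, hg₀⟩ := RatLift.exists_affine_chart_lift hX
    (Spec.map (CommRingCat.ofHom (IsLocalRing.residue R)) ≫ str) ((yon S).map (res R str) ≫ z)
  obtain ⟨g, hg, -⟩ := exists_lift_etale hp R str z g₀ hg₀
  exact ⟨V, p, g, hV, hp, hg⟩

/-- Smooth morphisms of algebraic spaces satisfy Hensel lifting. -/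
theorem exists_smooth_lift {Z X : Sp S} (hZ : IsAlgSpace Z) (hX : IsAlgSpace X) (f : Z ⟶ X)
    (hf : LocP @Smooth f) (R : Type u) [CommRing R] [HenselianLocalRing R]
    (str : Spec (CommRingCat.of R) ⟶ S) (z : (yon S).obj (Over.mk str) ⟶ X)
    (z₀ : (yon S).obj (resPt R str) ⟶ Z) (w : z₀ ≫ f = (yon S).map (res R str) ≫ z) :
    ∃ z' : (yon S).obj (Over.mk str) ⟶ Z, z' ≫ f = z ∧ (yon S).map (res R str) ≫ z' = z₀ := by
  have hP : IsAlgSpace (pullback f z) := isAlgSpace_pullback hZ (IsAlgSpace.yon_obj _) hX f z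
  obtain ⟨V, p, g₀, -, hp, hg₀⟩ := RatLift.exists_affine_chart_lift hP
    (Spec.map (CommRingCat.ofHom (IsLocalRing.residue R)) ≫ str) (pullback.lift z₀ ((yon S).map (res R str)) w)
  let h : V ⟶ Over.mk str := (yon S).preimage (p ≫ pullback.snd f z)
  have hh : (yon S).map h = p ≫ pullback.snd f z := (yon S).map_preimage _
  have hsm : LocP @Smooth (pullback.snd f z) :=
    locP_of_isPullback (IsPullback.of_hasPullback f z) hZ hX (IsAlgSpace.yon_obj _) hf
  haveI : Smooth h.left := hsm p (𝟙 _) h hp (repWith_id _ _) (by rw [Category.comp_id, hh])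
  have hg : g₀ ≫ h = res R str := (yon S).map_injective (by
    rw [Functor.map_comp, hh, reassoc_of% hg₀, pullback.lift_snd])
  obtain ⟨σ, hσ1, hσ2⟩ := HensSec7.exists_section_smooth h.left g₀.left (congrArg CommaMorphism.left hg)
  let σ' : Over.mk str ⟶ V := Over.homMk σ (by
    show σ ≫ V.hom = str
    rw [← Over.w h, reassoc_of% hσ1]
    rfl)
  refine ⟨(yon S).map σ' ≫ p ≫ pullback.fst f z, ?_, ?_⟩
  · rw [Category.assoc, Category.assoc, pullback.condition, ← reassoc_of% hh, ← Functor.map_comp_assoc,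
      show σ' ≫ h = 𝟙 _ from Over.OverMorphism.ext hσ1, CategoryTheory.Functor.map_id, Category.id_comp]
  · rw [← Functor.map_comp_assoc, show res R str ≫ σ' = g₀ from Over.OverMorphism.ext hσ2, reassoc_of% hg₀,
      pullback.lift_fst]

variable (R : Type u) [CommRing R] [HenselianLocalRing R] (str : Spec (CommRingCat.of R) ⟶ S)

/-- The point of a quotient ring. -/
abbrev quotPt (a : Ideal R) : Over S :=
  Over.mk (Spec.map (CommRingCat.ofHom (Ideal.Quotient.mk a)) ≫ str)

/-- Quotient ring points factor through an etale chart when their residue field points do. -/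
theorem exists_quot_lift {X : Sp S} {V : Over S} {p : (yon S).obj V ⟶ X} (hp : RepWith @Etale p)
    (a : Ideal R) (ha : a ≠ ⊤) (x : (yon S).obj (quotPt R str a) ⟶ X) (g₀ : resPt R str ⟶ V)
    (hg₀ : ∀ c : resPt R str ⟶ quotPt R str a,
      c.left = Spec.map (CommRingCat.ofHom (Ideal.Quotient.factor (IsLocalRing.le_maximalIdeal ha))) →
      (yon S).map g₀ ≫ p = (yon S).map c ≫ x) :
    ∃ g : quotPt R str a ⟶ V, (yon S).map g ≫ p = x := by
  haveI := IsoNatLib.henselianLocalRing_quotient a ha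
  haveI : IsLocalHom (Ideal.Quotient.mk a) := .of_surjective _ Ideal.Quotient.mk_surjective
  let str' : Spec (CommRingCat.of (R ⧸ a)) ⟶ S := Spec.map (CommRingCat.ofHom (Ideal.Quotient.mk a)) ≫ str
  let χ : IsLocalRing.ResidueField R →+* IsLocalRing.ResidueField (R ⧸ a) :=
    IsLocalRing.ResidueField.map (Ideal.Quotient.mk a)
  let d : resPt (R ⧸ a) str' ⟶ resPt R str := Over.homMk (Spec.map (CommRingCat.ofHom χ)) (by
    show Spec.map _ ≫ Spec.map _ ≫ str = Spec.map _ ≫ Spec.map _ ≫ str
    rw [← Spec.map_comp_assoc, ← Spec.map_comp_assoc]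
    rfl)
  let c : resPt R str ⟶ quotPt R str a := Over.homMk
    (Spec.map (CommRingCat.ofHom (Ideal.Quotient.factor (IsLocalRing.le_maximalIdeal ha)))) (by
    show Spec.map _ ≫ Spec.map _ ≫ str = Spec.map _ ≫ str
    rw [← Spec.map_comp_assoc]
    rfl)
  have hdc : d ≫ c = res (R ⧸ a) str' := by
    refine Over.OverMorphism.ext ?_
    show Spec.map _ ≫ Spec.map _ = Spec.map _
    rw [← Spec.map_comp]
    congr 1
    ext r
    rfl
  obtain ⟨g, hg, -⟩ := exists_lift_etale hp (R ⧸ a) str' x (d ≫ g₀) (by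
    rw [Functor.map_comp, Category.assoc, hg₀ c rfl, ← Functor.map_comp_assoc, hdc])
  exact ⟨g, hg⟩

/-- A family of charts through all residue field points catches all points of quotient rings. -/
theorem exists_lift_of_residue_lifts {X : Sp S} {ι : Type u} (V : ι → Over S)
    (pV : ∀ i, (yon S).obj (V i) ⟶ X) (hpV : ∀ i, RepWith @Etale (pV i)) (g₀ : ∀ i, resPt R str ⟶ V i)
    (hall : ∀ z : (yon S).obj (resPt R str) ⟶ X, ∃ i, (yon S).map (g₀ i) ≫ pV i = z)
    (p : (yon S).obj (sigmaOver V) ⟶ X) (hp : ∀ i, (yon S).map (sigmaι V i) ≫ p = pV i)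
    (a : Ideal R) (x : (yon S).obj (quotPt R str a) ⟶ X) :
    ∃ g : quotPt R str a ⟶ sigmaOver V, (yon S).map g ≫ p = x := by
  by_cases ha : a = ⊤
  · haveI : Subsingleton (R ⧸ a) := Ideal.Quotient.subsingleton_iff.2 ha
    haveI : IsEmpty ↥(quotPt R str a).left := inferInstanceAs (IsEmpty (PrimeSpectrum (R ⧸ a)))
    exact ⟨Over.homMk ((isInitialOfIsEmpty (X := (quotPt R str a).left)).to _)
      ((isInitialOfIsEmpty (X := (quotPt R str a).left)).hom_ext _ _), hom_ext_of_isEmpty _ _⟩
  let c : resPt R str ⟶ quotPt R str a := Over.homMk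
    (Spec.map (CommRingCat.ofHom (Ideal.Quotient.factor (IsLocalRing.le_maximalIdeal ha)))) (by
    show Spec.map _ ≫ Spec.map _ ≫ str = Spec.map _ ≫ str
    rw [← Spec.map_comp_assoc]
    rfl)
  obtain ⟨i, hi⟩ := hall ((yon S).map c ≫ x)
  obtain ⟨g, hg⟩ := exists_quot_lift R str (hpV i) a ha x (g₀ i)
    fun c' hc' => by rw [show c' = c from Over.OverMorphism.ext hc']; exact hi
  exact ⟨g ≫ sigmaι V i, by rw [Functor.map_comp, Category.assoc, hp, hg]⟩

/-- A separated scheme etale over the space catches all points of quotient rings. -/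
theorem exists_chart_all {X : Sp S} (hX : IsAlgSpace X) :
    ∃ (Z : Over S) (p : (yon S).obj Z ⟶ X), IsSeparated Z.hom ∧ RepWith @Etale p ∧
      ∀ (a : Ideal R) (x : (yon S).obj (quotPt R str a) ⟶ X),
        ∃ g : quotPt R str a ⟶ Z, (yon S).map g ≫ p = x := by
  obtain ⟨ι, V, pV, g₀, hV, hpV, hall⟩ :=
    RatLift.exists_small_lifts hX (Spec.map (CommRingCat.ofHom (IsLocalRing.residue R)) ≫ str)
  obtain ⟨p, hp⟩ := exists_hom_sigma V pV
  haveI := hV
  haveI : (sigmaOver V).left.IsSeparated := FpqcSpace13.isSeparated_sigma fun i => (V i).left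
  exact ⟨sigmaOver V, p, inferInstance,
    repWith_etale_sigma (representable_of_space hX p) fun i => by rw [hp]; exact hpV i,
    exists_lift_of_residue_lifts R str V pV hpV g₀ hall p hp⟩

/-- An affine scheme etale over the space catches all points of quotient rings when there are finitely many
points over the residue field. -/
theorem exists_affine_chart_all {X : Sp S} (hX : IsAlgSpace X)
    (hfin : Finite ((yon S).obj (resPt R str) ⟶ X)) :
    ∃ (Z : Over S) (p : (yon S).obj Z ⟶ X), IsAffine Z.left ∧ RepWith @Etale p ∧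
      ∀ (a : Ideal R) (x : (yon S).obj (quotPt R str a) ⟶ X),
        ∃ g : quotPt R str a ⟶ Z, (yon S).map g ≫ p = x := by
  obtain ⟨ι, V, pV, g₀, hV, hpV, hall⟩ :=
    RatLift.exists_small_lifts hX (Spec.map (CommRingCat.ofHom (IsLocalRing.residue R)) ≫ str)
  choose φ hφ using hall
  obtain ⟨n, ⟨e⟩⟩ := Finite.exists_equiv_fin ((yon S).obj (resPt R str) ⟶ X)
  let ψ : ULift.{u} (Fin n) → ι := fun j => φ (e.symm j.down)
  obtain ⟨p, hp⟩ := exists_hom_sigma (fun j => V (ψ j)) fun j => pV (ψ j)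
  haveI : ∀ j, IsAffine (V (ψ j)).left := fun j => hV _
  exact ⟨sigmaOver fun j => V (ψ j), p, inferInstanceAs (IsAffine (∐ fun j => (V (ψ j)).left)),
    repWith_etale_sigma (representable_of_space hX p) fun i => by rw [hp]; exact hpV _,
    exists_lift_of_residue_lifts R str (fun j => V (ψ j)) (fun j => pV (ψ j)) (fun j => hpV _)
      (fun j => g₀ (ψ j)) (fun z => ⟨⟨e z⟩, by simp only [ψ]; rw [e.symm_apply_apply]; exact hφ z⟩) p hp⟩

/-- Points of quotient rings lift through a smooth algebraic space over a henselian local ring. -/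
theorem exists_lift_quotient {X : Sp (Spec (CommRingCat.of R))} (hX : IsAlgSpace X)
    {U : Over (Spec (CommRingCat.of R))} (c : (yon _).obj U ⟶ X) [Smooth U.hom]
    (hce : RepWith @Etale c) (hcs : RepWith @Surjective c) (a : Ideal R) (ha : a ≠ ⊤)
    (x₀ : (yon _).obj (Over.mk (Spec.map (CommRingCat.ofHom (Ideal.Quotient.mk a)))) ⟶ X) :
    ∃ x : (yon _).obj (Over.mk (𝟙 (Spec (CommRingCat.of R)))) ⟶ X,
      (yon _).map (Over.homMk (Spec.map (CommRingCat.ofHom (Ideal.Quotient.mk a))) (Category.comp_id _) :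
        Over.mk (Spec.map (CommRingCat.ofHom (Ideal.Quotient.mk a))) ⟶ Over.mk (𝟙 _)) ≫ x = x₀ := by
  haveI := IsoNatLib.henselianLocalRing_quotient a ha
  obtain ⟨V, p, g, hV, hp, hg⟩ := exists_affine_etale_lift hX (R ⧸ a)
    (Spec.map (CommRingCat.ofHom (Ideal.Quotient.mk a))) x₀
  have sq := hce.rep.isPullback' p
  haveI : Etale (hce.rep.snd p).left := hce.property_snd p
  haveI : Surjective (hce.rep.snd p).left := hcs.2 p _ _ (hce.rep.isPullback p)
  haveI : Etale (hce.rep.fst' p).left := hp.property c _ _ sq.flip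
  haveI : Smooth V.hom := IsEtLocal.of_precomp (P := @Smooth) (hce.rep.snd p).left V.hom inferInstance inferInstance
    (by
      rw [Over.w (hce.rep.snd p), ← Over.w (hce.rep.fst' p)]
      infer_instance)
  haveI := hV
  obtain ⟨φ, hφ⟩ := Spec.map_surjective (V.left.isoSpec.inv ≫ V.hom)
  obtain ⟨χ, hχ⟩ := Spec.map_surjective (g.left ≫ V.left.isoSpec.hom)
  letI : Algebra R Γ(V.left, ⊤) := φ.hom.toAlgebra
  haveI : Smooth (Spec.map φ) := by rw [hφ]; infer_instance
  haveI : Algebra.Smooth R Γ(V.left, ⊤) := (HasRingHomProperty.Spec_iff (P := @Smooth)).mp this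
  have hcomp : φ ≫ χ = CommRingCat.ofHom (Ideal.Quotient.mk a) := by
    apply Spec.map_injective
    rw [Spec.map_comp, hφ, hχ, Category.assoc, Iso.hom_inv_id_assoc, Over.w g]
    rfl
  let σ : Γ(V.left, ⊤) →ₐ[R] R ⧸ a :=
    { χ.hom with commutes' := fun r => congr(($hcomp).hom r) }
  haveI : HenselianRing R a := Hensel.henselianRing_of_le (IsLocalRing.le_maximalIdeal ha)
  obtain ⟨τ, hτ⟩ := Hensel.exists_smooth_lift (I := a) σ
  let x' : Over.mk (𝟙 (Spec (CommRingCat.of R))) ⟶ V :=
    Over.homMk (Spec.map (CommRingCat.ofHom τ.toRingHom) ≫ V.left.isoSpec.inv) (by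
      show (Spec.map _ ≫ V.left.isoSpec.inv) ≫ V.hom = 𝟙 _
      rw [Category.assoc, ← hφ, ← Spec.map_comp]
      have : φ ≫ CommRingCat.ofHom τ.toRingHom = 𝟙 _ := by ext r; exact τ.commutes r
      rw [this, Spec.map_id])
  refine ⟨(yon _).map x' ≫ p, ?_⟩
  rw [← hg, ← Functor.map_comp_assoc]
  refine congrArg (fun t => (yon _).map t ≫ p) (Over.OverMorphism.ext ?_)
  show Spec.map _ ≫ Spec.map _ ≫ V.left.isoSpec.inv = g.left
  rw [← Category.assoc, ← Spec.map_comp]
  have : CommRingCat.ofHom τ.toRingHom ≫ CommRingCat.ofHom (Ideal.Quotient.mk a) = χ := by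
    ext b; exact congr($hτ b)
  rw [this, hχ, Category.assoc, Iso.hom_inv_id, Category.comp_id]

end Groth.Agent.AlgSpDec.HensLift
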