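import Groth.Agent.AlgSpDec.LqfSplitZ
import Groth.Prelude.Def_AlgSpOX

/-!
Morphisms to affine schemes are ring maps to the global functions.
-/

set_option backward.isDefEq.respectTransparency false
set_option backward.isDefEq.respectTransparency.types false

universe u

open CategoryTheory CategoryTheory.Limits Opposite AlgebraicGeometry AlgSp Groth.Agent.AlgSpLib

namespace Groth.Agent.AlgSpDec

theorem exists_hom_appTop {X T : Scheme.{u}} [IsAffine T] (ψ : Γ(T, ⊤) ⟶ Γ(X, ⊤)) :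
    ∃ g : X ⟶ T, g.appTop = ψ := by
  refine ⟨X.toSpecΓ ≫ Spec.map ψ ≫ T.isoSpec.inv, ?_⟩
  have hT : T.isoSpec.inv.appTop ≫ (Scheme.ΓSpecIso Γ(T, ⊤)).hom = 𝟙 _ := by
    have h0 : T.isoSpec.hom.appTop = (Scheme.ΓSpecIso Γ(T, ⊤)).hom := Scheme.toSpecΓ_appTop T
    rw [← h0, ← Scheme.Hom.comp_appTop, Iso.hom_inv_id, Scheme.Hom.id_appTop]
  rw [Scheme.Hom.comp_appTop, Scheme.Hom.comp_appTop, Scheme.toSpecΓ_appTop, Category.assoc,
    Scheme.ΓSpecIso_naturality, reassoc_of% hT]

variable {S : Scheme.{u}} {X : Sp S}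

/-- The value at an etale scheme over the space of a ring map into the global functions. -/
noncomputable def gsectApp (T : Over S) (φ : Γ(T.left, ⊤) →+* ↥(gsectEt (OEt X))) (E : EtOver X) :
    Γ(T.left, ⊤) ⟶ Γ(E.obj.left.left, ⊤) :=
  CommRingCat.ofHom
    (((ULift.ringEquiv : ULift.{u + 1} Γ(E.obj.left.left, ⊤) ≃+* _).toRingHom.comp
      (limit.π (OEt X).obj (op E)).hom).comp φ)

theorem gsectApp_apply (T : Over S) (φ : Γ(T.left, ⊤) →+* ↥(gsectEt (OEt X))) (E : EtOver X) (r : Γ(T.left, ⊤)) :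
    gsectApp T φ E r = ((limit.π (OEt X).obj (op E)) (φ r)).down := rfl

theorem gsectApp_map (T : Over S) (φ : Γ(T.left, ⊤) →+* ↥(gsectEt (OEt X))) {E E' : EtOver X} (g : E ⟶ E') :
    gsectApp T φ E' ≫ g.hom.left.left.appTop = gsectApp T φ E := by
  ext r
  have h := congrArg (fun f => f (φ r)) (limit.w (OEt X).obj g.op)
  exact congrArg ULift.down h

theorem existsUnique_hom_to_affine (hS : IsTerminal S) (hX : IsAlgSpace X) (T : Over S) [IsAffine T.left]
    (φ : Γ(T.left, ⊤) →+* ↥(gsectEt (OEt X))) :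
    ∃! f : X ⟶ (yon S).obj T, ∀ (E : EtOver X) (r : Γ(T.left, ⊤)),
      ((limit.π (OEt X).obj (op E)) (φ r)).down = ((yon S).preimage (E.obj.hom ≫ f)).left.appTop r := by
  have hex : ∀ E : EtOver X, ∃ g : E.obj.left ⟶ T, g.left.appTop = gsectApp T φ E := fun E =>
    (exists_hom_appTop (gsectApp T φ E)).elim fun g hg => ⟨Over.homMk g (hS.hom_ext _ _), hg⟩
  choose g hg using hex
  have hnat : ∀ {E E' : EtOver X} (k : E ⟶ E'), k.hom.left ≫ g E' = g E := fun {E E'} k => by
    refine Over.OverMorphism.ext (ext_of_isAffine ?_)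
    rw [Over.comp_left, Scheme.Hom.comp_appTop, hg, hg, gsectApp_map]
  obtain ⟨V, p, hp, hps⟩ := hX.atlas
  have := isLocallySurjective_of_etale_surjective hp hps
  have hEp : Epi p := (Sheaf.isLocallySurjective_iff_epi p).1 inferInstance
  let E₀ : EtOver X := EtOver.mk p hp
  have sq := hp.rep.isPullback' p
  have : Etale (hp.rep.fst' p).left := hp.property _ _ _ sq.flip
  let E₁ : EtOver X := EtOver.mk ((yon S).map (hp.rep.fst' p) ≫ p)
    (repWith_comp ((repWith_yon_map_iff _ _).2 this) hp)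
  let k₁ : E₁ ⟶ E₀ := EtOver.homMk (hp.rep.fst' p) rfl
  let k₂ : E₁ ⟶ E₀ := EtOver.homMk (hp.rep.snd p) sq.w.symm
  have hts : (yon S).map (hp.rep.fst' p) ≫ (yon S).map (g E₀) = (yon S).map (hp.rep.snd p) ≫ (yon S).map (g E₀) := by
    rw [← Functor.map_comp, ← Functor.map_comp]
    exact congrArg (yon S).map ((hnat k₁).trans (hnat k₂).symm)
  obtain ⟨f, hf⟩ := exists_desc_of_kernelPair sq ((yon S).map (g E₀)) hts
  have key : ∀ E : EtOver X, E.obj.hom ≫ f = (yon S).map (g E) := fun E => by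
    have sqE := hp.rep.isPullback' E.obj.hom
    have hsnd : Etale (hp.rep.snd E.obj.hom).left := hp.property_snd E.obj.hom
    have : Surjective (hp.rep.snd E.obj.hom).left := hps.2 _ _ _ (hp.rep.isPullback E.obj.hom)
    have : Sheaf.IsLocallySurjective ((yon S).map (hp.rep.snd E.obj.hom)) :=
      isLocallySurjective_of_etale_surjective ((repWith_yon_map_iff _ _).2 hsnd)
        ((repWith_yon_map_iff _ _).2 this)
    have : Epi ((yon S).map (hp.rep.snd E.obj.hom)) := (Sheaf.isLocallySurjective_iff_epi _).1 this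
    let E₂ : EtOver X := EtOver.mk ((yon S).map (hp.rep.snd E.obj.hom) ≫ E.obj.hom)
      (repWith_comp ((repWith_yon_map_iff _ _).2 hsnd) E.property)
    let l₁ : E₂ ⟶ E₀ := EtOver.homMk (hp.rep.fst' E.obj.hom) sqE.w
    let l₂ : E₂ ⟶ E := EtOver.homMk (hp.rep.snd E.obj.hom) rfl
    rw [← cancel_epi ((yon S).map (hp.rep.snd E.obj.hom)), ← Category.assoc, ← sqE.w, Category.assoc, hf,
      ← Functor.map_comp, ← Functor.map_comp]
    exact congrArg (yon S).map ((hnat l₁).trans (hnat l₂).symm)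
  refine ⟨f, fun E r => ?_, fun f' hf' => ?_⟩
  · rw [key, Functor.preimage_map, hg, gsectApp_apply]
  · rw [← cancel_epi p, hf]
    have : (yon S).preimage (p ≫ f') = g E₀ := Over.OverMorphism.ext (ext_of_isAffine (by
      ext r
      rw [hg]
      exact (hf' E₀ r).symm))
    rw [← this, Functor.map_preimage]

end Groth.Agent.AlgSpDec
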