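import Groth.Agent.AlgSpDec.SchImage
import Groth.Prelude.Def_AlgSpModX

/-!
# Kernel ideals of closed subspaces
-/

set_option backward.isDefEq.respectTransparency false
set_option backward.isDefEq.respectTransparency.types false

universe u

open CategoryTheory Limits Opposite AlgebraicGeometry AlgSp Groth.Agent.AlgSpLib Groth.Agent.AlgSpPts

namespace Groth.Agent.AlgSpDec

variable {S : Scheme.{u}} {X Z Z' : Sp S} {i : Z ⟶ X} {i' : Z' ⟶ X}

/-- Ideal sheaves are compared on affine open subschemes. -/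
theorem le_of_comap_opens {U : Scheme.{u}} {I J : U.IdealSheafData}
    (h : ∀ V : U.affineOpens, I.comap V.1.ι ≤ J.comap V.1.ι) : I ≤ J := by
  intro V
  have : IsAffine V.1.toScheme := V.2
  have h1 := h V ⟨⊤, isAffineOpen_top _⟩
  rw [Scheme.IdealSheafData.ideal_comap_of_isOpenImmersion, Scheme.IdealSheafData.ideal_comap_of_isOpenImmersion,
    Ideal.comap_le_comap_iff_of_surjective _
      (ConcreteCategory.bijective_of_isIso (Scheme.Hom.appIso V.1.ι ⊤).inv).2] at h1
  have e : (⟨V.1.ι ''ᵁ ⊤, (isAffineOpen_top _).image_of_isOpenImmersion V.1.ι⟩ : U.affineOpens) = V :=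
    Subtype.ext V.1.ι_image_top
  have e2 : ∀ W : U.affineOpens, W = V → I.ideal W ≤ J.ideal W → I.ideal V ≤ J.ideal V := by
    rintro _ rfl h
    exact h
  exact e2 _ e h1

theorem ker_of_isPullback (hi : RepWith @IsClosedImmersion i) {U E W : Over S} (a : (yon S).obj U ⟶ X)
    (g : E ⟶ U) {fst : (yon S).obj W ⟶ Z} {snd : W ⟶ E}
    (h : IsPullback fst ((yon S).map snd) i ((yon S).map g ≫ a)) :
    snd.left.ker = (hi.rep.snd a).left.ker.comap g.left := by
  have : IsClosedImmersion (hi.rep.snd a).left := hi.property_snd a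
  obtain ⟨l, hl₁, hl₂⟩ : ∃ l : W ⟶ hi.rep.pullback a,
      (yon S).map l ≫ hi.rep.fst a = fst ∧ l ≫ hi.rep.snd a = snd ≫ g :=
    ⟨hi.rep.lift fst (snd ≫ g) (by rw [h.w, Functor.map_comp, Category.assoc]),
      hi.rep.lift_fst _ _ _, hi.rep.lift_snd _ _ _⟩
  subst hl₁
  have h2 : IsPullback ((yon S).map l) ((yon S).map snd) ((yon S).map (hi.rep.snd a)) ((yon S).map g) :=
    IsPullback.of_right h (by rw [← Functor.map_comp, ← Functor.map_comp, hl₂]) (hi.rep.isPullback a)
  have h3 := (h2.of_map_of_faithful (yon S)).map (Over.forget S)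
  change ((Over.forget S).map snd).ker = _
  rw [← Scheme.IdealSheafData.ker_fst_of_isClosedImmersion, ← h3.flip.isoPullback_hom_fst,
    Scheme.Hom.ker_comp_of_isIso]
  rfl

/-- The base change of a closed subspace to a scheme over an atlas. -/
theorem ker_bcπ (hi : RepWith @IsClosedImmersion i) {U : Over S} (a : (yon S).obj U ⟶ X) (E : EtOver X)
    (g : E.obj.left ⟶ U) (hg : (yon S).map g ≫ a = E.obj.hom) :
    (EtOver.bcπ hi.1 E).left.ker = (hi.rep.snd a).left.ker.comap g.left := by
  refine ker_of_isPullback hi a g (fst := hi.rep.fst E.obj.hom) ?_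
  rw [hg]
  exact hi.rep.isPullback _

theorem idealOfRep_eq (hi : RepWith @IsClosedImmersion i) (E : EtOver X) (hE : IsAffine E.obj.left.left) :
    (idealOfRep hi.1).ideal E hE = (EtOver.bcπ hi.1 E).left.ker.ideal ⟨⊤, isAffineOpen_top _⟩ := by
  have : IsClosedImmersion (EtOver.bcπ hi.1 E).left := hi.property_snd _
  rw [Scheme.Hom.ker_apply]
  rfl

/-- The kernel ideals are antitone, and conversely. -/
theorem idealOfRep_le_iff (hX : IsAlgSpace X) (hi : RepWith @IsClosedImmersion i)
    (hi' : RepWith @IsClosedImmersion i') :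
    idealOfRep hi.1 ≤ idealOfRep hi'.1 ↔ ∃ k, k ≫ i = i' := by
  constructor
  · intro h
    obtain ⟨U, a, ha, has⟩ := hX.atlas
    have := mono_of_closedImmersion hi
    refine exists_factor_of_cover (repWith_of_isPullback (hi'.rep.isPullback a).flip ha)
      (repWith_of_isPullback (hi'.rep.isPullback a).flip has) i' ?_
    rw [(hi'.rep.isPullback a).w]
    have : IsClosedImmersion (hi.rep.snd a).left := hi.property_snd a
    rw [← factor_iff_of_isPullback (hi.rep.isPullback a), factor_iff_ker_le]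
    refine le_of_comap_opens fun V => ?_
    let VU : Over S := Over.mk (V.1.ι ≫ U.hom)
    let g : VU ⟶ U := CategoryTheory.Over.homMk V.1.ι rfl
    let E : EtOver X := EtOver.mk ((yon S).map g ≫ a)
      (repWith_comp ((repWith_yon_map_iff _ _).2 (inferInstanceAs (Etale V.1.ι))) ha)
    have : IsAffine E.obj.left.left := V.2
    have h1 := h E this
    rw [idealOfRep_eq hi, idealOfRep_eq hi'] at h1
    have h2 := Scheme.IdealSheafData.le_of_isAffine h1
    rwa [ker_bcπ hi a E g rfl, ker_bcπ hi' a E g rfl] at h2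
  · rintro ⟨k, hk⟩ E hE
    rw [idealOfRep_eq hi, idealOfRep_eq hi']
    have : IsClosedImmersion (EtOver.bcπ hi.1 E).left := hi.property_snd _
    refine (factor_iff_ker_le (EtOver.bcπ hi.1 E) (EtOver.bcπ hi'.1 E)).1 ?_ ⟨⊤, isAffineOpen_top _⟩
    exact ⟨hi.rep.lift (hi'.rep.fst E.obj.hom ≫ k) (hi'.rep.snd E.obj.hom)
      (by rw [Category.assoc, hk, (hi'.rep.isPullback _).w]), hi.rep.lift_snd _ _ _⟩

end Groth.Agent.AlgSpDec
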