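import Groth.Agent.AlgSpDec.IdealEt
import Groth.Agent.MorLib.IdealFG

/-!
# Quasi-coherent ideals define closed subspaces
-/

set_option backward.isDefEq.respectTransparency false
set_option backward.isDefEq.respectTransparency.types false

universe u

open CategoryTheory Limits Opposite AlgebraicGeometry AlgSp Groth.Agent.AlgSpLib Groth.Agent.AlgSpPts
open AlgebraicGeometry.Scheme (IdealSheafData)

namespace Groth.Agent.AlgSpDec

theorem comap_ideal_top {A B : Scheme.{u}} [IsAffine A] [IsAffine B] (f : A ⟶ B) (K : B.IdealSheafData) :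
    (K.comap f).ideal ⟨⊤, isAffineOpen_top A⟩ = (K.ideal ⟨⊤, isAffineOpen_top B⟩).map f.appTop.hom := by
  apply le_antisymm
  · have h : K.comap f ≤ IdealSheafData.equivOfIsAffine.symm ((K.ideal ⟨⊤, isAffineOpen_top B⟩).map f.appTop.hom) := by
      rw [← Scheme.IdealSheafData.le_map_iff_comap_le]
      refine IdealSheafData.le_of_isAffine ?_
      rw [Scheme.IdealSheafData.ideal_map_of_isAffineHom]
      refine Ideal.map_le_iff_le_comap.1 (le_of_eq ?_)
      exact (IdealSheafData.equivOfIsAffine.apply_symm_apply _).symm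
    exact (h ⟨⊤, isAffineOpen_top A⟩).trans
      (le_of_eq (IdealSheafData.equivOfIsAffine.apply_symm_apply _))
  · rw [Ideal.map_le_iff_le_comap]
    have h := Scheme.IdealSheafData.le_map_comap K f ⟨⊤, isAffineOpen_top B⟩
    rw [Scheme.IdealSheafData.ideal_map_of_isAffineHom] at h
    exact h

/-- Extension of ideals along a faithfully flat morphism of affine schemes is injective. -/
theorem ideal_map_injective {A B : Scheme.{u}} [IsAffine A] [IsAffine B] (f : A ⟶ B) [Flat f] [Surjective f]
    {I J : Ideal Γ(B, ⊤)} (h : I.map f.appTop.hom = J.map f.appTop.hom) : I = J := by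
  have h1 := (AlgebraicGeometry.Flat.flat_and_surjective_iff_faithfullyFlat_of_isAffine f).1 ⟨inferInstance, inferInstance⟩
  algebraize [f.appTop.hom]
  rw [← Ideal.comap_map_eq_self_of_faithfullyFlat (B := Γ(A, ⊤)) I,
    ← Ideal.comap_map_eq_self_of_faithfullyFlat (B := Γ(A, ⊤)) J]
  exact congrArg (Ideal.comap f.appTop.hom) h

variable {S : Scheme.{u}} {X : Sp S} (I : IdealEt X)

/-- The ideal sheaf of an ideal of an affine object of the site. -/
noncomputable def affineIdeal (E : EtOver X) (hE : IsAffine E.obj.left.left) : E.obj.left.left.IdealSheafData :=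
  IdealSheafData.equivOfIsAffine.symm (I.ideal E hE)

theorem affineIdeal_top (E : EtOver X) (hE : IsAffine E.obj.left.left) :
    (affineIdeal I E hE).ideal ⟨⊤, isAffineOpen_top _⟩ = I.ideal E hE :=
  IdealSheafData.equivOfIsAffine.apply_symm_apply _

variable {I} (hI : I.IsQCoh)
include hI

theorem affineIdeal_comap {E E' : EtOver X} (g : E' ⟶ E) (hE : IsAffine E.obj.left.left)
    (hE' : IsAffine E'.obj.left.left) :
    affineIdeal I E' hE' = (affineIdeal I E hE).comap g.hom.left.left := by
  refine IdealSheafData.ext_of_isAffine ?_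
  rw [comap_ideal_top, affineIdeal_top, affineIdeal_top]
  exact le_antisymm (hI g hE hE') (I.map_le g hE hE')

variable {U : Over S} (a : (yon S).obj U ⟶ X) (ha : RepWith @Etale a)

omit hI in
/-- An open subscheme of an atlas as an object of the site. -/
noncomputable abbrev openObj (V : U.left.Opens) : EtOver X :=
  EtOver.mk ((yon S).map (CategoryTheory.Over.homMk V.ι rfl : Over.mk (V.ι ≫ U.hom) ⟶ U) ≫ a)
    (repWith_comp ((repWith_yon_map_iff _ _).2 (inferInstanceAs (Etale V.ι))) ha)

omit hI in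
/-- The inclusion of open subschemes in the site. -/
noncomputable def openHom {V W : U.left.Opens} (h : W ≤ V) : openObj a ha W ⟶ openObj a ha V :=
  EtOver.homMk (CategoryTheory.Over.homMk (U.left.homOfLE h) (by
      change _ ≫ V.ι ≫ U.hom = W.ι ≫ U.hom
      rw [Scheme.homOfLE_ι_assoc]))
    (by
      change (yon S).map _ ≫ (yon S).map _ ≫ a = (yon S).map _ ≫ a
      rw [← Functor.map_comp_assoc]
      congr 2
      exact Over.OverMorphism.ext (U.left.homOfLE_ι h))

/-- The ideal sheaf on an atlas. -/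
noncomputable def atlasIdeal : U.left.IdealSheafData where
  ideal V := (I.ideal (openObj a ha V.1) V.2).map V.1.topIso.hom.hom
  map_ideal_basicOpen V f := by
    let g := openHom a ha (U.left.basicOpen_le f)
    have h1 : I.ideal (openObj a ha (U.left.basicOpen f)) (V.2.basicOpen f) =
        (I.ideal (openObj a ha V.1) V.2).map (U.left.homOfLE (U.left.basicOpen_le f)).appTop.hom :=
      le_antisymm (hI g V.2 (V.2.basicOpen f)) (I.map_le g V.2 (V.2.basicOpen f))
    change _ = (I.ideal (openObj a ha (U.left.basicOpen f)) (V.2.basicOpen f)).map _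
    rw [h1, Ideal.map_map, Ideal.map_map, ← CommRingCat.hom_comp, ← CommRingCat.hom_comp]
    congr 2
    rw [Scheme.homOfLE_appTop, Scheme.Opens.topIso_hom, Scheme.Opens.topIso_hom, ← Functor.map_comp,
      ← Functor.map_comp]
    rfl

theorem atlasIdeal_comap_ι (V : U.left.affineOpens) :
    (atlasIdeal hI a ha).comap V.1.ι = affineIdeal I (openObj a ha V.1) V.2 := by
  have : IsAffine V.1.toScheme := V.2
  refine IdealSheafData.ext_of_isAffine ?_
  rw [affineIdeal_top, Scheme.IdealSheafData.ideal_comap_of_isOpenImmersion, Scheme.Opens.ι_appIso]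
  have e : (⟨V.1.ι ''ᵁ ⊤, (isAffineOpen_top _).image_of_isOpenImmersion V.1.ι⟩ : U.left.affineOpens) = V :=
    Subtype.ext V.1.ι_image_top
  have key : ∀ (W : U.left.affineOpens) (hW : W = V),
      (atlasIdeal hI a ha).ideal W = (I.ideal (openObj a ha V.1) V.2).map
        (V.1.topIso.hom ≫ U.left.presheaf.map (eqToHom (congrArg Subtype.val hW)).op).hom := by
    rintro _ rfl
    simp only [eqToHom_refl, op_id, CategoryTheory.Functor.map_id, Category.comp_id]
    rfl
  rw [key _ e]
  have e2 : V.1.topIso.hom ≫ U.left.presheaf.map (eqToHom (congrArg Subtype.val e)).op = 𝟙 _ := by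
    rw [Scheme.Opens.topIso_hom, ← Functor.map_comp, ← CategoryTheory.Functor.map_id]
    rfl
  rw [e2]
  exact (Ideal.comap_id _).trans (Ideal.map_id _)

theorem atlasIdeal_comap (E : EtOver X) (hE : IsAffine E.obj.left.left) (g : E.obj.left ⟶ U)
    (hg : (yon S).map g ≫ a = E.obj.hom) :
    (atlasIdeal hI a ha).comap g.left = affineIdeal I E hE := by
  let ι' := {D : E.obj.left.left.affineOpens // ∃ V : U.left.affineOpens, D.1 ≤ g.left ⁻¹ᵁ V.1}
  refine IdealSheafData.ext_of_iSup_eq_top (fun D : ι' => D.1) (top_le_iff.1 fun x _ => ?_) fun D => ?_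
  · obtain ⟨W, hW, hxW, -⟩ := exists_isAffineOpen_mem_and_subset (U := (⊤ : U.left.Opens)) (x := g.left x) trivial
    obtain ⟨D, hD, hxD, hDW⟩ := exists_isAffineOpen_mem_and_subset (U := g.left ⁻¹ᵁ W) (x := x) hxW
    exact TopologicalSpace.Opens.mem_iSup.2 ⟨⟨⟨D, hD⟩, ⟨W, hW⟩, hDW⟩, hxD⟩
  obtain ⟨D, V, hDV⟩ := D
  refine MorLib.IdealFG.eq_of_comap_eq (W := D.1) ?_ le_rfl
  let DE : Over S := Over.mk (D.1.ι ≫ E.obj.left.hom)
  let j : DE ⟶ E.obj.left := CategoryTheory.Over.homMk D.1.ι rfl
  let ED : EtOver X := EtOver.mk ((yon S).map j ≫ E.obj.hom)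
    (repWith_comp ((repWith_yon_map_iff _ _).2 (inferInstanceAs (Etale D.1.ι))) E.property)
  let h₁ : ED ⟶ E := EtOver.homMk j rfl
  let l : DE ⟶ (openObj a ha V.1).obj.left := CategoryTheory.Over.homMk (g.left.resLE V.1 D.1 hDV) (by
    change _ ≫ V.1.ι ≫ U.hom = D.1.ι ≫ E.obj.left.hom
    rw [Scheme.Hom.resLE_comp_ι_assoc, Over.w g])
  let h₂ : ED ⟶ openObj a ha V.1 := EtOver.homMk l (by
    change (yon S).map l ≫ (yon S).map _ ≫ a = (yon S).map j ≫ E.obj.hom
    rw [← hg, ← Functor.map_comp_assoc, ← Functor.map_comp_assoc]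
    congr 2
    exact Over.OverMorphism.ext (Scheme.Hom.resLE_comp_ι _ _))
  have hD : IsAffine ED.obj.left.left := D.2
  rw [← Scheme.IdealSheafData.comap_comp, ← Scheme.Hom.resLE_comp_ι g.left hDV,
    Scheme.IdealSheafData.comap_comp, atlasIdeal_comap_ι hI a ha V]
  exact ((affineIdeal_comap hI h₂ V.2 hD).symm.trans (affineIdeal_comap hI h₁ hE hD) :)

omit ha in
/-- A quasi-coherent ideal cuts out a closed subspace. -/
theorem exists_isCutOutBy (hX : IsAlgSpace X) : ∃ (Z : Space S) (i : Z.obj ⟶ X), IsCutOutBy I i := by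
  obtain ⟨U, a, ha, has⟩ := hX.atlas
  let J := atlasIdeal hI a ha
  let ZU : Over S := Over.mk (J.subschemeι ≫ U.hom)
  let i : ZU ⟶ U := CategoryTheory.Over.homMk J.subschemeι rfl
  have : IsClosedImmersion i.left := inferInstanceAs (IsClosedImmersion J.subschemeι)
  have hker : i.left.ker = J := J.ker_subschemeι
  have hcompat : ∀ (T : Over S) (x y : T ⟶ U), (yon S).map x ≫ a = (yon S).map y ≫ a →
      (∃ l, l ≫ i = x) → ∃ l, l ≫ i = y := by
    intro T x y hxy
    rw [factor_iff_ker_le, factor_iff_ker_le, hker]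
    let R := ha.rep.pullback a
    let s := ha.rep.snd a
    let t := ha.rep.fst' a
    have sqR : IsPullback ((yon S).map t) ((yon S).map s) a a := ha.rep.isPullback' a
    obtain ⟨r, hr₁, hr₂⟩ : ∃ r : T ⟶ R, r ≫ t = y ∧ r ≫ s = x := by
      refine ⟨(yon S).preimage (sqR.lift ((yon S).map y) ((yon S).map x) hxy.symm), ?_, ?_⟩ <;>
        apply (yon S).map_injective <;> simp
    have key : J.comap s.left = J.comap t.left := by
      refine IdealSheafData.ext_of_iSup_eq_top (fun D : R.left.affineOpens => D) (iSup_affineOpens_eq_top _)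
        fun D => MorLib.IdealFG.eq_of_comap_eq (W := D.1) ?_ le_rfl
      let DR : Over S := Over.mk (D.1.ι ≫ R.hom)
      let j : DR ⟶ R := CategoryTheory.Over.homMk D.1.ι rfl
      have hs : Etale s.left := ha.property_snd a
      let ED : EtOver X := EtOver.mk ((yon S).map (j ≫ s) ≫ a)
        (repWith_comp ((repWith_yon_map_iff _ _).2 (inferInstanceAs (Etale (D.1.ι ≫ s.left)))) ha)
      have h1 := atlasIdeal_comap hI a ha ED D.2 (j ≫ s) rfl
      have h2 := atlasIdeal_comap hI a ha ED D.2 (j ≫ t) (by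
        change _ = (yon S).map (j ≫ s) ≫ a
        rw [Functor.map_comp, Functor.map_comp, Category.assoc, Category.assoc, sqR.w])
      rw [← Scheme.IdealSheafData.comap_comp, ← Scheme.IdealSheafData.comap_comp]
      exact h1.trans h2.symm
    intro hx
    rw [← hr₁, Over.comp_left, Scheme.Hom.ker_comp, Scheme.IdealSheafData.le_map_iff_comap_le, ← key,
      ← Scheme.IdealSheafData.le_map_iff_comap_le, ← Scheme.Hom.ker_comp, ← Over.comp_left, hr₂]
    exact hx
  obtain ⟨Z, j, q, hj, sq, -, -⟩ := exists_closed_subspace hX ha has hcompat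
  have hJ : (hj.rep.snd a).left.ker = J := by
    rw [ker_of_isPullback hj a (𝟙 U) (fst := hj.rep.fst a) (snd := hj.rep.snd a)
      (by simpa using hj.rep.isPullback a), ← ker_of_isPullback hj a (𝟙 U) (fst := q) (snd := i) (by simpa using sq)]
    exact hker
  refine ⟨Z, j, hj, IdealEt.ext (funext fun E => funext fun hE => ?_)⟩
  -- an affine etale covering of the object, mapping to the atlas
  obtain ⟨Z', π, v, hZ', hπ, hπs, hv⟩ := exists_affine_cover_lift ha has E.obj.hom
  let E' : EtOver X := EtOver.mk ((yon S).map π ≫ E.obj.hom)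
    (repWith_comp ((repWith_yon_map_iff _ _).2 hπ) E.property)
  rw [idealOfRep_eq hj, ← affineIdeal_top I E hE]
  have h1 : ((EtOver.bcπ hj.1 E).left.ker).comap π.left = (affineIdeal I E hE).comap π.left := by
    have h3 := affineIdeal_comap hI (EtOver.homMk π rfl : E' ⟶ E) hE hZ'
    rw [← show affineIdeal I E' hZ' = (affineIdeal I E hE).comap π.left from h3,
      ← atlasIdeal_comap hI a ha E' hZ' v hv.symm, show atlasIdeal hI a ha = (hj.rep.snd a).left.ker from hJ.symm, ← ker_bcπ hj a E' v hv.symm,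
      ← ker_of_isPullback hj E.obj.hom π (fst := hj.rep.fst E'.obj.hom) (snd := EtOver.bcπ hj.1 E')
        (hj.rep.isPullback E'.obj.hom)]
  have h2 := congrArg (fun K : Z'.left.IdealSheafData => K.ideal ⟨⊤, isAffineOpen_top Z'.left⟩) h1
  simp only [comap_ideal_top] at h2
  exact ideal_map_injective π.left h2

end Groth.Agent.AlgSpDec
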