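import Groth.Agent.AlgSpDec.IdealEt
import Groth.Agent.AlgSpDec.QCohIdeal
import Groth.Agent.AlgSpPts.SepDescent
import Groth.Agent.S4667

/-!
# The kernel family of a representable morphism and factorisation through closed subspaces
-/

set_option backward.isDefEq.respectTransparency false
set_option backward.isDefEq.respectTransparency.types false

universe u

open CategoryTheory Limits Opposite AlgebraicGeometry AlgSp Groth.Agent.AlgSpLib Groth.Agent.AlgSpPts

namespace Groth.Agent.AlgSpDec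

variable {S : Scheme.{u}} {X Y Z : Sp S} {i : Z ⟶ X} {f : Y ⟶ X}

theorem ker_ideal_top {A B : Scheme.{u}} [IsAffine B] (f : A ⟶ B) :
    f.ker.ideal ⟨⊤, isAffineOpen_top _⟩ = RingHom.ker f.appTop.hom := by
  rw [Scheme.Hom.ker, ← Scheme.Hom.ker, Scheme.ker_of_isAffine]
  rw [Scheme.IdealSheafData.ofIdealTop_ideal]
  change Ideal.map (B.presheaf.map (homOfLE le_rfl).op).hom _ = _
  rw [show (homOfLE (le_refl (⊤ : B.Opens))).op = 𝟙 _ from rfl, CategoryTheory.Functor.map_id]
  exact Ideal.map_id _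

theorem idealOfRep_eq' (hf : Representable f) (E : EtOver X) (hE : IsAffine E.obj.left.left) :
    (idealOfRep hf).ideal E hE = (EtOver.bcπ hf E).left.ker.ideal ⟨⊤, isAffineOpen_top _⟩ :=
  (ker_ideal_top _).symm

theorem ker_le_of_comp {A A' B : Scheme.{u}} (g : A' ⟶ A) (x : A ⟶ B) (V : B.affineOpens)
    (hg : Function.Injective (g.app (x ⁻¹ᵁ V.1))) {J : B.IdealSheafData} (h : J ≤ (g ≫ x).ker) :
    J.ideal V ≤ RingHom.ker (x.app V.1).hom := by
  intro s hs
  have h1 := Scheme.Hom.ideal_ker_le _ V (h V hs)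
  rw [RingHom.mem_ker, Scheme.Hom.comp_app] at h1
  refine RingHom.mem_ker.2 (hg ?_)
  rw [map_zero]
  exact h1

/-- Kernels are tested on affine open subschemes of the target. -/
theorem le_ker_of_forall_comp {A B : Scheme.{u}} (x : A ⟶ B) {J : B.IdealSheafData}
    (h : ∀ V : B.affineOpens, J ≤ ((x ⁻¹ᵁ V.1).ι ≫ x).ker) : J ≤ x.ker := by
  refine Scheme.IdealSheafData.le_ofIdeals_iff.2 fun V => ker_le_of_comp _ x V ?_ (h V)
  rw [Scheme.Opens.ι_app]
  have : IsIso (A.presheaf.map (homOfLE (x := (x ⁻¹ᵁ V.1).ι ''ᵁ (x ⁻¹ᵁ V.1).ι ⁻¹ᵁ (x ⁻¹ᵁ V.1))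
      (Scheme.Hom.image_preimage_le _ _)).op) := by
    have e : (x ⁻¹ᵁ V.1).ι ''ᵁ (x ⁻¹ᵁ V.1).ι ⁻¹ᵁ (x ⁻¹ᵁ V.1) = x ⁻¹ᵁ V.1 := by simp
    have : IsIso (homOfLE (x := (x ⁻¹ᵁ V.1).ι ''ᵁ (x ⁻¹ᵁ V.1).ι ⁻¹ᵁ (x ⁻¹ᵁ V.1))
        (Scheme.Hom.image_preimage_le _ _)) := ⟨homOfLE e.ge, by simp, by simp⟩
    infer_instance
  exact (ConcreteCategory.bijective_of_isIso _).1

/-- The ideal of a closed subspace lies in the kernel family of a morphism exactly when the morphism factors. -/
theorem idealOfRep_le_iff_factor (hY : IsAlgSpace Y) (hX : IsAlgSpace X) (hi : RepWith @IsClosedImmersion i)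
    (hf : Representable f) : idealOfRep hi.1 ≤ idealOfRep hf ↔ ∃ k, k ≫ i = f := by
  constructor
  · intro h
    obtain ⟨U, a, ha, has⟩ := hX.atlas
    have := mono_of_closedImmersion hi
    refine exists_factor_of_cover (repWith_of_isPullback (hf.isPullback a).flip ha)
      (repWith_of_isPullback (hf.isPullback a).flip has) f ?_
    rw [(hf.isPullback a).w]
    have : IsClosedImmersion (hi.rep.snd a).left := hi.property_snd a
    rw [← factor_iff_of_isPullback (hi.rep.isPullback a), factor_iff_ker_le]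
    refine le_ker_of_forall_comp _ fun V => ?_
    let x := hf.snd a
    let VU : Over S := Over.mk (V.1.ι ≫ U.hom)
    let g : VU ⟶ U := CategoryTheory.Over.homMk V.1.ι rfl
    let E : EtOver X := EtOver.mk ((yon S).map g ≫ a)
      (repWith_comp ((repWith_yon_map_iff _ _).2 (inferInstanceAs (Etale V.1.ι))) ha)
    have : IsAffine E.obj.left.left := V.2
    have h1 := h E this
    rw [idealOfRep_eq' hi.1, idealOfRep_eq' hf] at h1
    have h2 := Scheme.IdealSheafData.le_of_isAffine h1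
    rw [ker_bcπ hi a E g rfl, ← Scheme.IdealSheafData.le_map_iff_comap_le, ← Scheme.Hom.ker_comp] at h2
    -- compare the base change to the open piece
    let A : Over S := Over.mk ((x.left ⁻¹ᵁ V.1).ι ≫ (hf.pullback a).hom)
    let ιA : A ⟶ hf.pullback a := CategoryTheory.Over.homMk (x.left ⁻¹ᵁ V.1).ι rfl
    let rA : A ⟶ E.obj.left := CategoryTheory.Over.homMk (x.left ∣_ V.1) (by
      change (x.left ∣_ V.1) ≫ V.1.ι ≫ U.hom = _
      rw [morphismRestrict_ι_assoc, Over.w x]
      rfl)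
    have hr : rA ≫ g = ιA ≫ x := Over.OverMorphism.ext (morphismRestrict_ι _ _)
    obtain ⟨l, hl⟩ : ∃ l : A ⟶ hf.pullback E.obj.hom, l ≫ hf.snd E.obj.hom = rA :=
      ⟨hf.lift ((yon S).map ιA ≫ hf.fst a) rA (by
        rw [Category.assoc, hf.w a, ← Functor.map_comp_assoc]
        change _ = (yon S).map rA ≫ (yon S).map g ≫ a
        rw [← Functor.map_comp_assoc, hr]), hf.lift_snd _ _ _⟩
    refine h2.trans ?_
    change _ ≤ (ιA ≫ x).left.ker
    rw [← hr, Over.comp_left, ← hl, Over.comp_left, Category.assoc]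
    exact Scheme.Hom.le_ker_comp _ _
  · rintro ⟨k, hk⟩ E hE
    rw [idealOfRep_eq hi, idealOfRep_eq' hf]
    have : IsClosedImmersion (EtOver.bcπ hi.1 E).left := hi.property_snd _
    refine (factor_iff_ker_le (EtOver.bcπ hi.1 E) (EtOver.bcπ hf E)).1 ?_ ⟨⊤, isAffineOpen_top _⟩
    exact ⟨hi.rep.lift (hf.fst E.obj.hom ≫ k) (hf.snd E.obj.hom)
      (by rw [Category.assoc, hk, hf.w]), hi.rep.lift_snd _ _ _⟩

theorem idealEt_le_refl (I : IdealEt X) : I ≤ I := fun _ _ => le_rfl

theorem idealEt_le_antisymm {I J : IdealEt X} (h : I ≤ J) (h' : J ≤ I) : I = J :=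
  IdealEt.ext (funext fun E => funext fun hE => le_antisymm (h E hE) (h' E hE))

/-- The kernel family of a quasi-compact representable morphism is quasi-coherent. -/
theorem isQCoh_idealOfRep (hf : Representable f) (hq : IsQuasiCompactMor f) : (idealOfRep hf).IsQCoh := by
  intro E E' g hE hE'
  have : QuasiCompact (EtOver.bcπ hf E).left := (repWith_quasiCompact hf hq).property_snd _
  have : Etale g.hom.left.left := EtOver.etale_left g
  rw [idealOfRep_eq' hf, idealOfRep_eq' hf, ← comap_ideal_top]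
  refine le_of_eq ?_
  congr 1
  have sq := EtOver.isPullback_bcMap_left hf g
  rw [← Groth.Agent.S4667.result (EtOver.bcπ hf E).left g.hom.left.left, ← sq.isoPullback_hom_snd,
    Scheme.Hom.ker_comp_of_isIso]

end Groth.Agent.AlgSpDec
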