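import Groth.Agent.AlgSpDec.AffineLocal
import Groth.Agent.AlgSpLib.FpqcDescent
import Groth.Agent.AlgSpPts.OpenSub
import Mathlib.Topology.LocallyClosed

/-!
# Immersions are etale local on the target
-/

set_option backward.isDefEq.respectTransparency false
set_option backward.isDefEq.respectTransparency.types false

universe u

open CategoryTheory Limits Opposite AlgebraicGeometry AlgSp Groth.Agent.AlgSpLib Groth.Agent.AlgSpPts

namespace Groth.Agent.AlgSpDec

variable {S : Scheme.{u}} {F G : Sp S} {f : F ⟶ G}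

/-- A morphism to a scheme all of whose points lie in an open subscheme factors through it. -/
theorem exists_factor_of_points {T : Over S} (U : T.left.Opens) {A : Sp S} (q : A ⟶ (yon S).obj T)
    (h : ∀ x : Points A, ∃ t ∈ U, Points.map q x = Points.ofScheme T t) :
    ∃ l : A ⟶ (yon S).obj (Over.mk (U.ι ≫ T.hom)),
      l ≫ (yon S).map (CategoryTheory.Over.homMk U.ι rfl) = q := by
  let inc : Over.mk (U.ι ≫ T.hom) ⟶ T := CategoryTheory.Over.homMk U.ι rfl
  have : Mono inc := (Over.forget S).mono_of_mono_map (inferInstanceAs (Mono U.ι))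
  have : Mono ((yon S).map inc) := (yon S).map_mono inc
  have : Sheaf.IsLocallySurjective (pullback.fst q ((yon S).map inc)) := by
    refine isLocallySurjective_of_lifts _ fun T' a => ?_
    obtain ⟨φ, hφ⟩ := (yon S).map_surjective (a ≫ q)
    have hrange : Set.range φ.left ⊆ Set.range U.ι := by
      rintro _ ⟨t, rfl⟩
      obtain ⟨t', ht', he⟩ := h (Points.ofPt a t)
      rw [Points.map_ofPt, ← hφ, Points.ofPt_eq_map_ofScheme] at he
      replace he := (Points.map_yon_map_apply φ t).symm.trans he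
      rw [Scheme.Opens.range_ι, (Points.schemeHomeo T).injective he]
      exact ht'
    let l : T' ⟶ Over.mk (U.ι ≫ T.hom) := CategoryTheory.Over.homMk (IsOpenImmersion.lift U.ι φ.left hrange) (by
      change IsOpenImmersion.lift _ _ hrange ≫ U.ι ≫ T.hom = _
      rw [IsOpenImmersion.lift_fac_assoc]
      exact Over.w φ)
    have hl : l ≫ inc = φ := Over.OverMorphism.ext (IsOpenImmersion.lift_fac _ _ hrange)
    refine ⟨T', 𝟙 _, pullback.lift a ((yon S).map l) (by rw [← hφ, ← Functor.map_comp, hl]),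
      fppf_of_etale (𝟙 T'.left), ?_⟩
    rw [pullback.lift_fst, CategoryTheory.Functor.map_id, Category.id_comp]
  have := isIso_of_mono_of_locallySurjective (pullback.fst q ((yon S).map inc))
  refine ⟨inv (pullback.fst q ((yon S).map inc)) ≫ pullback.snd _ _, ?_⟩
  rw [Category.assoc, ← pullback.condition, IsIso.inv_hom_id_assoc]

/-- Representability of a morphism which, after an etale covering of each scheme over the target, becomes a
morphism with an affine property over an open subscheme. -/
theorem repWith_of_open_piece {P Q : MorphismProperty Scheme.{u}} [IsZariskiLocalAtTarget P]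
    [P.IsStableUnderBaseChange]
    [P.DescendsAlong (@Surjective ⊓ @Flat ⊓ @QuasiCompact)] (hP : P ≤ @IsAffineHom) [Q.IsStableUnderBaseChange]
    (hQ : ∀ {X : Scheme.{u}} {Y : Scheme.{u}} (U : Y.Opens) (i : X ⟶ U.toScheme), P i → Q (i ≫ U.ι))
    {Q₀ : MorphismProperty Scheme.{u}} {V : Over S} {p : (yon S).obj V ⟶ G}
    (hp : RepWith @Etale p) (hps : RepWith @Surjective p) {P₀ : Sp S} {fst : P₀ ⟶ F}
    {snd : P₀ ⟶ (yon S).obj V} (sq : IsPullback fst snd f p) (h : RepWith Q₀ snd)
    (hU : ∀ {W T' T : Scheme.{u}} (m : W ⟶ T') (e : T' ⟶ T) [Etale e] [Surjective e] (R : Set T),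
      Q₀ m → Set.range m = e ⁻¹' R → ∃ U : T.Opens, R ⊆ U ∧ P (m ∣_ (e ⁻¹ᵁ U))) :
    RepWith Q f := by
  refine repWith_of_squares fun T g => ?_
  have : Etale (hp.rep.snd g).left := hp.property_snd g
  have : Surjective (hp.rep.snd g).left := hps.2 g _ _ (hp.rep.isPullback g)
  let π := hp.rep.snd g
  let v := hp.rep.fst' g
  let m := h.rep.snd ((yon S).map v)
  have sq₁ : IsPullback (h.rep.fst ((yon S).map v) ≫ fst) ((yon S).map m) f ((yon S).map π ≫ g) := by
    have := (h.rep.isPullback ((yon S).map v)).paste_horiz sq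
    rwa [(hp.rep.isPullback' g).w] at this
  let lD : (yon S).obj (h.rep.pullback ((yon S).map v)) ⟶ pullback f g :=
    pullback.lift (h.rep.fst ((yon S).map v) ≫ fst) ((yon S).map m ≫ (yon S).map π) (by rw [sq₁.w, Category.assoc])
  have sqD : IsPullback lD ((yon S).map m) (pullback.snd f g) ((yon S).map π) := by
    refine IsPullback.of_right ?_ (pullback.lift_snd _ _ _) (IsPullback.of_hasPullback f g)
    rw [pullback.lift_fst]
    exact sq₁
  let R : Set T.left := {t | ∃ x, Points.map (pullback.snd f g) x = Points.ofScheme T t}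
  have hR : Set.range m.left = π.left ⁻¹' R := by
    ext t'
    constructor
    · rintro ⟨w, rfl⟩
      refine ⟨Points.map lD (Points.ofScheme _ w), ?_⟩
      rw [← Points.map_comp, sqD.w, Points.map_comp]
      exact (congrArg _ (Points.map_yon_map_apply m w)).trans (Points.map_yon_map_apply π _)
    · rintro ⟨x, hx⟩
      obtain ⟨z, -, hz⟩ := exists_point_of_isPullback sqD (x := x) (y := Points.ofScheme _ t')
        (hx.trans (Points.map_yon_map_apply π _).symm)
      obtain ⟨w, rfl⟩ := (Points.schemeHomeo _).surjective z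
      exact ⟨w, (Points.schemeHomeo _).injective ((Points.map_yon_map_apply _ _).symm.trans hz)⟩
  obtain ⟨U, hRU, hPU⟩ := hU m.left π.left R (h.property_snd _) hR
  obtain ⟨l, hl⟩ := exists_factor_of_points U (pullback.snd f g) fun x => by
    obtain ⟨t, ht⟩ := (Points.schemeHomeo T).surjective (Points.map (pullback.snd f g) x)
    exact ⟨t, hRU ⟨x, ht.symm⟩, ht.symm⟩
  let TU : Over S := Over.mk (U.ι ≫ T.hom)
  let inc : TU ⟶ T := CategoryTheory.Over.homMk U.ι rfl
  have : Mono inc := (Over.forget S).mono_of_mono_map (inferInstanceAs (Mono U.ι))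
  have : Mono ((yon S).map inc) := (yon S).map_mono inc
  let T'U : Over S := Over.mk ((π.left ⁻¹ᵁ U).ι ≫ (hp.rep.pullback g).hom)
  let inc' : T'U ⟶ hp.rep.pullback g := CategoryTheory.Over.homMk (π.left ⁻¹ᵁ U).ι rfl
  let πU : T'U ⟶ TU := CategoryTheory.Over.homMk (π.left ∣_ U) (by
    change _ ≫ U.ι ≫ T.hom = _ ≫ (hp.rep.pullback g).hom
    rw [← Category.assoc, (isPullback_morphismRestrict π.left U).w, Category.assoc, Over.w π])
  let WU : Over S := Over.mk ((m.left ⁻¹ᵁ (π.left ⁻¹ᵁ U)).ι ≫ (h.rep.pullback ((yon S).map v)).hom)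
  let mU : WU ⟶ T'U := CategoryTheory.Over.homMk (m.left ∣_ (π.left ⁻¹ᵁ U)) (by
    change _ ≫ (π.left ⁻¹ᵁ U).ι ≫ (hp.rep.pullback g).hom = _ ≫ (h.rep.pullback ((yon S).map v)).hom
    rw [← Category.assoc, (isPullback_morphismRestrict m.left _).w, Category.assoc, Over.w m])
  let k : WU ⟶ h.rep.pullback ((yon S).map v) := CategoryTheory.Over.homMk (m.left ⁻¹ᵁ (π.left ⁻¹ᵁ U)).ι rfl
  have sqπ : IsPullback inc' πU π inc :=
    IsPullback.of_map (Over.forget S) (Over.OverMorphism.ext (isPullback_morphismRestrict π.left U).w.symm)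
      (isPullback_morphismRestrict π.left U).flip
  have sqm : IsPullback k mU m inc' :=
    IsPullback.of_map (Over.forget S) (Over.OverMorphism.ext (isPullback_morphismRestrict m.left _).w.symm)
      (isPullback_morphismRestrict m.left _).flip
  -- the piece over `U` is the whole fibre product
  have sql : IsPullback (pullback.fst f g) l f ((yon S).map inc ≫ g) :=
    ⟨⟨by rw [← Category.assoc, hl, pullback.condition]⟩, ⟨PullbackCone.IsLimit.mk _
      (fun s => pullback.lift s.fst (s.snd ≫ (yon S).map inc) (by rw [s.condition, Category.assoc]))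
      (fun s => pullback.lift_fst _ _ _)
      (fun s => by rw [← cancel_mono ((yon S).map inc), Category.assoc, hl, pullback.lift_snd])
      (fun s t h₁ h₂ => by
        ext1
        · rw [pullback.lift_fst, h₁]
        · rw [pullback.lift_snd, ← hl, ← Category.assoc, h₂])⟩⟩
  have sqW : IsPullback ((yon S).map k ≫ h.rep.fst ((yon S).map v) ≫ fst) ((yon S).map mU) f
      ((yon S).map πU ≫ (yon S).map inc ≫ g) := by
    have := (sqm.map (yon S)).paste_horiz sq₁
    rwa [← Functor.map_comp_assoc, sqπ.w, Functor.map_comp_assoc] at this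
  have hw : ((yon S).map k ≫ h.rep.fst ((yon S).map v) ≫ fst) ≫ f =
      ((yon S).map mU ≫ (yon S).map πU) ≫ (yon S).map inc ≫ g := by rw [sqW.w, Category.assoc]
  obtain ⟨w, hw₁, hw₂⟩ : ∃ w, w ≫ pullback.fst f g = (yon S).map k ≫ h.rep.fst ((yon S).map v) ≫ fst ∧
      w ≫ l = (yon S).map mU ≫ (yon S).map πU :=
    ⟨sql.lift _ _ hw, sql.lift_fst _ _ _, sql.lift_snd _ _ _⟩
  rw [← hw₁] at sqW
  have sqU : IsPullback w ((yon S).map mU) l ((yon S).map πU) := IsPullback.of_right sqW hw₂ sql
  have hπU : RepWith @Etale ((yon S).map πU) :=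
    (repWith_yon_map_iff _ _).2 (inferInstanceAs (Etale (π.left ∣_ U)))
  have hπUs : RepWith @Surjective ((yon S).map πU) :=
    (repWith_yon_map_iff _ _).2 (IsZariskiLocalAtTarget.restrict (P := @Surjective) ‹Surjective (hp.rep.snd g).left› U)
  have hl' : RepWith P l := repWith_of_etale_cover hP hπU hπUs sqU ((repWith_yon_map_iff _ _).2 hPU)
  have sql' : IsPullback (hl'.rep.fst (𝟙 _) ≫ pullback.fst f g) ((yon S).map (hl'.rep.snd (𝟙 _) ≫ inc)) f g := by
    have : IsIso (hl'.rep.fst (𝟙 _)) := (hl'.rep.isPullback (𝟙 _)).isIso_fst_of_isIso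
    refine (IsPullback.of_hasPullback f g).of_iso (asIso (hl'.rep.fst (𝟙 _))).symm (Iso.refl _) (Iso.refl _)
      (Iso.refl _) (by simp) ?_ (by simp) (by simp)
    have h1 := (hl'.rep.isPullback (𝟙 _)).w
    rw [Category.comp_id] at h1
    simp only [Iso.symm_hom, asIso_inv, Iso.refl_hom, Category.comp_id, Functor.map_comp]
    rw [← hl, IsIso.eq_inv_comp]
    exact (reassoc_of% h1) _
  exact ⟨_, _, _, sql', hQ U _ (hl'.property_snd (𝟙 _))⟩

end Groth.Agent.AlgSpDec
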