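import Groth.Agent.AlgSpDec.LimDescentApps
import Groth.Agent.AlgSpDec.LqfScheme
import Groth.Agent.AlgSpPts.Misc
import Groth.Agent.S9938

/-!
# Passing to diagonals in descent along limits
-/

set_option backward.isDefEq.respectTransparency false
set_option backward.isDefEq.respectTransparency.types false

universe u

open CategoryTheory Limits Opposite AlgebraicGeometry AlgSp Groth.Agent.AlgSpLib Groth.Agent.AlgSpPts

namespace Groth.Agent.AlgSpDec

variable {S : Scheme.{u}}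

/-- The base change of the self fibre product. -/
theorem exists_isPullback_self {X₀ Y₀ B T X Y : Sp S} {f₀ : X₀ ⟶ Y₀} {b₀ : Y₀ ⟶ B} {m : T ⟶ B} {f : X ⟶ Y}
    {pY : Y ⟶ Y₀} {qY : Y ⟶ T} (sqY : IsPullback pY qY b₀ m) {pX : X ⟶ X₀} (sqX : IsPullback pX f f₀ pY) :
    ∃ (pP : pullback f f ⟶ pullback f₀ f₀),
      IsPullback pP (pullback.fst f f ≫ f ≫ qY) (pullback.fst f₀ f₀ ≫ f₀ ≫ b₀) m ∧
        IsPullback pX (pullback.diagonal f) (pullback.diagonal f₀) pP := by
  let pP : pullback f f ⟶ pullback f₀ f₀ :=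
    pullback.lift (pullback.fst f f ≫ pX) (pullback.snd f f ≫ pX) (by
      rw [Category.assoc, Category.assoc, sqX.w, pullback.condition_assoc])
  have outer : IsPullback (pullback.fst f f) (pP ≫ pullback.snd f₀ f₀) (pX ≫ f₀) f₀ := by
    rw [pullback.lift_snd, sqX.w]
    exact (IsPullback.of_hasPullback f f).paste_vert sqX.flip
  have s₁ : IsPullback pP (pullback.fst f f) (pullback.fst f₀ f₀) pX :=
    (IsPullback.of_bot outer (pullback.lift_fst _ _ _).symm (IsPullback.of_hasPullback f₀ f₀)).flip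
  refine ⟨pP, by simpa only [Category.assoc] using (s₁.paste_vert sqX).paste_vert sqY, ?_⟩
  refine IsPullback.of_bot ?_ (by ext <;> simp [pP]) s₁
  rw [pullback.diagonal_fst, pullback.diagonal_fst]
  exact IsPullback.of_vert_isIso ⟨by simp⟩

theorem locP_lfp_diagonal {X Y : Sp S} (hX : IsAlgSpace X) (hY : IsAlgSpace Y) (f : X ⟶ Y)
    (hf : LocP @LocallyOfFiniteType f) : LocP @LocallyOfFinitePresentation (pullback.diagonal f) := by
  refine locP_of_comp' (P := @LocallyOfFinitePresentation) (Q := @LocallyOfFiniteType)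
    (fun a b (_ : LocallyOfFinitePresentation (a ≫ b)) (_ : LocallyOfFiniteType b) =>
      Groth.Agent.AlgSpPts.locallyOfFinitePresentation_of_comp a b) hX (g := pullback.fst f f) ?_
    (locP_of_isPullback (IsPullback.of_hasPullback f f).flip hX hY hX hf)
  rw [pullback.diagonal_fst]
  intro U V a b k ha hb w
  rw [Category.comp_id] at w
  have : Etale k.left := (repWith_yon_map_iff _ _).1 (repWith_etale_of_comp _ b (w ▸ ha) hb)
  infer_instance

theorem isQuasiSeparatedMor_of_sp {X Y : Sp S} (f : X ⟶ Y) (hX : IsQuasiSeparatedSp X)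
    (hY : IsQuasiSeparatedSp Y) : IsQuasiSeparatedMor f := by
  rw [isQuasiSeparatedSp_iff_mor] at hX hY
  let j := (isTerminalYon S).from Y
  rw [(isTerminalYon S).hom_ext ((isTerminalYon S).from X) (f ≫ j)] at hX
  let g := pullback.mapDesc f f j
  have hg : pullback.diagonal f ≫ g = pullback.diagonal (f ≫ j) := by ext <;> simp [g]
  have : Mono g := ⟨fun a b h => pullback.hom_ext (by simpa [g] using h =≫ pullback.fst (f ≫ j) (f ≫ j))
    (by simpa [g] using h =≫ pullback.snd (f ≫ j) (f ≫ j))⟩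
  have := isIso_diagonal_of_mono g
  refine AlgSpLib.of_comp_of_diagonal (RepWith @QuasiCompact) (pullback.diagonal f) g ?_ (repWith_of_isIso _ _)
  rw [hg]
  exact hX

theorem isQuasiSeparatedSp_pullback_self {X Y : Sp S} (f : X ⟶ Y) (hX : IsQuasiSeparatedSp X)
    (hY : IsQuasiSeparatedSp Y) : IsQuasiSeparatedSp (pullback f f) := by
  have h1 := isQuasiSeparatedMor_of_isPullback (IsPullback.of_hasPullback f f).flip (isQuasiSeparatedMor_of_sp f hX hY)
  rw [isQuasiSeparatedSp_iff_mor] at hX ⊢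
  rw [(isTerminalYon S).hom_ext ((isTerminalYon S).from (pullback f f))
    (pullback.fst f f ≫ (isTerminalYon S).from X)]
  exact isQuasiSeparatedMor_comp h1 hX

theorem isQuasiCompactSp_pullback_self [QuasiSeparatedSpace ↥S] {X Y : Sp S} (hY : IsAlgSpace Y) (f : X ⟶ Y)
    (hXqc : IsQuasiCompactSp X) (hYqs : IsQuasiSeparatedSp Y) : IsQuasiCompactSp (pullback f f) := by
  obtain ⟨U, a, hU, ha, has⟩ := exists_affine_atlas hXqc
  have : IsAffine U.left := hU
  have hr : Representable (a ≫ f) := hY.representable_from_yon _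
  have sq := hr.isPullback' (a ≫ f)
  have : QuasiCompact (hr.snd (a ≫ f)).left := quasiCompact_fibreProd hYqs sq
  have : CompactSpace ↥(hr.pullback (a ≫ f)).left :=
    QuasiCompact.compactSpace_of_compactSpace (hr.snd (a ≫ f)).left
  have key : ∀ (P : MorphismProperty Scheme.{u}) [P.IsStableUnderBaseChange] [P.IsMultiplicative], RepWith P a →
      RepWith P (sq.isoPullback.hom ≫ pullback.map (a ≫ f) (a ≫ f) f f a a (𝟙 Y) (by simp) (by simp)) := by
    intro P _ _ h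
    exact repWith_comp (repWith_of_isIso P _) (MorphismProperty.pullback_map h h (by simp) (by simp))
  exact ⟨_, _, key _ ha, key _ has, inferInstance⟩

variable [QuasiSeparatedSpace ↥S] {I : Type u} [SmallCategory I] [IsCofiltered I] (D : I ⥤ Sp S)
  (hD : ∀ i, IsAlgSpace (D.obj i)) (hDa : ∀ (i j : I) (φ : i ⟶ j), IsAffineMor (D.map φ)) (c : Cone D)
  (hc : IsLimit c) {i₀ : I} {X₀ Y₀ : Space S} {f₀ : X₀.obj ⟶ Y₀.obj} {b₀ : Y₀.obj ⟶ D.obj i₀}
  (hXqc : IsQuasiCompactSp X₀.obj) (hXqs : IsQuasiSeparatedSp X₀.obj) (hYqs : IsQuasiSeparatedSp Y₀.obj)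
  {X Y : Sp S} {f : X ⟶ Y} {pY : Y ⟶ Y₀.obj} {qY : Y ⟶ c.pt}
  (hY : IsPullback pY qY b₀ (c.π.app i₀)) {pX : X ⟶ X₀.obj} (hX : IsPullback pX f f₀ pY)
  (hf₀ : LocP @LocallyOfFiniteType f₀)

include hD hDa hc hXqc hXqs hYqs hY hX hf₀ in
theorem descend_isUnivInjectiveMor (hf : IsUnivInjectiveMor f) :
    ∃ (i : I) (φ : i ⟶ i₀), ∀ (Xi Yi : Sp S) (fi : Xi ⟶ Yi) (pYi : Yi ⟶ Y₀.obj) (qYi : Yi ⟶ D.obj i)
      (_ : IsPullback pYi qYi b₀ (D.map φ)) (pXi : Xi ⟶ X₀.obj) (_ : IsPullback pXi fi f₀ pYi),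
      IsUnivInjectiveMor fi := by
  have hYA : IsAlgSpace Y := isAlgSpace_of_isPullback hY Y₀.property (isAlgSpace_limit D hD hDa c hc) (hD i₀)
  have hXA : IsAlgSpace X := isAlgSpace_of_isPullback hX X₀.property hYA Y₀.property
  have hs : IsSurjectiveMor (pullback.diagonal f) :=
    (S9938.result (X := ⟨X, hXA⟩) (Y := ⟨Y, hYA⟩) (ObjectProperty.homMk f)).2.1 hf
  obtain ⟨pP, hP₁, hP₂⟩ := exists_isPullback_self hY hX
  let P₀ : Space S := ⟨pullback f₀ f₀, isAlgSpace_pullback X₀.property X₀.property Y₀.property f₀ f₀⟩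
  obtain ⟨i, φ, h⟩ := descend_isSurjectiveMor D hDa c hc (X₀ := X₀) (Y₀ := P₀) (f₀ := pullback.diagonal f₀)
    hXqc (isQuasiCompactSp_pullback_self Y₀.property f₀ hXqc hYqs)
    (isQuasiSeparatedSp_pullback_self f₀ hXqs hYqs) hP₁ hP₂
    (locP_lfp_diagonal X₀.property Y₀.property f₀ hf₀) hs
  refine ⟨i, φ, fun Xi Yi fi pYi qYi hYi pXi hXi => ?_⟩
  have hYi' : IsAlgSpace Yi := isAlgSpace_of_isPullback hYi Y₀.property (hD i) (hD i₀)
  have hXi' : IsAlgSpace Xi := isAlgSpace_of_isPullback hXi X₀.property hYi' Y₀.property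
  obtain ⟨qP, hQ₁, hQ₂⟩ := exists_isPullback_self hYi hXi
  exact (S9938.result (X := ⟨Xi, hXi'⟩) (Y := ⟨Yi, hYi'⟩) (ObjectProperty.homMk fi)).2.2
    (h _ _ _ _ _ hQ₁ _ hQ₂)

end Groth.Agent.AlgSpDec
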