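import Groth.Agent.AlgSpDec.SymStrata
import Groth.Agent.AlgSpLib.EtLocalInst
import Groth.Agent.AlgSpLib.EtaleSmoothLocal
import Groth.Agent.AlgSpPts.Misc
import Groth.Agent.AlgSpDec.LimDescentDiag
import Groth.Prelude.Def_AlgSpEt

/-!
# Induction along elementary distinguished squares
-/

set_option backward.isDefEq.respectTransparency false
set_option backward.isDefEq.respectTransparency.types false
set_option linter.style.haveILetI false

noncomputable section

universe u

open CategoryTheory Limits Opposite AlgebraicGeometry AlgSp Groth.Agent.AlgSpLib Groth.Agent.AlgSpPts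
  Groth.Agent.AlgSpDec.ElemNbhd Groth.Agent.AlgSpDec.SymPower

namespace Groth.Agent.AlgSpDec.InductionPrinciple

variable {S : Scheme.{u}}

/-- An etale chart and an open subspace with unique lifts outside the open form an elementary distinguished
square. -/
theorem isElemDistSq_of_unique {U W : Sp S} (hW : IsAlgSpace W) {j : U ⟶ W} (hj : RepWith @IsOpenImmersion j)
    {V : Over S} (f : (yon S).obj V ⟶ W) (hf : RepWith @Etale f)
    (hcov : ∀ x, x ∉ Set.range (Points.map j) → x ∈ Set.range (Points.ofPt f))
    (huniq : ∀ (Z : Over S) (y y' : Z ⟶ V), (yon S).map y ≫ f = (yon S).map y' ≫ f →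
      (∀ z, Points.ofPt ((yon S).map y ≫ f) z ∉ Set.range (Points.map j)) → y = y') :
    IsElemDistSq j f := by
  obtain ⟨T, i, hi⟩ := exists_reduced_induced hW (isOpen_range_openImm hW hj).isClosed_compl
  have sq : IsPullback (pullback.fst i f) (pullback.snd i f) i f := IsPullback.of_hasPullback i f
  refine ⟨hj, AlgSp.isEtaleMor_of_repWith f hf, T.obj, _, i, _, _, hi, sq, ?_⟩
  have hfe : RepWith @Etale (pullback.fst i f) := repWith_of_isPullback sq.flip hf
  haveI : Mono (pullback.fst i f) := mono_of_yon_injective fun Z y y' hyy' => by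
    refine sq.hom_ext hyy' ?_
    obtain ⟨z₀, hz₀⟩ := (yon S).map_surjective (y ≫ pullback.snd i f)
    obtain ⟨z₀', hz₀'⟩ := (yon S).map_surjective (y' ≫ pullback.snd i f)
    rw [← hz₀, ← hz₀']
    refine congrArg (yon S).map (huniq Z z₀ z₀' ?_ fun z => ?_)
    · rw [hz₀, hz₀', Category.assoc, Category.assoc, ← pullback.condition]
      exact (Category.assoc _ _ _).symm.trans ((congrArg (· ≫ i) hyy').trans (Category.assoc _ _ _))
    · have e : Points.ofPt ((yon S).map z₀ ≫ f) z = Points.map i (Points.ofPt (y ≫ pullback.fst i f) z) := by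
        rw [Points.map_ofPt, hz₀, Category.assoc, ← pullback.condition, ← Category.assoc]
      rw [e]
      exact (hi.2.1.subset (Set.mem_range_self _) : _ ∈ (Set.range (Points.map j))ᶜ)
  have hfs : RepWith @Surjective (pullback.fst i f) := repWith_surjective_of_surjective hfe.rep fun t => by
    obtain ⟨v, hv⟩ := hcov _ (hi.2.1.subset (Set.mem_range_self t))
    obtain ⟨z, hz, -⟩ := exists_point_of_isPullback sq (x := t) (y := Points.ofScheme V v)
      (hv.symm.trans (Points.ofPt_eq_map_ofScheme f v))
    exact ⟨z, hz⟩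
  haveI := isLocallySurjective_of_etale_surjective hfe hfs
  exact isIso_of_mono_of_locallySurjective _

/-- A space without points is the empty scheme. -/
theorem exists_iso_of_isEmpty {E : Sp S} (hE : IsAlgSpace E) (h : IsEmpty (Points E)) :
    ∃ T : Over S, IsAffine T.left ∧ Nonempty ((yon S).obj T ≅ E) := by
  obtain ⟨T, a, ha, has⟩ := hE.atlas
  haveI : IsEmpty ↥T.left := ⟨fun t => h.false (Points.ofPt a t)⟩
  haveI : Mono a := mono_of_yon_injective fun Z y y' _ => by
    obtain ⟨y₀, hy₀⟩ := (yon S).map_surjective y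
    haveI : IsEmpty ↥Z.left := ⟨fun z => isEmptyElim (y₀.left z)⟩
    exact hom_ext_of_isEmpty y y'
  haveI := isLocallySurjective_of_etale_surjective ha has
  haveI := isIso_of_mono_of_locallySurjective a
  exact ⟨T, inferInstance, ⟨asIso a⟩⟩

variable {X : Space S}

/-- An object of the site from a chart of an object. -/
abbrev chart {W : EtSpOver X} {V : Over S} (g : (yon S).obj V ⟶ W.obj.left.obj) (hg : RepWith @Etale g) :
    EtSpOver X :=
  ⟨Over.mk (Y := (⟨(yon S).obj V, IsAlgSpace.yon_obj V⟩ : Space S))
    (ObjectProperty.homMk (g ≫ W.obj.hom.hom) : (⟨(yon S).obj V, IsAlgSpace.yon_obj V⟩ : Space S) ⟶ X),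
    AlgSpLib.isEtaleMor_comp (IsAlgSpace.yon_obj V) W.obj.left.property X.property
      (AlgSp.isEtaleMor_of_repWith g hg) W.property⟩

variable (P : EtSpOver X → Prop)

/-- `P` holds at all open subspaces with given points. -/
def OpenHas (W : EtSpOver X) (O : Set (Points W.obj.left.obj)) : Prop :=
  ∀ (E : EtSpOver X) (e : E ⟶ W), RepWith @IsOpenImmersion e.hom.left.hom →
    Set.range (Points.map e.hom.left.hom) = O → P E

variable (B : EtSpOver X → Prop)
  (h2 : ∀ (W U : EtSpOver X) (j : U ⟶ W), B W → RepWith @IsOpenImmersion j.hom.left.hom →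
    IsQuasiCompactSp U.obj.left.obj → B U)
  (h3 : ∀ (V : EtSpOver X) (T : Over S), IsAffine T.left →
    Nonempty ((yon S).obj T ≅ V.obj.left.obj) → B V ∧ P V)
  (h4 : ∀ (W U V UV : EtSpOver X) (j : U ⟶ W) (f : V ⟶ W) (p : UV ⟶ U) (q : UV ⟶ V),
    B W → IsQuasiCompactSp U.obj.left.obj →
    (∃ T : Over S, IsAffine T.left ∧ Nonempty ((yon S).obj T ≅ V.obj.left.obj)) →
    IsElemDistSq j.hom.left.hom f.hom.left.hom →
    IsPullback p.hom.left.hom q.hom.left.hom j.hom.left.hom f.hom.left.hom →
    P U → P V → P UV → P W)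

include h3 in
theorem openHas_empty (W : EtSpOver X) : OpenHas P W ∅ := by
  intro E e _ hr
  have h : IsEmpty (Points E.obj.left.obj) :=
    ⟨fun x => (hr.subset (Set.mem_range_self x) : Points.map e.hom.left.hom x ∈ (∅ : Set _))⟩
  obtain ⟨T, hT, hiso⟩ := exists_iso_of_isEmpty E.obj.left.property h
  exact (h3 E T hT hiso).2

theorem isQuasiCompactSp_of_openImm {E F : Sp S} (hE : IsAlgSpace E) (hF : IsAlgSpace F) {e : E ⟶ F}
    (he : RepWith @IsOpenImmersion e) (hc : IsCompact (Set.range (Points.map e))) : IsQuasiCompactSp E := by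
  rw [isQuasiCompactSp_iff hE]
  exact ⟨(isOpenEmbedding_map' hF he).isInducing.isCompact_iff.2 (by rwa [Set.image_univ])⟩

include h2 h3 h4 in
/-- Adding an affine chart with unique lifts to an open. -/
theorem openHas_step (W : EtSpOver X) (hW : B W) {O O' : Set (Points W.obj.left.obj)} (hO : IsOpen O)
    (hOc : IsCompact O) (hO'c : IsCompact O') {V : Over S} [IsAffine V.left]
    (g : (yon S).obj V ⟶ W.obj.left.obj) (hg : RepWith @Etale g) (hO' : O' = O ∪ Set.range (Points.ofPt g))
    (huniq : ∀ (Z : Over S) (y y' : Z ⟶ V), (yon S).map y ≫ g = (yon S).map y' ≫ g →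
      (∀ z, Points.ofPt ((yon S).map y ≫ g) z ∉ O) → y = y')
    (hV : OpenHas P (chart g hg) (Points.map g ⁻¹' O)) (hPO : OpenHas P W O) : OpenHas P W O' := by
  intro E e he her
  obtain ⟨U', jU, hU', hjU, hjUr⟩ := exists_open_subspace W.obj.left.property hO
  haveI : Mono e.hom.left.hom := mono_of_openImm he
  obtain ⟨j, hj⟩ := exists_factor_open_sp hU' he jU fun x => by
    rw [her, hO']
    exact Or.inl (hjUr.subset (Set.mem_range_self x))
  obtain ⟨f, hf⟩ := exists_factor_open he g fun v => by
    rw [her, hO']
    exact Or.inr (Set.mem_range_self v)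
  have hjo : RepWith @IsOpenImmersion j := repWith_of_comp_mono j e.hom.left.hom (by rw [hj]; exact hjU)
  have hfe : RepWith @Etale f := repWith_of_comp_mono f e.hom.left.hom (by rw [hf]; exact hg)
  have hwE : e.hom.left.hom ≫ W.obj.hom.hom = E.obj.hom.hom := congrArg (fun m => m.hom) (Over.w e.hom)
  let U : EtSpOver X := ⟨Over.mk (Y := (⟨U', hU'⟩ : Space S))
    (ObjectProperty.homMk (jU ≫ W.obj.hom.hom) : (⟨U', hU'⟩ : Space S) ⟶ X),
    AlgSpLib.isEtaleMor_comp hU' W.obj.left.property X.property
      (isEtaleMor_of_repWith_isOpenImmersion hjU) W.property⟩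
  let j' : U ⟶ E := ObjectProperty.homMk (Over.homMk (ObjectProperty.homMk j)
    (ObjectProperty.hom_ext _ (by show j ≫ E.obj.hom.hom = jU ≫ W.obj.hom.hom; rw [← hwE, ← hj, Category.assoc])))
  let jUW : U ⟶ W := ObjectProperty.homMk (Over.homMk (ObjectProperty.homMk jU) (ObjectProperty.hom_ext _ rfl))
  let f' : chart g hg ⟶ E := ObjectProperty.homMk (Over.homMk (ObjectProperty.homMk f)
    (ObjectProperty.hom_ext _ (by show f ≫ E.obj.hom.hom = g ≫ W.obj.hom.hom; rw [← hwE, ← hf, Category.assoc])))
  let R := hjo.rep.pullback f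
  let q₀ : (yon S).obj R ⟶ (yon S).obj V := (yon S).map (hjo.rep.snd f)
  have sqf : IsPullback (hjo.rep.fst f) q₀ j f := hjo.rep.isPullback f
  have hq₀ : RepWith @IsOpenImmersion q₀ := repWith_of_isPullback sqf hjo
  let UV : EtSpOver X := chart (W := chart g hg) (V := R) q₀
    (repWith_mono (fun _ _ m (_ : IsOpenImmersion m) => inferInstanceAs (Etale m)) _ hq₀)
  let q' : UV ⟶ chart g hg := ObjectProperty.homMk (Over.homMk (ObjectProperty.homMk q₀)
    (ObjectProperty.hom_ext _ rfl))
  let p' : UV ⟶ U := ObjectProperty.homMk (Over.homMk (ObjectProperty.homMk (hjo.rep.fst f))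
    (ObjectProperty.hom_ext _ (by
      show hjo.rep.fst f ≫ jU ≫ W.obj.hom.hom = q₀ ≫ g ≫ W.obj.hom.hom
      rw [← hj, ← hf, Category.assoc, Category.assoc]
      exact (Category.assoc _ _ _).symm.trans ((congrArg (· ≫ _) sqf.w).trans (Category.assoc _ _ _)))))
  have hUc : IsQuasiCompactSp U' := isQuasiCompactSp_of_openImm hU' W.obj.left.property hjU (hjUr.symm ▸ hOc)
  have hrj : ∀ x, x ∈ Set.range (Points.map j) ↔ Points.map e.hom.left.hom x ∈ O := fun x => by
    refine ⟨?_, fun hx => ?_⟩
    · rintro ⟨z, rfl⟩
      rw [← Points.map_comp, hj, ← hjUr]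
      exact Set.mem_range_self z
    · refine mem_range_of_mem_range_comp j e.hom.left.hom ?_
      rw [hj, hjUr]
      exact hx
  have hsq : IsElemDistSq j f := by
    refine isElemDistSq_of_unique E.obj.left.property hjo f hfe (fun x hx => ?_) fun Z y y' hyy' hz => ?_
    · have hx' : Points.map e.hom.left.hom x ∈ O' := her ▸ Set.mem_range_self x
      rw [hO'] at hx'
      obtain ⟨v, hv⟩ := hx'.resolve_left fun h => hx ((hrj x).2 h)
      refine ⟨v, injective_points_map_of_mono e.hom.left.hom ?_⟩
      rw [Points.map_ofPt, hf, hv]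
    · refine huniq Z y y' ?_ fun z => ?_
      · rw [← hf, ← Category.assoc, hyy', Category.assoc]
      · intro h
        refine hz z ((hrj _).2 ?_)
        rw [Points.map_ofPt, Category.assoc, hf]
        exact h
  refine h4 E U (chart g hg) UV j' f' p' q' (h2 W E e hW he ?_) hUc ⟨V, inferInstance, ⟨Iso.refl _⟩⟩ hsq sqf
    (hPO U jUW hjU hjUr) (h3 (chart g hg) V inferInstance ⟨Iso.refl _⟩).2 (hV UV q' hq₀ ?_)
  · exact isQuasiCompactSp_of_openImm E.obj.left.property W.obj.left.property he (her.symm ▸ hO'c)
  · ext x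
    constructor
    · rintro ⟨z, rfl⟩
      show Points.map g (Points.map q₀ z) ∈ O
      rw [← hf, Points.map_comp, ← Points.map_comp q₀ f, ← sqf.w, Points.map_comp]
      exact (hrj _).1 (Set.mem_range_self _)
    · intro hx
      have hx' : Points.map e.hom.left.hom (Points.map f x) ∈ O := by
        rw [← Points.map_comp, hf]; exact hx
      obtain ⟨u, hu⟩ := (hrj _).2 hx'
      obtain ⟨z, -, hz⟩ := exists_point_of_isPullback sqf hu
      exact ⟨z, hz⟩

/-- The points of a chart over an open of the scheme. -/
def ptsSet (V : Over S) (A : Set ↥V.left) : Set (Points ((yon S).obj V)) := Points.toScheme V ⁻¹' A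

theorem isOpen_ptsSet {V : Over S} {A : Set ↥V.left} (hA : IsOpen A) : IsOpen (ptsSet V A) :=
  hA.preimage (Points.schemeHomeo V).symm.continuous

theorem isCompact_ptsSet {V : Over S} {A : Set ↥V.left} (hA : IsCompact A) : IsCompact (ptsSet V A) :=
  (Points.schemeHomeo V).symm.isCompact_preimage.2 hA

include h2 h3 h4 in
theorem openHas_affine_basic (r : ℕ) : ∀ {W : EtSpOver X} {V : Over S} [IsAffine V.left]
    (g : (yon S).obj V ⟶ W.obj.left.obj) (hg : RepWith @Etale g) (F : Fin r → Γ(V.left, ⊤)),
    OpenHas P (chart g hg) (ptsSet V (⋃ i, (V.left.basicOpen (F i) : Set ↥V.left))) := by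
  induction r with
  | zero =>
    intro W V _ g hg F
    rw [Set.iUnion_of_empty, ptsSet, Set.preimage_empty]
    exact openHas_empty P B h3 _
  | succ r ih =>
    intro W V _ g hg F
    let D : V.left.Opens := V.left.basicOpen (F (Fin.last r))
    let V' : Over S := Over.mk (D.ι ≫ V.hom)
    let ι : V' ⟶ V := Over.homMk D.ι rfl
    haveI : IsAffine V'.left := (isAffineOpen_top V.left).basicOpen (F (Fin.last r))
    haveI : IsOpenImmersion ι.left := inferInstanceAs (IsOpenImmersion D.ι)
    haveI : Mono ι := (Over.forget S).mono_of_mono_map (inferInstanceAs (Mono D.ι))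
    have hι : RepWith @Etale ((yon S).map ι) := (repWith_yon_map_iff _ ι).2 (inferInstanceAs (Etale D.ι))
    let A : Set ↥V.left := ⋃ i : Fin r, (V.left.basicOpen (F i.castSucc) : Set ↥V.left)
    have hA : IsOpen A := isOpen_iUnion fun i => (V.left.basicOpen _).2
    have hAc : IsCompact A := isCompact_iUnion fun i => ((isAffineOpen_top V.left).basicOpen _).isCompact
    have hC : IsCompact (⋃ i, (V.left.basicOpen (F i) : Set ↥V.left)) :=
      isCompact_iUnion fun i => ((isAffineOpen_top V.left).basicOpen _).isCompact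
    have htop : ∀ v : ↥V'.left, Points.toScheme V (Points.ofPt ((yon S).map ι) v) = ι.left v :=
      Points.toScheme_ofPt ι
    refine openHas_step P B h2 h3 h4 (chart g hg) (h3 _ V inferInstance ⟨Iso.refl _⟩).1
      (isOpen_ptsSet hA) (isCompact_ptsSet hAc) (isCompact_ptsSet hC) ((yon S).map ι) hι ?_
      (fun Z y y' h _ => ?_) ?_ (ih g hg fun i => F i.castSucc)
    · ext x
      constructor
      · intro hx
        obtain ⟨i, hi⟩ := Set.mem_iUnion.1 (show Points.toScheme V x ∈ _ from hx)
        induction i using Fin.lastCases with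
        | last =>
          refine Or.inr ⟨⟨Points.toScheme V x, hi⟩, ?_⟩
          refine (Function.LeftInverse.injective (Points.ofScheme_toScheme V)) ?_
          exact (htop _).trans rfl
        | cast i => exact Or.inl (Set.mem_iUnion.2 ⟨i, hi⟩)
      · rintro (hx | ⟨v, rfl⟩)
        · obtain ⟨i, hi⟩ := Set.mem_iUnion.1 (show Points.toScheme V x ∈ A from hx)
          exact Set.mem_iUnion.2 ⟨i.castSucc, hi⟩
        · simp only [ptsSet, Set.mem_preimage]
          rw [htop]
          exact Set.mem_iUnion.2 ⟨Fin.last r, v.2⟩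
    · exact (cancel_mono ι).1 ((yon S).map_injective (by rw [Functor.map_comp, Functor.map_comp]; exact h))
    · have e : Points.map ((yon S).map ι) ⁻¹' ptsSet V A =
          ptsSet V' (⋃ i : Fin r, (V'.left.basicOpen (ι.left.appTop (F i.castSucc)) : Set ↥V'.left)) := by
        ext x
        have h1 : Points.toScheme V (Points.map ((yon S).map ι) x) = ι.left (Points.toScheme V' x) := by
          conv_lhs => rw [← Points.ofScheme_toScheme V' x, ← Points.ofPt_eq_map_ofScheme]
          exact htop _
        simp only [ptsSet, Set.mem_preimage]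
        rw [h1]
        simp only [A, Set.mem_iUnion]
        refine exists_congr fun i => ?_
        have h2 := Scheme.preimage_basicOpen ι.left (F i.castSucc) (U := ⊤)
        exact (Iff.of_eq (congrArg (fun O : V'.left.Opens => Points.toScheme V' x ∈ O) h2))
      rw [e]
      exact ih _ _ _

include h2 h3 h4 in
theorem openHas_affine {W : EtSpOver X} {V : Over S} [IsAffine V.left] (g : (yon S).obj V ⟶ W.obj.left.obj)
    (hg : RepWith @Etale g) {O : Set (Points ((yon S).obj V))} (hO : IsOpen O) (hOc : IsCompact O) :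
    OpenHas P (chart g hg) O := by
  let A : V.left.Opens := ⟨Points.schemeHomeo V ⁻¹' O, hO.preimage (Points.schemeHomeo V).continuous⟩
  have hAc : IsCompact (A : Set ↥V.left) := (Points.schemeHomeo V).isCompact_preimage.2 hOc
  choose F hF hFx using fun x : A => (isAffineOpen_top V.left).exists_basicOpen_le (V := A) ⟨x.1, x.2⟩ trivial
  obtain ⟨t, ht⟩ := hAc.elim_finite_subcover (fun x => (V.left.basicOpen (F x) : Set ↥V.left))
    (fun x => (V.left.basicOpen _).2) fun y hy => Set.mem_iUnion.2 ⟨⟨y, hy⟩, hFx ⟨y, hy⟩⟩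
  have e : O = ptsSet V (⋃ i, (V.left.basicOpen (F (t.equivFin.symm i).1) : Set ↥V.left)) := by
    ext x
    have hx : Points.schemeHomeo V (Points.toScheme V x) = x := Points.ofScheme_toScheme V x
    simp only [ptsSet, Set.mem_preimage]
    constructor
    · intro h
      obtain ⟨a, ha, ha'⟩ := Set.mem_iUnion₂.1 (ht (show Points.toScheme V x ∈ A by
        show Points.schemeHomeo V (Points.toScheme V x) ∈ O; rw [hx]; exact h))
      exact Set.mem_iUnion.2 ⟨t.equivFin ⟨a, ha⟩, by rw [Equiv.symm_apply_apply]; exact ha'⟩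
    · intro h
      obtain ⟨i, hi⟩ := Set.mem_iUnion.1 h
      have := hF _ hi
      rw [← hx]
      exact this
  rw [e]
  exact openHas_affine_basic P B h2 h3 h4 _ g hg _

theorem range_ofPt_open {F : Sp S} {M : Over S} (m : (yon S).obj M ⟶ F) (A : M.left.Opens)
    (ι : Over.mk (A.ι ≫ M.hom) ⟶ M) (hι : ι.left = A.ι) :
    Set.range (Points.ofPt ((yon S).map ι ≫ m)) = Points.ofPt m '' (A : Set M.left) := by
  rw [← Scheme.Opens.range_ι A, ← Set.range_comp]
  refine congrArg Set.range (funext fun v => ?_)
  rw [ofPt_comp, hι]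
  rfl

set_option maxHeartbeats 800000 in
include h2 h3 h4 in
/-- Induction along elementary distinguished squares. -/
theorem induction_principle [QuasiSeparatedSpace ↥S]
    (h1 : ∀ W, B W → IsQuasiCompactSp W.obj.left.obj ∧ IsQuasiSeparatedSp W.obj.left.obj)
    (W : EtSpOver X) (hW : B W) : P W := by
  obtain ⟨hqc, hqs⟩ := h1 W hW
  let Y : Space S := W.obj.left
  obtain ⟨U, a, hU, ha, has⟩ := exists_affine_atlas hqc
  haveI := hU
  haveI := isSeparated_snd ha (inferInstance : U.left.IsSeparated)
  have hq := SymPower.quasiCompact_snd hqs ha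
  haveI := hq
  haveI : CompactSpace ↥(ha.rep.pullback a).left :=
    QuasiCompact.compactSpace_of_compactSpace (ha.rep.snd a).left
  haveI : Etale (ha.rep.snd a).left := ha.property_snd _
  obtain ⟨d, hd⟩ := exists_degLE_of_etale (ha.rep.snd a).left
  have hlc : ∀ n, IsCompact (locus a (n + 1)) := fun n => by
    obtain ⟨Tu⟩ := nonempty_tuples ha n
    haveI := Tu.qc hq
    haveI : CompactSpace ↥Tu.W.left := QuasiCompact.compactSpace_of_compactSpace (Tu.pr 0).left
    rw [← Tu.range_π]
    exact isCompact_range (Points.continuous_ofPt _)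
  have hlast : locus a (d + 1) = ∅ := Set.eq_empty_of_forall_notMem fun x hx => by
    obtain ⟨u, rfl⟩ := surjective_ofPt has x
    have := le_of_mem_locus W.obj.left.property ha a hd u hx
    omega
  have key : ∀ k n, d = n + k → OpenHas P W (locus a (n + 1)) := by
    intro k
    induction k with
    | zero =>
      intro n hn
      obtain rfl : n = d := by omega
      rw [hlast]
      exact openHas_empty P B h3 W
    | succ k ih =>
      intro n hn
      have hnext : OpenHas P W (locus a (n + 1 + 1)) := ih (n + 1) (by omega)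
      obtain ⟨Tu⟩ := nonempty_tuples ha n
      obtain ⟨M, q, m, hM, hqsurj, hqe, hm, hqm, hMc, hinv⟩ := exists_symPower W.obj.left.property ha Tu
      haveI := hMc hq
      have hmr : Set.range (Points.ofPt m) = locus a (n + 1) := by
        rw [← Tu.range_π]
        ext x
        constructor
        · rintro ⟨z, rfl⟩
          obtain ⟨w, rfl⟩ := q.left.surjective z
          exact ⟨w, by rw [← hqm, ofPt_comp]⟩
        · rintro ⟨w, rfl⟩
          exact ⟨q.left w, by rw [← hqm, ofPt_comp]⟩
      choose A hA hxA using fun x : M.left => Groth.Agent.GrpdLib.exists_affineOpen_mem x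
      obtain ⟨t, ht⟩ := isCompact_univ.elim_finite_subcover (fun x => (A x : Set M.left)) (fun x => (A x).2)
        fun x _ => Set.mem_iUnion.2 ⟨x, hxA x⟩
      classical
      have haux : ∀ t : Finset M.left,
          OpenHas P W (locus a (n + 1 + 1) ∪ ⋃ x ∈ t, Points.ofPt m '' (A x : Set M.left)) ∧
          IsOpen (locus a (n + 1 + 1) ∪ ⋃ x ∈ t, Points.ofPt m '' (A x : Set M.left)) ∧
          IsCompact (locus a (n + 1 + 1) ∪ ⋃ x ∈ t, Points.ofPt m '' (A x : Set M.left)) := by
        intro t
        induction t using Finset.induction_on with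
        | empty => simp only [Finset.notMem_empty, Set.iUnion_of_empty, Set.iUnion_empty, Set.union_empty]; exact ⟨hnext, isOpen_locus ha _, hlc _⟩
        | @insert x t hxt iht =>
          obtain ⟨hP, hOo, hOc⟩ := iht
          let V : Over S := Over.mk ((A x).ι ≫ M.hom)
          let ι : V ⟶ M := Over.homMk (A x).ι rfl
          haveI : IsAffine V.left := hA x
          haveI : Mono ι := (Over.forget S).mono_of_mono_map (inferInstanceAs (Mono (A x).ι))
          let g := (yon S).map ι ≫ m
          have hg : RepWith @Etale g :=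
            repWith_comp ((repWith_yon_map_iff _ ι).2 (inferInstanceAs (Etale (A x).ι))) hm
          have hgr : Set.range (Points.ofPt g) = Points.ofPt m '' (A x : Set M.left) :=
            range_ofPt_open m (A x) ι rfl
          have hgc : IsCompact (Set.range (Points.ofPt g)) := isCompact_range (Points.continuous_ofPt _)
          have e : (locus a (n + 1 + 1) ∪ ⋃ y ∈ insert x t, Points.ofPt m '' (A y : Set M.left)) =
              (locus a (n + 1 + 1) ∪ ⋃ y ∈ t, Points.ofPt m '' (A y : Set M.left)) ∪ Set.range (Points.ofPt g) := by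
            rw [hgr, Finset.set_biUnion_insert, Set.union_assoc]
            congr 1
            exact Set.union_comm _ _
          rw [e]
          refine ⟨?_, hOo.union (hgr ▸ isOpenMap_ofPt hm _ (A x).2), hOc.union hgc⟩
          refine openHas_step P B h2 h3 h4 W hW hOo hOc (hOc.union hgc) g hg rfl (fun Z y y' h hz => ?_) ?_ hP
          · refine (cancel_mono ι).1 (eq_of_notMem_locus W.obj.left.property ha Tu hM q m hm hqm hinv _ _ ?_ ?_)
            · rw [Functor.map_comp, Functor.map_comp, Category.assoc, Category.assoc]; exact h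
            · intro z hz'
              refine hz z (Or.inl ?_)
              rwa [Functor.map_comp, Category.assoc] at hz'
          · haveI : QuasiCompact (hg.rep.snd g).left := SymPower.quasiCompact_snd hqs hg
            refine openHas_affine P B h2 h3 h4 g hg (hOo.preimage (Points.continuous_map g)) ?_
            -- compactness of preimages
            obtain ⟨U', jU, hU', hjU, hjUr⟩ := exists_open_subspace W.obj.left.property hOo
            have hUc := isQuasiCompactSp_of_openImm hU' W.obj.left.property hjU (hjUr.symm ▸ hOc)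
            have sq := hjU.rep.isPullback g
            have hqcg : IsQuasiCompactMor g := isQuasiCompactMor_of_qc_qs (IsAlgSpace.yon_obj V)
              W.obj.left.property ((isQuasiCompactSp_yon_iff V).2 inferInstance) hqs g
            have hR := hqcg hU' hUc jU _ _ sq.flip
            haveI := (isQuasiCompactSp_iff (IsAlgSpace.yon_obj _)).1 hR
            have e' : Points.map g ⁻¹' (locus a (n + 1 + 1) ∪ ⋃ y ∈ t, Points.ofPt m '' (A y : Set M.left)) =
                Set.range (Points.map ((yon S).map (hjU.rep.snd g))) := by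
              rw [← hjUr]
              ext v
              constructor
              · rintro ⟨u, hu⟩
                obtain ⟨z, -, hz⟩ := exists_point_of_isPullback sq hu
                exact ⟨z, hz⟩
              · rintro ⟨z, rfl⟩
                refine ⟨Points.map (hjU.rep.fst g) z, ?_⟩
                rw [← Points.map_comp, ← Points.map_comp, sq.w]
            rw [e']
            exact isCompact_range (Points.continuous_map _)
      obtain ⟨hP, -, -⟩ := haux t
      convert hP using 1
      refine Set.Subset.antisymm ?_ (Set.union_subset (locus_antitone (Nat.le_succ _)) ?_)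
      · rw [← hmr]
        rintro _ ⟨z, rfl⟩
        obtain ⟨x, hx, hz⟩ := Set.mem_iUnion₂.1 (ht (Set.mem_univ z))
        exact Or.inr (Set.mem_iUnion₂.2 ⟨x, hx, z, hz, rfl⟩)
      · rw [← hmr]
        exact Set.iUnion₂_subset fun x _ => Set.image_subset_range _ _
  refine key d 0 (by omega) W (𝟙 W) (repWith_id_openImmersion _) ?_
  rw [locus_one has]
  exact Set.eq_univ_of_forall fun x => ⟨x, Points.map_id x⟩

/-- Affine objects are quasi-compact and quasi-separated. -/
theorem qcqs_of_iso_affine [QuasiSeparatedSpace ↥S] {W : Sp S} (hW : IsAlgSpace W) {T : Over S} (hT : IsAffine T.left)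
    (e : (yon S).obj T ≅ W) : IsQuasiCompactSp W ∧ IsQuasiSeparatedSp W := by
  haveI : CompactSpace (Points ((yon S).obj T)) :=
    (Points.schemeHomeo T).compactSpace
  refine ⟨(isQuasiCompactSp_iff hW).2 ?_, isQuasiSeparatedSp_of_mono e.inv
    ((isQuasiSeparatedSp_yon_iff' T).2 (quasiSeparated_hom_of_affine T))⟩
  exact Function.Surjective.compactSpace (Points.continuous_map e.hom)
    (fun w => ⟨Points.map e.inv w, by rw [← Points.map_comp, e.inv_hom_id, Points.map_id]⟩)

end Groth.Agent.AlgSpDec.InductionPrinciple
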