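import Mathlib.FieldTheory.IsAlgClosed.Classification
import Mathlib.RingTheory.AlgebraicIndependent.TranscendenceBasis
import Groth.Agent.AlgSpDec.ResTrdeg
import Groth.Agent.AlgSpPts.Geom

/-!
# Points with values in a large algebraically closed field
-/

set_option backward.isDefEq.respectTransparency false
set_option backward.isDefEq.respectTransparency.types false

universe u

open Cardinal CategoryTheory CategoryTheory.Limits AlgebraicGeometry AlgSp Groth.Agent.AlgSpLib Groth.Agent.AlgSpPts

namespace Groth.Agent.AlgSpDec.LargeFieldPoints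

theorem exists_algHom_of_card_lt (k L K : Type u) [Field k] [Field L] [Field K] [IsAlgClosed K] [Algebra k L]
    [Algebra k K] (h : #L < #K) : Nonempty (L →ₐ[k] K) := by
  obtain ⟨s, hs⟩ := exists_isTranscendenceBasis k L
  obtain ⟨t, ht⟩ := exists_isTranscendenceBasis k K
  have hst : #s ≤ #t := by
    rcases isEmpty_or_nonempty s with he | ⟨⟨x⟩⟩
    · simp
    · have hinf : ℵ₀ ≤ #L := by
        have : Infinite (MvPolynomial s k) := by have : Nonempty s := ⟨x⟩; infer_instance
        exact (Cardinal.aleph0_le_mk (MvPolynomial s k)).trans (mk_le_of_injective hs.1)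
      have hk : #k ≤ #L := mk_le_of_injective (algebraMap k L).injective
      refine ((mk_subtype_le _).trans h.le).trans ?_
      by_contra hlt
      rw [not_le] at hlt
      have h1 := IsAlgClosed.cardinal_le_max_transcendence_basis' (Subtype.val : t → K) ht
      exact absurd h1 (not_le.2 (max_lt (max_lt (hk.trans_lt h) hlt) (hinf.trans_lt h)))
  obtain ⟨i⟩ := Cardinal.le_def _ _ |>.1 hst
  let φ : MvPolynomial s k →ₐ[k] K := MvPolynomial.aeval fun x => (i x : K)
  have hφ : Function.Injective φ := ht.1.comp i i.injective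
  let B := Algebra.adjoin k (Set.range (Subtype.val : s → L))
  let g : B →ₐ[k] K := φ.comp hs.1.aevalEquiv.symm.toAlgHom
  have hg : Function.Injective g := hφ.comp hs.1.aevalEquiv.symm.injective
  letI := g.toRingHom.toAlgebra
  haveI : IsScalarTower k B K := .of_algebraMap_eq fun c => (g.commutes c).symm
  haveI : FaithfulSMul B K := (faithfulSMul_iff_algebraMap_injective _ _).mpr hg
  haveI : Module.IsTorsionFree B K := inferInstance
  haveI : Module.IsTorsionFree B L := inferInstance
  haveI : Algebra.IsAlgebraic B L := hs.isAlgebraic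
  exact ⟨(IsAlgClosed.lift : L →ₐ[B] K).restrictScalars k⟩

variable {S : Scheme.{u}}

theorem exists_geometric_lift {X Y : Sp S} (f : X ⟶ Y) (hY : IsAlgSpace Y)
    {U : Over S} (a : (yon S).obj U ⟶ X) (has : RepWith @Surjective a) (ybar : FieldPt Y) (hy : ybar.IsGeometric)
    (hk : ∀ u : ↥U.left, #↥(U.left.residueField u) < #ybar.K)
    (x : Points X) (hx : Points.map f x = Points.mk ybar) :
    ∃ xbar : (yon S).obj ybar.pt ⟶ X, xbar ≫ f = ybar.toHom ∧
      Points.ofPt xbar (IsLocalRing.closedPoint ybar.K) = x := by
  have : IsAlgClosed ybar.K := hy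
  obtain ⟨V, b, hb, hbs⟩ := hY.atlas
  obtain ⟨v, hv⟩ := surjective_ofPt hbs (Points.mk ybar)
  obtain ⟨l, hl, -⟩ := exists_lift_geometric (IsAlgSpace.yon_obj V) hY (f := b) (locP_of_repWith hb)
    ybar.toHom (u := Points.ofScheme _ v) (by rw [← Points.ofPt_eq_map_ofScheme, hv, Points.ofPt_toHom])
  obtain ⟨k, rfl⟩ := (yon S).map_surjective l
  obtain ⟨u, rfl⟩ := surjective_ofPt has x
  let W := hb.rep.pullback (a ≫ f)
  let π : W ⟶ U := hb.rep.snd (a ≫ f)
  let h : W ⟶ V := hb.rep.fst' (a ≫ f)
  have sq := hb.rep.isPullback' (a ≫ f)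
  haveI : Etale π.left := hb.property_snd _
  let kl : Spec (CommRingCat.of ybar.K) ⟶ V.left := k.left
  let v0 := kl (IsLocalRing.closedPoint ybar.K)
  have hv0 : Points.map (a ≫ f) (Points.ofScheme U u) = Points.map b (Points.ofScheme V v0) := by
    rw [← Points.ofPt_eq_map_ofScheme, ← Points.ofPt_eq_map_ofScheme, ← Points.map_ofPt, hx,
      ← Points.ofPt_toHom ybar (IsLocalRing.closedPoint ybar.K), ← hl, ofPt_comp]
    rfl
  obtain ⟨z, hz1, hz2⟩ := exists_point_of_isPullback sq hv0.symm
  obtain ⟨w, rfl⟩ : ∃ w, Points.ofScheme W w = z := (Points.schemeEquiv W).surjective z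
  have hw2 : π.left w = u := (Points.schemeEquiv U).injective (by
    show Points.ofScheme U (π.left w) = Points.ofScheme U u
    rw [← hz2, ← Points.ofPt_eq_map_ofScheme, ← Category.comp_id ((yon S).map π), ofPt_comp])
  have hw1 : h.left w = v0 := (Points.schemeEquiv V).injective (by
    show Points.ofScheme V (h.left w) = Points.ofScheme V v0
    rw [← hz1, ← Points.ofPt_eq_map_ofScheme, ← Category.comp_id ((yon S).map h), ofPt_comp])
  -- the residue field of `w` is small
  have hfin := CycLib.finite_residueFieldMap_of_rd_eq_zero π.left w (FibDim.rd_eq_zero_of_quasiFinite π.left w)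
  letI := (π.left.residueFieldMap w).hom.toAlgebra
  have : Module.Finite (U.left.residueField (π.left w)) (W.left.residueField w) := hfin
  have hcard : #↥(W.left.residueField w) < #ybar.K := by
    haveI : Infinite ybar.K := IsAlgClosed.instInfinite
    rcases finite_or_infinite ↥(U.left.residueField (π.left w)) with hF | hF
    · have : Finite ↥(W.left.residueField w) := Module.finite_of_finite ↥(U.left.residueField (π.left w))
      exact (Cardinal.lt_aleph0_of_finite _).trans_le (Cardinal.aleph0_le_mk _)
    · refine lt_of_le_of_lt (Algebra.IsAlgebraic.cardinalMk_le_max ↥(U.left.residueField (π.left w)) _) ?_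
      exact max_lt (hk _) ((Cardinal.aleph0_le_mk _).trans_lt (hk (π.left w)))
  -- embed it over the residue field of `v0`
  letI : Algebra ↥(V.left.residueField (h.left w)) ↥(W.left.residueField w) := (h.left.residueFieldMap w).hom.toAlgebra
  letI : Algebra ↥(V.left.residueField (h.left w)) ybar.K :=
    ((V.left.residueFieldCongr hw1).hom ≫
      Scheme.descResidueField (Scheme.stalkClosedPointTo kl)).hom.toAlgebra
  obtain ⟨φ⟩ := exists_algHom_of_card_lt ↥(V.left.residueField (h.left w)) ↥(W.left.residueField w) ybar.K hcard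
  let s : Spec (CommRingCat.of ybar.K) ⟶ W.left :=
    Spec.map (CommRingCat.ofHom φ.toRingHom) ≫ W.left.fromSpecResidueField w
  have hs : s ≫ h.left = kl := by
    rw [Category.assoc, ← Scheme.Hom.SpecMap_residueFieldMap_fromSpecResidueField, ← Category.assoc, ← Spec.map_comp,
      show h.left.residueFieldMap w ≫ CommRingCat.ofHom φ.toRingHom = (V.left.residueFieldCongr hw1).hom ≫
        Scheme.descResidueField (Scheme.stalkClosedPointTo kl) from
          CommRingCat.hom_ext (RingHom.ext fun c => φ.commutes c),
      Spec.map_comp, Category.assoc, Scheme.residueFieldCongr_fromSpecResidueField]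
    exact Scheme.descResidueField_stalkClosedPointTo_fromSpecResidueField ybar.K V.left kl
  let sW : ybar.pt ⟶ W := CategoryTheory.Over.homMk s (by
    show s ≫ W.hom = ybar.pt.hom
    rw [← Over.w h, ← Category.assoc, hs]
    exact Over.w k)
  have hsW : sW ≫ h = k := Over.OverMorphism.ext hs
  refine ⟨(yon S).map sW ≫ (yon S).map π ≫ a, ?_, ?_⟩
  · rw [Category.assoc, Category.assoc, ← sq.w, ← Functor.map_comp_assoc, hsW, hl]
  · rw [ofPt_comp, ofPt_comp]
    congr 1
    rw [show sW.left (IsLocalRing.closedPoint ybar.K) = w by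
      show (Spec.map (CommRingCat.ofHom φ.toRingHom) ≫ W.left.fromSpecResidueField w) _ = w
      rw [Scheme.Hom.comp_apply]
      exact Scheme.fromSpecResidueField_apply w _]
    exact hw2

end Groth.Agent.AlgSpDec.LargeFieldPoints
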