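import Groth.Agent.AlgSpDec.TripleLoci
import Groth.Agent.KRegLib.FlatBase
import Groth.Agent.KRegLib.Descend
import Groth.Agent.CurvLocusLib.LocP
import Groth.Agent.S9699

/-!
# The Koszul locus of a morphism over a base
-/

set_option autoImplicit false
set_option linter.style.haveILetI false
set_option backward.isDefEq.respectTransparency false
set_option backward.isDefEq.respectTransparency.types false

universe u

open CategoryTheory CategoryTheory.Limits AlgebraicGeometry AlgSp Groth.Agent.AlgSpLib Groth.Agent.AlgSpPts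
open Groth.Agent.KRegLib (IsLCI' forall_isKoszulAt_iff)

namespace Groth.Agent.AlgSpDec.LciLocus

open Groth.Agent.AlgSpDec

theorem isLCI'_of_smooth {X Y : Scheme.{u}} (e : X ⟶ Y) [Smooth e] : IsLCI' e :=
  (forall_isKoszulAt_iff e).1 fun x => CurvLocusLib.isKoszulAt_of_smooth e x

/-- Koszul at a point means Koszul on an open neighbourhood. -/
theorem isKoszulAt_iff_nhd {X Y : Scheme.{u}} (f : X ⟶ Y) (x : X) :
    Synt.IsKoszulAt f x ↔ ∃ W : X.Opens, x ∈ W ∧ IsLCI' (W.ι ≫ f) := by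
  constructor
  · intro h
    obtain ⟨V, U, hx, e, hq⟩ := KRegLib.exists_chart_of_isKoszulAt f x h
    refine ⟨U.1, hx, ?_⟩
    rw [← f.resLE_comp_ι e]
    refine MorphismProperty.comp_mem _ _ _ ?_ (isLCI'_of_smooth V.1.ι)
    have : IsAffine U.1.toScheme := U.2
    have : IsAffine V.1.toScheme := V.2
    rw [HasRingHomProperty.iff_of_isAffine (P := IsLCI'.{u})]
    exact (KRegLib.lci_propertyIsLocal.respectsIso.arrow_mk_iso_iff (arrowResLEAppIso f V.1 U.1 e)).2 hq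
  · rintro ⟨W, hx, hW⟩
    obtain ⟨V, hV, hxV, -⟩ := exists_isAffineOpen_mem_and_subset (U := ⊤) (x := f x) trivial
    obtain ⟨U, hU, hxU, hle⟩ := exists_isAffineOpen_mem_and_subset (U := W ⊓ f ⁻¹ᵁ V) (x := x) ⟨hx, hxV⟩
    have hUW : U ≤ W := fun z hz => (hle hz).1
    have hUV : U ≤ f ⁻¹ᵁ V := fun z hz => (hle hz).2
    refine KRegLib.isKoszulAt_of_chart f x U hU V hV hUV hxU ?_
    have h1 : IsLCI' (U.ι ≫ f) := by
      rw [← X.homOfLE_ι hUW, Category.assoc]
      exact MorphismProperty.comp_mem _ _ _ (isLCI'_of_smooth (X.homOfLE hUW)) hW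
    have h2 : IsLCI' (f.resLE V U hUV ≫ V.ι) := by rwa [Scheme.Hom.resLE_comp_ι]
    have : IsAffine U.toScheme := hU
    have : IsAffine V.toScheme := hV
    have h3 : IsLCI' (f.resLE V U hUV) := (forall_isKoszulAt_iff _).1
      (KRegLib.isKoszulAt_of_comp_smooth (f.resLE V U hUV) V.ι ((forall_isKoszulAt_iff _).2 h2))
    rw [HasRingHomProperty.iff_of_isAffine (P := IsLCI'.{u})] at h3
    exact (KRegLib.lci_propertyIsLocal.respectsIso.arrow_mk_iso_iff (arrowResLEAppIso f V U hUV)).1 h3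

theorem isOpen_koszul {X Y : Scheme.{u}} (f : X ⟶ Y) : IsOpen {x | Synt.IsKoszulAt f x} := by
  rw [isOpen_iff_forall_mem_open]
  intro x hx
  obtain ⟨W, hxW, hW⟩ := (isKoszulAt_iff_nhd f x).1 hx
  exact ⟨W, fun z hz => (isKoszulAt_iff_nhd f z).2 ⟨W, hz, hW⟩, W.2, hxW⟩

theorem koszul_etale_comp {X Y Z : Scheme.{u}} (e : X ⟶ Y) [Etale e] (g : Y ⟶ Z) (x : X) :
    Synt.IsKoszulAt (e ≫ g) x ↔ Synt.IsKoszulAt g (e x) := by
  constructor
  · intro h
    obtain ⟨U, hx, hU⟩ := (isKoszulAt_iff_nhd _ _).1 h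
    let V : Y.Opens := ⟨_, e.isOpenMap _ U.2⟩
    have hle : U ≤ e ⁻¹ᵁ V := fun z hz => ⟨z, hz, rfl⟩
    refine (isKoszulAt_iff_nhd _ _).2 ⟨V, ⟨x, hx, rfl⟩, (forall_isKoszulAt_iff _).1 ?_⟩
    have : Surjective (e.resLE V U hle) := ⟨by
      rintro ⟨_, z, hz, rfl⟩
      exact ⟨⟨z, hz⟩, Subtype.ext (Scheme.Hom.coe_resLE_apply _ _ _)⟩⟩
    refine KRegLib.isKoszulAt_of_syntomic_precomp (e.resLE V U hle) (S9699.result _) _ ?_
    refine (forall_isKoszulAt_iff _).2 ?_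
    rw [Scheme.Hom.resLE_comp_ι_assoc]
    exact hU
  · intro h
    obtain ⟨V, hx, hV⟩ := (isKoszulAt_iff_nhd _ _).1 h
    refine (isKoszulAt_iff_nhd _ _).2 ⟨e ⁻¹ᵁ V, hx, ?_⟩
    rw [← morphismRestrict_ι_assoc]
    exact MorphismProperty.comp_mem _ _ _ (isLCI'_of_smooth _) hV

theorem koszul_comp_etale {X Y Z : Scheme.{u}} (g : X ⟶ Y) (j : Y ⟶ Z) [Etale j] (x : X) :
    Synt.IsKoszulAt (g ≫ j) x ↔ Synt.IsKoszulAt g x := by
  rw [isKoszulAt_iff_nhd, isKoszulAt_iff_nhd]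
  refine exists_congr fun U => and_congr_right fun _ => ⟨fun hU => ?_, fun hU => ?_⟩
  · exact (forall_isKoszulAt_iff _).1 (KRegLib.isKoszulAt_of_comp_smooth (U.ι ≫ g) j
      ((forall_isKoszulAt_iff _).2 (by rw [Category.assoc]; exact hU)))
  · rw [← Category.assoc]
    exact MorphismProperty.comp_mem _ _ _ hU (isLCI'_of_smooth j)

variable {S : Scheme.{u}}

/-- The Koszul points of a morphism of spaces. -/
def koszulSet {F G : Sp S} (f : F ⟶ G) : Set (Points F) :=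
  {x | HasAtMor (fun _ _ h u => Synt.IsKoszulAt h u) f x}

theorem isOpen_koszulSet {F G : Sp S} (f : F ⟶ G) : IsOpen (koszulSet f) := by
  rw [isOpen_iff_forall_mem_open]
  rintro x ⟨U, V, a, b, h, u, ha, hb, w, hx, hu⟩
  refine ⟨Points.ofPt a '' {u' | Synt.IsKoszulAt h.left u'}, ?_,
    isOpenMap_ofPt ha _ (isOpen_koszul h.left), u, hu, hx⟩
  rintro _ ⟨u', hu', rfl⟩
  exact ⟨U, V, a, b, h, u', ha, hb, w, rfl, hu'⟩

theorem mem_koszulSet_iff {F G : Sp S} {f : F ⟶ G} {U V : Over S} {a : (yon S).obj U ⟶ F}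
    {b : (yon S).obj V ⟶ G} {h : U ⟶ V} (ha : RepWith @Etale a) (hb : RepWith @Etale b)
    (w : a ≫ f = (yon S).map h ≫ b) (u : U.left) :
    Points.ofPt a u ∈ koszulSet f ↔ Synt.IsKoszulAt h.left u := by
  refine ⟨?_, fun hu => ⟨U, V, a, b, h, u, ha, hb, w, rfl, hu⟩⟩
  rintro ⟨U', V', a', b', h', u', ha', hb', w', he, hu'⟩
  let pa : ha.rep.pullback a' ⟶ U := ha.rep.fst' a'
  let pa' : ha.rep.pullback a' ⟶ U' := ha.rep.snd a'
  let wb : hb.rep.pullback b' ⟶ V := hb.rep.fst' b'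
  let wb' : hb.rep.pullback b' ⟶ V' := hb.rep.snd b'
  have sqA := ha.rep.isPullback' a'
  have sqB := hb.rep.isPullback' b'
  obtain ⟨z, hz, hz'⟩ := exists_ofPt_of_eq sqA he.symm
  haveI : Etale pa'.left := ha.property_snd a'
  haveI : Etale pa.left := ha'.property _ _ _ sqA.flip
  haveI : Etale wb'.left := hb.property_snd b'
  haveI : Etale wb.left := hb'.property _ _ _ sqB.flip
  have hc : (yon S).map (pa ≫ h) ≫ b = (yon S).map (pa' ≫ h') ≫ b' := by
    rw [(yon S).map_comp pa h, (yon S).map_comp pa' h', Category.assoc, Category.assoc, ← w, ← w',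
      ← Category.assoc, sqA.w, Category.assoc]
  obtain ⟨k, hk⟩ := (yon S).map_surjective (sqB.lift _ _ hc)
  have hk₁ : k ≫ wb = pa ≫ h := (yon S).map_injective (by
    rw [(yon S).map_comp k wb, hk]; exact sqB.lift_fst _ _ _)
  have hk₂ : k ≫ wb' = pa' ≫ h' := (yon S).map_injective (by
    rw [(yon S).map_comp k wb', hk]; exact sqB.lift_snd _ _ _)
  rw [← hz, ← koszul_etale_comp pa.left h.left z, ← Over.comp_left, ← hk₁, Over.comp_left, koszul_comp_etale,
    ← koszul_comp_etale k.left wb'.left, ← Over.comp_left, hk₂, Over.comp_left, koszul_etale_comp, hz']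
  exact hu'

theorem isLCIMor_iff {F G : Sp S} (hF : IsAlgSpace F) (hG : IsAlgSpace G) (f : F ⟶ G) :
    IsLCIMor f ↔ ∀ x, x ∈ koszulSet f := by
  constructor
  · intro hf x
    obtain ⟨U, V, a, b, h, ha, ha', hb, -, w⟩ := exists_chart hF hG f
    obtain ⟨u, rfl⟩ := surjective_ofPt ha' x
    exact (mem_koszulSet_iff ha hb w u).2 (hf a b h ha hb w u)
  · intro H U V a b h ha hb w u
    exact (mem_koszulSet_iff ha hb w u).1 (H _)

theorem koszulSet_baseChange {X Y Z X' Y' Z' : Sp S} (hX : IsAlgSpace X) (hY : IsAlgSpace Y) (hZ : IsAlgSpace Z)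
    (hZ' : IsAlgSpace Z') (f : X ⟶ Y) (q : Y ⟶ Z) (hp1 : LocP @Flat (f ≫ q))
    (hp2 : LocP @LocallyOfFinitePresentation (f ≫ q)) (hq1 : LocP @Flat q)
    (hq2 : LocP @LocallyOfFinitePresentation q) {g : Z' ⟶ Z} {gY : Y' ⟶ Y} {q' : Y' ⟶ Z'} {gX : X' ⟶ X}
    {f' : X' ⟶ Y'} (sY : IsPullback gY q' q g) (sX : IsPullback gX f' f gY) (x' : Points X') :
    x' ∈ koszulSet f' ↔ Points.map gX x' ∈ koszulSet f := by
  obtain ⟨W, w, hw, hws⟩ := hZ.atlas
  obtain ⟨V, e, k, he, hes, hk⟩ := exists_chart_over hY hZ q w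
  have hb : RepWith @Etale (e ≫ pullback.fst q w) := repWith_comp he (repWith_fst q hw)
  obtain ⟨U, eX, m, heX, heXs, hm⟩ := exists_chart_over hX hY f (e ≫ pullback.fst q w)
  have ha : RepWith @Etale (eX ≫ pullback.fst f _) := repWith_comp heX (repWith_fst f hb)
  have wk : (e ≫ pullback.fst q w) ≫ q = (yon S).map k ≫ w := by
    rw [Category.assoc, pullback.condition, ← Category.assoc, hk]
  have wm : (eX ≫ pullback.fst f _) ≫ f = (yon S).map m ≫ (e ≫ pullback.fst q w) := by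
    rw [Category.assoc, pullback.condition, ← Category.assoc, hm]
  have wmk : (eX ≫ pullback.fst f _) ≫ f ≫ q = (yon S).map (m ≫ k) ≫ w := by
    rw [← Category.assoc, wm, Category.assoc, wk, Functor.map_comp, Category.assoc]
  obtain ⟨W', e₀, cW, he₀, hes₀, hcW⟩ := exists_chart_over hZ' hZ g w
  have hw' : RepWith @Etale (e₀ ≫ pullback.fst g w) := repWith_comp he₀ (repWith_fst g hw)
  have hws' : RepWith @Surjective (e₀ ≫ pullback.fst g w) := repWith_comp hes₀ (repWith_fst g hws)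
  have hcw : (e₀ ≫ pullback.fst g w) ≫ g = (yon S).map cW ≫ w := by
    rw [Category.assoc, pullback.condition, ← Category.assoc, hcW]
  obtain ⟨V', cV, k', b', sV, hb', hbs', hbk', hbc⟩ :=
    exists_chart_baseChange sY hcw hk he hes hw' hws'
  obtain ⟨U', cU, m', a', sU, ha', has', ham', hac⟩ :=
    exists_chart_baseChange sX hbc hm heX heXs hb' hbs'
  obtain ⟨u', rfl⟩ := surjective_ofPt has' x'
  have hpx : Points.map gX (Points.ofPt a' u') = Points.ofPt (eX ≫ pullback.fst f _) (cU.left u') := by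
    rw [Points.map_ofPt, hac, ofPt_comp]
  rw [hpx, mem_koszulSet_iff ha hb wm, mem_koszulSet_iff ha' hb' ham' u']
  haveI : Flat (m.left ≫ k.left) := hp1 _ w (m ≫ k) ha hw wmk
  haveI : LocallyOfFinitePresentation (m.left ≫ k.left) := hp2 _ w (m ≫ k) ha hw wmk
  haveI : Flat k.left := hq1 _ _ _ hb hw wk
  haveI : LocallyOfFinitePresentation k.left := hq2 _ _ _ hb hw wk
  exact KRegLib.isKoszulAt_baseChange_iff m.left k.left (sV.map (Over.forget S)) (sU.map (Over.forget S)) u'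

theorem lci_avoid_iff {X Y Z : AlgSp.Space S} {f : X ⟶ Y} {p : X ⟶ Z} {q : Y ⟶ Z} (hc : f ≫ q = p)
    (hp1 : LocP @Flat p.hom) (hp2 : LocP @LocallyOfFinitePresentation p.hom) (hq1 : LocP @Flat q.hom)
    (hq2 : LocP @LocallyOfFinitePresentation q.hom) {Z' : AlgSp.Space S} (g : Z' ⟶ Z) :
    (∀ (Y' : AlgSp.Space S) (gY : Y' ⟶ Y) (q' : Y' ⟶ Z'), IsPullback gY.hom q'.hom q.hom g.hom →
      ∀ (X' : AlgSp.Space S) (gX : X' ⟶ X) (f' : X' ⟶ Y'), IsPullback gX.hom f'.hom f.hom gY.hom →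
        IsLCIMor f'.hom) ↔
      ∀ z, Points.map g.hom z ∉ Points.map p.hom '' (koszulSet f.hom)ᶜ := by
  have key := fun {Y' X' : AlgSp.Space S} {gY : Y' ⟶ Y} {q' : Y' ⟶ Z'} {gX : X' ⟶ X} {f' : X' ⟶ Y'}
    (sY : IsPullback gY.hom q'.hom q.hom g.hom) (sX : IsPullback gX.hom f'.hom f.hom gY.hom) (x' : Points X'.obj) =>
    koszulSet_baseChange X.property Y.property Z.property Z'.property f.hom q.hom
      (by rw [TripleLoci.hom_eq hc]; exact hp1) (by rw [TripleLoci.hom_eq hc]; exact hp2) hq1 hq2 sY sX x'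
  constructor
  · rintro H z ⟨x, hx, hxz⟩
    obtain ⟨Y', gY, q', X', gX, f', sY, sX⟩ := TripleLoci.exists_bc f q g
    obtain ⟨x', h1, -⟩ := exists_point_of_isPullback (TripleLoci.paste hc sY sX) hxz
    exact hx (h1 ▸ (key sY sX x').1 ((isLCIMor_iff X'.property Y'.property f'.hom).1 (H Y' gY q' sY X' gX f' sX) x'))
  · intro H Y' gY q' sY X' gX f' sX
    refine (isLCIMor_iff X'.property Y'.property f'.hom).2 fun x' => (key sY sX x').2 ?_
    by_contra hx
    refine H (Points.map (f'.hom ≫ q'.hom) x') ⟨_, hx, ?_⟩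
    rw [← Points.map_comp, (TripleLoci.paste hc sY sX).w, Points.map_comp]

end Groth.Agent.AlgSpDec.LciLocus
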