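import Groth.Agent.AlgSpDec.OpenCoverSpace
import Groth.Agent.AlgSpDec.AffineRep
import Mathlib.AlgebraicGeometry.AffineTransitionLimit
import Mathlib.CategoryTheory.Limits.Constructions.Over.Connected

/-!
# Cofiltered limits with affine transition morphisms
-/

set_option backward.isDefEq.respectTransparency false
set_option backward.isDefEq.respectTransparency.types false

universe u

open CategoryTheory Limits Opposite AlgebraicGeometry AlgSp Groth.Agent.AlgSpLib Groth.Agent.AlgSpPts

namespace Groth.Agent.AlgSpDec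

variable {S : Scheme.{u}}

attribute [local instance] IsCofiltered.isConnected

/-- A cofiltered diagram of affine schemes over a base has an affine limit. -/
theorem exists_affine_limit {J : Type u} [SmallCategory J] [IsCofiltered J] (W : J ⥤ Over S)
    (hW : ∀ j, IsAffine (W.obj j).left) : ∃ c : Cone W, Nonempty (IsLimit c) ∧ IsAffine c.pt.left := by
  let E := W ⋙ Over.forget S
  have : ∀ j, IsAffine (E.obj j) := hW
  let α : E ≅ (E ⋙ Scheme.Γ.rightOp) ⋙ Scheme.Spec :=
    NatIso.ofComponents (fun j => (E.obj j).isoSpec) (fun f => Scheme.toSpecΓ_naturality (E.map f))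
  have : PreservesLimitsOfSize.{u, u} Scheme.Spec.{u} := ΓSpec.adjunction.rightAdjoint_preservesLimits
  let c₀ := (Cone.postcompose α.inv).obj (Scheme.Spec.mapCone (limit.cone (E ⋙ Scheme.Γ.rightOp)))
  have hc₀ : IsLimit c₀ :=
    (IsLimit.postcomposeInvEquiv α _).symm (isLimitOfPreserves Scheme.Spec (limit.isLimit _))
  have : IsAffine c₀.pt := inferInstanceAs (IsAffine (Spec _))
  have : IsAffine ((Cone.forget E).obj c₀) := inferInstanceAs (IsAffine c₀.pt)
  exact ⟨liftLimit (K := W) (F := Over.forget S) hc₀, ⟨liftedLimitIsLimit hc₀⟩,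
    IsAffine.of_isIso ((Cone.forget _).map (liftedLimitMapsToOriginal hc₀).hom)⟩

/-- Fibres of the projections from a limit with affine transition morphisms. -/
theorem exists_limit_square'' {I : Type u} [SmallCategory I] [IsCofiltered I] (D : I ⥤ Sp S)
    (hDa : ∀ (i j : I) (φ : i ⟶ j), IsAffineMor (D.map φ)) (c : Cone D) (hc : IsLimit c) (i : I)
    {Z : Over S} [IsAffine Z.left] (g : (yon S).obj Z ⟶ D.obj i) :
    ∃ (W : Over i ⥤ Over S) (cW : Cone W) (_ : IsLimit cW) (p : cW.pt ⟶ Z) (fst : (yon S).obj cW.pt ⟶ c.pt)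
      (a : ∀ j : Over i, (yon S).obj (W.obj j) ⟶ D.obj j.left) (b : ∀ j, W.obj j ⟶ Z),
      (∀ {j k : Over i} (f : j ⟶ k), (yon S).map (W.map f) ≫ a k = a j ≫ D.map f.left) ∧
      IsPullback fst ((yon S).map p) (c.π.app i) g ∧ (∀ {j k : Over i} (f : j ⟶ k), W.map f ≫ b k = b j) ∧
      IsAffine cW.pt.left ∧ (∀ j, IsAffine (W.obj j).left) ∧
      (∀ j, IsPullback (a j) ((yon S).map (b j)) (D.map j.hom) g) ∧
      (∀ j, fst ≫ c.π.app j.left = (yon S).map (cW.π.app j) ≫ a j) ∧ ∀ j, p = cW.π.app j ≫ b j := by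
  choose W₀ b a sq hW₀ using fun j : Over i => hDa j.left i j.hom (Z := Z) inferInstance g
  have hw : ∀ {j k : Over i} (f : j ⟶ k), (a j ≫ D.map f.left) ≫ D.map k.hom = (yon S).map (b j) ≫ g := by
    intro j k f
    rw [Category.assoc, ← D.map_comp, Over.w f]
    exact (sq j).w
  have hm : ∀ {j k : Over i} (f : j ⟶ k), ∃ m : W₀ j ⟶ W₀ k, (yon S).map m ≫ a k = a j ≫ D.map f.left ∧ m ≫ b k = b j := by
    intro j k f
    obtain ⟨m, hm⟩ := (yon S).map_surjective ((sq k).lift _ _ (hw f))
    refine ⟨m, by rw [hm, IsPullback.lift_fst], (yon S).map_injective ?_⟩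
    rw [Functor.map_comp, hm, IsPullback.lift_snd]
  choose m hm₁ hm₂ using @hm
  have hext : ∀ {T : Over S} {k : Over i} {m₁ m₂ : T ⟶ W₀ k},
      (yon S).map m₁ ≫ a k = (yon S).map m₂ ≫ a k → m₁ ≫ b k = m₂ ≫ b k → m₁ = m₂ := by
    intro T k m₁ m₂ h₁ h₂
    exact (yon S).map_injective ((sq k).hom_ext h₁ (by rw [← Functor.map_comp, h₂, Functor.map_comp]))
  let W : Over i ⥤ Over S :=
    { obj := W₀
      map := fun f => m f
      map_id := fun j => hext (by rw [hm₁]; simp) (by rw [hm₂, Category.id_comp])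
      map_comp := fun {j k l} f f' => hext
        (by rw [hm₁, Functor.map_comp, Category.assoc, hm₁, ← Category.assoc ((yon S).map _), hm₁]; simp)
        (by rw [hm₂, Category.assoc, hm₂, hm₂]) }
  obtain ⟨cW, ⟨hcW⟩, hA⟩ := exists_affine_limit W hW₀
  let top : Over i := Over.mk (𝟙 i)
  let p : cW.pt ⟶ Z := cW.π.app top ≫ b top
  have hp : ∀ j : Over i, p = cW.π.app j ≫ b j := fun j => by
    let f : j ⟶ top := Over.homMk j.hom (Category.comp_id _)
    rw [← hm₂ f, ← Category.assoc, show cW.π.app j ≫ m f = cW.π.app top from cW.w f]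
  let hc' := (Functor.Initial.isLimitWhiskerEquiv (CategoryTheory.Over.forget i) c).symm hc
  let c₁ : Cone (CategoryTheory.Over.forget i ⋙ D) :=
    { pt := (yon S).obj cW.pt
      π := { app := fun j => (yon S).map (cW.π.app j) ≫ a j
             naturality := fun j k f => by
               dsimp
               rw [Category.id_comp, Category.assoc, ← hm₁ f, ← Category.assoc, ← Functor.map_comp]
               exact congrArg (fun x => (yon S).map x ≫ a k) (cW.w f).symm } }
  let fst := hc'.lift c₁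
  have hfst : ∀ j : Over i, fst ≫ c.π.app j.left = (yon S).map (cW.π.app j) ≫ a j := fun j => hc'.fac c₁ j
  have hfw : fst ≫ c.π.app i = (yon S).map p ≫ g := by
    rw [show fst ≫ c.π.app i = (yon S).map (cW.π.app top) ≫ a top from hfst top, Functor.map_comp, Category.assoc,
      ← (sq top).w]
    simp [top]
  refine ⟨W, cW, hcW, p, fst, a, b, @hm₁, ⟨⟨hfw⟩, ⟨?_⟩⟩, @hm₂, hA, hW₀, sq, hfst, hp⟩
  let hY := isLimitOfPreserves (yon S) hcW
  have hs : ∀ (s : PullbackCone (c.π.app i) g) (j : Over i),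
      (s.fst ≫ c.π.app j.left) ≫ D.map j.hom = s.snd ≫ g := fun s j => by
    rw [Category.assoc, c.w, s.condition]
  let cs : ∀ s : PullbackCone (c.π.app i) g, Cone (W ⋙ yon S) := fun s =>
    { pt := s.pt
      π := { app := fun j => (sq j).lift _ _ (hs s j)
             naturality := fun j k f => (sq k).hom_ext (by
                 dsimp [W]
                 rw [Category.id_comp, Category.assoc, hm₁, ← Category.assoc, IsPullback.lift_fst, IsPullback.lift_fst,
                   Category.assoc, c.w]) (by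
                 dsimp [W]
                 rw [Category.id_comp, Category.assoc, ← Functor.map_comp, hm₂, IsPullback.lift_snd,
                   IsPullback.lift_snd]) } }
  refine PullbackCone.IsLimit.mk _ (fun s => hY.lift (cs s)) (fun s => ?_) (fun s => ?_) (fun s l h₁ h₂ => ?_)
  · refine hc'.hom_ext fun j => ?_
    change (hY.lift (cs s) ≫ fst) ≫ c.π.app j.left = s.fst ≫ c.π.app j.left
    rw [Category.assoc, hfst, ← Category.assoc]
    rw [show hY.lift (cs s) ≫ (yon S).map (cW.π.app j) = (sq j).lift _ _ (hs s j) from hY.fac (cs s) j,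
      IsPullback.lift_fst]
  · rw [Functor.map_comp, ← Category.assoc,
      show hY.lift (cs s) ≫ (yon S).map (cW.π.app top) = (sq top).lift _ _ (hs s top) from hY.fac (cs s) top,
      IsPullback.lift_snd]
  · refine hY.uniq (cs s) l fun j => (sq j).hom_ext ?_ ?_
    · change (l ≫ (yon S).map (cW.π.app j)) ≫ a j = (sq j).lift _ _ (hs s j) ≫ a j
      rw [IsPullback.lift_fst, Category.assoc, ← hfst, ← Category.assoc, h₁]
    · change (l ≫ (yon S).map (cW.π.app j)) ≫ (yon S).map (b j) = (sq j).lift _ _ (hs s j) ≫ (yon S).map (b j)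
      rw [IsPullback.lift_snd, Category.assoc, ← Functor.map_comp, ← hp, h₂]

/-- Fibres of the projections from a limit with affine transition morphisms. -/
theorem exists_limit_square' {I : Type u} [SmallCategory I] [IsCofiltered I] (D : I ⥤ Sp S)
    (hDa : ∀ (i j : I) (φ : i ⟶ j), IsAffineMor (D.map φ)) (c : Cone D) (hc : IsLimit c) (i : I)
    {Z : Over S} [IsAffine Z.left] (g : (yon S).obj Z ⟶ D.obj i) :
    ∃ (W : Over i ⥤ Over S) (cW : Cone W) (_ : IsLimit cW) (p : cW.pt ⟶ Z) (fst : (yon S).obj cW.pt ⟶ c.pt)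
      (a : ∀ j : Over i, (yon S).obj (W.obj j) ⟶ D.obj j.left) (b : ∀ j, W.obj j ⟶ Z),
      IsPullback fst ((yon S).map p) (c.π.app i) g ∧ (∀ {j k : Over i} (f : j ⟶ k), W.map f ≫ b k = b j) ∧
      IsAffine cW.pt.left ∧ (∀ j, IsAffine (W.obj j).left) ∧
      (∀ j, IsPullback (a j) ((yon S).map (b j)) (D.map j.hom) g) ∧
      (∀ j, fst ≫ c.π.app j.left = (yon S).map (cW.π.app j) ≫ a j) ∧ ∀ j, p = cW.π.app j ≫ b j := by
  obtain ⟨W, cW, hcW, p, fst, a, b, -, h⟩ := exists_limit_square'' D hDa c hc i g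
  exact ⟨W, cW, hcW, p, fst, a, b, h⟩

/-- Fibres of the projections from a limit with affine transition morphisms. -/
theorem exists_limit_square {I : Type u} [SmallCategory I] [IsCofiltered I] (D : I ⥤ Sp S)
    (hDa : ∀ (i j : I) (φ : i ⟶ j), IsAffineMor (D.map φ)) (c : Cone D) (hc : IsLimit c) (i : I)
    {Z : Over S} [IsAffine Z.left] (g : (yon S).obj Z ⟶ D.obj i) :
    ∃ (W : Over i ⥤ Over S) (cW : Cone W) (_ : IsLimit cW) (p : cW.pt ⟶ Z) (fst : (yon S).obj cW.pt ⟶ c.pt),
      IsPullback fst ((yon S).map p) (c.π.app i) g ∧ IsAffine cW.pt.left ∧ (∀ j, IsAffine (W.obj j).left) ∧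
      ∀ j : Over i, ∃ (a : (yon S).obj (W.obj j) ⟶ D.obj j.left) (b : W.obj j ⟶ Z),
        IsPullback a ((yon S).map b) (D.map j.hom) g ∧ fst ≫ c.π.app j.left = (yon S).map (cW.π.app j) ≫ a ∧
          p = cW.π.app j ≫ b := by
  obtain ⟨W, cW, hcW, p, fst, a, b, sq, -, hA, hWA, hj, hfst, hp⟩ := exists_limit_square' D hDa c hc i g
  exact ⟨W, cW, hcW, p, fst, sq, hA, hWA, fun j => ⟨a j, b j, hj j, hfst j, hp j⟩⟩

theorem isAffineMor_limit_proj {I : Type u} [SmallCategory I] [IsCofiltered I] (D : I ⥤ Sp S)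
    (hDa : ∀ (i j : I) (φ : i ⟶ j), IsAffineMor (D.map φ)) (c : Cone D) (hc : IsLimit c) (i : I) :
    IsAffineMor (c.π.app i) := fun Z hZ g => by
  have : IsAffine Z.left := hZ
  obtain ⟨W, cW, -, p, fst, sq, hA, -⟩ := exists_limit_square D hDa c hc i g
  exact ⟨cW.pt, p, fst, sq, hA⟩

theorem isAlgSpace_limit {I : Type u} [SmallCategory I] [IsCofiltered I] (D : I ⥤ Sp S)
    (hD : ∀ i, IsAlgSpace (D.obj i)) (hDa : ∀ (i j : I) (φ : i ⟶ j), IsAffineMor (D.map φ)) (c : Cone D)
    (hc : IsLimit c) : IsAlgSpace c.pt := by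
  obtain ⟨i⟩ := IsCofiltered.nonempty (C := I)
  exact isAlgSpace_of_representable (hD i) (c.π.app i)
    (representable_of_isAffineMor (isAffineMor_limit_proj D hDa c hc i))

end Groth.Agent.AlgSpDec
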