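import Groth.Agent.AlgSpDec.LimAffineStage
import Groth.Agent.EtFound.Descent

/-!
# A limit which is affine over the base is affine over the base at some stage
-/

set_option backward.isDefEq.respectTransparency false
set_option backward.isDefEq.respectTransparency.types false

universe u

open CategoryTheory Limits Opposite AlgebraicGeometry AlgSp Groth.Agent.AlgSpLib Groth.Agent.AlgSpPts

namespace Groth.Agent.AlgSpDec

variable {S : Scheme.{u}}

theorem isQuasiCompactSp_of_mor {F G : Sp S} (hG : IsAlgSpace G) {f : F ⟶ G} (hf : IsQuasiCompactMor f)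
    (hGqc : IsQuasiCompactSp G) : IsQuasiCompactSp F :=
  hf hG hGqc (𝟙 G) (𝟙 F) f (IsPullback.of_horiz_isIso ⟨by simp⟩)

theorem eventually_isAffineMor_base [QuasiSeparatedSpace ↥S] {I : Type u} [SmallCategory I] [IsCofiltered I]
    (Y : Space S) (D : I ⥤ Sp S) (hD : ∀ i, IsAlgSpace (D.obj i)) (t : D ⟶ (Functor.const I).obj Y.obj)
    (hDa : ∀ (i j : I) (φ : i ⟶ j), IsAffineMor (D.map φ))
    (c : Cone D) (hc : IsLimit c) (g : c.pt ⟶ Y.obj) (hg : ∀ i, c.π.app i ≫ t.app i = g)
    (hqc : ∀ i, IsQuasiCompactSp (D.obj i)) (hqs : ∀ i, IsQuasiSeparatedSp (D.obj i))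
    (hYqc : IsQuasiCompactSp Y.obj) (hYqs : IsQuasiSeparatedSp Y.obj) (hX : IsAffineMor g) :
    ∃ i₀ : I, ∀ (i : I) (_ : i ⟶ i₀), IsAffineMor (t.app i) := by
  have := EtFound.fpqc_isAffineHom.{u}
  obtain ⟨V, b, hV, hb, hbs⟩ := exists_affine_atlas hYqc
  have : IsAffine V.left := hV
  have ht : ∀ {i j : I} (φ : i ⟶ j), D.map φ ≫ t.app j = t.app i := fun φ =>
    (t.naturality φ).trans (Category.comp_id _)
  -- the base change of the system to the atlas
  let P : I ⥤ Sp S :=
    { obj := fun i => pullback (t.app i) b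
      map := fun {i j} φ => pullback.map _ _ _ _ (D.map φ) (𝟙 _) (𝟙 _) (by rw [Category.comp_id, ht]) (by simp)
      map_id := fun i => pullback.hom_ext (by simp) (by simp)
      map_comp := fun φ ψ => pullback.hom_ext (by simp) (by simp) }
  have sqm : ∀ {i j : I} (φ : i ⟶ j),
      IsPullback (pullback.fst (t.app i) b) (P.map φ) (D.map φ) (pullback.fst (t.app j) b) := fun {i j} φ => by
    refine IsPullback.of_bot ?_ (pullback.lift_fst _ _ _).symm (IsPullback.of_hasPullback (t.app j) b)
    rw [ht, pullback.lift_snd, Category.comp_id]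
    exact IsPullback.of_hasPullback (t.app i) b
  let cP : Cone P :=
    { pt := pullback g b
      π := { app := fun i => pullback.map _ _ _ _ (c.π.app i) (𝟙 _) (𝟙 _) (by simp [hg]) (by simp)
             naturality := fun i j φ => pullback.hom_ext (by simp [P]) (by simp [P]) } }
  obtain ⟨i₁⟩ := IsCofiltered.nonempty (C := I)
  let c₁ : Cone P → Cone D := fun s =>
    { pt := s.pt
      π := { app := fun i => s.π.app i ≫ pullback.fst (t.app i) b
             naturality := fun i j φ => by
               dsimp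
               rw [Category.id_comp, ← s.w φ]
               simp [P] } }
  have hsnd : ∀ (s : Cone P) (i j : I), s.π.app i ≫ pullback.snd (t.app i) b = s.π.app j ≫ pullback.snd (t.app j) b :=
    fun s i j => by
      obtain ⟨l, u, v, -⟩ := IsCofilteredOrEmpty.cone_objs i j
      rw [← s.w u, ← s.w v]
      simp [P]
  have hcond : ∀ s, hc.lift (c₁ s) ≫ g = (s.π.app i₁ ≫ pullback.snd (t.app i₁) b) ≫ b := fun s => by
    rw [← hg i₁, ← Category.assoc, hc.fac]
    simp [c₁, pullback.condition]
  let hcP : IsLimit cP :=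
    { lift := fun s => pullback.lift (hc.lift (c₁ s)) _ (hcond s)
      fac := fun s i => pullback.hom_ext (by simp [cP, c₁]) (by simp [cP, hsnd s i i₁])
      uniq := fun s l hl => pullback.hom_ext
        (hc.hom_ext fun i => by simp [c₁, ← hl i, cP])
        (by simp [← hl i₁, cP]) }
  have hPA : ∀ i, IsAlgSpace (P.obj i) := fun i => isAlgSpace_pullback (hD i) (IsAlgSpace.yon_obj V) Y.property _ _
  have hPa : ∀ (i j : I) (φ : i ⟶ j), IsAffineMor (P.map φ) := fun i j φ =>
    isAffineMor_of_isPullback (sqm φ) (hDa i j φ)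
  have hVqc : IsQuasiCompactSp ((yon S).obj V) := (isQuasiCompactSp_yon_iff V).2 inferInstance
  have hVqs : IsQuasiSeparatedSp ((yon S).obj V) :=
    (isQuasiSeparatedSp_yon_iff' V).2 (quasiSeparated_hom_of_affine V)
  have hPqc : ∀ i, IsQuasiCompactSp (P.obj i) := fun i => isQuasiCompactSp_of_mor (hD i)
    (isQuasiCompactMor_of_isPullback (IsPullback.of_hasPullback (t.app i) b).flip
      (isQuasiCompactMor_of_qc_qs (IsAlgSpace.yon_obj V) Y.property hVqc hYqs b)) (hqc i)
  have hPqs : ∀ i, IsQuasiSeparatedSp (P.obj i) := fun i => by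
    have hf : IsQuasiSeparatedMor (pullback.fst (t.app i) b) :=
      isQuasiSeparatedMor_of_isPullback (IsPullback.of_hasPullback (t.app i) b).flip
        (isQuasiSeparatedMor_of_sp b hVqs hYqs)
    rw [isQuasiSeparatedSp_iff_mor, (isTerminalYon S).hom_ext ((isTerminalYon S).from (P.obj i))
      (pullback.fst (t.app i) b ≫ (isTerminalYon S).from (D.obj i))]
    exact isQuasiSeparatedMor_comp hf ((isQuasiSeparatedSp_iff_mor _).1 (hqs i))
  obtain ⟨T, q, fst, sqT, hT⟩ := hX hV b
  obtain ⟨i₀, T', hT', ⟨e⟩⟩ := exists_isAffine_stage P hPA hPa hPqc hPqs cP hcP T hT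
    (sqT.isoIsPullback _ _ (IsPullback.of_hasPullback g b))
  refine ⟨i₀, fun i φ => ?_⟩
  obtain ⟨W, w, fw, sqw, hW⟩ := hPa i i₀ φ hT' e.hom
  have : IsIso fw := sqw.isIso_fst_of_isIso
  obtain ⟨r, hr⟩ := (yon S).map_surjective (fw ≫ pullback.snd (t.app i) b)
  refine isAffineMor_of_repWith le_rfl (repWith_of_etale_cover le_rfl hb hbs (fst := fw ≫ pullback.fst (t.app i) b)
    (snd := (yon S).map r) ?_ ((repWith_yon_map_iff _ r).2 ?_))
  · rw [hr]
    exact (IsPullback.of_hasPullback (t.app i) b).of_iso (asIso fw).symm (Iso.refl _) (Iso.refl _) (Iso.refl _)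
      (by simp) (by simp) (by simp) (by simp)
  · haveI : IsAffine W.left := hW
    exact (inferInstance : IsAffineHom r.left)

end Groth.Agent.AlgSpDec
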