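import Groth.Agent.AlgSpDec.LimAffineBase
import Groth.Agent.AlgSpLib.AffineDescProps

/-!
# Affine morphisms descend along limits
-/

set_option backward.isDefEq.respectTransparency false
set_option backward.isDefEq.respectTransparency.types false

universe u

open CategoryTheory Limits Opposite AlgebraicGeometry AlgSp Groth.Agent.AlgSpLib Groth.Agent.AlgSpPts

namespace Groth.Agent.AlgSpDec

variable {S : Scheme.{u}}

theorem descend_isAffineMor [QuasiSeparatedSpace ↥S] {I : Type u} [SmallCategory I] [IsCofiltered I]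
    (D : I ⥤ Sp S) (hD : ∀ i, IsAlgSpace (D.obj i)) (hDa : ∀ (i j : I) (φ : i ⟶ j), IsAffineMor (D.map φ))
    (c : Cone D) (hc : IsLimit c) {i₀ : I} {X₀ Y₀ : Space S} {f₀ : X₀.obj ⟶ Y₀.obj} {b₀ : Y₀.obj ⟶ D.obj i₀}
    (hXqc : IsQuasiCompactSp X₀.obj) (hXqs : IsQuasiSeparatedSp X₀.obj)
    (hYqc : IsQuasiCompactSp Y₀.obj) (hYqs : IsQuasiSeparatedSp Y₀.obj)
    {X Y : Sp S} {f : X ⟶ Y} {pY : Y ⟶ Y₀.obj} {qY : Y ⟶ c.pt} (hY : IsPullback pY qY b₀ (c.π.app i₀))
    {pX : X ⟶ X₀.obj} (hX : IsPullback pX f f₀ pY) (hf : IsAffineMor f) :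
    ∃ (i : I) (φ : i ⟶ i₀), Stage D f₀ b₀ IsAffineMor φ := by
  have hπ := isAffineMor_limit_proj D hDa c hc i₀
  have hcomp : ∀ {A B C : Sp S} {a : A ⟶ B} {b : B ⟶ C}, IsAffineMor a → IsAffineMor b → IsAffineMor (a ≫ b) :=
    fun ha hb => isAffineMor_of_repWith le_rfl
      (repWith_comp (repWith_isAffineHom_of_isAffineMor ha) (repWith_isAffineHom_of_isAffineMor hb))
  let g₀ := f₀ ≫ b₀
  let E : Over i₀ ⥤ Sp S :=
    { obj := fun o => pullback g₀ (D.map o.hom)
      map := fun {o o'} φ => pullback.map _ _ _ _ (𝟙 _) (D.map φ.left) (𝟙 _) (by simp)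
        (by rw [Category.comp_id, ← D.map_comp, Over.w φ])
      map_id := fun o => pullback.hom_ext (by simp) (by simp)
      map_comp := fun φ ψ => pullback.hom_ext (by simp) (by simp) }
  have sqm : ∀ {o o' : Over i₀} (φ : o ⟶ o'),
      IsPullback (pullback.snd g₀ (D.map o.hom)) (E.map φ) (D.map φ.left) (pullback.snd g₀ (D.map o'.hom)) :=
    fun {o o'} φ => by
      refine IsPullback.of_bot ?_ (pullback.lift_snd _ _ _).symm (IsPullback.of_hasPullback g₀ (D.map o'.hom)).flip
      rw [← D.map_comp, Over.w φ, pullback.lift_fst, Category.comp_id]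
      exact (IsPullback.of_hasPullback g₀ (D.map o.hom)).flip
  let t : E ⟶ (Functor.const (Over i₀)).obj Y₀.obj :=
    { app := fun o => pullback.fst g₀ (D.map o.hom) ≫ f₀
      naturality := fun o o' φ => by simp [E] }
  have sX : IsPullback pX (f ≫ qY) g₀ (c.π.app i₀) := hX.paste_vert hY
  let cE : Cone E :=
    { pt := X
      π := { app := fun o => pullback.lift pX (f ≫ qY ≫ c.π.app o.left) (by
               rw [sX.w, Category.assoc, Category.assoc, Category.assoc, c.w o.hom])
             naturality := fun o o' φ => pullback.hom_ext (by simp [E]) (by simp [E]) } }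
  have := IsCofiltered.isConnected (Over i₀)
  let hc' := (Functor.Initial.isLimitWhiskerEquiv (CategoryTheory.Over.forget i₀) c).symm hc
  let c₂ : Cone E → Cone (CategoryTheory.Over.forget i₀ ⋙ D) := fun s =>
    { pt := s.pt
      π := { app := fun o => s.π.app o ≫ pullback.snd g₀ (D.map o.hom)
             naturality := fun o o' φ => by
               dsimp
               rw [Category.id_comp, ← s.w φ]
               simp [E] } }
  let top : Over i₀ := Over.mk (𝟙 i₀)
  have hfst : ∀ (s : Cone E) (o o' : Over i₀),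
      s.π.app o ≫ pullback.fst g₀ (D.map o.hom) = s.π.app o' ≫ pullback.fst g₀ (D.map o'.hom) := fun s o o' => by
    obtain ⟨l, u, v, -⟩ := IsCofilteredOrEmpty.cone_objs o o'
    rw [← s.w u, ← s.w v]
    simp [E]
  have hcond : ∀ s, (s.π.app top ≫ pullback.fst g₀ (D.map top.hom)) ≫ g₀ = hc'.lift (c₂ s) ≫ c.π.app i₀ := fun s => by
    refine Eq.trans ?_ (hc'.fac (c₂ s) top).symm
    simp [c₂, top, pullback.condition]
  let hcE : IsLimit cE :=
    { lift := fun s => sX.lift _ _ (hcond s)
      fac := fun s o => pullback.hom_ext (by simp [cE, hfst s o top]) (by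
        simp only [cE, Category.assoc, pullback.lift_snd]
        rw [← Category.assoc f, IsPullback.lift_snd_assoc]
        exact hc'.fac (c₂ s) o)
      uniq := fun s l hl => sX.hom_ext (by simp [← hl top, cE])
        (hc'.hom_ext fun o => by
          refine Eq.trans ?_ ((congrArg (· ≫ c.π.app o.left) (sX.lift_snd _ _ (hcond s))).trans
            (hc'.fac (c₂ s) o)).symm
          simp [c₂, ← hl o, cE]) }
  have hEA : ∀ o, IsAlgSpace (E.obj o) := fun o => isAlgSpace_pullback X₀.property (hD o.left) (hD i₀) _ _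
  have hfa : ∀ o : Over i₀, RepWith @IsAffineHom (pullback.fst g₀ (D.map o.hom)) := fun o =>
    repWith_of_isPullback (IsPullback.of_hasPullback g₀ (D.map o.hom)).flip
      (repWith_isAffineHom_of_isAffineMor (hDa _ _ o.hom))
  obtain ⟨o₀, ho⟩ := eventually_isAffineMor_base Y₀ E hEA t
    (fun o o' φ => isAffineMor_of_isPullback (sqm φ) (hDa _ _ φ.left)) cE hcE (f ≫ pY)
    (fun o => by simp [t, cE, hX.w])
    (fun o => isQuasiCompactSp_of_affine X₀.property _ (hfa o) hXqc)
    (fun o => isQuasiSeparatedSp_of_affine _ (hfa o) hXqs) hYqc hYqs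
    (hcomp hf (isAffineMor_of_isPullback hY.flip hπ))
  refine ⟨o₀.left, o₀.hom, fun Xi Yi fi pYi qYi hYi pXi hXi => ?_⟩
  have sXi : IsPullback pXi (fi ≫ qYi) g₀ (D.map o₀.hom) := hXi.paste_vert hYi
  let ε := sXi.isoIsPullback _ _ (IsPullback.of_hasPullback g₀ (D.map o₀.hom))
  have hε : ε.hom ≫ pullback.fst g₀ (D.map o₀.hom) = pXi := sXi.isoIsPullback_hom_fst _ _ _
  have h₁ : IsAffineMor (fi ≫ pYi) := by
    rw [← hXi.w, ← hε, Category.assoc]
    exact hcomp (isAffineMor_of_repWith le_rfl (repWith_of_isIso _ ε.hom)) (ho o₀ (𝟙 _))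
  have h₂ : IsSeparatedMor pYi := isSeparatedMor_of_repWith_affine
    (repWith_of_isPullback hYi.flip (repWith_isAffineHom_of_isAffineMor (hDa _ _ o₀.hom)))
  exact isAffineMor_of_repWith le_rfl (AlgSpLib.of_comp_of_diagonal (RepWith @IsAffineHom) fi pYi
    (repWith_isAffineHom_of_isAffineMor h₁)
    (repWith_mono (fun _ _ e (_ : IsClosedImmersion e) => (inferInstance : IsAffineHom e)) _ h₂))

end Groth.Agent.AlgSpDec
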