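import Mathlib.AlgebraicGeometry.Morphisms.Etale
import Mathlib.AlgebraicGeometry.Noetherian
import Mathlib.RingTheory.Smooth.NoetherianDescent
import Mathlib.AlgebraicGeometry.Limits
import Mathlib.AlgebraicGeometry.Morphisms.UniversallyOpen

/-!
# A model of finite presentation over the integers of an etale covering of an affine scheme
-/

set_option backward.isDefEq.respectTransparency false

universe u

open CategoryTheory Limits AlgebraicGeometry TensorProduct

namespace Groth.Agent.AlgSpDec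

theorem locallyOfFinitePresentation_terminal_of_fg {A : Type u} [CommRing A] (A₀ : Subalgebra ℤ A)
    (h : A₀.FG) : LocallyOfFinitePresentation (terminal.from (Spec (CommRingCat.of A₀))) := by
  have : Algebra.FiniteType ℤ A₀ := (Subalgebra.fg_iff_finiteType A₀).mp h
  have : Algebra.FinitePresentation ℤ A₀ := Algebra.FinitePresentation.of_finiteType.mp this
  let φ : ULift.{u} ℤ →+* A₀ := (algebraMap ℤ A₀).comp ULift.ringEquiv.toRingHom
  have hφ : φ.FinitePresentation := RingHom.FinitePresentation.comp (RingHom.finitePresentation_algebraMap.mpr this)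
    (RingHom.FinitePresentation.of_bijective (ULift.ringEquiv : ULift.{u} ℤ ≃+* ℤ).bijective)
  have hm : LocallyOfFinitePresentation (Spec.map (CommRingCat.ofHom φ)) :=
    (LocallyOfFinitePresentation.SpecMap_iff _).2 hφ
  rw [terminalIsTerminal.hom_ext (terminal.from _)
    (Spec.map (CommRingCat.ofHom φ) ≫ (specULiftZIsTerminal.uniqueUpToIso terminalIsTerminal).hom)]
  infer_instance

/-- An etale covering of affine schemes is pulled back from one between schemes of finite presentation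
over the integers, with affine source. -/
theorem exists_etale_affine_model {U T : Scheme.{u}} [IsAffine U] [IsAffine T] (π : U ⟶ T) [Etale π]
    [Surjective π] :
    ∃ (Y U₀ : Scheme.{u}) (q : T ⟶ Y) (π₀ : U₀ ⟶ Y) (q' : U ⟶ U₀), IsAffine U₀ ∧ Etale π₀ ∧ Surjective π₀ ∧
      IsAffineHom π₀ ∧ LocallyOfFinitePresentation (terminal.from Y) ∧ IsPullback q' π π₀ q := by
  let A := Γ(T, ⊤)
  let B := Γ(U, ⊤)
  have het : π.appTop.hom.Etale := (HasRingHomProperty.iff_of_isAffine (P := @Etale)).1 ‹_›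
  letI := π.appTop.hom.toAlgebra
  haveI : Algebra.Etale A B := het
  obtain ⟨A₀, B₀, _, _, hA₀, hB₀, ⟨e⟩⟩ := Algebra.Etale.exists_subalgebra_fg (R := ℤ) (A := A) (B := B)
  let f₀ := Spec.map (CommRingCat.ofHom (algebraMap A₀ B₀))
  have hf₀ : Etale f₀ := HasRingHomProperty.Spec_iff.2 (RingHom.etale_algebraMap.mpr hB₀)
  have sq0 : IsPullback (Spec.map (CommRingCat.ofHom (Algebra.TensorProduct.includeRight (R := A₀) (A := A) (B := B₀)).toRingHom))
      (Spec.map (CommRingCat.ofHom (Algebra.TensorProduct.includeLeftRingHom (R := A₀) (A := A) (B := B₀))))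
      f₀ (Spec.map (CommRingCat.ofHom (algebraMap A₀ A))) :=
    (isPullback_SpecMap_of_isPushout _ _ _ _ (CommRingCat.isPushout_tensorProduct A₀ A B₀)).flip
  let eU : U ⟶ Spec (CommRingCat.of (A ⊗[A₀] B₀)) :=
    U.isoSpec.hom ≫ Spec.map (CommRingCat.ofHom e.symm.toRingEquiv.toRingHom)
  have : IsIso (CommRingCat.ofHom e.symm.toRingEquiv.toRingHom) :=
    e.symm.toRingEquiv.toCommRingCatIso.isIso_hom
  have : IsIso eU := inferInstance
  have heU : eU ≫ Spec.map (CommRingCat.ofHom (Algebra.TensorProduct.includeLeftRingHom (R := A₀) (A := A) (B := B₀))) =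
      π ≫ T.isoSpec.hom := by
    change (U.isoSpec.hom ≫ _) ≫ _ = _
    rw [Category.assoc, ← Spec.map_comp]
    refine Eq.trans ?_ (Scheme.isoSpec_hom_naturality π)
    refine congrArg (fun r => U.isoSpec.hom ≫ Spec.map r) (CommRingCat.hom_ext (RingHom.ext fun a => ?_))
    exact e.symm.commutes a
  let q₀ : T ⟶ Spec (CommRingCat.of A₀) := T.isoSpec.hom ≫ Spec.map (CommRingCat.ofHom (algebraMap A₀ A))
  let q' : U ⟶ Spec (CommRingCat.of B₀) := eU ≫ Spec.map (CommRingCat.ofHom
    (Algebra.TensorProduct.includeRight (R := A₀) (A := A) (B := B₀)).toRingHom)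
  have sq1 : IsPullback q' π f₀ q₀ := by
    have s1 : IsPullback eU π (Spec.map (CommRingCat.ofHom
        (Algebra.TensorProduct.includeLeftRingHom (R := A₀) (A := A) (B := B₀)))) T.isoSpec.hom :=
      IsPullback.of_horiz_isIso ⟨heU⟩
    exact s1.paste_horiz sq0
  -- restrict to the image
  let O : (Spec (CommRingCat.of A₀)).Opens := ⟨Set.range f₀, f₀.isOpenMap.isOpen_range⟩
  let π₀ : Spec (CommRingCat.of B₀) ⟶ O.toScheme :=
    IsOpenImmersion.lift O.ι f₀ (by rw [Scheme.Opens.range_ι]; exact subset_rfl)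
  have hπ₀ : π₀ ≫ O.ι = f₀ := IsOpenImmersion.lift_fac _ _ _
  let q : T ⟶ O.toScheme := IsOpenImmersion.lift O.ι q₀ (by
    rw [Scheme.Opens.range_ι]
    rintro _ ⟨t, rfl⟩
    obtain ⟨x, rfl⟩ := π.surjective t
    exact ⟨q' x, by rw [← Scheme.Hom.comp_apply, sq1.w]; rfl⟩)
  have hq : q ≫ O.ι = q₀ := IsOpenImmersion.lift_fac _ _ _
  have : Etale (π₀ ≫ O.ι) := by rw [hπ₀]; exact hf₀
  have hπe : Etale π₀ := Etale.of_comp π₀ O.ι
  have hπs : Surjective π₀ := ⟨fun y => by
    obtain ⟨x, hx⟩ := y.2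
    refine ⟨x, O.ι.isOpenEmbedding.injective ?_⟩
    rw [← Scheme.Hom.comp_apply, hπ₀]
    exact hx⟩
  have : IsAffineHom (π₀ ≫ O.ι) := by rw [hπ₀]; infer_instance
  have hπa : IsAffineHom π₀ := MorphismProperty.of_postcomp @IsAffineHom π₀ O.ι (inferInstance : IsSeparated O.ι) this
  have hO : LocallyOfFinitePresentation (terminal.from O.toScheme) := by
    have := locallyOfFinitePresentation_terminal_of_fg A₀ hA₀
    rw [← terminal.comp_from O.ι]
    infer_instance
  refine ⟨O.toScheme, _, q, π₀, q', inferInstance, hπe, hπs, hπa, hO, ?_⟩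
  have w : q' ≫ π₀ = π ≫ q := by
    rw [← cancel_mono O.ι]
    simp only [Category.assoc, hπ₀, hq]
    exact sq1.w
  have hc : ∀ s : PullbackCone π₀ q, s.fst ≫ f₀ = s.snd ≫ q₀ := fun s => by
    rw [← hπ₀, ← hq, reassoc_of% s.condition]
  exact ⟨⟨w⟩, ⟨PullbackCone.IsLimit.mk w (fun s => sq1.lift s.fst s.snd (hc s))
    (fun s => sq1.lift_fst _ _ _) (fun s => sq1.lift_snd _ _ _)
    (fun s m h₁ h₂ => sq1.hom_ext (h₁.trans (sq1.lift_fst _ _ _).symm) (h₂.trans (sq1.lift_snd _ _ _).symm))⟩⟩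

end Groth.Agent.AlgSpDec
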