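import Groth.Agent.AlgSpDec.LimDescentDiag

/-!
# Monomorphisms and isomorphisms descend along limits
-/

set_option backward.isDefEq.respectTransparency false
set_option backward.isDefEq.respectTransparency.types false

universe u

open CategoryTheory Limits Opposite AlgebraicGeometry AlgSp Groth.Agent.AlgSpLib Groth.Agent.AlgSpPts

namespace Groth.Agent.AlgSpDec

variable {S : Scheme.{u}}

theorem isEtaleMor_of_isIso {X Y : Sp S} (f : X ⟶ Y) [IsIso f] : IsEtaleMor f := fun _ _ hu =>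
  repWith_comp hu (repWith_of_isIso _ f)

theorem isSurjectiveMor_of_isIso {X Y : Sp S} (f : X ⟶ Y) [IsIso f] : IsSurjectiveMor f := fun y =>
  ⟨Points.map (inv f) y, by rw [← Points.map_comp, IsIso.inv_hom_id, Points.map_id]⟩

theorem isSurjectiveMor_of_isPullback {X Y X' Y' : Sp S} {f : X ⟶ Y} {f' : X' ⟶ Y'} {a : X' ⟶ X} {b : Y' ⟶ Y}
    (sq : IsPullback a f' f b) (hf : IsSurjectiveMor f) : IsSurjectiveMor f' := fun y => by
  obtain ⟨x, hx⟩ := hf (Points.map b y)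
  obtain ⟨z, -, hz⟩ := exists_point_of_isPullback sq hx
  exact ⟨z, hz⟩

theorem epi_of_etale_surjective {X Y : Sp S} (hX : IsAlgSpace X) (hY : IsAlgSpace Y) (f : X ⟶ Y)
    (he : IsEtaleMor f) (hs : IsSurjectiveMor f) : Epi f := by
  obtain ⟨U, a, ha, has⟩ := hX.atlas
  have h1 : RepWith @Surjective (a ≫ f) :=
    repWith_surjective_of_surjective (hY.representable_from_yon _) fun y => by
      obtain ⟨x, rfl⟩ := hs y
      obtain ⟨u, rfl⟩ := surjective_ofPt has x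
      exact ⟨Points.ofScheme U u, (Points.map_comp _ _ _).trans
        (congrArg (Points.map f) (Points.ofPt_eq_map_ofScheme a u).symm)⟩
  have : Sheaf.IsLocallySurjective (a ≫ f) := isLocallySurjective_of_etale_surjective (he a ha) h1
  have : Epi (a ≫ f) := (Sheaf.isLocallySurjective_iff_epi _).1 this
  exact epi_of_epi a f

theorem mono_of_diagonal {X Y : Sp S} (hX : IsAlgSpace X) (hY : IsAlgSpace Y) (f : X ⟶ Y)
    (he : IsEtaleMor (pullback.diagonal f)) (hs : IsSurjectiveMor (pullback.diagonal f)) : Mono f := by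
  have := epi_of_etale_surjective hX (isAlgSpace_pullback hX hX hY f f) _ he hs
  have : IsIso (pullback.diagonal f) := isIso_of_epi_of_isSplitMono _
  refine ⟨fun {Z} a b h => ?_⟩
  let l := pullback.lift (f := f) (g := f) a b h
  have e : (l ≫ inv (pullback.diagonal f)) ≫ pullback.diagonal f = l := by simp
  have h1 := e =≫ pullback.fst f f
  have h2 := e =≫ pullback.snd f f
  simp only [Category.assoc, pullback.diagonal_fst, pullback.diagonal_snd, Category.comp_id, l,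
    pullback.lift_fst, pullback.lift_snd] at h1 h2
  exact h1.symm.trans h2

section Stage

variable {I : Type u} [SmallCategory I] [IsCofiltered I] (D : I ⥤ Sp S) (hD : ∀ i, IsAlgSpace (D.obj i))
  {i₀ : I} {X₀ Y₀ : Space S} (f₀ : X₀.obj ⟶ Y₀.obj) (b₀ : Y₀.obj ⟶ D.obj i₀)

/-- A property of the base changes to one stage. -/
def Stage (Φ : MorphismProperty (Sp S)) {i : I} (φ : i ⟶ i₀) : Prop :=
  ∀ (Xi Yi : Sp S) (fi : Xi ⟶ Yi) (pYi : Yi ⟶ Y₀.obj) (qYi : Yi ⟶ D.obj i)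
    (_ : IsPullback pYi qYi b₀ (D.map φ)) (pXi : Xi ⟶ X₀.obj) (_ : IsPullback pXi fi f₀ pYi), Φ fi

variable {D} {f₀} {b₀}

omit [IsCofiltered I] in
include hD in
theorem Stage.comp {Φ : MorphismProperty (Sp S)} {i : I} {φ : i ⟶ i₀} (h : Stage D f₀ b₀ Φ φ)
    (hΦ : ∀ {X Y X' Y' : Sp S} {f : X ⟶ Y} {f' : X' ⟶ Y'} {a : X' ⟶ X} {b : Y' ⟶ Y},
      IsAlgSpace X → IsAlgSpace Y → IsAlgSpace Y' → IsPullback a f' f b → Φ f → Φ f')
    {j : I} (ψ : j ⟶ i) : Stage D f₀ b₀ Φ (ψ ≫ φ) := fun Xj Yj fj pYj qYj hYj pXj hXj => by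
  have hYj' : IsAlgSpace Yj := isAlgSpace_of_isPullback hYj Y₀.property (hD j) (hD i₀)
  have sY := IsPullback.of_hasPullback b₀ (D.map φ)
  have hYi : IsAlgSpace (pullback b₀ (D.map φ)) := isAlgSpace_pullback Y₀.property (hD i) (hD i₀) _ _
  have sX := IsPullback.of_hasPullback f₀ (pullback.fst b₀ (D.map φ))
  have hXi : IsAlgSpace (pullback f₀ (pullback.fst b₀ (D.map φ))) :=
    isAlgSpace_pullback X₀.property hYi Y₀.property _ _
  let r : Yj ⟶ pullback b₀ (D.map φ) := pullback.lift pYj (qYj ≫ D.map ψ) (by rw [hYj.w, D.map_comp, Category.assoc])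
  let rX : Xj ⟶ pullback f₀ (pullback.fst b₀ (D.map φ)) :=
    pullback.lift pXj (fj ≫ r) (by rw [hXj.w, Category.assoc, pullback.lift_fst])
  have hr : IsPullback rX fj (pullback.snd f₀ (pullback.fst b₀ (D.map φ))) r := by
    refine IsPullback.of_right ?_ (pullback.lift_snd _ _ _) sX
    rw [pullback.lift_fst, pullback.lift_fst]
    exact hXj
  exact hΦ hXi hYi hYj' hr (h _ _ _ _ _ sY _ sX)

theorem exists_common {i₁ i₂ : I} (φ₁ : i₁ ⟶ i₀) (φ₂ : i₂ ⟶ i₀) :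
    ∃ (j : I) (a : j ⟶ i₁) (b : j ⟶ i₂), a ≫ φ₁ = b ≫ φ₂ := by
  obtain ⟨j, a, b, -⟩ := IsCofilteredOrEmpty.cone_objs i₁ i₂
  obtain ⟨k, c, hc⟩ := IsCofilteredOrEmpty.cone_maps (a ≫ φ₁) (b ≫ φ₂)
  exact ⟨k, c ≫ a, c ≫ b, by simpa using hc⟩

end Stage

variable [QuasiSeparatedSpace ↥S] {I : Type u} [SmallCategory I] [IsCofiltered I] (D : I ⥤ Sp S)
  (hD : ∀ i, IsAlgSpace (D.obj i)) (hDa : ∀ (i j : I) (φ : i ⟶ j), IsAffineMor (D.map φ)) (c : Cone D)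
  (hc : IsLimit c) {i₀ : I} {X₀ Y₀ : Space S} {f₀ : X₀.obj ⟶ Y₀.obj} {b₀ : Y₀.obj ⟶ D.obj i₀}
  (hXqc : IsQuasiCompactSp X₀.obj) (hXqs : IsQuasiSeparatedSp X₀.obj) (hYqs : IsQuasiSeparatedSp Y₀.obj)
  {X Y : Sp S} {f : X ⟶ Y} {pY : Y ⟶ Y₀.obj} {qY : Y ⟶ c.pt}
  (hY : IsPullback pY qY b₀ (c.π.app i₀)) {pX : X ⟶ X₀.obj} (hX : IsPullback pX f f₀ pY)

include hD hDa hc hXqc hXqs hYqs hY hX in
theorem descend_mono [Mono f] (hf₀ : LocP @LocallyOfFiniteType f₀) :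
    ∃ (i : I) (φ : i ⟶ i₀), Stage D f₀ b₀ (MorphismProperty.monomorphisms (Sp S)) φ := by
  have hYA : IsAlgSpace Y := isAlgSpace_of_isPullback hY Y₀.property (isAlgSpace_limit D hD hDa c hc) (hD i₀)
  have : IsIso (pullback.diagonal f) := isIso_diagonal_of_mono f
  obtain ⟨pP, hP₁, hP₂⟩ := exists_isPullback_self hY hX
  let P₀ : Space S := ⟨pullback f₀ f₀, isAlgSpace_pullback X₀.property X₀.property Y₀.property f₀ f₀⟩
  obtain ⟨i₁, φ₁, h₁⟩ := descend_isSurjectiveMor D hDa c hc (X₀ := X₀) (Y₀ := P₀) (f₀ := pullback.diagonal f₀)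
    hXqc (isQuasiCompactSp_pullback_self Y₀.property f₀ hXqc hYqs)
    (isQuasiSeparatedSp_pullback_self f₀ hXqs hYqs) hP₁ hP₂
    (locP_lfp_diagonal X₀.property Y₀.property f₀ hf₀) (isSurjectiveMor_of_isIso _)
  obtain ⟨i₂, φ₂, h₂⟩ := descend_isEtaleMor D hD hDa c hc (X₀ := X₀) (Y₀ := P₀) (f₀ := pullback.diagonal f₀)
    hXqc (isQuasiCompactSp_pullback_self Y₀.property f₀ hXqc hYqs)
    (isQuasiSeparatedSp_pullback_self f₀ hXqs hYqs) hP₁ hP₂
    (locP_lfp_diagonal X₀.property Y₀.property f₀ hf₀) (isEtaleMor_of_isIso _)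
  obtain ⟨j, a, b, hab⟩ := exists_common φ₁ φ₂
  have H₁ := Stage.comp (Φ := IsSurjectiveMor) hD (X₀ := X₀) (Y₀ := P₀) h₁
    (fun _ _ _ sq h => isSurjectiveMor_of_isPullback sq h) a
  have H₂ := Stage.comp (Φ := IsEtaleMor) hD (X₀ := X₀) (Y₀ := P₀) h₂
    (fun hXA hA hA' sq h => (isEtaleMor_iff_locP (isAlgSpace_of_isPullback sq hXA hA' hA) hA' _).2
      (locP_of_isPullback sq hXA hA hA' ((isEtaleMor_iff_locP hXA hA _).1 h))) b
  rw [← hab] at H₂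
  refine ⟨j, a ≫ φ₁, fun Xi Yi fi pYi qYi hYi pXi hXi => ?_⟩
  have hYi' : IsAlgSpace Yi := isAlgSpace_of_isPullback hYi Y₀.property (hD j) (hD i₀)
  have hXi' : IsAlgSpace Xi := isAlgSpace_of_isPullback hXi X₀.property hYi' Y₀.property
  obtain ⟨qP, hQ₁, hQ₂⟩ := exists_isPullback_self hYi hXi
  exact mono_of_diagonal hXi' hYi' fi (H₂ _ _ _ _ _ hQ₁ _ hQ₂) (H₁ _ _ _ _ _ hQ₁ _ hQ₂)

include hD hDa hc hXqc hXqs hYqs hY hX in
theorem descend_isIso (hYqc : IsQuasiCompactSp Y₀.obj) [IsIso f]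
    (hf₀ : LocP @LocallyOfFinitePresentation f₀) :
    ∃ (i : I) (φ : i ⟶ i₀), Stage D f₀ b₀ (MorphismProperty.isomorphisms (Sp S)) φ := by
  obtain ⟨i₁, φ₁, h₁⟩ := descend_isSurjectiveMor D hDa c hc hXqc hYqc hYqs hY hX hf₀ (isSurjectiveMor_of_isIso _)
  obtain ⟨i₂, φ₂, h₂⟩ := descend_isEtaleMor D hD hDa c hc hXqc hYqc hYqs hY hX hf₀ (isEtaleMor_of_isIso _)
  obtain ⟨i₃, φ₃, h₃⟩ := descend_mono D hD hDa c hc hXqc hXqs hYqs hY hX
    (locP_mono (fun _ _ g (_ : LocallyOfFinitePresentation g) => (inferInstance : LocallyOfFiniteType g)) hf₀)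
  obtain ⟨j, a, b, hab⟩ := exists_common φ₁ φ₂
  have H₁ := Stage.comp (Φ := IsSurjectiveMor) hD h₁ (fun _ _ _ sq h => isSurjectiveMor_of_isPullback sq h) a
  have H₂ := Stage.comp (Φ := IsEtaleMor) hD h₂
    (fun hXA hA hA' sq h => (isEtaleMor_iff_locP (isAlgSpace_of_isPullback sq hXA hA' hA) hA' _).2
      (locP_of_isPullback sq hXA hA hA' ((isEtaleMor_iff_locP hXA hA _).1 h))) b
  rw [← hab] at H₂
  obtain ⟨k, a', b', hab'⟩ := exists_common (a ≫ φ₁) φ₃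
  have K₁ := H₁.comp hD (fun _ _ _ sq h => isSurjectiveMor_of_isPullback sq h) a'
  have K₂ := H₂.comp hD
    (fun hXA hA hA' sq h => (isEtaleMor_iff_locP (isAlgSpace_of_isPullback sq hXA hA' hA) hA' _).2
      (locP_of_isPullback sq hXA hA hA' ((isEtaleMor_iff_locP hXA hA _).1 h))) a'
  have K₃ := h₃.comp hD (fun _ _ _ sq h => MorphismProperty.of_isPullback sq h) b'
  rw [← hab'] at K₃
  refine ⟨k, a' ≫ a ≫ φ₁, fun Xi Yi fi pYi qYi hYi pXi hXi => ?_⟩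
  have hYi' : IsAlgSpace Yi := isAlgSpace_of_isPullback hYi Y₀.property (hD k) (hD i₀)
  have hXi' : IsAlgSpace Xi := isAlgSpace_of_isPullback hXi X₀.property hYi' Y₀.property
  have : Mono fi := K₃ _ _ _ _ _ hYi _ hXi
  have := epi_of_etale_surjective hXi' hYi' fi (K₂ _ _ _ _ _ hYi _ hXi) (K₁ _ _ _ _ _ hYi _ hXi)
  exact isIso_of_mono_of_epi fi

end Groth.Agent.AlgSpDec
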