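import Mathlib.AlgebraicGeometry.AffineTransitionLimit
import Mathlib.AlgebraicGeometry.Morphisms.Finite
import Mathlib.AlgebraicGeometry.Morphisms.QuasiSeparated

/-!
# Systems whose limit is integral over an affine base become finite
-/

set_option backward.isDefEq.respectTransparency false

universe u

open CategoryTheory Limits AlgebraicGeometry Polynomial

namespace Groth.Agent.AlgSpDec

theorem isIntegral_of_generators {B A C : Type u} [CommRing B] [CommRing A] [CommRing C] (f : B →+* A) (φ : A →+* C)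
    (s : Set A) (hs : Subring.closure (Set.range f ∪ s) = ⊤)
    (hint : ∀ x ∈ s, (φ.comp f).IsIntegralElem (φ x)) (hφ : φ.IsIntegral) : (φ.comp f).IsIntegral := by
  letI := (φ.comp f).toAlgebra
  let K := integralClosure B C
  have hmem : ∀ a, φ a ∈ K := by
    intro a
    have ha : a ∈ Subring.closure (Set.range f ∪ s) := hs ▸ Subring.mem_top a
    induction ha using Subring.closure_induction with
    | mem x hx =>
      rcases hx with ⟨b, rfl⟩ | hx
      · exact K.algebraMap_mem b
      · exact hint x hx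
    | zero => rw [map_zero]; exact K.zero_mem
    | one => rw [map_one]; exact K.one_mem
    | add x y _ _ hx hy => rw [map_add]; exact K.add_mem hx hy
    | neg x _ hx => rw [map_neg]; exact K.neg_mem hx
    | mul x y _ _ hx hy => rw [map_mul]; exact K.mul_mem hx hy
  let φ' : A →+* K := φ.codRestrict K.toSubring hmem
  intro z
  obtain ⟨p, hp, hpz⟩ := hφ z
  have hz : IsIntegral K z := ⟨p.map φ', hp.map φ', by rw [eval₂_map]; exact hpz⟩
  exact isIntegral_trans z hz

theorem exists_isFinite_stage {J : Type u} [SmallCategory J] [IsCofiltered J] {R : J ⥤ Scheme.{u}} {cR : Cone R}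
    (hR : IsLimit cR) {V : Scheme.{u}} [IsAffine V] (r : ∀ j, R.obj j ⟶ V)
    (hr : ∀ {i j} (f : i ⟶ j), R.map f ≫ r j = r i) [∀ {i j} (f : i ⟶ j), IsFinite (R.map f)]
    [∀ j, CompactSpace ↥(R.obj j)] [∀ j, QuasiSeparatedSpace ↥(R.obj j)] [∀ j, LocallyOfFiniteType (r j)]
    (q : cR.pt ⟶ V) (hq : ∀ j, cR.π.app j ≫ r j = q) [IsIntegralHom q] :
    ∃ j, ∀ k, (k ⟶ j) → IsFinite (r k) := by
  classical
  have : IsAffine cR.pt := isAffine_of_isAffineHom q
  have : ∀ {i j} (f : i ⟶ j), IsAffineHom (R.map f) := fun f => inferInstance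
  obtain ⟨j₀, hj₀⟩ := Scheme.exists_isAffine_of_isLimit R cR hR
  have := IsCofiltered.isConnected (Over j₀)
  let R' := CategoryTheory.Over.forget j₀ ⋙ R
  let hR' := (Functor.Initial.isLimitWhiskerEquiv (CategoryTheory.Over.forget j₀) cR).symm hR
  have : ∀ k, IsAffine (R'.obj k) := fun k => isAffine_of_isAffineHom (R.map k.hom)
  let c' := cR.whisker (CategoryTheory.Over.forget j₀)
  have : IsAffine c'.pt := ‹IsAffine cR.pt›
  have hft : (r j₀).appTop.hom.FiniteType :=
    (HasRingHomProperty.iff_of_isAffine (P := @LocallyOfFiniteType)).1 inferInstance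
  have hint : q.appTop.hom.IsIntegral := ((HasAffineProperty.iff_of_isAffine (P := @IsIntegralHom)).1 ‹_›).2
  letI := (r j₀).appTop.hom.toAlgebra
  haveI : Algebra.FiniteType Γ(V, ⊤) Γ(R.obj j₀, ⊤) := hft
  obtain ⟨s, hs⟩ := Algebra.FiniteType.out (R := Γ(V, ⊤)) (A := Γ(R.obj j₀, ⊤))
  have hpoly : ∀ x ∈ s, ∃ (k : Over j₀) (p : Γ(V, ⊤)[X]), p.Monic ∧
      (R.map k.hom).appTop (p.eval₂ (r j₀).appTop.hom x) = 0 := fun x _ => by
    obtain ⟨p, hp, hpx⟩ := hint ((cR.π.app j₀).appTop x)
    have h0 : (c'.π.app (Over.mk (𝟙 j₀))).appTop (p.eval₂ (r j₀).appTop.hom x) = 0 := by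
      refine Eq.trans (p.hom_eval₂ _ (cR.π.app j₀).appTop.hom x) ?_
      have e : q.appTop.hom = (cR.π.app j₀).appTop.hom.comp (r j₀).appTop.hom := by rw [← hq j₀]; rfl
      rw [← e]
      exact hpx
    obtain ⟨k, f, hk⟩ := exists_appTop_map_eq_zero_of_isAffine_of_isLimit R' c' hR' _ _ h0
    refine ⟨k, p, hp, ?_⟩
    have hf : f.left = k.hom := by have := Over.w f; simpa using this
    rw [← hf]
    exact hk
  choose kk pp hpm hpk using hpoly
  obtain ⟨l, hl⟩ := IsCofiltered.inf_objs_exists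
    (insert (Over.mk (𝟙 j₀)) (s.attach.image fun x : {x // x ∈ s} => kk x.1 x.2))
  refine ⟨l.left, fun k φ => ?_⟩
  let e : Over j₀ := Over.mk (φ ≫ l.hom)
  have : IsAffine (R.obj k) := isAffine_of_isAffineHom (R.map (φ ≫ l.hom))
  have hrk : R.map (φ ≫ l.hom) ≫ r j₀ = r k := hr _
  have hfin : IsFinite (R.map (φ ≫ l.hom)) := inferInstance
  have hφi : (R.map (φ ≫ l.hom)).appTop.hom.IsIntegral :=
    ((HasAffineProperty.iff_of_isAffine (P := @IsIntegralHom)).1 inferInstance).2
  have h := isIntegral_of_generators (r j₀).appTop.hom (R.map (φ ≫ l.hom)).appTop.hom (s : Set _)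
    (by
      have := congrArg Subalgebra.toSubring hs
      rw [Algebra.adjoin_eq_ring_closure] at this
      exact this)
    (fun x hx => ⟨pp x hx, hpm x hx, by
      obtain ⟨g⟩ := hl (Finset.mem_insert_of_mem (Finset.mem_image.2 ⟨⟨x, hx⟩, Finset.mem_attach _ _, rfl⟩))
      refine Eq.trans ((pp x hx).hom_eval₂ _ (R.map (φ ≫ l.hom)).appTop.hom x).symm ?_
      have hg : (φ ≫ g.left) ≫ (kk x hx).hom = φ ≫ l.hom := by rw [Category.assoc, Over.w g]
      rw [← hg, R.map_comp, Scheme.Hom.comp_appTop]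
      show (R.map (φ ≫ g.left)).appTop ((R.map (kk x hx).hom).appTop _) = 0
      rw [hpk x hx, map_zero]⟩) hφi
  have : IsIntegralHom (r k) := by
    refine (HasAffineProperty.iff_of_isAffine (P := @IsIntegralHom)).2 ⟨inferInstance, ?_⟩
    rw [← hrk]
    exact h
  exact (IsFinite.iff_isIntegralHom_and_locallyOfFiniteType _).2 ⟨this, inferInstance⟩

end Groth.Agent.AlgSpDec
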