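import Groth.Agent.AlgSpDec.LimClosedBase
import Groth.Agent.AlgSpDec.LimFiniteScheme
import Groth.Agent.EtFound.Descent

/-!
# Systems whose limit is integral over the base become finite
-/

set_option backward.isDefEq.respectTransparency false
set_option backward.isDefEq.respectTransparency.types false

universe u

open CategoryTheory Limits Opposite AlgebraicGeometry AlgSp Groth.Agent.AlgSpLib Groth.Agent.AlgSpPts

namespace Groth.Agent.AlgSpDec

variable {S : Scheme.{u}}

/-- Base change of a representable system over a fixed space to a scheme. -/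
theorem exists_baseChange_system {J : Type u} [SmallCategory J] [IsCofiltered J] {Y : Sp S} (D : J ⥤ Sp S)
    (t : D ⟶ (Functor.const J).obj Y) (hr : ∀ j, Representable (t.app j)) (c : Cone D) (hc : IsLimit c)
    (g : c.pt ⟶ Y) (hg : ∀ j, c.π.app j ≫ t.app j = g) (hgr : Representable g) {V : Over S}
    (b : (yon S).obj V ⟶ Y) :
    ∃ (R : J ⥤ Over S) (cR : Cone R) (_ : IsLimit cR) (a : ∀ j, (yon S).obj (R.obj j) ⟶ D.obj j)
      (r : ∀ j, R.obj j ⟶ V) (aQ : (yon S).obj cR.pt ⟶ c.pt) (q : cR.pt ⟶ V),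
      (∀ j, IsPullback (a j) ((yon S).map (r j)) (t.app j) b) ∧
      (∀ {j k} (f : j ⟶ k), R.map f ≫ r k = r j) ∧
      (∀ {j k} (f : j ⟶ k), IsPullback (a j) ((yon S).map (R.map f)) (D.map f) (a k)) ∧
      IsPullback aQ ((yon S).map q) g b ∧ ∀ j, cR.π.app j ≫ r j = q := by
  have ht : ∀ {j k} (f : j ⟶ k), D.map f ≫ t.app k = t.app j := fun f =>
    (t.naturality f).trans (Category.comp_id _)
  let R₀ : J → Over S := fun j => (hr j).pullback b
  let a : ∀ j, (yon S).obj (R₀ j) ⟶ D.obj j := fun j => (hr j).fst b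
  let r : ∀ j, R₀ j ⟶ V := fun j => (hr j).snd b
  have sR : ∀ j, IsPullback (a j) ((yon S).map (r j)) (t.app j) b := fun j => (hr j).isPullback b
  have hw : ∀ {j k} (f : j ⟶ k), (a j ≫ D.map f) ≫ t.app k = (yon S).map (r j) ≫ b := fun {j k} f => by
    rw [Category.assoc, ht, (sR j).w]
  have hm : ∀ {j k} (f : j ⟶ k), ∃ m : R₀ j ⟶ R₀ k, (yon S).map m ≫ a k = a j ≫ D.map f ∧ m ≫ r k = r j := by
    intro j k f
    obtain ⟨m, hm⟩ := (yon S).map_surjective ((sR k).lift _ _ (hw f))
    refine ⟨m, by rw [hm, IsPullback.lift_fst], (yon S).map_injective ?_⟩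
    rw [Functor.map_comp, hm, IsPullback.lift_snd]
  choose m hm₁ hm₂ using @hm
  have hext : ∀ {T : Over S} {k : J} {m₁ m₂ : T ⟶ R₀ k},
      (yon S).map m₁ ≫ a k = (yon S).map m₂ ≫ a k → m₁ ≫ r k = m₂ ≫ r k → m₁ = m₂ := by
    intro T k m₁ m₂ h₁ h₂
    exact (yon S).map_injective ((sR k).hom_ext h₁ (by rw [← Functor.map_comp, h₂, Functor.map_comp]))
  let R : J ⥤ Over S :=
    { obj := R₀
      map := fun f => m f
      map_id := fun j => hext (by rw [hm₁]; simp) (by rw [hm₂]; simp)
      map_comp := fun {j k l} f f' => hext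
        (by rw [hm₁, (yon S).map_comp, Category.assoc, hm₁, ← Category.assoc, hm₁, Category.assoc, ← D.map_comp])
        (by rw [hm₂, Category.assoc, hm₂, hm₂]) }
  let Q := hgr.pullback b
  let aQ := hgr.fst b
  let q : Q ⟶ V := hgr.snd b
  have sQ : IsPullback aQ ((yon S).map q) g b := hgr.isPullback b
  have hQw : ∀ j, (aQ ≫ c.π.app j) ≫ t.app j = (yon S).map q ≫ b := fun j => by
    rw [Category.assoc, hg, sQ.w]
  choose πR hπR using fun j => (yon S).map_surjective ((sR j).lift _ _ (hQw j))
  have hπ₁ : ∀ j, (yon S).map (πR j) ≫ a j = aQ ≫ c.π.app j := fun j => by rw [hπR, IsPullback.lift_fst]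
  have hπ₂ : ∀ j, πR j ≫ r j = q := fun j => (yon S).map_injective (by
    rw [Functor.map_comp, hπR, IsPullback.lift_snd])
  let cR : Cone R :=
    { pt := Q
      π := { app := πR
             naturality := fun j k f => hext (k := k)
               (by
                 dsimp [R]
                 rw [Category.id_comp, hπ₁, Functor.map_comp, Category.assoc, hm₁, ← Category.assoc, hπ₁,
                   Category.assoc, c.w])
               (by
                 dsimp [R]
                 rw [Category.id_comp, hπ₂, Category.assoc, hm₂, hπ₂]) } }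
  obtain ⟨j₁⟩ := IsCofiltered.nonempty (C := J)
  let sX : ∀ s : Cone (R ⋙ yon S), Cone D := fun s =>
    { pt := s.pt
      π := { app := fun j => s.π.app j ≫ a j
             naturality := fun j k f => by
               dsimp
               rw [Category.id_comp, Category.assoc, ← hm₁ f, ← Category.assoc]
               exact congrArg (· ≫ a k) (s.w f).symm } }
  have hsnd : ∀ (s : Cone (R ⋙ yon S)) (j k : J),
      s.π.app j ≫ (yon S).map (r j) = s.π.app k ≫ (yon S).map (r k) := fun s j k => by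
    obtain ⟨l, u, v, -⟩ := IsCofilteredOrEmpty.cone_objs j k
    have e : ∀ {i} (w : l ⟶ i), s.π.app i ≫ (yon S).map (r i) = s.π.app l ≫ (yon S).map (r l) := fun {i} w => by
      rw [← s.w w, Category.assoc, ← hm₂ w, Functor.map_comp]
      rfl
    rw [e u, e v]
  have hsc : ∀ s : Cone (R ⋙ yon S), hc.lift (sX s) ≫ g = (s.π.app j₁ ≫ (yon S).map (r j₁)) ≫ b := fun s => by
    rw [← hg j₁, ← Category.assoc, hc.fac, Category.assoc]
    exact (congrArg (s.π.app j₁ ≫ ·) (sR j₁).w).trans (Category.assoc _ _ _).symm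
  have hcR : IsLimit cR := isLimitOfReflects (yon S)
    { lift := fun s => sQ.lift _ _ (hsc s)
      fac := fun s j => (sR j).hom_ext
        (by
          change (sQ.lift _ _ (hsc s) ≫ (yon S).map (πR j)) ≫ a j = s.π.app j ≫ a j
          rw [Category.assoc, hπ₁, IsPullback.lift_fst_assoc]
          exact hc.fac (sX s) j)
        (by
          change (sQ.lift _ _ (hsc s) ≫ (yon S).map (πR j)) ≫ (yon S).map (r j) = s.π.app j ≫ (yon S).map (r j)
          rw [Category.assoc, ← Functor.map_comp, hπ₂, IsPullback.lift_snd]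
          exact hsnd s j₁ j)
      uniq := fun s l hl => sQ.hom_ext
        (by
          rw [IsPullback.lift_fst]
          refine hc.hom_ext fun j => ?_
          rw [Category.assoc, ← hπ₁, ← Category.assoc]
          exact (congrArg (· ≫ a j) (hl j)).trans (hc.fac (sX s) j).symm)
        (by
          rw [IsPullback.lift_snd, ← hπ₂ j₁, Functor.map_comp, ← Category.assoc]
          exact congrArg (· ≫ (yon S).map (r j₁)) (hl j₁)) }
  refine ⟨R, cR, hcR, a, r, aQ, q, sR, fun f => hm₂ f, fun {j k} f => ?_, sQ, hπ₂⟩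
  refine IsPullback.of_bot ?_ (hm₁ f).symm (sR k)
  rw [← Functor.map_comp, hm₂, ht]
  exact sR j

theorem eventually_isFinite_base [QuasiSeparatedSpace ↥S] {I : Type u} [SmallCategory I] [IsCofiltered I]
    (Y : Space S) (D : I ⥤ Sp S) (hD : ∀ i, IsAlgSpace (D.obj i)) (t : D ⟶ (Functor.const I).obj Y.obj)
    (hDf : ∀ (i j : I) (φ : i ⟶ j), RepWith @IsFinite (D.map φ))
    (c : Cone D) (hc : IsLimit c) (g : c.pt ⟶ Y.obj) (hg : ∀ i, c.π.app i ≫ t.app i = g)
    (hqc : ∀ i, IsQuasiCompactSp (D.obj i)) (hqs : ∀ i, IsQuasiSeparatedSp (D.obj i))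
    (hYqc : IsQuasiCompactSp Y.obj) (hYqs : IsQuasiSeparatedSp Y.obj)
    (hft : ∀ i, LocP @LocallyOfFiniteType (t.app i)) (hX : IsIntegralMor g) :
    ∃ i₀ : I, ∀ (i : I) (_ : i ⟶ i₀), RepWith @IsFinite (t.app i) := by
  have := EtFound.fpqc_isFinite.{u}
  obtain ⟨j₀, hj⟩ := eventually_representable Y D hD t hDf c hc g hg hqc hqs hYqs hft hX
  obtain ⟨V, b, hV, hb, hbs⟩ := exists_affine_atlas hYqc
  have : IsAffine V.left := hV
  let τ : CategoryTheory.Over.forget j₀ ⋙ D ⟶ (Functor.const (Over j₀)).obj Y.obj :=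
    { app := fun k => t.app k.left
      naturality := fun k l f => t.naturality f.left }
  have hg' := isIntegralMor_iff_repWith.1 hX
  obtain ⟨R, cR, hcR, a, r, aQ, q, sR, hrr, sRm, sQ, hπ⟩ := exists_baseChange_system
    (CategoryTheory.Over.forget j₀ ⋙ D) τ (fun k => (hj k.left k.hom).1.rep)
    (c.whisker (CategoryTheory.Over.forget j₀))
    ((Functor.Initial.isLimitWhiskerEquiv (CategoryTheory.Over.forget j₀) c).symm hc) g (fun k => hg k.left)
    hg'.rep b
  have := IsCofiltered.isConnected (Over j₀)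
  have hfin : ∀ {k l : Over j₀} (f : k ⟶ l), IsFinite (R.map f).left := fun {k l} f =>
    (hDf _ _ f.left).property _ _ _ (sRm f)
  have : ∀ {k l : Over j₀} (f : k ⟶ l), IsFinite ((R ⋙ Over.forget S).map f) := fun f => hfin f
  have : ∀ k, CompactSpace ↥((R ⋙ Over.forget S).obj k) := fun k =>
    haveI : QuasiCompact (r k).left := (hj k.left k.hom).1.property _ _ _ (sR k)
    QuasiCompact.compactSpace_of_compactSpace (r k).left
  have : ∀ k, QuasiSeparatedSpace ↥((R ⋙ Over.forget S).obj k) := fun k =>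
    haveI : IsSeparated (r k).left := (hj k.left k.hom).2.1.property _ _ _ (sR k)
    quasiSeparatedSpace_of_quasiSeparated (r k).left
  have : ∀ k, LocallyOfFiniteType ((fun k => (r k).left) k) := fun k =>
    (hj k.left k.hom).2.2.property _ _ _ (sR k)
  have : IsIntegralHom q.left := hg'.property _ _ _ sQ
  obtain ⟨k₀, hk⟩ := exists_isFinite_stage (isLimitOfPreserves (Over.forget S) hcR) (fun k => (r k).left)
    (fun f => congrArg (fun e => e.left) (hrr f)) q.left (fun k => congrArg (fun e => e.left) (hπ k))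
  refine ⟨k₀.left, fun i φ => ?_⟩
  let e : Over j₀ := Over.mk (φ ≫ k₀.hom)
  exact repWith_of_etale_cover (fun _ _ e (_ : IsFinite e) => inferInstanceAs (IsAffineHom e)) hb hbs (sR e)
    ((repWith_yon_map_iff _ _).2 (hk e (CategoryTheory.Over.homMk φ rfl)))

end Groth.Agent.AlgSpDec
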