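import Groth.Agent.AlgSpDec.LimOpen

/-!
# The space of points of a limit
-/

set_option backward.isDefEq.respectTransparency false
set_option backward.isDefEq.respectTransparency.types false

universe u

open CategoryTheory Limits Opposite AlgebraicGeometry AlgSp Groth.Agent.AlgSpLib Groth.Agent.AlgSpPts TopologicalSpace

namespace Groth.Agent.AlgSpDec

variable {S : Scheme.{u}}

theorem topologicalSpace_points_limit {I : Type u} [SmallCategory I] [IsCofiltered I] (D : I ⥤ Sp S)
    (hD : ∀ i, IsAlgSpace (D.obj i)) (hDa : ∀ (i j : I) (φ : i ⟶ j), IsAffineMor (D.map φ)) (c : Cone D)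
    (hc : IsLimit c) :
    Points.topologicalSpace c.pt =
      ⨅ i, TopologicalSpace.induced (Points.map (c.π.app i)) (Points.topologicalSpace (D.obj i)) := by
  refine le_antisymm (le_iInf fun i => continuous_iff_le_induced.1 (Points.continuous_map _)) ?_
  intro O hO
  rw [@isOpen_iff_forall_mem_open _ (⨅ i, TopologicalSpace.induced (Points.map (c.π.app i)) _)]
  intro x hx
  obtain ⟨i₁⟩ := IsCofiltered.nonempty (C := I)
  obtain ⟨U, a, u, hU, ha, hu⟩ := exists_affine_chart_at (hD i₁) (Points.map (c.π.app i₁) x)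
  have : IsAffine U.left := hU
  obtain ⟨W, cW, hcW, p, fst, aW, bW, sqW, hwb, hA, hWA, sqj, hfst, hp⟩ := exists_limit_square' D hDa c hc i₁ a
  obtain ⟨z, hz, -⟩ := exists_point_of_isPullback sqW (x := x) (y := Points.ofScheme U u)
    (hu.symm.trans (Points.ofPt_eq_map_ofScheme _ _))
  obtain ⟨z, rfl⟩ := (Points.schemeHomeo _).surjective z
  have hzO : Points.ofPt fst z ∈ O := by
    have : Points.ofPt fst z = x := (Points.ofPt_eq_map_ofScheme _ _).trans hz
    exact this ▸ hx
  have := IsCofiltered.isConnected (Over i₁)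
  have : ∀ j, IsAffine ((W ⋙ Over.forget S).obj j) := hWA
  have : ∀ {j k} (f : j ⟶ k), IsAffineHom ((W ⋙ Over.forget S).map f) := fun f => inferInstance
  have hB := isBasis_preimage_isAffineOpen (W ⋙ Over.forget S) ((Over.forget S).mapCone cW)
    (isLimitOfPreserves (Over.forget S) hcW)
  let O' : ((Over.forget S).mapCone cW).pt.Opens :=
    ⟨Points.ofPt fst ⁻¹' O, hO.preimage (Points.continuous_ofPt fst)⟩
  obtain ⟨B', ⟨k, V, -, rfl⟩, hzV, hVO⟩ :=
    TopologicalSpace.Opens.isBasis_iff_nbhd.1 hB (show z ∈ O' from hzO)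
  have hae : RepWith @Etale (aW k) := repWith_of_isPullback (sqj k).flip ha
  have hsk : IsPullback fst ((yon S).map (cW.π.app k)) (c.π.app k.left) (aW k) := by
    refine IsPullback.of_bot ?_ (hfst k) (sqj k)
    rw [← Functor.map_comp, ← hp k, c.w]
    exact sqW
  refine ⟨Points.map (c.π.app k.left) ⁻¹' (Points.ofPt (aW k) '' V.carrier), ?_, ?_, ?_⟩
  · rintro y ⟨v, hv, hyv⟩
    obtain ⟨w, hw₁, hw₂⟩ := exists_point_of_isPullback hsk (x := y) (y := Points.ofScheme _ v)
      (hyv.symm.trans (Points.ofPt_eq_map_ofScheme _ _))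
    obtain ⟨w, rfl⟩ := (Points.schemeHomeo _).surjective w
    have hwy : (cW.π.app k).left w = v :=
      (Points.schemeHomeo (W.obj k)).injective ((Points.map_yon_map_apply _ _).symm.trans hw₂)
    have hwV : w ∈ ((Over.forget S).mapCone cW).π.app k ⁻¹ᵁ V := by
      show (cW.π.app k).left w ∈ V
      rw [hwy]; exact hv
    have h1 : Points.ofPt fst w ∈ O := hVO hwV
    have : Points.ofPt fst w = y := (Points.ofPt_eq_map_ofScheme _ _).trans hw₁
    exact this ▸ h1
  · exact (isOpen_induced_iff.2 ⟨_, isOpenMap_ofPt hae _ V.2, rfl⟩ : @IsOpen _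
      (TopologicalSpace.induced (Points.map (c.π.app k.left)) _) _).mono (iInf_le _ k.left)
  · refine ⟨(cW.π.app k).left z, hzV, ?_⟩
    rw [← hz, ← Points.map_comp, hfst k, Points.map_comp]
    exact (map_map_ofScheme (cW.π.app k) (aW k) z).symm

end Groth.Agent.AlgSpDec
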