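import Groth.Agent.AlgSpDec.LqfSplitShrink
import Groth.Agent.AlgSpDec.QuotRep
import Groth.Agent.AlgSpPts.Quot

/-!
# The scheme of pieces of a splitting
-/

set_option backward.isDefEq.respectTransparency false
set_option backward.isDefEq.respectTransparency.types false

universe u

open CategoryTheory Limits Opposite AlgebraicGeometry AlgSp Groth.Agent.AlgSpLib Groth.Agent.AlgSpPts

namespace Groth.Agent.AlgSpDec

variable {S : Scheme.{u}} {F : Sp S} {V : Over S} {p : (yon S).obj V ⟶ F}

/-- Morphisms out of the target of a locally surjective map descend along its kernel pair. -/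
theorem exists_desc_of_kernelPair {G H : Sp S} {U R : Over S} {a : (yon S).obj U ⟶ G}
    [Sheaf.IsLocallySurjective a] {t s : R ⟶ U} (sq : IsPullback ((yon S).map t) ((yon S).map s) a a)
    (f : (yon S).obj U ⟶ H) (hf : (yon S).map t ≫ f = (yon S).map s ≫ f) : ∃ g, a ≫ g = f := by
  have : Epi a := (Sheaf.isLocallySurjective_iff_epi a).1 inferInstance
  have : EffectiveEpi a := by
    have := IsRegularEpiCategory.regularEpiOfEpi a
    infer_instance
  exact ⟨EffectiveEpi.desc a f (fun g₁ g₂ h => by
    rw [← sq.lift_fst g₁ g₂ h, Category.assoc, hf, ← Category.assoc, sq.lift_snd]), EffectiveEpi.fac a _ _⟩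

/-- A space over a scheme is separated when the relation of an etale cover by a scheme is closed. -/
theorem isSeparatedMor_of_closed_relation {G : Sp S} (hG : IsAlgSpace G) {U R : Over S} {a : (yon S).obj U ⟶ G}
    [Sheaf.IsLocallySurjective a] {t s : R ⟶ U} (sq : IsPullback ((yon S).map t) ((yon S).map s) a a)
    {f : G ⟶ (yon S).obj V} {τ : U ⟶ V} (hτ : (yon S).map τ = a ≫ f) {i : R ⟶ pullback τ τ}
    (hi1 : i ≫ pullback.fst τ τ = t) (hi2 : i ≫ pullback.snd τ τ = s) [IsClosedImmersion i.left] :
    IsSeparatedMor f := by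
  let b : (yon S).obj (pullback τ τ) ⟶ pullback f f :=
    pullback.lift ((yon S).map (pullback.fst τ τ) ≫ a) ((yon S).map (pullback.snd τ τ) ≫ a) (by
      rw [Category.assoc, Category.assoc, ← hτ, ← Functor.map_comp, ← Functor.map_comp, pullback.condition])
  have : Sheaf.IsLocallySurjective b := by
    refine isLocallySurjective_of_lifts b fun X ξ => ?_
    obtain ⟨X₁, k₁, x₁, hk₁, hx₁⟩ := exists_fppf_lift_of_locallySurjective a (ξ ≫ pullback.fst f f)
    obtain ⟨x₁, rfl⟩ := (yon S).map_surjective x₁
    obtain ⟨X₂, k₂, x₂, hk₂, hx₂⟩ := exists_fppf_lift_of_locallySurjective a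
      ((yon S).map k₁ ≫ ξ ≫ pullback.snd f f)
    obtain ⟨x₂, rfl⟩ := (yon S).map_surjective x₂
    let l : X₂ ⟶ pullback τ τ := pullback.lift (k₂ ≫ x₁) x₂ ((yon S).map_injective (by
      rw [Functor.map_comp, Functor.map_comp, Functor.map_comp, hτ, Category.assoc, reassoc_of% hx₁,
        reassoc_of% hx₂, pullback.condition]))
    refine ⟨X₂, k₂ ≫ k₁, (yon S).map l, MorphismProperty.comp_mem _ k₂.left k₁.left hk₂ hk₁,
      pullback.hom_ext ?_ ?_⟩
    · rw [Category.assoc, pullback.lift_fst, ← Functor.map_comp_assoc, pullback.lift_fst, Functor.map_comp,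
        Category.assoc, hx₁, Functor.map_comp, Category.assoc, Category.assoc]
    · rw [Category.assoc, pullback.lift_snd, ← Functor.map_comp_assoc, pullback.lift_snd, hx₂, Functor.map_comp,
        Category.assoc, Category.assoc]
  have : Mono i := (Over.forget S).mono_of_mono_map (inferInstanceAs (Mono i.left))
  have hw : (yon S).map t ≫ a ≫ pullback.diagonal f = (yon S).map i ≫ b := by
    refine pullback.hom_ext ?_ ?_
    · simp only [Category.assoc, pullback.diagonal_fst, b, pullback.lift_fst, ← Functor.map_comp_assoc, hi1,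
        Category.comp_id]
    · simp only [Category.assoc, pullback.diagonal_snd, b, pullback.lift_snd, ← Functor.map_comp_assoc, hi2,
        Category.comp_id, sq.w]
  have sqd : IsPullback ((yon S).map t ≫ a) ((yon S).map i) (pullback.diagonal f) b := by
    refine ⟨⟨by rw [Category.assoc, hw]⟩, ⟨PullbackCone.isLimitAux' _ fun c => ?_⟩⟩
    have h1 : (c.snd ≫ (yon S).map (pullback.fst τ τ)) ≫ a = c.fst := by
      have := congrArg (· ≫ pullback.fst f f) c.condition
      simpa [b] using this.symm
    have h2 : (c.snd ≫ (yon S).map (pullback.snd τ τ)) ≫ a = c.fst := by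
      have := congrArg (· ≫ pullback.snd f f) c.condition
      simpa [b] using this.symm
    refine ⟨sq.lift _ _ (h1.trans h2.symm), ?_, ?_, fun {m} _ hm => ?_⟩
    · show sq.lift _ _ _ ≫ (yon S).map t ≫ a = c.fst
      rw [sq.lift_fst_assoc, h1]
    · show sq.lift _ _ _ ≫ (yon S).map i = c.snd
      refine ((IsPullback.of_hasPullback τ τ).map (yon S)).hom_ext ?_ ?_
      · rw [Category.assoc, ← Functor.map_comp, hi1, sq.lift_fst]
      · rw [Category.assoc, ← Functor.map_comp, hi2, sq.lift_snd]
    · change m ≫ (yon S).map i = c.snd at hm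
      refine sq.hom_ext ?_ ?_
      · rw [sq.lift_fst, ← hm, Category.assoc, ← Functor.map_comp, hi1]
      · rw [sq.lift_snd, ← hm, Category.assoc, ← Functor.map_comp, hi2]
  have := isLocalAtTarget_fppf (@IsClosedImmersion : MorphismProperty Scheme.{u})
  exact repWith_of_locallySurjective (diagonal_package hG (IsAlgSpace.yon_obj V) f).1 b sqd @IsClosedImmersion
    ((repWith_yon_map_iff _ i).2 ‹_›)

namespace Split

variable (D : Split p)

/-- The scheme classifying pieces over the points of `V`. -/
theorem exists_Z : ∃ (Z : Over S) (π : D.T ⟶ Z) (ζ : Z ⟶ V), Etale π.left ∧ Surjective π.left ∧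
    Etale ζ.left ∧ IsSeparated ζ.left ∧ π ≫ ζ = D.τ ∧
    ∀ {X : Over S} (a b : X ⟶ D.T), a ≫ π = b ≫ π ↔ a ≫ D.τ = b ≫ D.τ ∧ D.Same a b := by
  let TV : Over S := pullback D.τ D.τ
  let jt : TV ⟶ D.R2 := pullback.lift (f := D.cq) (g := D.τ) (pullback.fst D.τ D.τ ≫ D.σ) (pullback.snd D.τ D.τ)
    (by rw [Category.assoc, D.σcq, pullback.condition])
  have hj2 : jt ≫ D.rb = pullback.snd D.τ D.τ := pullback.lift_snd _ _ _
  have hj1 : jt ≫ D.ra = pullback.fst D.τ D.τ := by
    rw [pullback.lift_fst_assoc, Category.assoc, D.σsn, Category.comp_id]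
  let EV : TV.left.Opens := jt.left ⁻¹ᵁ D.E
  let R : Over S := openOver TV EV
  let i : R ⟶ TV := openOverι TV EV
  let t := i ≫ pullback.fst D.τ D.τ
  let s := i ≫ pullback.snd D.τ D.τ
  have : IsClosedImmersion i.left := IsClosedImmersion.of_isPreimmersion EV.ι (by
    rw [Scheme.Opens.range_ι]; exact D.isClosed_E.preimage jt.left.continuous)
  have : IsOpenImmersion i.left := inferInstanceAs (IsOpenImmersion EV.ι)
  have : Etale (pullback.fst D.τ D.τ).left := MorphismProperty.of_isPullback (P := @Etale)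
    ((IsPullback.of_hasPullback D.τ D.τ).map (Over.forget S)).flip D.etaleτ
  have : Etale (pullback.snd D.τ D.τ).left := MorphismProperty.of_isPullback (P := @Etale)
    ((IsPullback.of_hasPullback D.τ D.τ).map (Over.forget S)) D.etaleτ
  have hte : Etale t.left := inferInstanceAs (Etale (i.left ≫ (pullback.fst D.τ D.τ).left))
  have hse : Etale s.left := inferInstanceAs (Etale (i.left ≫ (pullback.snd D.τ D.τ).left))
  have hrel : ∀ {X : Over S} (a b : X ⟶ D.T),
      (∃ r : X ⟶ R, r ≫ t = a ∧ r ≫ s = b) ↔ a ≫ D.τ = b ≫ D.τ ∧ D.Same a b := by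
    intro X a b
    constructor
    · rintro ⟨r, rfl, rfl⟩
      refine ⟨by simp only [t, s, Category.assoc, pullback.condition], ?_⟩
      have h := (D.same_iff (r ≫ i ≫ jt)).2 fun x => (r.left x).2
      simp only [Category.assoc, hj1, hj2] at h
      exact h
    · rintro ⟨h1, h2⟩
      let l := pullback.lift (f := D.τ) (g := D.τ) a b h1
      obtain ⟨r, hr⟩ := exists_factor_openImm i l fun x => by
        show _ ∈ Set.range EV.ι
        rw [Scheme.Opens.range_ι]
        show jt.left (l.left x) ∈ D.E
        rw [← Scheme.Hom.comp_apply, ← Over.comp_left]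
        refine (D.same_iff (l ≫ jt)).1 ?_ x
        rw [Category.assoc, hj1, Category.assoc, hj2, pullback.lift_fst, pullback.lift_snd]
        exact h2
      exact ⟨r, by rw [reassoc_of% hr, pullback.lift_fst], by rw [reassoc_of% hr, pullback.lift_snd]⟩
  have : Mono i := (Over.forget S).mono_of_mono_map (inferInstanceAs (Mono EV.ι))
  have heq : IsEqvRel s t := ⟨fun X r r' h1 h2 => (cancel_mono i).1 (pullback.hom_ext
      (by simpa [t] using h1) (by simpa [s] using h2)),
    fun X => ⟨fun a => (hrel a a).2 ⟨rfl, Same.refl a⟩,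
      fun {a b} h => (hrel b a).2 ⟨((hrel a b).1 h).1.symm, ((hrel a b).1 h).2.symm⟩,
      fun {a b d} h h' => (hrel a d).2 ⟨((hrel a b).1 h).1.trans ((hrel b d).1 h').1,
        ((hrel a b).1 h).2.trans ((hrel b d).1 h').2⟩⟩⟩
  obtain ⟨G, a, sq, hls⟩ : ∃ (G : Sp S) (a : (yon S).obj D.T ⟶ G),
      IsPullback ((yon S).map t) ((yon S).map s) a a ∧ Sheaf.IsLocallySurjective a := by
    refine ⟨_, quotMap s t, isPullback_quotMap heq, ?_⟩
    have : Epi (QuotSh.quotπ Scheme.fppfPrecoverage s t) := by
      unfold QuotSh.quotπ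
      infer_instance
    exact (CategoryTheory.Sheaf.isLocallySurjective_iff_epi (quotMap s t)).2 (epi_comp _ _)
  have : Surjective s.left := ⟨fun x => by
    obtain ⟨r, -, hr2⟩ := (hrel (𝟙 D.T) (𝟙 D.T)).2 ⟨rfl, Same.refl _⟩
    exact ⟨r.left x, by rw [← Scheme.Hom.comp_apply, ← Over.comp_left, hr2, Over.id_left]; rfl⟩⟩
  have hG := isAlgSpace_of_etale_kernelPair sq
  have hr : Representable a := representable_of_kernelPair sq
  have := isLocalAtTarget_fppf (@Etale : MorphismProperty Scheme.{u})
  have := isLocalAtTarget_fppf (@Surjective : MorphismProperty Scheme.{u})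
  have hae := repWith_of_locallySurjective hr _ sq @Etale ((repWith_yon_map_iff _ _).2 hse)
  have has := repWith_of_locallySurjective hr _ sq @Surjective ((repWith_yon_map_iff _ _).2 ‹Surjective s.left›)
  obtain ⟨f, hf⟩ := exists_desc_of_kernelPair sq ((yon S).map D.τ) (by
    rw [← Functor.map_comp, ← Functor.map_comp, show t ≫ D.τ = s ≫ D.τ by
      simp only [t, s, Category.assoc, pullback.condition]])
  have hsep := isSeparatedMor_of_closed_relation hG sq hf.symm (i := i) rfl rfl
  have hqf : LocP (@LocallyQuasiFinite ⊓ @LocallyOfFiniteType) f :=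
    locP_of_chart hae has (repWith_id @Etale V) (h := D.τ) (by rw [Category.comp_id, hf])
      ⟨inferInstance, inferInstance⟩
  obtain ⟨Z, ⟨e⟩⟩ := exists_iso_of_lqf_separated hG f hqf hsep
  obtain ⟨π, hπ⟩ := (yon S).map_surjective (a ≫ e.inv)
  obtain ⟨ζ, hζ⟩ := (yon S).map_surjective (e.hom ≫ f)
  have hπe : Etale π.left := (repWith_yon_map_iff _ π).1 (by
    rw [hπ]; exact repWith_comp hae (repWith_of_isIso _ e.inv))
  have hπs : Surjective π.left := (repWith_yon_map_iff _ π).1 (by
    rw [hπ]; exact repWith_comp has (repWith_of_isIso _ e.inv))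
  have hπζ : π ≫ ζ = D.τ := (yon S).map_injective (by
    rw [Functor.map_comp, hπ, hζ, Category.assoc, e.inv_hom_id_assoc, hf])
  refine ⟨Z, π, ζ, hπe, hπs, IsEtLocal.of_precomp π.left ζ.left hπe hπs ?_, ?_, hπζ, fun {X} a' b' => ?_⟩
  · rw [← Over.comp_left, hπζ]; exact D.etaleτ
  · exact (isSeparatedMor_yon_map_iff ζ).1 (by rw [hζ]; exact isSeparatedMor_comp (isSeparatedMor_of_mono e.hom) hsep)
  · rw [← hrel]
    constructor
    · intro h
      exact exists_rel_lift sq a' b' (by
        rw [← cancel_mono e.inv, Category.assoc, Category.assoc, ← hπ, ← Functor.map_comp, ← Functor.map_comp, h])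
    · rintro ⟨r, rfl, rfl⟩
      have e1 : t ≫ π = s ≫ π := (yon S).map_injective (by
        rw [(yon S).map_comp t π, (yon S).map_comp s π, hπ, ← Category.assoc, ← Category.assoc, sq.w])
      exact (Category.assoc r t π).trans ((congrArg (r ≫ ·) e1).trans (Category.assoc r s π).symm)

end Split

end Groth.Agent.AlgSpDec
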