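import Groth.Agent.AlgSpDec.LimAffine
import Groth.Agent.AlgSpDec.LimPoints
import Groth.Agent.AlgSpDec.LqfSplitZ
import Groth.Agent.AlgSpDec.ArtinAffine

/-!
# Morphisms from a limit of spaces to a scheme of finite presentation
-/

set_option backward.isDefEq.respectTransparency false
set_option backward.isDefEq.respectTransparency.types false

universe u

open CategoryTheory Limits Opposite AlgebraicGeometry AlgSp Groth.Agent.AlgSpLib Groth.Agent.AlgSpPts

namespace Groth.Agent.AlgSpDec

variable {S : Scheme.{u}}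

theorem exists_over_hom_stage {J : Type u} [SmallCategory J] [IsCofiltered J] (W : J ⥤ Over S)
    (hWA : ∀ j, IsAffine (W.obj j).left) (cW : Cone W) (hcW : IsLimit cW) {Z : Over S}
    [LocallyOfFinitePresentation Z.hom] (a : cW.pt ⟶ Z) : ∃ (j : J) (g : W.obj j ⟶ Z), cW.π.app j ≫ g = a := by
  have := IsCofiltered.isConnected J
  have : ∀ j, IsAffine ((W ⋙ Over.forget S).obj j) := hWA
  have : ∀ {j k : J} (f : j ⟶ k), IsAffineHom ((W ⋙ Over.forget S).map f) := fun f => inferInstance
  let t : W ⋙ Over.forget S ⟶ (Functor.const J).obj S :=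
    { app := fun j => (W.obj j).hom
      naturality := fun j k f => (Over.w (W.map f)).trans (Category.comp_id _).symm }
  obtain ⟨j, g, hg, hg'⟩ := Scheme.exists_π_app_comp_eq_of_locallyOfFinitePresentation
    (W ⋙ Over.forget S) t Z.hom ((Over.forget S).mapCone cW) (isLimitOfPreserves (Over.forget S) hcW) a.left
    (by ext j; exact (Over.w (cW.π.app j)).trans (Over.w a).symm)
  exact ⟨j, CategoryTheory.Over.homMk g hg', Over.OverMorphism.ext hg⟩

theorem exists_over_hom_eq_stage {J : Type u} [SmallCategory J] [IsCofiltered J] (W : J ⥤ Over S)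
    (hWA : ∀ j, IsAffine (W.obj j).left) (cW : Cone W) (hcW : IsLimit cW) {Z : Over S}
    [LocallyOfFiniteType Z.hom] {j : J} (a b : W.obj j ⟶ Z) (h : cW.π.app j ≫ a = cW.π.app j ≫ b) :
    ∃ (k : J) (f : k ⟶ j), W.map f ≫ a = W.map f ≫ b := by
  have := IsCofiltered.isConnected J
  have : ∀ j, IsAffine ((W ⋙ Over.forget S).obj j) := hWA
  have : ∀ {j k : J} (f : j ⟶ k), IsAffineHom ((W ⋙ Over.forget S).map f) := fun f => inferInstance
  let t : W ⋙ Over.forget S ⟶ (Functor.const J).obj S :=
    { app := fun j => (W.obj j).hom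
      naturality := fun j k f => (Over.w (W.map f)).trans (Category.comp_id _).symm }
  obtain ⟨k, f, hf⟩ := Scheme.exists_hom_comp_eq_comp_of_locallyOfFiniteType
    (W ⋙ Over.forget S) t Z.hom ((Over.forget S).mapCone cW) (isLimitOfPreserves (Over.forget S) hcW)
    a.left b.left (Over.w a).symm (Over.w b).symm (congrArg (fun e => e.left) h)
  exact ⟨k, f, Over.OverMorphism.ext hf⟩

/-- A map from the limit of a system of quasi-compact quasi-separated spaces to a scheme of finite
presentation over the base comes from a stage. -/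
theorem exists_hom_to_scheme_stage [QuasiSeparatedSpace ↥S] {I : Type u} [SmallCategory I] [IsCofiltered I]
    (D : I ⥤ Sp S) (hDa : ∀ (i j : I) (φ : i ⟶ j), IsAffineMor (D.map φ))
    (hqc : ∀ i, IsQuasiCompactSp (D.obj i)) (hqs : ∀ i, IsQuasiSeparatedSp (D.obj i)) (c : Cone D) (hc : IsLimit c)
    {Z : Over S} [LocallyOfFinitePresentation Z.hom] (z : c.pt ⟶ (yon S).obj Z) :
    ∃ (i : I) (zi : D.obj i ⟶ (yon S).obj Z), c.π.app i ≫ zi = z := by
  obtain ⟨i₁⟩ := IsCofiltered.nonempty (C := I)
  obtain ⟨U, a, hU, ha, has⟩ := exists_affine_atlas (hqc i₁)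
  have : IsAffine U.left := hU
  obtain ⟨W, cW, hcW, p, fst, aW, bW, haw, sqW, hwb, hA, hWA, sqj, hfst, hp⟩ :=
    exists_limit_square'' D hDa c hc i₁ a
  obtain ⟨j, g, hg⟩ := exists_over_hom_stage W hWA cW hcW ((yon S).preimage (fst ≫ z))
  have hg' : (yon S).map (cW.π.app j) ≫ (yon S).map g = fst ≫ z := by
    rw [← Functor.map_comp, hg, Functor.map_preimage]
  -- cover the self product of the chart at `j`
  have hje : RepWith @Etale (aW j) := repWith_of_isPullback (sqj j).flip ha
  have hjs : RepWith @Surjective (aW j) := repWith_of_isPullback (sqj j).flip has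
  let R := hje.rep.pullback (aW j)
  have sR : IsPullback ((yon S).map (hje.rep.fst' (aW j))) ((yon S).map (hje.rep.snd (aW j))) (aW j) (aW j) :=
    hje.rep.isPullback' (aW j)
  have : IsAffine (W.obj j).left := hWA j
  have : QuasiCompact (hje.rep.snd (aW j)).left := quasiCompact_fibreProd (hqs j.left) sR
  have : CompactSpace ↥R.left := QuasiCompact.compactSpace_of_compactSpace (hje.rep.snd (aW j)).left
  obtain ⟨Z', r, hZ', hr, hrs⟩ := exists_affine_atlas ((isQuasiCompactSp_yon_iff R).2 inferInstance)
  have : IsAffine Z'.left := hZ'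
  obtain ⟨r', rfl⟩ := (yon S).map_surjective r
  let t := r' ≫ hje.rep.fst' (aW j)
  let s := r' ≫ hje.rep.snd (aW j)
  have hts : (yon S).map t ≫ aW j = (yon S).map s ≫ aW j := by
    rw [Functor.map_comp, Functor.map_comp, Category.assoc, Category.assoc, sR.w]
  obtain ⟨W', cW', hcW', p', fst', aW', bW', haw', sqW', hwb', hA', hWA', sqj', hfst', hp'⟩ :=
    exists_limit_square'' D hDa c hc j.left ((yon S).map t ≫ aW j)
  -- the two maps to `Z` agree in the limit
  have hsk : IsPullback fst ((yon S).map (cW.π.app j)) (c.π.app j.left) (aW j) := by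
    refine IsPullback.of_bot ?_ (hfst j) (sqj j)
    rw [← Functor.map_comp, ← hp j, c.w]
    exact sqW
  have hlim : (yon S).map p' ≫ (yon S).map t ≫ (yon S).map g = (yon S).map p' ≫ (yon S).map s ≫ (yon S).map g := by
    have e₁ : fst' ≫ c.π.app j.left = ((yon S).map p' ≫ (yon S).map t) ≫ aW j := by
      rw [sqW'.w, Category.assoc]
    have e₂ : fst' ≫ c.π.app j.left = ((yon S).map p' ≫ (yon S).map s) ≫ aW j := by
      rw [sqW'.w, hts, Category.assoc]
    have f₁ := hsk.lift_snd _ _ e₁
    have f₂ := hsk.lift_snd _ _ e₂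
    rw [← Category.assoc, ← Category.assoc, ← f₁, ← f₂, Category.assoc, Category.assoc, hg', ← Category.assoc,
      ← Category.assoc, hsk.lift_fst, hsk.lift_fst]
  let k₀ : Over j.left := Over.mk (𝟙 j.left)
  obtain ⟨k, f, hk⟩ := exists_over_hom_eq_stage W' hWA' cW' hcW' (Z := Z) (j := k₀)
    (bW' k₀ ≫ t ≫ g) (bW' k₀ ≫ s ≫ g) (by
      rw [← Category.assoc, ← Category.assoc _ (bW' k₀), ← hp' k₀]
      exact (yon S).map_injective (by simpa only [Functor.map_comp] using hlim))
  rw [reassoc_of% (hwb' f), reassoc_of% (hwb' f)] at hk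
  -- descend at the stage `k`
  let l : Over i₁ := Over.mk (k.hom ≫ j.hom)
  let φ : l ⟶ j := CategoryTheory.Over.homMk k.hom rfl
  have sφ : IsPullback (aW l) ((yon S).map (W.map φ)) (D.map k.hom) (aW j) := by
    refine IsPullback.of_bot ?_ (haw φ).symm (sqj j)
    rw [← Functor.map_comp, hwb, ← D.map_comp]
    exact sqj l
  have hle : RepWith @Etale (aW l) := repWith_of_isPullback (sqj l).flip ha
  have hls : RepWith @Surjective (aW l) := repWith_of_isPullback (sqj l).flip has
  have sRl : IsPullback ((yon S).map (hle.rep.fst' (aW l))) ((yon S).map (hle.rep.snd (aW l))) (aW l) (aW l) :=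
    hle.rep.isPullback' (aW l)
  let tl := hle.rep.fst' (aW l)
  let sl := hle.rep.snd (aW l)
  have hm : (((yon S).map (tl ≫ W.map φ))) ≫ aW j = (yon S).map (sl ≫ W.map φ) ≫ aW j := by
    rw [Functor.map_comp, Functor.map_comp, Category.assoc, Category.assoc, ← sφ.w, ← Category.assoc, sRl.w,
      Category.assoc]
  -- the self product at the stage is covered by the base change of the cover
  let m := sR.lift _ _ hm
  let Q := pullback m ((yon S).map r')
  let w : (yon S).obj (hle.rep.pullback (aW l)) ⟶ D.obj k.left := (yon S).map tl ≫ aW l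
  have hcond : (pullback.fst m ((yon S).map r') ≫ w) ≫ D.map k.hom = pullback.snd m ((yon S).map r') ≫
      (yon S).map t ≫ aW j := by
    have e : w ≫ D.map k.hom = m ≫ (yon S).map (hje.rep.fst' (aW j)) ≫ aW j := by
      rw [sR.lift_fst_assoc, Functor.map_comp, Category.assoc, Category.assoc, sφ.w]
    rw [Category.assoc, e, pullback.condition_assoc, Functor.map_comp, Category.assoc]
  let n := (sqj' k).lift _ _ hcond
  have hn : n ≫ (yon S).map (bW' k) = pullback.snd m ((yon S).map r') := (sqj' k).lift_snd _ _ _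
  have hep : Epi (pullback.fst m ((yon S).map r')) := by
    have sQ := IsPullback.of_hasPullback m ((yon S).map r')
    have he' : RepWith @Etale (pullback.fst m ((yon S).map r')) := repWith_of_isPullback sQ.flip hr
    have hs' : RepWith @Surjective (pullback.fst m ((yon S).map r')) := repWith_of_isPullback sQ.flip hrs
    exact (Sheaf.isLocallySurjective_iff_epi _).1 (isLocallySurjective_of_etale_surjective he' hs')
  have hdesc : (yon S).map tl ≫ (yon S).map (W.map φ ≫ g) = (yon S).map sl ≫ (yon S).map (W.map φ ≫ g) := by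
    refine (cancel_epi (pullback.fst m ((yon S).map r'))).1 ?_
    have e₁ : pullback.fst m ((yon S).map r') ≫ (yon S).map tl ≫ (yon S).map (W.map φ ≫ g) =
        n ≫ (yon S).map ((bW' k ≫ t) ≫ g) := by
      simp only [t, Functor.map_comp, Category.assoc]
      rw [reassoc_of% hn, ← pullback.condition_assoc, sR.lift_fst_assoc, Functor.map_comp, Category.assoc]
    have e₂ : pullback.fst m ((yon S).map r') ≫ (yon S).map sl ≫ (yon S).map (W.map φ ≫ g) =
        n ≫ (yon S).map ((bW' k ≫ s) ≫ g) := by
      simp only [s, Functor.map_comp, Category.assoc]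
      rw [reassoc_of% hn, ← pullback.condition_assoc, sR.lift_snd_assoc, Functor.map_comp, Category.assoc]
    rw [e₁, e₂]
    simp only [Category.assoc, hk]
  have := isLocallySurjective_of_etale_surjective hle hls
  obtain ⟨zi, hzi⟩ := exists_desc_of_kernelPair sRl ((yon S).map (W.map φ ≫ g)) hdesc
  refine ⟨k.left, zi, ?_⟩
  have hfe : Epi fst := (Sheaf.isLocallySurjective_iff_epi _).1 (isLocallySurjective_of_etale_surjective
    (repWith_of_isPullback sqW.flip ha) (repWith_of_isPullback sqW.flip has))
  rw [← cancel_epi fst, ← Category.assoc]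
  rw [show fst ≫ c.π.app k.left = (yon S).map (cW.π.app l) ≫ aW l from hfst l, Category.assoc, hzi,
    ← Functor.map_comp, ← Category.assoc, cW.w, Functor.map_comp, hg']

end Groth.Agent.AlgSpDec
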