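import Mathlib.AlgebraicGeometry.QuasiAffine
import Mathlib.AlgebraicGeometry.Morphisms.Flat
import Mathlib.CategoryTheory.Sites.RegularEpi
import Groth.Agent.AlgSpDec.ImmCover

/-!
# Effective descent of quasi-affine schemes along etale coverings
-/

set_option backward.isDefEq.respectTransparency false
set_option backward.isDefEq.respectTransparency.types false

universe u

open CategoryTheory Limits Opposite AlgebraicGeometry AlgSp Groth.Agent.AlgSpLib
open scoped TensorProduct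

namespace Groth.Agent.AlgSpDec

section Algebra

variable {A A' B D E : Type u} [CommRing A] [CommRing A'] [CommRing B] [CommRing D] [CommRing E]
  [Algebra A A'] [Algebra A B] [Algebra A D] [Algebra A E]

/-- The equalizer of the two pullback maps of a split descent situation is a form of the algebra. -/
theorem bijective_of_split [Module.Flat A A'] (β : A' →ₐ[A] B) (p₁ p₂ : B →ₐ[A] D) (rD : A' →ₐ[A] D)
    (d₁ d₂ e : D →ₐ[A] E) (rE : A' →ₐ[A] E) (σ : D →ₐ[A] B)
    (hκ₁ : Function.Bijective (Algebra.TensorProduct.lift p₁ rD (fun _ _ => Commute.all _ _)))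
    (hκ₂ : Function.Bijective (Algebra.TensorProduct.lift e rE (fun _ _ => Commute.all _ _)))
    (hd₁ : ∀ b, d₁ (p₁ b) = e (p₁ b)) (hd₂ : ∀ b, d₂ (p₁ b) = e (p₂ b))
    (hr₁ : ∀ a, d₁ (rD a) = rE a) (hr₂ : ∀ a, d₂ (rD a) = rE a) (hβ : ∀ a, p₂ (β a) = rD a)
    (hσ : ∀ b, σ (p₂ b) = b) (hd : ∀ b, d₁ (p₂ b) = d₂ (p₂ b)) :
    Function.Bijective (Algebra.TensorProduct.lift (AlgHom.equalizer p₁ p₂).val β
      (fun _ _ => Commute.all _ _) : AlgHom.equalizer p₁ p₂ ⊗[A] A' →ₐ[A] B) := by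
  let C := AlgHom.equalizer p₁ p₂
  let ι : C ⊗[A] A' →ₐ[A] B ⊗[A] A' := Algebra.TensorProduct.map C.val (AlgHom.id A A')
  let L : B →ₗ[A] D := p₁.toLinearMap - p₂.toLinearMap
  have hi : Function.Injective ι :=
    Module.Flat.rTensor_preserves_injective_linearMap (M := A') C.val.toLinearMap Subtype.val_injective
  have hex : Function.Exact C.val.toLinearMap L := fun b => by
    constructor
    · intro h
      exact ⟨⟨b, sub_eq_zero.1 h⟩, rfl⟩
    · rintro ⟨x, rfl⟩
      exact sub_eq_zero.2 x.2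
  have hex' := Module.Flat.rTensor_exact A' hex
  have key : ∀ z, Algebra.TensorProduct.lift p₁ rD (fun _ _ => Commute.all _ _) (ι z) =
      p₂ (Algebra.TensorProduct.lift C.val β (fun _ _ => Commute.all _ _) z) := by
    intro z
    induction z using TensorProduct.induction_on with
    | zero => simp
    | add x y hx hy => simp only [map_add, hx, hy]
    | tmul c a =>
      simp only [ι, Algebra.TensorProduct.map_tmul, Algebra.TensorProduct.lift_tmul, AlgHom.id_apply, map_mul, hβ]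
      exact congrArg (· * rD a) c.2
  refine ⟨fun z z' h => hi (hκ₁.1 (by rw [key, key, h])), fun b => ?_⟩
  obtain ⟨x, hx⟩ := hκ₁.2 (p₂ b)
  have hk : ∀ x, Algebra.TensorProduct.lift e rE (fun _ _ => Commute.all _ _) (L.rTensor A' x) =
      d₁ (Algebra.TensorProduct.lift p₁ rD (fun _ _ => Commute.all _ _) x) -
        d₂ (Algebra.TensorProduct.lift p₁ rD (fun _ _ => Commute.all _ _) x) := by
    intro x
    induction x using TensorProduct.induction_on with
    | zero => simp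
    | add x y hx hy => simp only [map_add, hx, hy]; abel
    | tmul b a => simp [L, hd₁, hd₂, hr₁, hr₂, sub_mul]
  obtain ⟨z, hz⟩ := (hex' x).1 (hκ₂.1 (by rw [hk, hx, hd, sub_self, map_zero]))
  refine ⟨z, ?_⟩
  have h2 := key z
  rw [show ι z = x from hz, hx] at h2
  rw [← hσ (Algebra.TensorProduct.lift C.val β (fun _ _ => Commute.all _ _) z), ← h2, hσ]

end Algebra

theorem isPushout_of_bijective_lift {A B A' D : CommRingCat.{u}} [Algebra A B] [Algebra A A'] [Algebra A D]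
    (p : ↥B →ₐ[↥A] ↥D) (r : ↥A' →ₐ[↥A] ↥D)
    (h : Function.Bijective (Algebra.TensorProduct.lift p r (fun _ _ => Commute.all _ _))) :
    IsPushout (CommRingCat.ofHom (algebraMap A B)) (CommRingCat.ofHom (algebraMap A A'))
      (CommRingCat.ofHom p.toRingHom) (CommRingCat.ofHom r.toRingHom) := by
  let e : CommRingCat.of (B ⊗[A] A') ≅ D := (RingEquiv.ofBijective
    (Algebra.TensorProduct.lift p r (fun _ _ => Commute.all _ _)).toRingHom h).toCommRingCatIso
  refine (CommRingCat.isPushout_tensorProduct A B A').of_iso (Iso.refl _) (Iso.refl _) (Iso.refl _) e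
    (by simp) (by simp) ?_ ?_
  · refine CommRingCat.hom_ext (RingHom.ext fun x => ?_)
    change Algebra.TensorProduct.lift p r (fun _ _ => Commute.all _ _) (x ⊗ₜ[A] (1 : A')) = p x
    simp
  · refine CommRingCat.hom_ext (RingHom.ext fun x => ?_)
    change Algebra.TensorProduct.lift p r (fun _ _ => Commute.all _ _) ((1 : B) ⊗ₜ[A] x) = r x
    simp

theorem bijective_lift_of_isPushout {A B A' D : CommRingCat.{u}} [Algebra A B] [Algebra A A'] [Algebra A D]
    (p : ↥B →ₐ[↥A] ↥D) (r : ↥A' →ₐ[↥A] ↥D)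
    (h : IsPushout (CommRingCat.ofHom (algebraMap A B)) (CommRingCat.ofHom (algebraMap A A'))
      (CommRingCat.ofHom p.toRingHom) (CommRingCat.ofHom r.toRingHom)) :
    Function.Bijective (Algebra.TensorProduct.lift p r (fun _ _ => Commute.all _ _)) := by
  let e := (CommRingCat.isPushout_tensorProduct A B A').isoIsPushout _ _ h
  have key : ∀ x : (B : Type u) ⊗[A] A', e.hom.hom x = Algebra.TensorProduct.lift p r (fun _ _ => Commute.all _ _) x := by
    intro x
    induction x using TensorProduct.induction_on with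
    | zero => simp
    | add x y hx hy => simp [hx, hy]
    | tmul b a =>
      have h1 := congr($(IsPushout.inl_isoIsPushout_hom _ _ (CommRingCat.isPushout_tensorProduct A B A') h).hom b)
      have h2 := congr($(IsPushout.inr_isoIsPushout_hom _ _ (CommRingCat.isPushout_tensorProduct A B A') h).hom a)
      have e0 : b ⊗ₜ[A] a = (b ⊗ₜ[A] (1 : A')) * ((1 : B) ⊗ₜ[A] a) := by simp
      rw [e0, map_mul, map_mul]
      exact (congrArg₂ (· * ·) h1 h2).trans (Algebra.TensorProduct.lift_tmul ..).symm |>.trans (by rw [← map_mul, ← e0])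
  have hb := ConcreteCategory.bijective_of_isIso e.hom
  convert hb using 1
  exact funext fun x => (key x).symm

/-- Flat base change for global sections. -/
theorem isPushout_appTop {X Y S T : Scheme.{u}} {f : T ⟶ S} {g : Y ⟶ X} {iX : X ⟶ S} {iY : Y ⟶ T}
    (H : IsPullback g iY iX f) [Flat f] [IsAffine S] [IsAffine T] [CompactSpace X] [QuasiSeparatedSpace X] :
    IsPushout iX.appTop f.appTop g.appTop iY.appTop := by
  have h := isIso_pushoutSection_of_isQuasiSeparated_of_flat_right H (US := ⊤) (UT := ⊤) (UX := ⊤) (UY := ⊤)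
    (by simp) (by simp) (by simp) (isAffineOpen_top S) (isAffineOpen_top T) isCompact_univ isQuasiSeparated_univ
  rw [isIso_pushoutSection_iff] at h
  simp only [Scheme.Hom.appTop, Scheme.Hom.app_eq_appLE]
  exact h

/-- The invariants of a split descent situation in commutative rings. -/
theorem exists_ring_form {A A' B D E : CommRingCat.{u}} (φ : A ⟶ A') (hφ : φ.hom.Flat) (β : A' ⟶ B)
    (P₁ P₂ : B ⟶ D) (RD : A' ⟶ D) (E₃ D₁ D₂ : D ⟶ E) (R₃ : A' ⟶ E) (Sg : D ⟶ B)
    (H₁ : IsPushout (φ ≫ β) φ P₁ RD) (H₂ : IsPushout (φ ≫ β ≫ P₁) φ E₃ R₃) (hβ : β ≫ P₂ = RD)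
    (hd₁ : P₁ ≫ D₁ = P₁ ≫ E₃) (hd₂ : P₁ ≫ D₂ = P₂ ≫ E₃) (hr₁ : RD ≫ D₁ = R₃) (hr₂ : RD ≫ D₂ = R₃)
    (hσ : P₂ ≫ Sg = 𝟙 B) (hd : P₂ ≫ D₁ = P₂ ≫ D₂) :
    ∃ (C : CommRingCat.{u}) (c : A ⟶ C) (iC : C ⟶ B), c ≫ iC = φ ≫ β ∧
      iC ≫ P₁ = iC ≫ P₂ ∧ IsPushout c φ iC β := by
  have h₁ := H₁.w
  have h₂ := H₂.w
  let _ : Algebra A A' := φ.hom.toAlgebra
  let _ : Algebra A B := (φ ≫ β).hom.toAlgebra
  let _ : Algebra A D := ((φ ≫ β) ≫ P₁).hom.toAlgebra
  let _ : Algebra A E := ((φ ≫ β ≫ P₁) ≫ E₃).hom.toAlgebra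
  have : Module.Flat A A' := hφ
  have happ : ∀ {X Y T : CommRingCat.{u}} {f : X ⟶ Y} {g : Y ⟶ T} {f' : X ⟶ T}, f ≫ g = f' →
      ∀ b, g.hom (f.hom b) = f'.hom b := fun h b => by subst h; rfl
  have e₂ : (φ ≫ β) ≫ P₂ = (φ ≫ β) ≫ P₁ := by rw [Category.assoc, hβ, h₁]
  have eD₁ : ((φ ≫ β) ≫ P₁) ≫ D₁ = (φ ≫ β ≫ P₁) ≫ E₃ := by simp only [Category.assoc, hd₁]
  have eD₂ : ((φ ≫ β) ≫ P₁) ≫ D₂ = (φ ≫ β ≫ P₁) ≫ E₃ := by
    rw [h₁, Category.assoc, hr₂, h₂]
  have eS : ((φ ≫ β) ≫ P₁) ≫ Sg = φ ≫ β := by rw [← e₂, Category.assoc, hσ, Category.comp_id]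
  let βa : A' →ₐ[A] B := { β.hom with commutes' := fun a => happ rfl a }
  let P₁a : B →ₐ[A] D := { P₁.hom with commutes' := fun a => happ rfl a }
  let P₂a : B →ₐ[A] D := { P₂.hom with commutes' := fun a => happ e₂ a }
  let RDa : A' →ₐ[A] D := { RD.hom with commutes' := fun a => happ h₁.symm a }
  let E₃a : D →ₐ[A] E := { E₃.hom with commutes' := fun a => happ (by rw [Category.assoc φ β P₁]) a }
  let R₃a : A' →ₐ[A] E := { R₃.hom with commutes' := fun a => happ h₂.symm a }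
  let D₁a : D →ₐ[A] E := { D₁.hom with commutes' := fun a => happ eD₁ a }
  let D₂a : D →ₐ[A] E := { D₂.hom with commutes' := fun a => happ eD₂ a }
  let Sga : D →ₐ[A] B := { Sg.hom with commutes' := fun a => happ eS a }
  have H₂' : IsPushout ((φ ≫ β) ≫ P₁) φ E₃ R₃ := by rw [Category.assoc]; exact H₂
  have hbij := bijective_of_split βa P₁a P₂a RDa D₁a D₂a E₃a R₃a Sga
    (bijective_lift_of_isPushout P₁a RDa H₁) (bijective_lift_of_isPushout E₃a R₃a H₂')
    (fun b => (happ hd₁ b).trans (happ rfl b).symm) (fun b => (happ hd₂ b).trans (happ rfl b).symm)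
    (fun a => happ hr₁ a) (fun a => happ hr₂ a) (fun a => happ hβ a) (fun b => happ hσ b)
    (fun b => (happ hd b).trans (happ rfl b).symm)
  exact ⟨CommRingCat.of (AlgHom.equalizer P₁a P₂a), CommRingCat.ofHom (algebraMap _ (AlgHom.equalizer P₁a P₂a)),
    CommRingCat.ofHom (AlgHom.equalizer P₁a P₂a).val.toRingHom, rfl,
    CommRingCat.hom_ext (RingHom.ext fun x => x.2),
    isPushout_of_bijective_lift (B := CommRingCat.of (AlgHom.equalizer P₁a P₂a)) _ βa hbij⟩

/-- The invariant global functions of a split descent situation form a ring whose base change is the ring of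
global functions upstairs. -/
theorem exists_affine_form {Z Z' W W₂ W₃ : Scheme.{u}} [IsAffine Z] [IsAffine Z'] [CompactSpace W]
    [QuasiSeparatedSpace W] [CompactSpace W₂] [QuasiSeparatedSpace W₂] (π : Z' ⟶ Z) [Flat π] (i : W ⟶ Z')
    (p₁ p₂ : W₂ ⟶ W) (r₂ : W₂ ⟶ Z') (e₃ d₁ d₂ : W₃ ⟶ W₂) (r₃ : W₃ ⟶ Z') (σ : W ⟶ W₂)
    (H₁ : IsPullback p₁ r₂ (i ≫ π) π) (H₂ : IsPullback e₃ r₃ (p₁ ≫ i ≫ π) π) (hp₂ : p₂ ≫ i = r₂)
    (hd₁ : d₁ ≫ p₁ = e₃ ≫ p₁) (hd₂ : d₂ ≫ p₁ = e₃ ≫ p₂) (hr₁ : d₁ ≫ r₂ = r₃) (hr₂ : d₂ ≫ r₂ = r₃)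
    (hσ : σ ≫ p₂ = 𝟙 W) (hd : d₁ ≫ p₂ = d₂ ≫ p₂) :
    ∃ (C : CommRingCat.{u}) (c : Γ(Z, ⊤) ⟶ C) (iC : C ⟶ Γ(W, ⊤)), c ≫ iC = (i ≫ π).appTop ∧
      iC ≫ p₁.appTop = iC ≫ p₂.appTop ∧ IsPushout c π.appTop iC i.appTop := by
  have k₁ := isPushout_appTop H₁
  have k₂ := isPushout_appTop H₂
  simp only [Scheme.Hom.comp_appTop] at k₁ k₂
  rw [Category.assoc] at k₂
  rw [Scheme.Hom.comp_appTop]
  refine exists_ring_form π.appTop π.flat_appTop i.appTop p₁.appTop p₂.appTop r₂.appTop e₃.appTop d₁.appTop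
    d₂.appTop r₃.appTop σ.appTop k₁ k₂ ?_ ?_ ?_ ?_ ?_ ?_ ?_
  · rw [← Scheme.Hom.comp_appTop, hp₂]
  · rw [← Scheme.Hom.comp_appTop, hd₁, Scheme.Hom.comp_appTop]
  · rw [← Scheme.Hom.comp_appTop, hd₂, Scheme.Hom.comp_appTop]
  · rw [← Scheme.Hom.comp_appTop, hr₁]
  · rw [← Scheme.Hom.comp_appTop, hr₂]
  · rw [← Scheme.Hom.comp_appTop, hσ, Scheme.Hom.id_appTop]
  · rw [← Scheme.Hom.comp_appTop, hd, Scheme.Hom.comp_appTop]

/-- The canonical map into the base change of the spectrum of the invariants is an open immersion. -/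
theorem isOpenImmersion_of_affine_form {Z Z' W Y : Scheme.{u}} [IsAffine Z] [IsAffine Z'] [W.IsQuasiAffine]
    {π : Z' ⟶ Z} {i : W ⟶ Z'} {C : CommRingCat.{u}} {c : Γ(Z, ⊤) ⟶ C} {iC : C ⟶ Γ(W, ⊤)}
    (hpo : IsPushout c π.appTop iC i.appTop) {pr : Y ⟶ Spec C} {pz : Y ⟶ Z'}
    (sqY : IsPullback pr pz (Spec.map c ≫ Z.isoSpec.inv) π) {j : W ⟶ Y}
    (h₁ : j ≫ pr = W.toSpecΓ ≫ Spec.map iC) (h₂ : j ≫ pz = i) : IsOpenImmersion j := by
  have sqS : IsPullback (Spec.map iC) (Spec.map i.appTop ≫ Z'.isoSpec.inv) (Spec.map c ≫ Z.isoSpec.inv) π :=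
    (isPullback_SpecMap_of_isPushout _ _ _ _ hpo).of_iso (Iso.refl _) (Iso.refl _) Z'.isoSpec.symm
      Z.isoSpec.symm (by simp) (by simp) (by simp) (by
        simp only [Iso.symm_hom]
        rw [Scheme.isoSpec_inv_naturality])
  have hj : j = W.toSpecΓ ≫ (sqS.isoIsPullback _ _ sqY).hom := by
    refine sqY.hom_ext ?_ ?_
    · rw [Category.assoc, sqS.isoIsPullback_hom_fst]
      exact h₁
    · rw [Category.assoc, sqS.isoIsPullback_hom_snd, ← Scheme.toSpecΓ_naturality_assoc, h₂]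
      simp [Scheme.isoSpec]
  rw [hj]
  infer_instance

variable {S : Scheme.{u}}

/-- Quasi-affine schemes descend along etale coverings. -/
theorem exists_quasiAffine_descent' {Z Z' : Over S} [IsAffine Z.left] [IsAffine Z'.left] (π : Z' ⟶ Z)
    [Etale π.left] [Surjective π.left] {W' : Over S} [W'.left.IsQuasiAffine] {P : Sp S}
    {q : P ⟶ (yon S).obj Z} {w : (yon S).obj W' ⟶ P} {i : W' ⟶ Z'}
    (sq : IsPullback w ((yon S).map i) q ((yon S).map π)) : ∃ Q : Over S, Q.left.IsQuasiAffine ∧ Nonempty ((yon S).obj Q ≅ P) := by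
  let k : W'.left ⟶ Z.left := i.left ≫ π.left
  let W'' : Over S := Over.mk (pullback.fst k π.left ≫ W'.hom)
  let p₁ : W'' ⟶ W' := CategoryTheory.Over.homMk (pullback.fst k π.left) rfl
  let r₂ : W'' ⟶ Z' := CategoryTheory.Over.homMk (pullback.snd k π.left) (by
    change pullback.snd k π.left ≫ Z'.hom = pullback.fst k π.left ≫ W'.hom
    rw [← Over.w π, ← pullback.condition_assoc]
    simp only [k, Category.assoc, Over.w π, Over.w i])
  have hwq : w ≫ q = (yon S).map (i ≫ π) := by rw [sq.w, Functor.map_comp]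
  have hrp : r₂ ≫ π = p₁ ≫ i ≫ π := Over.OverMorphism.ext pullback.condition.symm
  obtain ⟨p₂, hp₂, hp₂i⟩ : ∃ p₂ : W'' ⟶ W', (yon S).map p₂ ≫ w = (yon S).map p₁ ≫ w ∧ p₂ ≫ i = r₂ := by
    have h : ((yon S).map p₁ ≫ w) ≫ q = (yon S).map r₂ ≫ (yon S).map π := by
      rw [Category.assoc, hwq, ← Functor.map_comp, ← Functor.map_comp, hrp]
    refine ⟨(yon S).preimage (sq.lift _ _ h), ?_, (yon S).map_injective ?_⟩
    · rw [Functor.map_preimage, sq.lift_fst]
    · rw [Functor.map_comp, Functor.map_preimage, sq.lift_snd]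
  have hp₂k : p₂.left ≫ k = p₁.left ≫ k := by
    have := congrArg Over.Hom.left (show p₂ ≫ i ≫ π = p₁ ≫ i ≫ π by rw [← Category.assoc, hp₂i, hrp])
    exact this
  let k₂ : W''.left ⟶ Z.left := p₁.left ≫ k
  let W₃ : Over S := Over.mk (pullback.fst k₂ π.left ≫ W''.hom)
  let e₃ : W₃ ⟶ W'' := CategoryTheory.Over.homMk (pullback.fst k₂ π.left) rfl
  let d₁ : W₃ ⟶ W'' := CategoryTheory.Over.homMk (pullback.lift (e₃.left ≫ p₁.left) (pullback.snd k₂ π.left)
      (by rw [Category.assoc]; exact pullback.condition)) (by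
    change pullback.lift _ _ _ ≫ pullback.fst k π.left ≫ W'.hom = e₃.left ≫ W''.hom
    rw [pullback.lift_fst_assoc, Category.assoc, Over.w p₁])
  let d₂ : W₃ ⟶ W'' := CategoryTheory.Over.homMk (pullback.lift (e₃.left ≫ p₂.left) (pullback.snd k₂ π.left)
      (by rw [Category.assoc, hp₂k]; exact pullback.condition)) (by
    change pullback.lift _ _ _ ≫ pullback.fst k π.left ≫ W'.hom = e₃.left ≫ W''.hom
    rw [pullback.lift_fst_assoc, Category.assoc, Over.w p₂])
  let σ : W' ⟶ W'' := CategoryTheory.Over.homMk (pullback.lift (𝟙 W'.left) i.left (by simp [k])) (by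
    change pullback.lift _ _ _ ≫ pullback.fst k π.left ≫ W'.hom = W'.hom
    rw [pullback.lift_fst_assoc, Category.id_comp])
  have hext : ∀ {T : Over S} (a b : T ⟶ W'), (yon S).map a ≫ w = (yon S).map b ≫ w → a ≫ i = b ≫ i → a = b :=
    fun a b h₁ h₂ => (yon S).map_injective (sq.hom_ext h₁ (by rw [← Functor.map_comp, ← Functor.map_comp, h₂]))
  have hσ : σ ≫ p₂ = 𝟙 W' := hext _ _ (by
    rw [Functor.map_comp, Category.assoc, hp₂, ← Functor.map_comp_assoc]
    congr 2
    exact Over.OverMorphism.ext (pullback.lift_fst _ _ _)) (by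
    rw [Category.assoc, hp₂i, Category.id_comp]
    exact Over.OverMorphism.ext (pullback.lift_snd _ _ _))
  have hd : d₁ ≫ p₂ = d₂ ≫ p₂ := hext _ _ (by
    have e1 : d₁ ≫ p₁ = e₃ ≫ p₁ := Over.OverMorphism.ext (pullback.lift_fst _ _ _)
    have e2 : d₂ ≫ p₁ = e₃ ≫ p₂ := Over.OverMorphism.ext (pullback.lift_fst _ _ _)
    rw [Functor.map_comp, Functor.map_comp, Category.assoc, Category.assoc, hp₂, ← Functor.map_comp_assoc,
      ← Functor.map_comp_assoc, e1, e2, Functor.map_comp, Functor.map_comp, Category.assoc, Category.assoc, hp₂]) (by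
    rw [Category.assoc, Category.assoc, hp₂i]
    exact Over.OverMorphism.ext ((pullback.lift_snd _ _ _).trans (pullback.lift_snd _ _ _).symm))
  have : IsAffineHom p₁.left := MorphismProperty.pullback_fst _ _ (show IsAffineHom π.left from inferInstance)
  have : W''.left.IsQuasiAffine := Scheme.IsQuasiAffine.of_isAffineHom p₁.left
  obtain ⟨C, c, iC, hcC, hiC, hpo⟩ := exists_affine_form π.left i.left p₁.left p₂.left r₂.left e₃.left d₁.left
    d₂.left (pullback.snd k₂ π.left) σ.left (IsPullback.of_hasPullback k π.left)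
    (IsPullback.of_hasPullback k₂ π.left) (congrArg Over.Hom.left hp₂i) (pullback.lift_fst _ _ _)
    (pullback.lift_fst _ _ _) (pullback.lift_snd _ _ _) (pullback.lift_snd _ _ _) (congrArg Over.Hom.left hσ)
    (congrArg Over.Hom.left hd)
  let Y : Over S := Over.mk ((Spec.map c ≫ Z.left.isoSpec.inv) ≫ Z.hom)
  let tY : Y ⟶ Z := CategoryTheory.Over.homMk (Spec.map c ≫ Z.left.isoSpec.inv) rfl
  have hnat : ∀ {X : Scheme.{u}} (f : X ⟶ Z.left), X.toSpecΓ ≫ Spec.map f.appTop ≫ Z.left.isoSpec.inv = f :=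
    fun f => by rw [← Scheme.toSpecΓ_naturality_assoc]; simp [Scheme.isoSpec]
  let u₀ : W'.left ⟶ Spec C := W'.left.toSpecΓ ≫ Spec.map iC
  have hu₀ : u₀ ≫ Spec.map c ≫ Z.left.isoSpec.inv = k := by
    change (W'.left.toSpecΓ ≫ Spec.map iC) ≫ _ = _
    rw [Category.assoc, ← Spec.map_comp_assoc, hcC, hnat]
  let u : W' ⟶ Y := CategoryTheory.Over.homMk u₀ (by
    change u₀ ≫ (Spec.map c ≫ Z.left.isoSpec.inv) ≫ Z.hom = W'.hom
    rw [← Category.assoc, hu₀]
    simp [k, Over.w π, Over.w i])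
  have hu : p₁ ≫ u = p₂ ≫ u := Over.OverMorphism.ext (by
    change p₁.left ≫ W'.left.toSpecΓ ≫ Spec.map iC = p₂.left ≫ W'.left.toSpecΓ ≫ Spec.map iC
    rw [Scheme.toSpecΓ_naturality_assoc, Scheme.toSpecΓ_naturality_assoc, ← Spec.map_comp, ← Spec.map_comp, hiC])
  -- descend the map to it
  have hwe : RepWith @Etale w := repWith_of_isPullback sq.flip ((repWith_yon_map_iff _ _).2 ‹Etale π.left›)
  have hws : RepWith @Surjective w := repWith_of_isPullback sq.flip ((repWith_yon_map_iff _ _).2 ‹Surjective π.left›)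
  have : Epi w := epi_of_etale_surjective hwe hws
  let hreg : RegularEpi w := (IsRegularEpiCategory.regularEpiOfEpi w).regularEpi.some
  have hpair : hreg.left ≫ (yon S).map u = hreg.right ≫ (yon S).map u := by
    apply Sheaf.hom_ext
    ext T s
    let t : (yon S).obj T.unop ⟶ hreg.W := (J S).uliftYonedaEquiv.{u + 1}.symm s
    have key : (t ≫ hreg.left) ≫ (yon S).map u = (t ≫ hreg.right) ≫ (yon S).map u := by
      obtain ⟨a, ha⟩ := (yon S).map_surjective (t ≫ hreg.left)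
      obtain ⟨b, hb⟩ := (yon S).map_surjective (t ≫ hreg.right)
      rw [← ha, ← hb]
      have hab : (yon S).map a ≫ w = (yon S).map b ≫ w := by rw [ha, hb, Category.assoc, Category.assoc, hreg.w]
      have hk : a ≫ i ≫ π = (b ≫ i) ≫ π := (yon S).map_injective (by
        rw [Functor.map_comp, ← hwq, ← Category.assoc, hab, Category.assoc, hwq, ← Functor.map_comp,
          Category.assoc])
      let z : T.unop ⟶ W'' := CategoryTheory.Over.homMk (pullback.lift a.left (b ≫ i).left (congrArg Over.Hom.left hk)) (by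
        change pullback.lift _ _ _ ≫ pullback.fst k π.left ≫ W'.hom = _
        rw [pullback.lift_fst_assoc, Over.w a])
      have hz₁ : z ≫ p₁ = a := Over.OverMorphism.ext (pullback.lift_fst _ _ _)
      have hz₂ : z ≫ p₂ = b := hext _ _ (by
        rw [Functor.map_comp, Category.assoc, hp₂, ← Functor.map_comp_assoc, hz₁, hab]) (by
        rw [Category.assoc, hp₂i]; exact Over.OverMorphism.ext (pullback.lift_snd _ _ _))
      rw [← Functor.map_comp, ← Functor.map_comp, ← hz₁, ← hz₂, Category.assoc, Category.assoc, hu]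
    have h2 := congrArg (J S).uliftYonedaEquiv.{u + 1} key
    rwa [Category.assoc, Category.assoc, GrothendieckTopology.uliftYonedaEquiv_comp,
      GrothendieckTopology.uliftYonedaEquiv_comp, Equiv.apply_symm_apply] at h2
  obtain ⟨G, hG⟩ := hreg.desc' ((yon S).map u) hpair
  -- after base change it is the canonical open immersion
  let pb := pullback.fst tY.left π.left
  let Y' : Over S := Over.mk (pb ≫ Y.hom)
  let pr : Y' ⟶ Y := CategoryTheory.Over.homMk pb rfl
  let pz : Y' ⟶ Z' := CategoryTheory.Over.homMk (pullback.snd tY.left π.left) (by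
    change pullback.snd tY.left π.left ≫ Z'.hom = pullback.fst tY.left π.left ≫ Y.hom
    rw [← Over.w π, ← Over.w tY, pullback.condition_assoc])
  have sqY : IsPullback pr pz tY π :=
    IsPullback.of_map (Over.forget S) (Over.OverMorphism.ext pullback.condition)
      (IsPullback.of_hasPullback tY.left π.left)
  have hut : u ≫ tY = i ≫ π := Over.OverMorphism.ext hu₀
  obtain ⟨j, hj₁, hj₂⟩ : ∃ j : W' ⟶ Y', j ≫ pr = u ∧ j ≫ pz = i :=
    ⟨sqY.lift u i hut, sqY.lift_fst _ _ _, sqY.lift_snd _ _ _⟩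
  have hGq : G ≫ (yon S).map tY = q := by
    rw [← cancel_epi w, ← Category.assoc, hG, ← Functor.map_comp, hut, hwq]
  have sqW : IsPullback w ((yon S).map j) G ((yon S).map pr) :=
    IsPullback.of_bot (by
      rw [hGq, ← Functor.map_comp, hj₂]
      exact sq) (by rw [hG, ← Functor.map_comp, hj₁]) (sqY.map (yon S))
  have hjo : RepWith @IsOpenImmersion ((yon S).map j) := (repWith_yon_map_iff _ _).2
    (isOpenImmersion_of_affine_form hpo (IsPullback.of_hasPullback tY.left π.left)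
      (congrArg Over.Hom.left hj₁) (congrArg Over.Hom.left hj₂))
  have : Etale pr.left := MorphismProperty.pullback_fst _ _ ‹Etale π.left›
  have : Surjective pr.left := MorphismProperty.pullback_fst _ _ ‹Surjective π.left›
  have hGo : RepWith @IsOpenImmersion G := repWith_isOpenImmersion_of_etale_cover
    ((repWith_yon_map_iff _ _).2 ‹Etale pr.left›) ((repWith_yon_map_iff _ _).2 ‹Surjective pr.left›) sqW hjo
  have := (hGo.rep.isPullback (𝟙 _)).isIso_fst_of_isIso
  let e := asIso (hGo.rep.fst (𝟙 _))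
  refine ⟨hGo.rep.pullback (𝟙 _), ?_, ⟨e⟩⟩
  obtain ⟨w', hw'⟩ := (yon S).map_surjective (w ≫ e.inv)
  have hsur : Surjective w'.left := by
    have h1 : RepWith @Surjective ((yon S).map w') := by
      rw [hw']
      exact repWith_comp hws (repWith_of_isIso _ e.inv)
    exact (repWith_yon_map_iff _ _).1 h1
  have : CompactSpace ↥(hGo.rep.pullback (𝟙 ((yon S).obj Y))).left := ⟨by
    rw [← w'.left.surjective.range_eq]
    exact isCompact_range w'.left.continuous⟩
  have : IsOpenImmersion (hGo.rep.snd (𝟙 ((yon S).obj Y))).left := hGo.property_snd _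
  have : IsAffine Y.left := inferInstanceAs (IsAffine (Spec C))
  exact Scheme.IsQuasiAffine.of_isImmersion (hGo.rep.snd (𝟙 ((yon S).obj Y))).left

theorem exists_quasiAffine_descent {Z Z' : Over S} [IsAffine Z.left] [IsAffine Z'.left] (π : Z' ⟶ Z)
    [Etale π.left] [Surjective π.left] {W' : Over S} [W'.left.IsQuasiAffine] {P : Sp S}
    {q : P ⟶ (yon S).obj Z} {w : (yon S).obj W' ⟶ P} {i : W' ⟶ Z'}
    (sq : IsPullback w ((yon S).map i) q ((yon S).map π)) : ∃ Q : Over S, Nonempty ((yon S).obj Q ≅ P) :=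
  let ⟨Q, _, h⟩ := exists_quasiAffine_descent' π sq
  ⟨Q, h⟩

end Groth.Agent.AlgSpDec
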