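import Groth.Agent.AlgSpDec.LimAffineModel
import Groth.Agent.AlgSpDec.LimHomScheme
import Groth.Agent.AlgSpDec.LimDescentIso
import Groth.Agent.AlgSpDec.LimDescentRep
import Groth.Agent.AlgSpDec.LimFinite
import Groth.Agent.AlgSpDec.QuasiAffineDescent
import Groth.Agent.AlgSpDec.QuasiAffineMor

/-!
# A limit which is affine is affine at some stage
-/

set_option backward.isDefEq.respectTransparency false
set_option backward.isDefEq.respectTransparency.types false

universe u

open CategoryTheory Limits Opposite AlgebraicGeometry AlgSp Groth.Agent.AlgSpLib Groth.Agent.AlgSpPts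

namespace Groth.Agent.AlgSpDec

variable {S : Scheme.{u}}

theorem isQuasiSeparatedSp_yon_iff' (U : Over S) :
    IsQuasiSeparatedSp ((yon S).obj U) ↔ QuasiSeparated U.hom := by
  rw [isQuasiSeparatedSp_iff_mor, (isTerminalYon S).hom_ext ((isTerminalYon S).from _)
    ((yon S).map (Over.mkIdTerminal.from U)), isQuasiSeparatedMor_yon_map_iff]
  have : (Over.mkIdTerminal.from U).left = U.hom :=
    (Category.comp_id _).symm.trans (Over.w (Over.mkIdTerminal.from U))
  rw [this]

theorem quasiSeparated_hom_of_affine [QuasiSeparatedSpace ↥S] (U : Over S) [IsAffine U.left] :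
    QuasiSeparated U.hom := by
  have : QuasiSeparated (U.hom ≫ terminal.from S) := by
    rw [terminal.comp_from]; exact (quasiSeparatedSpace_iff_quasiSeparated _).1 inferInstance
  exact QuasiSeparated.of_comp U.hom (terminal.from S)

/-- An absolute scheme over the integers, base changed to the base. -/
noncomputable def baseChangeOver (S : Scheme.{u}) (Y : Scheme.{u}) : Over S :=
  Over.mk (pullback.snd (terminal.from Y) (terminal.from S))

/-- If the maps from the stages to a model become affine after an etale covering, they are quasi-affine. -/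
theorem isQuasiAffineMor_of_affine_chart [QuasiSeparatedSpace ↥S] {X : Sp S} {W U Y : Over S} [IsAffine W.left]
    [QuasiSeparatedSpace ↥U.left] {aW : (yon S).obj W ⟶ X} {g : W ⟶ U} {y : X ⟶ (yon S).obj Y} {π : U ⟶ Y}
    [Etale π.left] [Surjective π.left] [IsAffineHom π.left]
    (sq : IsPullback aW ((yon S).map g) y ((yon S).map π)) : IsQuasiAffineMor y := fun Z hZ z => by
  have : IsAffine Z.left := hZ
  obtain ⟨z', rfl⟩ := (yon S).map_surjective z
  let Z' := pullback π z'
  have sZ : IsPullback (pullback.fst π z').left (pullback.snd π z').left π.left z'.left :=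
    (IsPullback.of_hasPullback π z').map (Over.forget S)
  have : Etale (pullback.snd π z').left := MorphismProperty.of_isPullback sZ ‹_›
  have : Surjective (pullback.snd π z').left := MorphismProperty.of_isPullback sZ ‹_›
  have : IsAffineHom (pullback.snd π z').left := MorphismProperty.of_isPullback sZ ‹_›
  have : IsAffine Z'.left := isAffine_of_isAffineHom (pullback.snd π z').left
  let W' := pullback g (pullback.fst π z')
  have sW : IsPullback (pullback.fst g (pullback.fst π z')).left (pullback.snd g (pullback.fst π z')).left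
      g.left (pullback.fst π z').left :=
    (IsPullback.of_hasPullback g (pullback.fst π z')).map (Over.forget S)
  have : QuasiCompact (g.left ≫ terminal.from U.left) := by
    rw [terminal.comp_from]; exact (compactSpace_iff_quasiCompact _).1 inferInstance
  have : QuasiSeparated (terminal.from U.left) := (quasiSeparatedSpace_iff_quasiSeparated _).1 inferInstance
  have : QuasiCompact g.left := QuasiCompact.of_comp g.left (terminal.from U.left)
  have : QuasiCompact (pullback.snd g (pullback.fst π z')).left := MorphismProperty.of_isPullback sW this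
  have : CompactSpace ↥W'.left := QuasiCompact.compactSpace_of_compactSpace (pullback.snd g (pullback.fst π z')).left
  let m := sW.isoPullback.hom ≫
    pullback.mapDesc g.left (pullback.fst π z').left (terminal.from U.left)
  have : IsImmersion m := inferInstance
  have hA : IsAffine (pullback (g.left ≫ terminal.from U.left) ((pullback.fst π z').left ≫ terminal.from U.left)) :=
    inferInstance
  have : W'.left.IsQuasiAffine := Scheme.IsQuasiAffine.of_isImmersion m
  let P := pullback y ((yon S).map z')
  have hcond : ((yon S).map (pullback.fst g (pullback.fst π z')) ≫ aW) ≫ y =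
      ((yon S).map (pullback.snd g (pullback.fst π z')) ≫ (yon S).map (pullback.snd π z')) ≫ (yon S).map z' := by
    rw [Category.assoc, sq.w, ← Functor.map_comp, ← Functor.map_comp, ← Functor.map_comp, ← Functor.map_comp,
      pullback.condition_assoc, pullback.condition, Category.assoc]
  let w := pullback.lift (f := y) (g := (yon S).map z') _ _ hcond
  have sP : IsPullback w ((yon S).map (pullback.snd g (pullback.fst π z'))) (pullback.snd y ((yon S).map z'))
      ((yon S).map (pullback.snd π z')) := by
    refine IsPullback.of_right ?_ (pullback.lift_snd _ _ _) (IsPullback.of_hasPullback y ((yon S).map z'))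
    rw [pullback.lift_fst, ← Functor.map_comp, ← pullback.condition, Functor.map_comp]
    exact ((IsPullback.of_hasPullback g (pullback.fst π z')).map (yon S)).paste_horiz sq
  obtain ⟨Q, hQ, ⟨e⟩⟩ := exists_quasiAffine_descent' (pullback.snd π z') sP
  obtain ⟨i, hi⟩ := (yon S).map_surjective (e.hom ≫ pullback.snd y ((yon S).map z'))
  refine ⟨Q, i, e.hom ≫ pullback.fst y ((yon S).map z'), ?_, hQ⟩
  rw [hi]
  exact (IsPullback.of_hasPullback y ((yon S).map z')).of_iso e.symm (Iso.refl _) (Iso.refl _) (Iso.refl _)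
    (by simp) (by simp) (by simp) (by simp)

theorem exists_isAffine_stage [QuasiSeparatedSpace ↥S] {I : Type u} [SmallCategory I] [IsCofiltered I]
    (D : I ⥤ Sp S) (hD : ∀ i, IsAlgSpace (D.obj i)) (hDa : ∀ (i j : I) (φ : i ⟶ j), IsAffineMor (D.map φ))
    (hqc : ∀ i, IsQuasiCompactSp (D.obj i)) (hqs : ∀ i, IsQuasiSeparatedSp (D.obj i)) (c : Cone D) (hc : IsLimit c)
    (T : Over S) (hT : IsAffine T.left) (e : (yon S).obj T ≅ c.pt) :
    ∃ (i : I) (T' : Over S), IsAffine T'.left ∧ Nonempty ((yon S).obj T' ≅ D.obj i) := by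
  have : IsAffine T.left := hT
  obtain ⟨i₁⟩ := IsCofiltered.nonempty (C := I)
  obtain ⟨U, a, hU, ha, has⟩ := exists_affine_atlas (hqc i₁)
  have : IsAffine U.left := hU
  obtain ⟨W, cW, hcW, p, fst, aW, bW, haw, sqW, hwb, hA, hWA, sqj, hfst, hp⟩ :=
    exists_limit_square'' D hDa c hc i₁ a
  have : IsAffine cW.pt.left := hA
  have hfe : RepWith @Etale fst := repWith_of_isPullback sqW.flip ha
  have hfs : RepWith @Surjective fst := repWith_of_isPullback sqW.flip has
  obtain ⟨π, hπ⟩ := (yon S).map_surjective (fst ≫ e.inv)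
  have : Etale π.left := (repWith_yon_map_iff _ π).1 (by rw [hπ]; exact repWith_comp hfe (repWith_of_isIso _ _))
  have : Surjective π.left := (repWith_yon_map_iff _ π).1 (by rw [hπ]; exact repWith_comp hfs (repWith_of_isIso _ _))
  -- the model, base changed to `S`
  obtain ⟨Y, U₀, q, π₀, q', hU₀, _, _, _, hY, sq₀⟩ := exists_etale_affine_model π.left
  let YS := baseChangeOver S Y
  let US := baseChangeOver S U₀
  let πS : US ⟶ YS := CategoryTheory.Over.homMk
    (pullback.map _ _ _ _ π₀ (𝟙 S) (𝟙 _) (by simp) (by simp)) (pullback.lift_snd _ _ _)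
  let qS : T ⟶ YS := CategoryTheory.Over.homMk (pullback.lift q T.hom (terminal.hom_ext _ _)) (pullback.lift_snd _ _ _)
  let q'S : cW.pt ⟶ US :=
    CategoryTheory.Over.homMk (pullback.lift q' cW.pt.hom (terminal.hom_ext _ _)) (pullback.lift_snd _ _ _)
  have sbase : IsPullback (pullback.fst (terminal.from U₀) (terminal.from S)) πS.left π₀
      (pullback.fst (terminal.from Y) (terminal.from S)) := by
    refine IsPullback.of_bot (v₂₁ := pullback.snd (terminal.from Y) (terminal.from S))
      (v₂₂ := terminal.from Y) (h₃₁ := terminal.from S) ?_ (pullback.lift_fst _ _ _).symm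
      (IsPullback.of_hasPullback (terminal.from Y) (terminal.from S))
    rw [terminal.comp_from π₀]
    convert IsPullback.of_hasPullback (terminal.from U₀) (terminal.from S) using 1
    exact pullback.lift_snd _ _ _ |>.trans (Category.comp_id _)
  have hwS : q'S ≫ πS = π ≫ qS := Over.OverMorphism.ext <| pullback.hom_ext
    (by simp [q'S, πS, qS, sq₀.w]) (by simp [q'S, πS, qS])
  have sqS : IsPullback q'S.left π.left πS.left qS.left := by
    refine IsPullback.of_right ?_ (congrArg (fun f => f.left) hwS) sbase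
    simpa [q'S, qS] using sq₀
  have sqS' : IsPullback ((yon S).map q'S) ((yon S).map π) ((yon S).map πS) ((yon S).map qS) :=
    (IsPullback.of_map (Over.forget S) hwS sqS).map (yon S)
  have : Etale πS.left := MorphismProperty.of_isPullback sbase ‹_›
  have : Surjective πS.left := MorphismProperty.of_isPullback sbase ‹_›
  have : IsAffineHom πS.left := MorphismProperty.of_isPullback sbase ‹_›
  have : LocallyOfFinitePresentation YS.hom := MorphismProperty.pullback_snd _ _ hY
  have : LocallyOfFinitePresentation US.hom := by rw [← Over.w πS]; infer_instance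
  have : QuasiSeparatedSpace ↥US.left := by
    have : IsAffineHom (terminal.from U₀) := inferInstance
    have : IsAffineHom US.hom := MorphismProperty.pullback_snd _ _ this
    exact quasiSeparatedSpace_of_quasiSeparated US.hom
  -- descend the maps to the model
  obtain ⟨i₂, y₂, hy₂⟩ := exists_hom_to_scheme_stage D hDa hqc hqs c hc (e.inv ≫ (yon S).map qS)
  obtain ⟨j₃, g₃, hg₃⟩ := exists_over_hom_stage W hWA cW hcW q'S
  obtain ⟨l, u, v, -⟩ := IsCofilteredOrEmpty.cone_objs i₂ j₃.left
  let j₄ : Over i₁ := Over.mk (v ≫ j₃.hom)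
  let φ₄ : j₄ ⟶ j₃ := CategoryTheory.Over.homMk v rfl
  obtain ⟨h₄, hh₄⟩ := (yon S).map_surjective (aW j₄ ≫ D.map u ≫ y₂)
  obtain ⟨j, φ, hφ⟩ := exists_over_hom_eq_stage W hWA cW hcW (W.map φ₄ ≫ g₃ ≫ πS) h₄ (by
    rw [cW.w_assoc, ← Category.assoc, hg₃, hwS]
    refine (yon S).map_injective ?_
    rw [Functor.map_comp, Functor.map_comp, hπ, hh₄, ← Category.assoc ((yon S).map (cW.π.app j₄)), ← hfst,
      Category.assoc, Category.assoc]
    refine congrArg (fst ≫ ·) ?_
    exact hy₂.symm.trans (c.w_assoc u y₂).symm)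
  let g : W.obj j ⟶ US := W.map (φ ≫ φ₄) ≫ g₃
  let y : D.obj j.left ⟶ (yon S).obj YS := D.map (φ.left ≫ u) ≫ y₂
  have hgy : (yon S).map g ≫ (yon S).map πS = aW j ≫ y := by
    have : g ≫ πS = W.map φ ≫ h₄ := by rw [← hφ]; simp [g]
    rw [← Functor.map_comp, this, Functor.map_comp, hh₄, ← Category.assoc, haw, Category.assoc,
      ← Functor.map_comp_assoc]
  have hg : cW.π.app j ≫ g = q'S := by
    change cW.π.app j ≫ W.map (φ ≫ φ₄) ≫ g₃ = q'S
    rw [cW.w_assoc]; exact hg₃
  have hy : c.π.app j.left ≫ y = e.inv ≫ (yon S).map qS := by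
    change c.π.app j.left ≫ D.map (φ.left ≫ u) ≫ y₂ = _
    rw [c.w_assoc]; exact hy₂
  -- compare the two coverings at the stage
  let P := pullback y ((yon S).map πS)
  have sP := IsPullback.of_hasPullback y ((yon S).map πS)
  let m : (yon S).obj (W.obj j) ⟶ P := pullback.lift (aW j) ((yon S).map g) hgy.symm
  have hPe : RepWith @Etale (pullback.fst y ((yon S).map πS)) :=
    repWith_of_isPullback sP.flip ((repWith_yon_map_iff _ _).2 ‹_›)
  have hPa : RepWith @IsAffineHom (pullback.fst y ((yon S).map πS)) :=
    repWith_of_isPullback sP.flip ((repWith_yon_map_iff _ _).2 ‹_›)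
  have hPA : IsAlgSpace P := isAlgSpace_pullback (hD _) (IsAlgSpace.yon_obj _) (IsAlgSpace.yon_obj _) _ _
  have hme : LocP @Etale m := locP_of_comp' (Q := @Etale) (fun f g hfg hg => by
    haveI : Etale (f ≫ g) := hfg; haveI : Etale g := hg; exact Etale.of_comp f g) (hD j.left)
    (by rw [pullback.lift_fst]; exact locP_of_repWith (repWith_of_isPullback (sqj j).flip ha))
    (locP_of_repWith hPe)
  have hlim : (((yon S).map (cW.π.app j)) ≫ m) ≫ pullback.fst y ((yon S).map πS) = fst ≫ c.π.app j.left := by
    rw [Category.assoc, pullback.lift_fst, ← hfst]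
  have hY' : IsPullback ((yon S).map (cW.π.app j) ≫ m) fst (pullback.fst y ((yon S).map πS)) (c.π.app j.left) := by
    refine IsPullback.of_right ?_ hlim sP.flip
    rw [Category.assoc, pullback.lift_snd, ← Functor.map_comp, hg, hy]
    refine sqS'.of_iso (Iso.refl _) (Iso.refl _) e (Iso.refl _) (by simp) ?_ (by simp) (by simp)
    rw [hπ]; simp
  have hsk : IsPullback fst ((yon S).map (cW.π.app j)) (c.π.app j.left) (aW j) := by
    refine IsPullback.of_bot ?_ (hfst j) (sqj j)
    rw [← Functor.map_comp, ← hp j, c.w]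
    exact sqW
  have hX' : IsPullback ((yon S).map (cW.π.app j)) (𝟙 _) m ((yon S).map (cW.π.app j) ≫ m) := by
    refine IsPullback.of_bot ?_ (by simp) hY'
    rw [Category.id_comp, pullback.lift_fst]
    exact hsk.flip
  have : IsAffine (W.obj j).left := hWA j
  obtain ⟨k, ψ, hk⟩ := descend_isIso D hD hDa c hc (X₀ := ⟨(yon S).obj (W.obj j), IsAlgSpace.yon_obj _⟩)
    (Y₀ := ⟨P, hPA⟩) (f₀ := m) (b₀ := pullback.fst y ((yon S).map πS))
    ((isQuasiCompactSp_yon_iff _).2 inferInstance)
    ((isQuasiSeparatedSp_yon_iff' _).2 (quasiSeparated_hom_of_affine _))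
    (isQuasiSeparatedSp_of_affine _ hPa (hqs _)) hY' hX' (isQuasiCompactSp_of_affine (hD _) _ hPa (hqc _))
    (locP_mono (fun _ _ h (_ : Etale h) => (inferInstance : LocallyOfFinitePresentation h)) hme)
  let sYk := IsPullback.of_hasPullback (pullback.fst y ((yon S).map πS)) (D.map ψ)
  let sXk := IsPullback.of_hasPullback m (pullback.fst (pullback.fst y ((yon S).map πS)) (D.map ψ))
  have hiso : IsIso (pullback.snd m (pullback.fst (pullback.fst y ((yon S).map πS)) (D.map ψ))) :=
    hk _ _ _ _ _ sYk _ sXk
  let jk : Over i₁ := Over.mk (ψ ≫ j.hom)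
  let φk : jk ⟶ j := CategoryTheory.Over.homMk ψ rfl
  have sφ : IsPullback (aW jk) ((yon S).map (W.map φk)) (D.map ψ) (aW j) := by
    refine IsPullback.of_bot ?_ (haw φk).symm (sqj j)
    rw [← Functor.map_comp, hwb, ← D.map_comp]
    exact sqj jk
  have sX2 := sXk.paste_vert sYk
  rw [pullback.lift_fst] at sX2
  let ε := sφ.flip.isoIsPullback _ _ sX2
  have hε₁ : ε.hom ≫ pullback.fst m _ = (yon S).map (W.map φk) := sφ.flip.isoIsPullback_hom_fst _ _ sX2
  have hε₂ : ε.hom ≫ pullback.snd m _ ≫ pullback.snd (pullback.fst y ((yon S).map πS)) (D.map ψ) = aW jk :=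
    sφ.flip.isoIsPullback_hom_snd _ _ sX2
  have sk : IsPullback (aW jk) ((yon S).map (W.map φk ≫ g)) (D.map ψ ≫ y) ((yon S).map πS) := by
    let ζ := ε ≪≫ asIso (pullback.snd m (pullback.fst (pullback.fst y ((yon S).map πS)) (D.map ψ)))
    have hζ₁ : ζ.hom ≫ pullback.snd _ _ = aW jk := by simp [ζ, hε₂]
    have hζ₂ : ζ.hom ≫ pullback.fst _ _ = (yon S).map (W.map φk) ≫ m := by
      simp [ζ, ← pullback.condition, ← hε₁]
    refine (sYk.flip.paste_vert sP).of_iso ζ.symm (Iso.refl _) (Iso.refl _) (Iso.refl _) ?_ ?_ (by simp) (by simp)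
    · simp only [Iso.refl_hom, Category.comp_id, Iso.symm_hom, Iso.eq_inv_comp]
      exact hζ₁
    · simp only [Iso.refl_hom, Category.comp_id, Iso.symm_hom, Iso.eq_inv_comp]
      rw [reassoc_of% hζ₂, pullback.lift_snd, ← Functor.map_comp]
  have : IsAffine (W.obj jk).left := hWA jk
  have hyk : IsQuasiAffineMor (D.map ψ ≫ y) := isQuasiAffineMor_of_affine_chart sk
  -- so the stage is a scheme
  have hr := representable_of_isQuasiAffineMor hyk
  have sR := hr.isPullback (𝟙 _)
  have : IsIso (hr.fst (𝟙 _)) := sR.isIso_fst_of_isIso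
  let ek := asIso (hr.fst (𝟙 ((yon S).obj YS)))
  let τ : CategoryTheory.Over.forget k ⋙ D ⟶ (Functor.const (Over k)).obj (D.obj k) :=
    { app := fun o => D.map o.hom
      naturality := fun o o' f => by
        dsimp
        rw [Category.comp_id, ← D.map_comp, Over.w f] }
  obtain ⟨R, cR, hcR, aR, rR, aQ, qR, sR, hrr, sRm, sQ, hπR⟩ := exists_baseChange_system
    (CategoryTheory.Over.forget k ⋙ D) τ (fun o => representable_of_isAffineMor (hDa _ _ o.hom))
    (c.whisker (CategoryTheory.Over.forget k))
    ((Functor.Initial.isLimitWhiskerEquiv (CategoryTheory.Over.forget k) c).symm hc) (c.π.app k)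
    (fun o => c.w o.hom) (representable_of_isAffineMor (isAffineMor_limit_proj D hDa c hc k)) ek.hom
  have := IsCofiltered.isConnected (Over k)
  have hai : ∀ o, IsIso (aR o) := fun o => (sR o).isIso_fst_of_isIso
  have : ∀ {o o' : Over k} (f : o ⟶ o'), IsAffineHom ((R ⋙ Over.forget S).map f) := fun {o o'} f =>
    (repWith_isAffineHom_of_isAffineMor (hDa _ _ f.left)).property _ _ _ (sRm f)
  have : ∀ o, CompactSpace ↥((R ⋙ Over.forget S).obj o) := fun o =>
    haveI := hai o
    (isQuasiCompactSp_yon_iff _).1 (isQuasiCompactSp_of_affine (hD o.left) (aR o) (repWith_of_isIso _ _) (hqc o.left))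
  have : ∀ o, QuasiSeparatedSpace ↥((R ⋙ Over.forget S).obj o) := fun o =>
    haveI := hai o
    haveI := (isQuasiSeparatedSp_yon_iff' _).1
      (isQuasiSeparatedSp_of_affine (aR o) (repWith_of_isIso _ _) (hqs o.left))
    quasiSeparatedSpace_of_quasiSeparated (R.obj o).hom
  have : IsIso aQ := sQ.isIso_fst_of_isIso
  let eT : cR.pt ≅ T := (yon S).preimageIso (asIso aQ ≪≫ e.symm)
  have : IsAffine ((Over.forget S).obj T) := hT
  have : IsAffine ((Over.forget S).mapCone cR).pt := IsAffine.of_isIso ((Over.forget S).mapIso eT).hom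
  obtain ⟨o, ho⟩ := Scheme.exists_isAffine_of_isLimit (R ⋙ Over.forget S) ((Over.forget S).mapCone cR)
    (isLimitOfPreserves (Over.forget S) hcR)
  have := hai o
  exact ⟨o.left, R.obj o, ho, ⟨asIso (aR o)⟩⟩

end Groth.Agent.AlgSpDec
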