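import Groth.Agent.AlgSpDec.LimAffine

/-!
# Limits of levelwise closed immersions
-/

set_option backward.isDefEq.respectTransparency false
set_option backward.isDefEq.respectTransparency.types false

universe u

open CategoryTheory Limits Opposite AlgebraicGeometry AlgSp Groth.Agent.AlgSpLib Groth.Agent.AlgSpPts

namespace Groth.Agent.AlgSpDec

variable {S : Scheme.{u}}

theorem repWith_closedImmersion_limMap {I : Type u} [SmallCategory I] [IsCofiltered I] (DX DY : I ⥤ Sp S)
    (τ : DX ⟶ DY) (hτ : ∀ i, RepWith @IsClosedImmersion (τ.app i))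
    (cX : Cone DX) (hcX : IsLimit cX) (cY : Cone DY) (hcY : IsLimit cY)
    (G : cX.pt ⟶ cY.pt) (hG : ∀ i, G ≫ cY.π.app i = cX.π.app i ≫ τ.app i) : RepWith @IsClosedImmersion G :=
  repWith_of_affine_test fun Z hZ g => by
    have : IsAffine Z.left := hZ
    choose W₀ b a sq hW₀ hb using fun i => affine_test_of_repWith
      (fun _ _ e (_ : IsClosedImmersion e) => inferInstanceAs (IsAffineHom e)) (hτ i) hZ (g ≫ cY.π.app i)
    have hw : ∀ {j k : I} (f : j ⟶ k), (a j ≫ DX.map f) ≫ τ.app k = (yon S).map (b j) ≫ g ≫ cY.π.app k := by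
      intro j k f
      rw [Category.assoc, τ.naturality, ← Category.assoc, (sq j).w, Category.assoc, Category.assoc, cY.w]
    have hm : ∀ {j k : I} (f : j ⟶ k), ∃ m : W₀ j ⟶ W₀ k, (yon S).map m ≫ a k = a j ≫ DX.map f ∧ m ≫ b k = b j := by
      intro j k f
      obtain ⟨m, hm⟩ := (yon S).map_surjective ((sq k).lift _ _ (hw f))
      refine ⟨m, by rw [hm, IsPullback.lift_fst], (yon S).map_injective ?_⟩
      rw [Functor.map_comp, hm, IsPullback.lift_snd]
    choose m hm₁ hm₂ using @hm
    have hext : ∀ {T : Over S} {k : I} {m₁ m₂ : T ⟶ W₀ k},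
        (yon S).map m₁ ≫ a k = (yon S).map m₂ ≫ a k → m₁ ≫ b k = m₂ ≫ b k → m₁ = m₂ := by
      intro T k m₁ m₂ h₁ h₂
      exact (yon S).map_injective ((sq k).hom_ext h₁ (by rw [← Functor.map_comp, h₂, Functor.map_comp]))
    let W : I ⥤ Over S :=
      { obj := W₀
        map := fun f => m f
        map_id := fun j => hext (by rw [hm₁]; simp) (by rw [hm₂, Category.id_comp])
        map_comp := fun {j k l} f f' => hext
          (by rw [hm₁, (yon S).map_comp, Category.assoc, hm₁, ← Category.assoc, hm₁, Category.assoc,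
            ← DX.map_comp])
          (by rw [hm₂, Category.assoc, hm₂, hm₂]) }
    obtain ⟨cW, ⟨hcW⟩, hA⟩ := exists_affine_limit W hW₀
    obtain ⟨i₀⟩ := IsCofiltered.nonempty (C := I)
    let p : cW.pt ⟶ Z := cW.π.app i₀ ≫ b i₀
    have hp : ∀ j, p = cW.π.app j ≫ b j := fun j => by
      obtain ⟨l, u, v, -⟩ := IsCofilteredOrEmpty.cone_objs i₀ j
      change cW.π.app i₀ ≫ b i₀ = _
      rw [show cW.π.app i₀ = cW.π.app l ≫ m u from (cW.w u).symm,
        show cW.π.app j = cW.π.app l ≫ m v from (cW.w v).symm, Category.assoc, Category.assoc, hm₂, hm₂]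
    let c₁ : Cone DX :=
      { pt := (yon S).obj cW.pt
        π := { app := fun j => (yon S).map (cW.π.app j) ≫ a j
               naturality := fun j k f => by
                 dsimp
                 rw [Category.id_comp, Category.assoc, ← hm₁ f, ← Category.assoc, ← Functor.map_comp]
                 exact congrArg (fun x => (yon S).map x ≫ a k) (cW.w f).symm } }
    let fst := hcX.lift c₁
    have hfst : ∀ j, fst ≫ cX.π.app j = (yon S).map (cW.π.app j) ≫ a j := fun j => hcX.fac c₁ j
    have hfw : fst ≫ G = (yon S).map p ≫ g := by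
      refine hcY.hom_ext fun j => ?_
      rw [Category.assoc, hG, ← Category.assoc, hfst, Category.assoc, (sq j).w, ← Category.assoc,
        ← Functor.map_comp, ← hp, Category.assoc]
    refine ⟨cW.pt, p, fst, ⟨⟨hfw⟩, ⟨?_⟩⟩, hA, ?_⟩
    · let hY := isLimitOfPreserves (yon S) hcW
      have hs : ∀ (s : PullbackCone G g) (j : I),
          (s.fst ≫ cX.π.app j) ≫ τ.app j = s.snd ≫ g ≫ cY.π.app j := fun s j => by
        rw [Category.assoc, ← hG, ← Category.assoc, s.condition, Category.assoc]
      let cs : ∀ s : PullbackCone G g, Cone (W ⋙ yon S) := fun s =>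
        { pt := s.pt
          π := { app := fun j => (sq j).lift _ _ (hs s j)
                 naturality := fun j k f => (sq k).hom_ext (by
                     dsimp [W]
                     rw [Category.id_comp, Category.assoc, hm₁, ← Category.assoc, IsPullback.lift_fst, IsPullback.lift_fst,
                       Category.assoc, cX.w]) (by
                     dsimp [W]
                     rw [Category.id_comp, Category.assoc, ← Functor.map_comp, hm₂, IsPullback.lift_snd,
                       IsPullback.lift_snd]) } }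
      refine PullbackCone.IsLimit.mk _ (fun s => hY.lift (cs s)) (fun s => ?_) (fun s => ?_) (fun s l h₁ h₂ => ?_)
      · refine hcX.hom_ext fun j => ?_
        change (hY.lift (cs s) ≫ fst) ≫ cX.π.app j = s.fst ≫ cX.π.app j
        rw [Category.assoc, hfst, ← Category.assoc]
        rw [show hY.lift (cs s) ≫ (yon S).map (cW.π.app j) = (sq j).lift _ _ (hs s j) from hY.fac (cs s) j,
          IsPullback.lift_fst]
      · rw [Functor.map_comp, ← Category.assoc,
          show hY.lift (cs s) ≫ (yon S).map (cW.π.app i₀) = (sq i₀).lift _ _ (hs s i₀) from hY.fac (cs s) i₀,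
          IsPullback.lift_snd]
      · refine hY.uniq (cs s) l fun j => (sq j).hom_ext ?_ ?_
        · change (l ≫ (yon S).map (cW.π.app j)) ≫ a j = (sq j).lift _ _ (hs s j) ≫ a j
          rw [IsPullback.lift_fst, Category.assoc, ← hfst, ← Category.assoc, h₁]
        · change (l ≫ (yon S).map (cW.π.app j)) ≫ (yon S).map (b j) = (sq j).lift _ _ (hs s j) ≫ (yon S).map (b j)
          rw [IsPullback.lift_snd, Category.assoc, ← Functor.map_comp, ← hp, h₂]
    · have := IsCofiltered.isConnected I
      have hlim := isLimitOfPreserves (Over.forget S) hcW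
      have : ∀ j, IsAffine ((W ⋙ Over.forget S).obj j) := hW₀
      refine IsClosedImmersion.of_surjective_of_isAffine p.left fun x => ?_
      obtain ⟨j, y, rfl⟩ := exists_appTop_π_eq_of_isAffine_of_isLimit _ _ hlim x
      have : IsClosedImmersion (b j).left := hb j
      obtain ⟨z, rfl⟩ := (IsClosedImmersion.isAffine_surjective_of_isAffine (f := (b j).left)).2 y
      refine ⟨z, ?_⟩
      rw [hp j, Over.comp_left, Scheme.Hom.comp_appTop]
      rfl

end Groth.Agent.AlgSpDec
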