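import Groth.Agent.AlgSpDec.LimSep

/-!
# Separated stages
-/

set_option backward.isDefEq.respectTransparency false
set_option backward.isDefEq.respectTransparency.types false

universe u

open CategoryTheory Limits Opposite AlgebraicGeometry AlgSp Groth.Agent.AlgSpLib Groth.Agent.AlgSpPts

namespace Groth.Agent.AlgSpDec

variable {S : Scheme.{u}}

theorem eventually_isSeparatedMor [QuasiSeparatedSpace ↥S] {I : Type u} [SmallCategory I] [IsCofiltered I]
    {Y : Sp S} (hY : IsAlgSpace Y) (D : I ⥤ Sp S) (hD : ∀ i, IsAlgSpace (D.obj i))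
    (t : D ⟶ (Functor.const I).obj Y) (hDa : ∀ (i j : I) (φ : i ⟶ j), IsAffineMor (D.map φ))
    (c : Cone D) (hc : IsLimit c) (g : c.pt ⟶ Y) (hg : ∀ i, c.π.app i ≫ t.app i = g)
    (hqc : ∀ i, IsQuasiCompactSp (D.obj i)) (hqs : ∀ i, IsQuasiSeparatedSp (D.obj i))
    (hYqs : IsQuasiSeparatedSp Y) (hX : IsSeparatedMor g) :
    ∃ i₀ : I, ∀ (i : I) (_ : i ⟶ i₀), IsSeparatedMor (t.app i) := by
  have ht : ∀ {i j : I} (φ : i ⟶ j), D.map φ ≫ t.app j = t.app i := fun φ =>
    (t.naturality φ).trans (Category.comp_id _)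
  let m : ∀ {i j : I} (φ : i ⟶ j), pullback (t.app i) (t.app i) ⟶ pullback (t.app j) (t.app j) := fun {i j} φ =>
    pullback.map _ _ _ _ (D.map φ) (D.map φ) (𝟙 _) (by simp [ht]) (by simp [ht])
  let E : I ⥤ Sp S :=
    { obj := fun i => pullback (t.app i) (t.app i)
      map := fun φ => m φ
      map_id := fun i => pullback.hom_ext (by simp [m]) (by simp [m])
      map_comp := fun φ ψ => pullback.hom_ext (by simp [m]) (by simp [m]) }
  let τ : D ⟶ E :=
    { app := fun i => pullback.diagonal (t.app i)
      naturality := fun i j φ => pullback.hom_ext (by simp [E, m]) (by simp [E, m]) }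
  have hEa : ∀ (i j : I) (φ : i ⟶ j), IsAffineMor (E.map φ) := fun i j φ =>
    isAffineMor_of_repWith le_rfl (MorphismProperty.pullbackMap
      (repWith_isAffineHom_of_isAffineMor (hDa i j φ)) (repWith_isAffineHom_of_isAffineMor (hDa i j φ))
      (by simp [ht]) (by simp [ht]))
  let cE : Cone E :=
    { pt := pullback g g
      π := { app := fun i => pullback.map _ _ _ _ (c.π.app i) (c.π.app i) (𝟙 _) (by simp [hg]) (by simp [hg])
             naturality := fun i j φ => pullback.hom_ext (by simp [E, m]) (by simp [E, m]) } }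
  let c₁ : Cone E → Cone D := fun s =>
    { pt := s.pt
      π := { app := fun i => s.π.app i ≫ pullback.fst (t.app i) (t.app i)
             naturality := fun i j φ => by
               dsimp
               rw [Category.id_comp, ← s.w φ]
               simp [E, m] } }
  let c₂ : Cone E → Cone D := fun s =>
    { pt := s.pt
      π := { app := fun i => s.π.app i ≫ pullback.snd (t.app i) (t.app i)
             naturality := fun i j φ => by
               dsimp
               rw [Category.id_comp, ← s.w φ]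
               simp [E, m] } }
  obtain ⟨i₁⟩ := IsCofiltered.nonempty (C := I)
  have hcond : ∀ s, hc.lift (c₁ s) ≫ g = hc.lift (c₂ s) ≫ g := fun s => by
    rw [← hg i₁, ← Category.assoc, ← Category.assoc, hc.fac, hc.fac]
    simp [c₁, c₂, pullback.condition]
  let hcE : IsLimit cE :=
    { lift := fun s => pullback.lift (hc.lift (c₁ s)) (hc.lift (c₂ s)) (hcond s)
      fac := fun s i => pullback.hom_ext (by simp [cE, c₁]) (by simp [cE, c₂])
      uniq := fun s l hl => pullback.hom_ext
        (hc.hom_ext fun i => by simp [c₁, ← hl i, cE])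
        (hc.hom_ext fun i => by simp [c₂, ← hl i, cE]) }
  have hcl : ∀ (i j : I) (φ : i ⟶ j), RepWith @IsClosedImmersion
      (pullback.lift (f := τ.app j) (g := E.map φ) (D.map φ) (τ.app i) (τ.naturality φ)) := by
    intro i j φ
    let P := pullback (τ.app j) (E.map φ)
    let w₁ : pullback (τ.app j) (E.map φ) ⟶ D.obj i := pullback.snd _ _ ≫ pullback.fst (t.app i) (t.app i)
    let w₂ : pullback (τ.app j) (E.map φ) ⟶ D.obj i := pullback.snd _ _ ≫ pullback.snd (t.app i) (t.app i)
    have h₁ : pullback.fst (τ.app j) (E.map φ) = w₁ ≫ D.map φ := by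
      have := pullback.condition (f := τ.app j) (g := E.map φ) =≫ pullback.fst (t.app j) (t.app j)
      simpa [w₁, τ, E, m] using this
    have h₂ : pullback.fst (τ.app j) (E.map φ) = w₂ ≫ D.map φ := by
      have := pullback.condition (f := τ.app j) (g := E.map φ) =≫ pullback.snd (t.app j) (t.app j)
      simpa [w₂, τ, E, m] using this
    let e : pullback (τ.app j) (E.map φ) ⟶ pullback (D.map φ) (D.map φ) := pullback.lift w₁ w₂ (h₁.symm.trans h₂)
    have : Mono e := ⟨fun a b h => by
      have ha : a ≫ w₁ = b ≫ w₁ := by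
        have := h =≫ pullback.fst (D.map φ) (D.map φ)
        simpa [e] using this
      have hb : a ≫ w₂ = b ≫ w₂ := by
        have := h =≫ pullback.snd (D.map φ) (D.map φ)
        simpa [e] using this
      refine pullback.hom_ext ?_ (pullback.hom_ext ?_ ?_)
      · rw [h₁, ← Category.assoc, ha, Category.assoc]
      · simpa [w₁] using ha
      · simpa [w₂] using hb⟩
    have := isIso_diagonal_of_mono e
    refine AlgSpLib.of_comp_of_diagonal (RepWith @IsClosedImmersion) _ e ?_ (repWith_of_isIso _ _)
    have : pullback.lift (f := τ.app j) (g := E.map φ) (D.map φ) (τ.app i) (τ.naturality φ) ≫ e =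
        pullback.diagonal (D.map φ) := pullback.hom_ext (by simp [e, w₁, τ]; rfl) (by simp [e, w₂, τ]; rfl)
    rw [this]
    exact isSeparatedMor_of_repWith_affine (repWith_isAffineHom_of_isAffineMor (hDa i j φ))
  obtain ⟨i₀, h⟩ := eventually_closedImmersion_systems D E τ hDa hEa
    (fun i => isQuasiSeparatedMor_of_sp (t.app i) (hqs i) hYqs)
    (fun i => (diagonal_package (hD i) hY (t.app i)).2.2.2.1)
    (fun i => (diagonal_package (hD i) hY (t.app i)).2.1) hcl c hc cE hcE (pullback.diagonal g)
    (fun i => pullback.hom_ext (by simp [cE, τ]) (by simp [cE, τ])) hX i₁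
    (isQuasiCompactSp_pullback_self hY (t.app i₁) (hqc i₁) hYqs)
  exact ⟨i₀, h⟩

theorem exists_isSeparatedSp [QuasiSeparatedSpace ↥S] {I : Type u} [SmallCategory I] [IsCofiltered I]
    (D : I ⥤ Sp S) (hD : ∀ i, IsAlgSpace (D.obj i)) (hDa : ∀ (i j : I) (φ : i ⟶ j), IsAffineMor (D.map φ))
    (hqc : ∀ i, IsQuasiCompactSp (D.obj i)) (hqs : ∀ i, IsQuasiSeparatedSp (D.obj i)) (c : Cone D) (hc : IsLimit c)
    (hX : IsSeparatedSp c.pt) : ∃ i, IsSeparatedSp (D.obj i) := by
  let T := (yon S).obj (Over.mk (𝟙 S))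
  let t : D ⟶ (Functor.const I).obj T :=
    { app := fun i => (isTerminalYon S).from _
      naturality := fun _ _ _ => (isTerminalYon S).hom_ext _ _ }
  have hT : IsQuasiSeparatedSp T := by
    rw [isQuasiSeparatedSp_iff_mor, (isTerminalYon S).hom_ext ((isTerminalYon S).from T) (𝟙 T)]
    exact repWith_of_isIso _ (pullback.diagonal (𝟙 T))
  obtain ⟨i₀, h⟩ := eventually_isSeparatedMor (IsAlgSpace.yon_obj _) D hD t hDa c hc ((isTerminalYon S).from _)
    (fun i => (isTerminalYon S).hom_ext _ _) hqc hqs hT ((repWith_diag_iff _ _).1 hX)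
  exact ⟨i₀, (repWith_diag_iff _ _).2 (h i₀ (𝟙 _))⟩

end Groth.Agent.AlgSpDec
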