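import Groth.Agent.AlgSpDec.LimQuasiFinite
import Groth.Agent.AlgSpDec.LimSepApps
import Groth.Agent.AlgSpDec.LimDescentRep
import Groth.Agent.AlgSpPts.SepDescent
import Groth.Agent.AlgSpLib.AffineDescProps

/-!
# Systems whose limit is integral or closed over the base
-/

set_option backward.isDefEq.respectTransparency false
set_option backward.isDefEq.respectTransparency.types false

universe u

open CategoryTheory Limits Opposite AlgebraicGeometry AlgSp Groth.Agent.AlgSpLib Groth.Agent.AlgSpPts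

namespace Groth.Agent.AlgSpDec

variable {S : Scheme.{u}}

/-- With finite transition maps and a limit integral over the base, the maps to the base are
eventually representable, separated, quasi-compact and locally of finite type. -/
theorem eventually_representable [QuasiSeparatedSpace ↥S] {I : Type u} [SmallCategory I] [IsCofiltered I]
    (Y : Space S) (D : I ⥤ Sp S) (hD : ∀ i, IsAlgSpace (D.obj i)) (t : D ⟶ (Functor.const I).obj Y.obj)
    (hDf : ∀ (i j : I) (φ : i ⟶ j), RepWith @IsFinite (D.map φ))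
    (c : Cone D) (hc : IsLimit c) (g : c.pt ⟶ Y.obj) (hg : ∀ i, c.π.app i ≫ t.app i = g)
    (hqc : ∀ i, IsQuasiCompactSp (D.obj i)) (hqs : ∀ i, IsQuasiSeparatedSp (D.obj i))
    (hYqs : IsQuasiSeparatedSp Y.obj) (hft : ∀ i, LocP @LocallyOfFiniteType (t.app i))
    (hX : IsIntegralMor g) :
    ∃ i₀ : I, ∀ (i : I) (_ : i ⟶ i₀), RepWith @QuasiCompact (t.app i) ∧ RepWith @IsSeparated (t.app i) ∧
      RepWith @LocallyOfFiniteType (t.app i) := by
  have hDa : ∀ (i j : I) (φ : i ⟶ j), IsAffineMor (D.map φ) := fun i j φ => isAffineMor_of_repWith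
    (fun _ _ e (_ : IsFinite e) => inferInstanceAs (IsAffineHom e)) (hDf i j φ)
  have hgs : IsSeparatedMor g := isSeparatedMor_of_repWith
    (repWith_mono (fun _ _ e (_ : IsIntegralHom e) => inferInstanceAs (IsSeparated e)) _
      (isIntegralMor_iff_repWith.1 hX))
  obtain ⟨j₁, h₁⟩ := eventually_isSeparatedMor Y.property D hD t hDa c hc g hg hqc hqs hYqs hgs
  obtain ⟨j₂, h₂⟩ := eventually_locallyQuasiFinite Y D t hDf c hc g hg hqc hft hX
  obtain ⟨j, u₁, u₂, -⟩ := IsCofilteredOrEmpty.cone_objs j₁ j₂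
  refine ⟨j, fun i φ => ?_⟩
  have hs := h₁ i (φ ≫ u₁)
  have hr := representable_of_lqf_separated (hD i) Y.property (t.app i) (h₂ i (φ ≫ u₂)) hs
  exact ⟨repWith_quasiCompact hr (isQuasiCompactMor_of_qc_qs (hD i) Y.property (hqc i) hYqs (t.app i)),
    ⟨hr, fun _ _ k fst snd sq => (isSeparatedMor_yon_map_iff snd).1 (isSeparatedMor_of_isPullback sq hs)⟩,
    repWith_of_locP Y.property hr (hft i)⟩

theorem eventually_closedImmersion_base [QuasiSeparatedSpace ↥S] {I : Type u} [SmallCategory I] [IsCofiltered I]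
    (Y : Space S) (D : I ⥤ Sp S) (hD : ∀ i, IsAlgSpace (D.obj i)) (t : D ⟶ (Functor.const I).obj Y.obj)
    (hDc : ∀ (i j : I) (φ : i ⟶ j), RepWith @IsClosedImmersion (D.map φ))
    (c : Cone D) (hc : IsLimit c) (g : c.pt ⟶ Y.obj) (hg : ∀ i, c.π.app i ≫ t.app i = g)
    (hqc : ∀ i, IsQuasiCompactSp (D.obj i)) (hqs : ∀ i, IsQuasiSeparatedSp (D.obj i))
    (hYqc : IsQuasiCompactSp Y.obj) (hYqs : IsQuasiSeparatedSp Y.obj)
    (hft : ∀ i, LocP @LocallyOfFiniteType (t.app i)) (hX : RepWith @IsClosedImmersion g) :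
    ∃ i₀ : I, ∀ (i : I) (_ : i ⟶ i₀), RepWith @IsClosedImmersion (t.app i) := by
  have hI : IsIntegralMor g := isIntegralMor_iff_repWith.2
    (repWith_mono (fun _ _ e (_ : IsClosedImmersion e) => inferInstanceAs (IsIntegralHom e)) _ hX)
  obtain ⟨j₀, hj⟩ := eventually_representable Y D hD t
    (fun i j φ => repWith_mono (fun _ _ e (_ : IsClosedImmersion e) => inferInstanceAs (IsFinite e)) _ (hDc i j φ))
    c hc g hg hqc hqs hYqs hft hI
  have := IsCofiltered.isConnected (Over j₀)
  let DX := CategoryTheory.Over.forget j₀ ⋙ D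
  let DE : Over j₀ ⥤ Sp S := (Functor.const (Over j₀)).obj Y.obj
  let τ : DX ⟶ DE :=
    { app := fun k => t.app k.left
      naturality := fun k l f => t.naturality f.left }
  let hcX := (Functor.Initial.isLimitWhiskerEquiv (CategoryTheory.Over.forget j₀) c).symm hc
  obtain ⟨k₀, hk⟩ := eventually_closedImmersion_systems DX DE τ
    (fun i j φ => isAffineMor_of_repWith
      (fun _ _ e (_ : IsClosedImmersion e) => inferInstanceAs (IsAffineHom e)) (hDc _ _ φ.left))
    (fun i j φ => isAffineMor_of_repWith le_rfl (repWith_of_isIso @IsAffineHom (𝟙 Y.obj)))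
    (fun k => (hj k.left k.hom).1) (fun k => (hj k.left k.hom).2.1) (fun k => (hj k.left k.hom).2.2)
    (fun i j φ => by
      have hiso : IsIso (DE.map φ) := inferInstanceAs (IsIso (𝟙 Y.obj))
      have : IsIso (pullback.fst (τ.app j) (DE.map φ)) := pullback_fst_iso_of_right_iso _ _
      let m := pullback.lift (f := τ.app j) (g := DE.map φ) (DX.map φ) (τ.app i) (τ.naturality φ)
      have hm : m = DX.map φ ≫ inv (pullback.fst (τ.app j) (DE.map φ)) := by
        rw [IsIso.eq_comp_inv]; exact pullback.lift_fst _ _ _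
      change RepWith @IsClosedImmersion m
      rw [hm]
      exact repWith_comp (hDc _ _ φ.left) (repWith_of_isIso @IsClosedImmersion _))
    _ hcX _ (isLimitConstCone (Over j₀) Y.obj) g (fun k => by
      exact (Category.comp_id g).trans (hg k.left).symm) hX (Over.mk (𝟙 j₀)) hYqc
  exact ⟨k₀.left, fun i φ => hk (Over.mk (φ ≫ k₀.hom)) (Over.homMk φ rfl)⟩

end Groth.Agent.AlgSpDec
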