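import Groth.Agent.AlgSpDec.LimAffine
import Groth.Agent.AlgSpDec.ReducedStalk
import Groth.Agent.AlgSpDec.AffineCheck
import Groth.Prelude.Def_AlgSpSub

/-!
# Reducedness and nonemptiness of limits with affine transition morphisms
-/

set_option backward.isDefEq.respectTransparency false
set_option backward.isDefEq.respectTransparency.types false

universe u

open CategoryTheory Limits Opposite AlgebraicGeometry AlgSp Groth.Agent.AlgSpLib Groth.Agent.AlgSpPts

namespace Groth.Agent.AlgSpDec

variable {S : Scheme.{u}}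

theorem isReduced_of_etale_reducedSp {X : Sp S} (hX : IsReducedSp X) {V : Over S} {b : (yon S).obj V ⟶ X}
    (hb : RepWith @Etale b) : IsReduced V.left := by
  obtain ⟨U, a, ha, has, hU⟩ := hX
  have : ∀ v : ↥V.left, _root_.IsReduced (V.left.presheaf.stalk v) := fun v => by
    obtain ⟨u, hu⟩ := surjective_ofPt has (Points.ofPt b v)
    have : IsReduced U.left := hU
    exact isReduced_stalk_of_charts ha hb hu inferInstance
  exact isReduced_of_isReduced_stalk _

theorem isReduced_limit {J : Type u} [SmallCategory J] [IsCofiltered J] {E : J ⥤ Scheme.{u}}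
    (c : Cone E) (hc : IsLimit c) [∀ j, IsAffine (E.obj j)] [IsAffine c.pt] (hE : ∀ j, IsReduced (E.obj j)) :
    IsReduced c.pt := by
  have : _root_.IsReduced Γ(c.pt, ⊤) := ⟨fun x hx => by
    obtain ⟨j, y, rfl⟩ := exists_appTop_π_eq_of_isAffine_of_isLimit E c hc x
    obtain ⟨n, hn⟩ := hx
    replace hn : (c.π.app j).appTop (y ^ n) = 0 := (map_pow (c.π.app j).appTop.hom y n).trans hn
    obtain ⟨k, f, hk⟩ := exists_appTop_map_eq_zero_of_isAffine_of_isLimit E c hc j (y ^ n) hn
    replace hk : (E.map f).appTop y ^ n = 0 := (map_pow (E.map f).appTop.hom y n).symm.trans hk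
    have := hE k
    have hy : (E.map f).appTop y = 0 := IsReduced.eq_zero _ ⟨n, hk⟩
    rw [← c.w f, Scheme.Hom.comp_appTop, CommRingCat.comp_apply, hy, map_zero]⟩
  exact isReduced_of_isOpenImmersion c.pt.isoSpec.hom

theorem isReducedSp_limit {I : Type u} [SmallCategory I] [IsCofiltered I] (D : I ⥤ Sp S)
    (hDa : ∀ (i j : I) (φ : i ⟶ j), IsAffineMor (D.map φ)) (c : Cone D) (hc : IsLimit c)
    (hred : ∀ i, IsReducedSp (D.obj i)) : IsReducedSp c.pt := by
  obtain ⟨i⟩ := IsCofiltered.nonempty (C := I)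
  obtain ⟨U, a, ha, has, -⟩ := hred i
  have hr := representable_of_isAffineMor (isAffineMor_limit_proj D hDa c hc i)
  have sqW := hr.isPullback a
  refine ⟨hr.pullback a, hr.fst a, repWith_of_isPullback sqW.flip ha, repWith_of_isPullback sqW.flip has, ?_⟩
  let W₁ := hr.pullback a
  let s := hr.snd a
  have hloc : ∀ w : ↥W₁.left, _root_.IsReduced (W₁.left.presheaf.stalk w) := fun w => by
    obtain ⟨V, hV, hwV, -⟩ := exists_isAffineOpen_mem_and_subset (U := (⊤ : U.left.Opens)) (x := s.left w) trivial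
    let TU : Over S := Over.mk (V.ι ≫ U.hom)
    let inc : TU ⟶ U := Over.homMk V.ι rfl
    let WV : Over S := Over.mk ((s.left ⁻¹ᵁ V).ι ≫ W₁.hom)
    let r : WV ⟶ TU := Over.homMk (s.left ∣_ V) (by
      change _ ≫ V.ι ≫ U.hom = _ ≫ W₁.hom
      rw [← Category.assoc, (isPullback_morphismRestrict s.left V).w, Category.assoc, Over.w s])
    let k : WV ⟶ W₁ := Over.homMk (s.left ⁻¹ᵁ V).ι rfl
    have sqk : IsPullback k r s inc :=
      IsPullback.of_map (Over.forget S) (Over.OverMorphism.ext (isPullback_morphismRestrict s.left V).w.symm)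
        (isPullback_morphismRestrict s.left V).flip
    have sq₁ := (sqk.map (yon S)).paste_horiz sqW
    have : IsAffine TU.left := hV
    have het : RepWith @Etale ((yon S).map inc ≫ a) :=
      repWith_comp ((repWith_yon_map_iff _ _).2 (inferInstanceAs (Etale V.ι))) ha
    obtain ⟨W, cW, hcW, p, fst, sq₂, hA, hWA, hj⟩ := exists_limit_square D hDa c hc i ((yon S).map inc ≫ a)
    have hWr : ∀ j, IsReduced (W.obj j).left := fun j => by
      obtain ⟨a', b', sq', -, -⟩ := hj j
      exact isReduced_of_etale_reducedSp (hred _) (repWith_of_isPullback sq'.flip het)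
    have := IsCofiltered.isConnected (Over i)
    have hlim := isLimitOfPreserves (Over.forget S) hcW
    have : ∀ j, IsAffine ((W ⋙ Over.forget S).obj j) := hWA
    have : IsAffine ((Over.forget S).mapCone cW).pt := hA
    have : IsReduced cW.pt.left := isReduced_limit _ hlim hWr
    let e : WV ≅ cW.pt := (yon S).preimageIso (sq₁.isoIsPullback _ _ sq₂)
    have : IsReduced (s.left ⁻¹ᵁ V).toScheme := isReduced_of_isOpenImmersion (X := WV.left) e.hom.left
    exact isReduced_of_injective ((s.left ⁻¹ᵁ V).stalkIso ⟨w, hwV⟩).inv.hom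
      (ConcreteCategory.bijective_of_isIso ((s.left ⁻¹ᵁ V).stalkIso ⟨w, hwV⟩).inv).injective
  exact isReduced_of_isReduced_stalk _

theorem nonempty_points_limit {I : Type u} [SmallCategory I] [IsCofiltered I] (D : I ⥤ Sp S)
    (hDa : ∀ (i j : I) (φ : i ⟶ j), IsAffineMor (D.map φ)) (c : Cone D) (hc : IsLimit c)
    (hqc : ∀ i, IsQuasiCompactSp (D.obj i)) (hne : ∀ i, Nonempty (Points (D.obj i))) :
    Nonempty (Points c.pt) := by
  obtain ⟨i⟩ := IsCofiltered.nonempty (C := I)
  obtain ⟨U, a, ha, has, hU⟩ := hqc i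
  have : CompactSpace ↥U.left := hU
  obtain ⟨t, ht⟩ := isCompact_univ.elim_finite_subcover (fun V : U.left.affineOpens => (V.1 : Set ↥U.left))
    (fun V => V.1.2) (fun x _ => by
      obtain ⟨V, hV, hxV, -⟩ := exists_isAffineOpen_mem_and_subset (U := (⊤ : U.left.Opens)) (x := x) trivial
      exact Set.mem_iUnion.2 ⟨⟨V, hV⟩, hxV⟩)
  let V : ↥t → U.left.Opens := fun k => k.1.1
  have : ∀ k, IsAffine (V k).toScheme := fun k => k.1.2
  let jU : (∐ fun k => (V k).toScheme) ⟶ U.left := Sigma.desc fun k => (V k).ι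
  have : Etale jU := etale_sigma_desc V
  have : Surjective jU := ⟨fun x => by
    obtain ⟨k, hk, hx⟩ := Set.mem_iUnion₂.1 (ht (Set.mem_univ x))
    refine ⟨Sigma.ι (fun k => (V k).toScheme) ⟨k, hk⟩ ⟨x, hx⟩, ?_⟩
    rw [← Scheme.Hom.comp_apply, Sigma.ι_desc]
    rfl⟩
  let Z : Over S := Over.mk (jU ≫ U.hom)
  let z : Z ⟶ U := Over.homMk jU rfl
  have hzs : RepWith @Surjective ((yon S).map z ≫ a) :=
    repWith_comp ((repWith_yon_map_iff _ _).2 (inferInstanceAs (Surjective jU))) has
  have : IsAffine Z.left := inferInstanceAs (IsAffine (∐ fun k => (V k).toScheme))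
  obtain ⟨W, cW, hcW, p, fst, sq, -, hWA, hj⟩ := exists_limit_square D hDa c hc i ((yon S).map z ≫ a)
  have hWne : ∀ j, Nonempty ↥(W.obj j).left := fun j => by
    obtain ⟨a', b', sq', -, -⟩ := hj j
    obtain ⟨x⟩ := hne j.left
    obtain ⟨v, hv⟩ := surjective_ofPt hzs (Points.map (D.map j.hom) x)
    obtain ⟨y, -⟩ := exists_point_of_isPullback sq' (x := x) (y := Points.ofScheme Z v)
      (hv.symm.trans (Points.ofPt_eq_map_ofScheme _ v))
    exact ⟨(Points.schemeHomeo _).symm y⟩
  have := IsCofiltered.isConnected (Over i)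
  have hlim := isLimitOfPreserves (Over.forget S) hcW
  have : ∀ j, IsAffine ((W ⋙ Over.forget S).obj j) := hWA
  have : ∀ j, Nonempty ↥((W ⋙ Over.forget S).obj j) := hWne
  have : ∀ {j k} (f : j ⟶ k), IsAffineHom ((W ⋙ Over.forget S).map f) := fun f => inferInstance
  obtain ⟨w⟩ := Scheme.nonempty_of_isLimit _ _ hlim
  exact ⟨Points.ofPt fst w⟩

end Groth.Agent.AlgSpDec
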