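import Groth.Agent.AlgSpDec.RedInduced
import Groth.Agent.AlgSpDec.SchImage
import Groth.Agent.AlgSpPts.Imm

/-!
# Scheme theoretic images of reduced spaces
-/

set_option backward.isDefEq.respectTransparency false
set_option backward.isDefEq.respectTransparency.types false

universe u

open CategoryTheory Limits Opposite AlgebraicGeometry AlgSp Groth.Agent.AlgSpLib Groth.Agent.AlgSpPts

namespace Groth.Agent.AlgSpDec

variable {S : Scheme.{u}} {W X Y Z : Sp S}

/-- A morphism from a reduced space factors through a closed subspace containing its image. -/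
theorem exists_factor_reduced (hr : IsReducedSp W) (g : W ⟶ Y) {j : Z ⟶ Y} (hj : RepWith @IsClosedImmersion j)
    (h : Set.range (Points.map g) ⊆ Set.range (Points.map j)) : ∃ g', g' ≫ j = g := by
  obtain ⟨W₀, b, hb, hbs, hW₀⟩ := hr
  have := mono_of_closedImmersion hj
  refine exists_factor_of_cover hb hbs g ?_
  let π := hj.rep.snd (b ≫ g)
  have : IsClosedImmersion π.left := hj.property_snd _
  obtain ⟨l, hl⟩ := exists_factor_closed π.left (𝟙 W₀.left) (by
    intro w _
    obtain ⟨z, hz⟩ := h ⟨Points.map b (Points.ofScheme W₀ w), (Points.map_comp _ _ _).symm.trans rfl⟩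
    obtain ⟨v, -, hv⟩ := exists_point_of_isPullback (hj.rep.isPullback (b ≫ g)) (x := z)
      (y := Points.ofScheme W₀ w) hz
    obtain ⟨v, rfl⟩ := (Points.schemeHomeo _).surjective v
    exact ⟨v, (Points.schemeHomeo W₀).injective ((Points.map_yon_map_apply π v).symm.trans hv)⟩)
  let l' : W₀ ⟶ hj.rep.pullback (b ≫ g) := CategoryTheory.Over.homMk l (by
    rw [← Over.w π, reassoc_of% hl])
  have hl' : l' ≫ π = 𝟙 W₀ := Over.OverMorphism.ext hl
  refine ⟨(yon S).map l' ≫ hj.rep.fst (b ≫ g), ?_⟩
  rw [Category.assoc, (hj.rep.isPullback (b ≫ g)).w, ← Functor.map_comp_assoc, hl', CategoryTheory.Functor.map_id,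
    Category.id_comp]

/-- The scheme theoretic image of a reduced space is the reduced induced structure on the closure of the image. -/
theorem isRedInduced_of_schImage (hY : IsAlgSpace Y) {f : X ⟶ Y} {i : Z ⟶ Y}
    (hX : IsReducedSp X) (hi : IsSchImage f i) : IsRedInduced (closure (Set.range (Points.map f))) i := by
  obtain ⟨hic, ⟨f', hf'⟩, hmin⟩ := hi
  obtain ⟨W, j, hj, hr, hW⟩ := exists_reduced_induced hY (isClosed_closure (s := Set.range (Points.map f)))
  have hcl : IsClosed (Set.range (Points.map i)) :=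
    (isClosedMap_map (repWith_mono (fun _ _ e (_ : IsClosedImmersion e) => inferInstanceAs (UniversallyClosed e)) _
      hic)).isClosed_range
  have h1 : closure (Set.range (Points.map f)) ⊆ Set.range (Points.map i) := by
    refine closure_minimal ?_ hcl
    rintro _ ⟨x, rfl⟩
    exact ⟨Points.map f' x, by rw [← Points.map_comp, hf']⟩
  obtain ⟨k, hk⟩ := hmin j W.property hj (exists_factor_reduced hX f hj (hr ▸ subset_closure))
  obtain ⟨k', hk'⟩ := exists_factor_reduced hW j hic (hr ▸ h1)
  have := mono_of_closedImmersion hic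
  have := mono_of_closedImmersion hj
  have : IsIso k' := ⟨k, by rw [← cancel_mono j, Category.assoc, hk, hk', Category.id_comp],
    by rw [← cancel_mono i, Category.assoc, hk', hk, Category.id_comp]⟩
  obtain ⟨U, b, hb, hbs, hU⟩ := hW
  refine ⟨hic, Set.Subset.antisymm ?_ h1, ⟨U, b ≫ k', repWith_comp hb (repWith_of_isIso @Etale k'),
    repWith_comp hbs (repWith_of_isIso @Surjective k'), hU⟩⟩
  rintro _ ⟨z, rfl⟩
  rw [← hr, ← hk, Points.map_comp]
  exact Set.mem_range_self _

end Groth.Agent.AlgSpDec
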