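import Groth.Agent.AlgSpDec.LimClosed
import Groth.Agent.AlgSpDec.LimReduced
import Groth.Agent.AlgSpDec.LimPoints
import Groth.Agent.AlgSpDec.RedImage
import Groth.Agent.AlgSpLib.AffineDescProps

/-!
# The closure of a point of a limit
-/

set_option backward.isDefEq.respectTransparency false
set_option backward.isDefEq.respectTransparency.types false

universe u

open CategoryTheory Limits Opposite AlgebraicGeometry AlgSp Groth.Agent.AlgSpLib Groth.Agent.AlgSpPts

namespace Groth.Agent.AlgSpDec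

variable {S : Scheme.{u}}

theorem closure_singleton_limit {I : Type u} [SmallCategory I] [IsCofiltered I] (D : I ⥤ Sp S)
    (hD : ∀ i, IsAlgSpace (D.obj i)) (hDa : ∀ (i j : I) (φ : i ⟶ j), IsAffineMor (D.map φ)) (c : Cone D)
    (hc : IsLimit c) (x : Points c.pt) :
    closure {x} = {x' | ∀ i, Points.map (c.π.app i) x' ∈ closure {Points.map (c.π.app i) x}} := by
  ext x'
  have h := topologicalSpace_points_limit D hD hDa c hc
  simp only [Set.mem_setOf_eq, ← specializes_iff_mem_closure]
  refine ⟨fun hx i => hx.map (Points.continuous_map _), fun hx => ?_⟩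
  unfold Specializes
  rw [h, nhds_iInf, nhds_iInf]
  refine iInf_mono fun i => ?_
  rw [nhds_induced, nhds_induced]
  exact Filter.comap_mono (hx i)

theorem isAffineMor_cancel_mono {F G H : Sp S} (f : F ⟶ G) (m : G ⟶ H) [Mono m] (h : IsAffineMor (f ≫ m)) :
    IsAffineMor f := by
  refine isAffineMor_of_isPullback (fst := 𝟙 F) (g := m) ⟨⟨Category.id_comp _⟩, ⟨?_⟩⟩ h
  refine PullbackCone.IsLimit.mk _ (fun s => s.fst) (fun s => Category.comp_id _) (fun s => ?_)
    (fun s l h₁ _ => (Category.comp_id l).symm.trans h₁)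
  rw [← cancel_mono m, Category.assoc, ← s.condition]

/-- The reduced induced structures on the closures of the images of a point form a limit. -/
theorem isLimit_redInduced_closure {I : Type u} [SmallCategory I] [IsCofiltered I] (D : I ⥤ Sp S)
    (hD : ∀ i, IsAlgSpace (D.obj i)) (hDa : ∀ (i j : I) (φ : i ⟶ j), IsAffineMor (D.map φ)) (c : Cone D)
    (hc : IsLimit c) (x : Points c.pt) {Z : Sp S} (zι : Z ⟶ c.pt) (hZ : IsRedInduced (closure {x}) zι)
    (DZ : I ⥤ Sp S) (ι : DZ ⟶ D)
    (hι : ∀ i, IsRedInduced (closure {Points.map (c.π.app i) x}) (ι.app i))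
    (ξ : (Functor.const I).obj Z ⟶ DZ) (hξ : ∀ i, ξ.app i ≫ ι.app i = zι ≫ c.π.app i) :
    Nonempty (IsLimit (Cone.mk Z ξ)) := by
  have hm : ∀ i, Mono (ι.app i) := fun i => mono_of_closedImmersion (hι i).1
  have hDZa : ∀ (i j : I) (φ : i ⟶ j), IsAffineMor (DZ.map φ) := fun i j φ => by
    refine isAffineMor_cancel_mono _ (ι.app j) ?_
    rw [ι.naturality]
    exact isAffineMor_of_repWith le_rfl (repWith_comp
      (repWith_mono (fun _ _ e (_ : IsClosedImmersion e) => inferInstanceAs (IsAffineHom e)) _ (hι i).1)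
      (repWith_isAffineHom_of_isAffineMor (hDa i j φ)))
  let cP := limit.cone DZ
  let hcP : IsLimit cP := limit.isLimit DZ
  let G : cP.pt ⟶ c.pt := hc.lift ((Cone.postcompose ι).obj cP)
  have hG : ∀ i, G ≫ c.π.app i = cP.π.app i ≫ ι.app i := fun i => hc.fac _ i
  have hGc := repWith_closedImmersion_limMap DZ D ι (fun i => (hι i).1) cP hcP c hc G hG
  have hGr : IsReducedSp cP.pt := isReducedSp_limit DZ hDZa cP hcP (fun i => (hι i).2.2)
  let e : Z ⟶ cP.pt := hcP.lift (Cone.mk Z ξ)
  have he : ∀ i, e ≫ cP.π.app i = ξ.app i := fun i => hcP.fac _ i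
  have heG : e ≫ G = zι := hc.hom_ext fun i => by rw [Category.assoc, hG, reassoc_of% (he i), hξ]
  have hrange : Set.range (Points.map G) ⊆ Set.range (Points.map zι) := by
    rw [hZ.2.1, closure_singleton_limit D hD hDa c hc x]
    rintro _ ⟨p, rfl⟩ i
    rw [← Points.map_comp, hG, Points.map_comp, ← (hι i).2.1]
    exact Set.mem_range_self _
  obtain ⟨g, hg⟩ := exists_factor_reduced hGr G hZ.1 hrange
  have := mono_of_closedImmersion hGc
  have := mono_of_closedImmersion hZ.1
  have h₁ : e ≫ g = 𝟙 Z := by rw [← cancel_mono zι, Category.assoc, hg, heG, Category.id_comp]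
  have h₂ : g ≫ e = 𝟙 cP.pt := by rw [← cancel_mono G, Category.assoc, heG, hg, Category.id_comp]
  exact ⟨hcP.ofIsoLimit (Cone.ext ⟨g, e, h₂, h₁⟩ fun i => by
    dsimp
    rw [← he i, ← Category.assoc, h₂, Category.id_comp])⟩

end Groth.Agent.AlgSpDec
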