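import Groth.Agent.AlgSpDec.LimDescent
import Groth.Agent.LimSm.Core
import Groth.Agent.LimSm.Descend
import Groth.Agent.LimSm.Flat
import Groth.Agent.ConsPropLib.Cores

/-!
# Descending properties of morphisms of spaces along limits: applications
-/

set_option backward.isDefEq.respectTransparency false
set_option backward.isDefEq.respectTransparency.types false

universe u

open CategoryTheory Limits Opposite AlgebraicGeometry AlgSp Groth.Agent.AlgSpLib Groth.Agent.AlgSpPts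
open Groth.Agent.MorLib

namespace Groth.Agent.AlgSpDec

variable {S : Scheme.{u}}

theorem ChartRel.locP {P : MorphismProperty Scheme.{u}} [IsEtLocal P] {X Y : Sp S} {f : X ⟶ Y} {U V : Over S}
    {h : U ⟶ V} (hr : ChartRel f h) (hP : P h.left) : LocP P f := by
  obtain ⟨u, v, w, hu, hus, hv, -, -⟩ := hr
  exact locP_of_chart hu hus hv w hP

theorem ChartRel.of_locP {P : MorphismProperty Scheme.{u}} {X Y : Sp S} {f : X ⟶ Y} {U V : Over S}
    {h : U ⟶ V} (hr : ChartRel f h) (hP : LocP P f) : P h.left := by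
  obtain ⟨u, v, w, hu, -, hv, -, -⟩ := hr
  exact hP u v h hu hv w

theorem ChartRel.etale_of_isEtaleMor {X Y : Sp S} {f : X ⟶ Y} {U V : Over S}
    {h : U ⟶ V} (hr : ChartRel f h) (hf : IsEtaleMor f) : Etale h.left := by
  obtain ⟨u, v, w, hu, -, hv, -, -⟩ := hr
  have h1 := hf u hu
  rw [w] at h1
  exact (repWith_yon_map_iff _ _).1 (repWith_etale_of_comp _ _ h1 hv)

theorem ChartRel.surjective_of_isSurjectiveMor {X Y : Sp S} {f : X ⟶ Y} {U V : Over S}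
    {h : U ⟶ V} (hr : ChartRel f h) (hf : IsSurjectiveMor f) : Surjective h.left := by
  obtain ⟨u, v, w, -, -, -, -, hl⟩ := hr
  refine ⟨fun y => ?_⟩
  obtain ⟨x, hx⟩ := hf (Points.ofPt v y)
  obtain ⟨q, hq₁, hq₂⟩ := exists_point_of_isPullback (IsPullback.of_hasPullback f v) (x := x)
    (y := Points.ofScheme V y) (hx.trans (Points.ofPt_eq_map_ofScheme _ _))
  obtain ⟨z, hz⟩ := hl q
  obtain ⟨z, rfl⟩ := (Points.schemeHomeo _).surjective z
  refine ⟨z, (Points.schemeHomeo V).injective ?_⟩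
  refine ((Points.map_yon_map_apply _ _).symm.trans ?_).trans hq₂
  rw [← hz, ← Points.map_comp, pullback.lift_snd]

theorem ChartRel.isSurjectiveMor {X Y : Sp S} {f : X ⟶ Y} {U V : Over S}
    {h : U ⟶ V} (hr : ChartRel f h) (hs : Surjective h.left) : IsSurjectiveMor f := fun y => by
  obtain ⟨u, v, w, -, -, -, hvs, -⟩ := hr
  obtain ⟨y', rfl⟩ := surjective_ofPt hvs y
  obtain ⟨z, rfl⟩ := h.left.surjective y'
  refine ⟨Points.ofPt u z, ?_⟩
  rw [Points.map_ofPt, w, Points.ofPt_eq_map_ofScheme, Points.map_comp]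
  exact (congrArg (Points.map v) (Points.map_yon_map_apply h z)).trans (Points.ofPt_eq_map_ofScheme _ _).symm

variable [QuasiSeparatedSpace ↥S] {I : Type u} [SmallCategory I] [IsCofiltered I] (D : I ⥤ Sp S)
  (hD : ∀ i, IsAlgSpace (D.obj i)) (hDa : ∀ (i j : I) (φ : i ⟶ j), IsAffineMor (D.map φ)) (c : Cone D)
  (hc : IsLimit c) {i₀ : I} {X₀ Y₀ : Space S} {f₀ : X₀.obj ⟶ Y₀.obj} {b₀ : Y₀.obj ⟶ D.obj i₀}
  (hXqc : IsQuasiCompactSp X₀.obj) (hYqc : IsQuasiCompactSp Y₀.obj) (hYqs : IsQuasiSeparatedSp Y₀.obj)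
  {X Y : Sp S} {f : X ⟶ Y} {pY : Y ⟶ Y₀.obj} {qY : Y ⟶ c.pt}
  (hY : IsPullback pY qY b₀ (c.π.app i₀)) {pX : X ⟶ X₀.obj} (hX : IsPullback pX f f₀ pY)
  (hf₀ : LocP @LocallyOfFinitePresentation f₀)

include hDa hc hXqc hYqc hYqs hY hX hf₀ in
theorem descend_locP {P : MorphismProperty Scheme.{u}} [IsZariskiLocalAtTarget P]
    [IsEtLocal P] (hcore : Desc.Core P @LocallyOfFinitePresentation) (hf : LocP P f) :
    ∃ (i : I) (φ : i ⟶ i₀), ∀ (Xi Yi : Sp S) (fi : Xi ⟶ Yi) (pYi : Yi ⟶ Y₀.obj) (qYi : Yi ⟶ D.obj i)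
      (_ : IsPullback pYi qYi b₀ (D.map φ)) (pXi : Xi ⟶ X₀.obj) (_ : IsPullback pXi fi f₀ pYi),
      LocP P fi := by
  obtain ⟨i, φ, h⟩ := exists_stage_of_core D hDa c hc hXqc hYqc hYqs hY hX hcore
    (fun U V u v h hu hv w => hf₀ u v h hu hv w) (fun hr => hr.of_locP hf)
  refine ⟨i, φ, fun Xi Yi fi pYi qYi hYi pXi hXi => ?_⟩
  obtain ⟨U, V, k, hr, hk⟩ := h Xi Yi fi pYi qYi hYi pXi hXi
  exact hr.locP hk

include hD hDa hc hXqc hYqc hYqs hY hX hf₀ in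
theorem descend_isEtaleMor (hf : IsEtaleMor f) :
    ∃ (i : I) (φ : i ⟶ i₀), ∀ (Xi Yi : Sp S) (fi : Xi ⟶ Yi) (pYi : Yi ⟶ Y₀.obj) (qYi : Yi ⟶ D.obj i)
      (_ : IsPullback pYi qYi b₀ (D.map φ)) (pXi : Xi ⟶ X₀.obj) (_ : IsPullback pXi fi f₀ pYi),
      IsEtaleMor fi := by
  obtain ⟨i, φ, h⟩ := exists_stage_of_core D hDa c hc hXqc hYqc hYqs hY hX LimSm.core_etale
    (fun U V u v h hu hv w => hf₀ u v h hu hv w) (fun hr => hr.etale_of_isEtaleMor hf)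
  refine ⟨i, φ, fun Xi Yi fi pYi qYi hYi pXi hXi => ?_⟩
  obtain ⟨U, V, k, hr, hk⟩ := h Xi Yi fi pYi qYi hYi pXi hXi
  have hYi' : IsAlgSpace Yi := isAlgSpace_of_isPullback hYi Y₀.property (hD i) (hD i₀)
  exact (isEtaleMor_iff_locP (isAlgSpace_of_isPullback hXi X₀.property hYi' Y₀.property) hYi' fi).2 (hr.locP hk)

include hDa hc hXqc hYqc hYqs hY hX hf₀ in
theorem descend_isSurjectiveMor (hf : IsSurjectiveMor f) :
    ∃ (i : I) (φ : i ⟶ i₀), ∀ (Xi Yi : Sp S) (fi : Xi ⟶ Yi) (pYi : Yi ⟶ Y₀.obj) (qYi : Yi ⟶ D.obj i)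
      (_ : IsPullback pYi qYi b₀ (D.map φ)) (pXi : Xi ⟶ X₀.obj) (_ : IsPullback pXi fi f₀ pYi),
      IsSurjectiveMor fi := by
  obtain ⟨i, φ, h⟩ := exists_stage_of_core D hDa c hc hXqc hYqc hYqs hY hX ConsPropLib.core_surjective
    (fun U V u v h hu hv w => hf₀ u v h hu hv w) (fun hr => hr.surjective_of_isSurjectiveMor hf)
  refine ⟨i, φ, fun Xi Yi fi pYi qYi hYi pXi hXi => ?_⟩
  obtain ⟨U, V, k, hr, hk⟩ := h Xi Yi fi pYi qYi hYi pXi hXi
  exact hr.isSurjectiveMor hk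

end Groth.Agent.AlgSpDec
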