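import Groth.Agent.AlgSpLib.Sheaf
import Groth.Agent.AlgSpPts.LimPres
import Mathlib.AlgebraicGeometry.Sites.MorphismProperty
import Mathlib.AlgebraicGeometry.Morphisms.UniversallyOpen

/-!
# Being limit preserving is fppf local on the base
-/

set_option backward.isDefEq.respectTransparency false
set_option backward.isDefEq.respectTransparency.types false

universe u

open CategoryTheory Limits Opposite AlgebraicGeometry AlgSp Groth.Agent.AlgSpLib Groth.Agent.AlgSpPts

namespace Groth.Agent.AlgSpDec

variable {S : Scheme.{u}}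

/-- A sieve containing a jointly surjective family of flat morphisms locally of finite presentation covers. -/
theorem mem_J_of_jointly {T : Over S} {κ : Type u} {P : κ → Over S} (π : ∀ k, P k ⟶ T)
    [∀ k, Flat (π k).left] [∀ k, LocallyOfFinitePresentation (π k).left]
    (hs : ∀ t : ↥T.left, ∃ (k : κ) (v : ↥(P k).left), (π k).left v = t) (R : Sieve T) (h : ∀ k, R (π k)) :
    R ∈ J S T := by
  rw [GrothendieckTopology.mem_over_iff]
  refine GrothendieckTopology.superset_covering _ ?_
    (Precoverage.generate_mem_toGrothendieck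
      ((Scheme.ofArrows_mem_precoverage_iff (P := @Flat ⊓ @LocallyOfFinitePresentation)
        (f := fun k => (π k).left)).2 ⟨hs, fun k => ⟨‹∀ k, Flat (π k).left› k, inferInstance⟩⟩))
  rw [Sieve.generate_le_iff]
  rintro _ _ ⟨k⟩
  rw [Sieve.overEquiv_iff]
  convert R.downward_closed (h k)
    (CategoryTheory.Over.homMk (U := Over.mk ((π k).left ≫ T.hom)) (V := P k) (𝟙 _) (by simp)) using 1
  ext
  simp

theorem res_res {F : PSp S} {A B C : Over S} (f : A ⟶ B) (g : B ⟶ C) {h : A ⟶ C} (e : f ≫ g = h) (x : F.obj (op C)) :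
    F.map f.op (F.map g.op x) = F.map h.op x := by rw [map_map', e]

theorem res_sq {F : PSp S} {A B B' C : Over S} {f : A ⟶ B} {g : B ⟶ C} {f' : A ⟶ B'} {g' : B' ⟶ C}
    (e : f ≫ g = f' ≫ g') (x : F.obj (op C)) : F.map f.op (F.map g.op x) = F.map f'.op (F.map g'.op x) := by
  rw [map_map', map_map', e]

section Glue

variable {F : PSp S} (hF : Presheaf.IsSheaf (J S) F) {T : Over S} {κ : Type u} {P : κ → Over S}
  (π : ∀ k, P k ⟶ T) [∀ k, Flat (π k).left] [∀ k, LocallyOfFinitePresentation (π k).left]
  (hs : ∀ t : ↥T.left, ∃ (k : κ) (v : ↥(P k).left), (π k).left v = t)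

include hF hs

theorem isSheafFor_jointly : (Presieve.ofArrows P π).IsSheafFor F :=
  (Presieve.isSheafFor_iff_generate _).2 (((isSheaf_iff_isSheaf_of_type _ _).1 hF) _
    (mem_J_of_jointly π hs _ fun k => Sieve.le_generate _ _ _ (Presieve.ofArrows.mk k)))

theorem ext_of_jointly {z z' : F.obj (op T)} (h : ∀ k, F.map (π k).op z = F.map (π k).op z') : z = z' :=
  (isSheafFor_jointly hF π hs).isSeparatedFor.ext (by rintro _ _ ⟨k⟩; exact h k)

theorem exists_amalgamation_jointly (x : ∀ k, F.obj (op (P k)))
    (h : ∀ k l {Z : Over S} (a : Z ⟶ P k) (b : Z ⟶ P l), a ≫ π k = b ≫ π l →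
      F.map a.op (x k) = F.map b.op (x l)) : ∃ z, ∀ k, F.map (π k).op z = x k :=
  ⟨_, ((Presieve.isSheafFor_arrows_iff F π).1 (isSheafFor_jointly hF π hs) x
    (fun k l Z a b hab => h k l a b hab)).exists.choose_spec⟩

end Glue

/-- Transport of surjectivity and injectivity for a system lying over a scheme `U` over `S`. -/
theorem limit_bijective_of_over {F : PSp S} (U : Over S)
    (hU : IsLimitPreserving (S := U.left) ((Over.map U.hom).op ⋙ F))
    {J₀ : Type u} [SmallCategory J₀] [IsCofiltered J₀] (W : J₀ ⥤ Over S) (cW : Cone W)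
    (hcW : IsLimit ((Over.forget S).mapCone cW)) (hW : ∀ j, IsAffine (W.obj j).left) (hA : IsAffine cW.pt.left)
    (uW : W ⟶ (Functor.const J₀).obj U) (uL : cW.pt ⟶ U) (huL : ∀ j, cW.π.app j ≫ uW.app j = uL) :
    (∀ x : F.obj (op cW.pt), ∃ (j : J₀) (z : F.obj (op (W.obj j))), F.map (cW.π.app j).op z = x) ∧
    ∀ (j : J₀) (z z' : F.obj (op (W.obj j))), F.map (cW.π.app j).op z = F.map (cW.π.app j).op z' →
      ∃ (k : J₀) (φ : k ⟶ j), F.map (W.map φ).op z = F.map (W.map φ).op z' := by
  let W' : J₀ ⥤ Over U.left :=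
    { obj := fun j => Over.mk (uW.app j).left
      map := fun {j k} φ => CategoryTheory.Over.homMk (W.map φ).left
        ((congrArg (fun e => e.left) (uW.naturality φ)).trans (Category.comp_id _))
      map_id := fun j => by ext; simp
      map_comp := fun φ ψ => by ext; simp }
  let c' : Cone W' :=
    { pt := Over.mk uL.left
      π :=
        { app := fun j => CategoryTheory.Over.homMk (cW.π.app j).left (congrArg (fun e => e.left) (huL j))
          naturality := fun j k φ => by
            ext
            exact congrArg (fun e => e.left) (cW.π.naturality φ) } }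
  obtain ⟨hcol⟩ := hU W' c' hcW hW hA
  let e : ∀ j, (Over.map U.hom).obj (W'.obj j) ⟶ W.obj j := fun j =>
    CategoryTheory.Over.homMk (𝟙 _) ((Category.id_comp _).trans (Over.w (uW.app j)).symm)
  let e' : ∀ j, W.obj j ⟶ (Over.map U.hom).obj (W'.obj j) := fun j =>
    CategoryTheory.Over.homMk (𝟙 _) ((Category.id_comp _).trans (Over.w (uW.app j)))
  let d : (Over.map U.hom).obj c'.pt ⟶ cW.pt :=
    CategoryTheory.Over.homMk (𝟙 _) ((Category.id_comp _).trans (Over.w uL).symm)
  let d' : cW.pt ⟶ (Over.map U.hom).obj c'.pt :=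
    CategoryTheory.Over.homMk (𝟙 _) ((Category.id_comp _).trans (Over.w uL))
  refine ⟨fun x => ?_, fun j z z' hz => ?_⟩
  · obtain ⟨⟨j⟩, z, hz⟩ := Types.jointly_surjective_of_isColimit hcol (F.map d.op x)
    change F.map ((Over.map U.hom).map (c'.π.app j)).op z = F.map d.op x at hz
    refine ⟨j, F.map (e' j).op z, ?_⟩
    have hc : cW.π.app j ≫ e' j = d' ≫ (Over.map U.hom).map (c'.π.app j) := by ext; simp [e', d', c']
    refine (res_sq hc z).trans ((congrArg (F.map d'.op) hz).trans ((res_res d' d (h := 𝟙 _) ?_ x).trans ?_))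
    · ext; simp [d, d']
    · simp
  · have hc : (Over.map U.hom).map (c'.π.app j) ≫ e j = d ≫ cW.π.app j := by ext; simp [e, d, c']
    have hzz : ((((Over.map U.hom).op ⋙ F).mapCocone c'.op).ι.app (op j)) (F.map (e j).op z) =
        ((((Over.map U.hom).op ⋙ F).mapCocone c'.op).ι.app (op j)) (F.map (e j).op z') := by
      show F.map ((Over.map U.hom).map (c'.π.app j)).op _ = F.map ((Over.map U.hom).map (c'.π.app j)).op _
      exact (res_sq hc z).trans ((congrArg (F.map d.op) hz).trans (res_sq hc z').symm)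
    obtain ⟨⟨k⟩, φ, hφ⟩ := (Types.FilteredColimit.isColimit_eq_iff' hcol _ _).1 hzz
    change F.map ((Over.map U.hom).map (W'.map φ.unop)).op (F.map (e j).op z) =
      F.map ((Over.map U.hom).map (W'.map φ.unop)).op (F.map (e j).op z') at hφ
    refine ⟨k, φ.unop, ?_⟩
    have he : e' k ≫ ((Over.map U.hom).map (W'.map φ.unop) ≫ e j) = W.map φ.unop := by ext; simp [e, e', W']
    have hr : ∀ w : F.obj (op (W.obj j)), F.map (W.map φ.unop).op w =
        F.map (e' k).op (F.map ((Over.map U.hom).map (W'.map φ.unop)).op (F.map (e j).op w)) := fun w =>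
      (res_res _ _ he w).symm.trans (congrArg _ (res_res _ _ rfl w).symm)
    rw [hr z, hr z', hφ]

section Pullback

variable {I : Type u} [SmallCategory I] [IsCofiltered I] (D : I ⥤ Over S) (c : Cone D) {i : I}
  {V : Over S} (p : V ⟶ D.obj i)

/-- The base change of `p` along the stages after `i`. -/
noncomputable def pullSystem : CategoryTheory.Over i ⥤ Over S where
  obj f := pullback p (D.map f.hom)
  map {f g} φ := pullback.map _ _ _ _ (𝟙 _) (D.map φ.left) (𝟙 _) (by simp)
    (by rw [Category.comp_id, ← D.map_comp, Over.w φ])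
  map_id f := by apply pullback.hom_ext <;> simp
  map_comp φ ψ := by apply pullback.hom_ext <;> simp

/-- The base change of `p` to the limit. -/
noncomputable def pullCone : Cone (pullSystem D p) where
  pt := pullback p (c.π.app i)
  π :=
    { app := fun f => pullback.map _ _ _ _ (𝟙 _) (c.π.app f.left) (𝟙 _) (by simp) (by simp)
      naturality := fun f g φ => by apply pullback.hom_ext <;> simp [pullSystem] }

theorem pullSystem_map_fst {f g : CategoryTheory.Over i} (φ : f ⟶ g) :
    (pullSystem D p).map φ ≫ pullback.fst p (D.map g.hom) = pullback.fst p (D.map f.hom) := by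
  simp [pullSystem]

theorem pullSystem_map_snd {f g : CategoryTheory.Over i} (φ : f ⟶ g) :
    (pullSystem D p).map φ ≫ pullback.snd p (D.map g.hom) = pullback.snd p (D.map f.hom) ≫ D.map φ.left := by
  simp [pullSystem]

theorem pullCone_fst (f : CategoryTheory.Over i) :
    (pullCone D c p).π.app f ≫ pullback.fst p (D.map f.hom) = pullback.fst p (c.π.app i) := by
  simp [pullCone]

theorem pullCone_snd (f : CategoryTheory.Over i) :
    (pullCone D c p).π.app f ≫ pullback.snd p (D.map f.hom) = pullback.snd p (c.π.app i) ≫ c.π.app f.left := by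
  simp [pullCone]

noncomputable def isLimitPullCone (hc : IsLimit c) : IsLimit (pullCone D c p) :=
  have : IsConnected (CategoryTheory.Over i) := IsCofiltered.isConnected _
  let top : CategoryTheory.Over i := Over.mk (𝟙 i)
  let hc' : IsLimit (c.whisker (CategoryTheory.Over.forget i)) :=
    (Functor.Initial.isLimitWhiskerEquiv (CategoryTheory.Over.forget i) _).symm hc
  have key : ∀ (s : Cone (pullSystem D p)) (f : CategoryTheory.Over i),
      s.π.app f ≫ pullback.fst p (D.map f.hom) = s.π.app top ≫ pullback.fst p (D.map top.hom) := fun s f =>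
    constant_of_preserves_morphisms (fun f => s.π.app f ≫ pullback.fst p (D.map f.hom))
      (fun f g φ => by rw [← s.w φ, Category.assoc, pullSystem_map_fst]) f top
  let cs : Cone (pullSystem D p) → Cone (CategoryTheory.Over.forget i ⋙ D) := fun s =>
    { pt := s.pt
      π :=
        { app := fun f => s.π.app f ≫ pullback.snd p (D.map f.hom)
          naturality := fun f g φ => by
            show 𝟙 _ ≫ _ = (_ ≫ _) ≫ D.map φ.left
            rw [Category.id_comp, Category.assoc, ← pullSystem_map_snd D p φ, ← Category.assoc, s.w φ] } }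
  { lift := fun s => pullback.lift (s.π.app top ≫ pullback.fst p (D.map top.hom)) (hc'.lift (cs s)) (by
      have h := hc'.fac (cs s) top
      show (s.π.app top ≫ _) ≫ p = hc'.lift (cs s) ≫ c.π.app i
      refine Eq.trans ?_ h.symm
      simp [cs, top, pullback.condition])
    fac := fun s f => by
      apply pullback.hom_ext
      · rw [Category.assoc, pullCone_fst, pullback.lift_fst]
        exact (key s f).symm
      · rw [Category.assoc, pullCone_snd, pullback.lift_snd_assoc]
        exact hc'.fac (cs s) f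
    uniq := fun s m hm => by
      apply pullback.hom_ext
      · rw [pullback.lift_fst, ← hm top, Category.assoc, pullCone_fst]
      · rw [pullback.lift_snd]
        refine hc'.hom_ext fun f => ?_
        rw [hc'.fac]
        show (m ≫ _) ≫ c.π.app f.left = s.π.app f ≫ _
        rw [← hm f, Category.assoc, Category.assoc, pullCone_snd] }

theorem isAffine_pullback_over {V T T' : Over S} (p : V ⟶ T) (g : T' ⟶ T) [IsAffine V.left] [IsAffine T.left]
    [IsAffine T'.left] : IsAffine (pullback p g).left :=
  haveI : IsAffine (pullback ((Over.forget S).map p) ((Over.forget S).map g)) :=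
    inferInstanceAs (IsAffine (pullback p.left g.left))
  IsAffine.of_isIso ((IsPullback.of_hasPullback p g).map (Over.forget S)).isoPullback.hom

/-- Base change of a scheme over `U` along a system. -/
theorem pull_bijective {F : PSp S} (U : Over S) (hU : IsLimitPreserving (S := U.left) ((Over.map U.hom).op ⋙ F))
    (hc : IsLimit c) (hD : ∀ j, IsAffine (D.obj j).left) (hA : IsAffine c.pt.left) [IsAffine V.left] (u : V ⟶ U) :
    (∀ x : F.obj (op (pullback p (c.π.app i))), ∃ (f : CategoryTheory.Over i) (z : F.obj (op ((pullSystem D p).obj f))),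
      F.map ((pullCone D c p).π.app f).op z = x) ∧
    ∀ (f : CategoryTheory.Over i) (z z' : F.obj (op ((pullSystem D p).obj f))),
      F.map ((pullCone D c p).π.app f).op z = F.map ((pullCone D c p).π.app f).op z' →
      ∃ (g : CategoryTheory.Over i) (φ : g ⟶ f),
        F.map ((pullSystem D p).map φ).op z = F.map ((pullSystem D p).map φ).op z' := by
  have : IsConnected (CategoryTheory.Over i) := IsCofiltered.isConnected _
  have := hD i
  exact limit_bijective_of_over U hU (pullSystem D p) (pullCone D c p)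
    (isLimitOfPreserves _ (isLimitPullCone D c p hc))
    (fun f => have := hD f.left; isAffine_pullback_over p (D.map f.hom))
    (have : IsAffine (((Functor.const I).obj c.pt).obj i).left := hA; isAffine_pullback_over p (c.π.app i))
    { app := fun f => pullback.fst p (D.map f.hom) ≫ u
      naturality := fun f g φ => by
        show _ ≫ _ ≫ u = (_ ≫ u) ≫ 𝟙 _
        rw [← Category.assoc, pullSystem_map_fst, Category.comp_id] }
    (pullback.fst p (c.π.app i) ≫ u)
    fun f => by rw [← Category.assoc, pullCone_fst]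

end Pullback

theorem exists_affine_fppf_cover {ι : Type u} (U : ι → Over S) [∀ j, Flat (U j).hom]
    [∀ j, LocallyOfFinitePresentation (U j).hom]
    (hsurj : ∀ s : ↥S, ∃ (j : ι) (x : ↥(U j).left), (U j).hom x = s) (T : Over S) [IsAffine T.left] :
    ∃ (κ : Type u) (_ : Finite κ) (j : κ → ι) (V : κ → Over S) (p : ∀ k, V k ⟶ T) (_u : ∀ k, V k ⟶ U (j k)),
      (∀ k, IsAffine (V k).left) ∧ (∀ k, Flat (p k).left) ∧ (∀ k, LocallyOfFinitePresentation (p k).left) ∧
      ∀ t : ↥T.left, ∃ (k : κ) (v : ↥(V k).left), (p k).left v = t := by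
  have h : ∀ t : ↥T.left, ∃ (j : ι) (V : Over S) (p : V ⟶ T) (_ : V ⟶ U j),
      IsAffine V.left ∧ Flat p.left ∧ LocallyOfFinitePresentation p.left ∧ t ∈ Set.range p.left := by
    intro t
    obtain ⟨j, y, hy⟩ := hsurj (T.hom t)
    obtain ⟨z, -, hz⟩ := Scheme.Pullback.exists_preimage_pullback (f := (U j).hom) (g := T.hom) y t hy
    obtain ⟨O, hO, hzO, -⟩ := exists_isAffineOpen_mem_and_subset
      (U := (⊤ : (pullback (U j).hom T.hom).Opens)) (x := z) trivial
    refine ⟨j, Over.mk (O.ι ≫ pullback.snd (U j).hom T.hom ≫ T.hom),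
      CategoryTheory.Over.homMk (O.ι ≫ pullback.snd _ _) (Category.assoc _ _ _),
      CategoryTheory.Over.homMk (O.ι ≫ pullback.fst _ _) (by simp [pullback.condition]), hO,
      inferInstanceAs (Flat (O.ι ≫ pullback.snd (U j).hom T.hom)),
      inferInstanceAs (LocallyOfFinitePresentation (O.ι ≫ pullback.snd (U j).hom T.hom)), ⟨z, hzO⟩, ?_⟩
    show (O.ι ≫ pullback.snd (U j).hom T.hom) ⟨z, hzO⟩ = t
    exact hz
  choose j V p u hV hp hp' ht using h
  have hop : ∀ t, IsOpen (Set.range (p t).left) := fun t => by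
    have := hp t
    have := hp' t
    exact (p t).left.isOpenMap.isOpen_range
  obtain ⟨s, hs⟩ := isCompact_univ.elim_finite_subcover (fun t => Set.range (p t).left) hop
    fun t _ => Set.mem_iUnion.2 ⟨t, ht t⟩
  refine ⟨s, inferInstance, fun k => j k.1, fun k => V k.1, fun k => p k.1, fun k => u k.1, fun k => hV k.1,
    fun k => hp k.1, fun k => hp' k.1, fun t => ?_⟩
  obtain ⟨k, hk, v, hv⟩ := Set.mem_iUnion₂.1 (hs (Set.mem_univ t))
  exact ⟨⟨k, hk⟩, v, hv⟩

theorem exists_after_all {C : Type*} [Category C] {κ : Type*} [Finite κ] (P : κ → ∀ c : C, Prop)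
    (hmono : ∀ k {c d : C} (_ : d ⟶ c), P k c → P k d)
    (h : ∀ k (c : C), ∃ (d : C) (_ : d ⟶ c), P k d) (c : C) : ∃ (d : C) (_ : d ⟶ c), ∀ k, P k d := by
  classical
  cases nonempty_fintype κ
  suffices ∀ s : Finset κ, ∃ (d : C) (_ : d ⟶ c), ∀ k ∈ s, P k d by
    obtain ⟨d, f, hd⟩ := this Finset.univ
    exact ⟨d, f, fun k => hd k (Finset.mem_univ k)⟩
  intro s
  induction s using Finset.induction_on with
  | empty => exact ⟨c, 𝟙 c, by simp⟩
  | insert a t hat ih =>
    obtain ⟨d, f, hd⟩ := ih
    obtain ⟨e, g, he⟩ := h a d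
    refine ⟨e, g ≫ f, fun k hk => ?_⟩
    obtain rfl | hk := Finset.mem_insert.1 hk
    exacts [he, hmono k g (hd k hk)]

section Main

variable {F : PSp S} (hF : Presheaf.IsSheaf (J S) F) {I : Type u} [SmallCategory I] [IsCofiltered I]
  (D : I ⥤ Over S) {i : I} {κ : Type u} {V : κ → Over S} (p : ∀ k, V k ⟶ D.obj i)
  [∀ k, Flat (p k).left] [∀ k, LocallyOfFinitePresentation (p k).left]
  (hp : ∀ t : ↥(D.obj i).left, ∃ (k : κ) (v : ↥(V k).left), (p k).left v = t)

include hp in
theorem jointly_pullback {T : Over S} (g : T ⟶ D.obj i) :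
    (∀ k, Flat (pullback.snd (p k) g).left) ∧ (∀ k, LocallyOfFinitePresentation (pullback.snd (p k) g).left) ∧
      ∀ t : ↥T.left, ∃ (k : κ) (v : ↥(pullback (p k) g).left), (pullback.snd (p k) g).left v = t := by
  have sq := fun k => (IsPullback.of_hasPullback (p k) g).map (Over.forget S)
  refine ⟨fun k => MorphismProperty.of_isPullback (sq k) (inferInstanceAs (Flat (p k).left)),
    fun k => MorphismProperty.of_isPullback (sq k) (inferInstanceAs (LocallyOfFinitePresentation (p k).left)),
    fun t => ?_⟩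
  obtain ⟨k, v, hv⟩ := hp (g.left t)
  obtain ⟨w, -, hw⟩ := Scheme.exists_preimage_of_isPullback (sq k) v t hv
  exact ⟨k, w, hw⟩

include hF hp in
theorem ext_of_pullback {T : Over S} (g : T ⟶ D.obj i) {z z' : F.obj (op T)}
    (h : ∀ k, F.map (pullback.snd (p k) g).op z = F.map (pullback.snd (p k) g).op z') : z = z' := by
  obtain ⟨h₁, h₂, h₃⟩ := jointly_pullback D p hp g
  exact ext_of_jointly hF (fun k => pullback.snd (p k) g) h₃ h

end Main

theorem isLimitPreserving_of_fppf_cover (F : PSp S) (hF : Presheaf.IsSheaf (J S) F) {ι : Type u} (U : ι → Over S)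
    [∀ j, Flat (U j).hom] [∀ j, LocallyOfFinitePresentation (U j).hom]
    (hsurj : ∀ s : ↥S, ∃ (j : ι) (x : ↥(U j).left), (U j).hom x = s)
    (hloc : ∀ j, IsLimitPreserving (S := (U j).left) ((Over.map (U j).hom).op ⋙ F)) : IsLimitPreserving F := by
  intro I _ _ D c hc hD hA
  have := IsCofiltered.isConnected I
  have hc' : IsLimit c := isLimitOfReflects (Over.forget S) hc
  refine ⟨Types.FilteredColimit.isColimitOf' _ _ (fun x => ?_) (fun i z z' hzz => ?_)⟩
  · obtain ⟨i⟩ := IsCofiltered.nonempty (C := I)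
    have := hD i
    obtain ⟨κ, _, j, V, p, u, hV, hfl, hfp, hp⟩ := exists_affine_fppf_cover U hsurj (D.obj i)
    have H := fun k => pull_bijective D c (p k) (U (j k)) (hloc (j k)) hc' hD hA (u k)
    -- sections over the base changes
    let xk : ∀ k, F.obj (op (pullback (p k) (c.π.app i))) := fun k => F.map (pullback.snd _ _).op x
    choose fk zk hzk using fun k => (H k).1 (xk k)
    obtain ⟨f, -, hf⟩ := exists_after_all (fun k (f : CategoryTheory.Over i) => Nonempty (f ⟶ fk k))
      (fun k a b g hg => ⟨g ≫ hg.some⟩)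
      (fun k a => ⟨_, IsCofiltered.minToLeft a (fk k), ⟨IsCofiltered.minToRight a (fk k)⟩⟩) (Over.mk (𝟙 i))
    let φk := fun k => (hf k).some
    -- agreement on the self products
    let q : ∀ kl : κ × κ, pullback (p kl.1) (p kl.2) ⟶ D.obj i := fun kl => pullback.fst _ _ ≫ p kl.1
    have hq : ∀ kl : κ × κ, IsAffine (pullback (p kl.1) (p kl.2)).left := fun kl =>
      have := hV kl.1; have := hV kl.2; isAffine_pullback_over _ _
    let r₁ : ∀ (kl : κ × κ) (g : CategoryTheory.Over i),
        pullback (q kl) (D.map g.hom) ⟶ pullback (p kl.1) (D.map g.hom) := fun kl g =>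
      pullback.map _ _ _ _ (pullback.fst (p kl.1) (p kl.2)) (𝟙 _) (𝟙 _) (by simp [q]) (by simp)
    let r₂ : ∀ (kl : κ × κ) (g : CategoryTheory.Over i),
        pullback (q kl) (D.map g.hom) ⟶ pullback (p kl.2) (D.map g.hom) := fun kl g =>
      pullback.map _ _ _ _ (pullback.snd (p kl.1) (p kl.2)) (𝟙 _) (𝟙 _)
        (by simp [q, pullback.condition]) (by simp)
    have key : ∀ (kl : κ × κ) (g : CategoryTheory.Over i) (φ : g ⟶ f), ∃ (g' : CategoryTheory.Over i) (ψ : g' ⟶ g),
        F.map (r₁ kl g').op (F.map ((pullSystem D (p kl.1)).map ((ψ ≫ φ) ≫ φk kl.1)).op (zk kl.1)) =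
          F.map (r₂ kl g').op (F.map ((pullSystem D (p kl.2)).map ((ψ ≫ φ) ≫ φk kl.2)).op (zk kl.2)) := by
      intro kl g φ
      have := hq kl
      let e₁ : pullback (q kl) (c.π.app i) ⟶ pullback (p kl.1) (c.π.app i) :=
        pullback.map _ _ _ _ (pullback.fst (p kl.1) (p kl.2)) (𝟙 _) (𝟙 _) (by simp [q]) (by simp)
      let e₂ : pullback (q kl) (c.π.app i) ⟶ pullback (p kl.2) (c.π.app i) :=
        pullback.map _ _ _ _ (pullback.snd (p kl.1) (p kl.2)) (𝟙 _) (𝟙 _)
          (by simp [q, pullback.condition]) (by simp)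
      have hlim : F.map ((pullCone D c (q kl)).π.app g).op
            (F.map (r₁ kl g).op (F.map ((pullSystem D (p kl.1)).map (φ ≫ φk kl.1)).op (zk kl.1))) =
          F.map ((pullCone D c (q kl)).π.app g).op
            (F.map (r₂ kl g).op (F.map ((pullSystem D (p kl.2)).map (φ ≫ φk kl.2)).op (zk kl.2))) := by
        have a₁ : (pullCone D c (q kl)).π.app g ≫ r₁ kl g = e₁ ≫ (pullCone D c (p kl.1)).π.app g := by
          apply pullback.hom_ext <;> simp [r₁, e₁, pullCone]
        have a₂ : (pullCone D c (q kl)).π.app g ≫ r₂ kl g = e₂ ≫ (pullCone D c (p kl.2)).π.app g := by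
          apply pullback.hom_ext <;> simp [r₂, e₂, pullCone]
        refine (res_sq a₁ _).trans (Eq.trans ?_ (res_sq a₂ _).symm)
        refine (congrArg (F.map e₁.op) ((res_res _ _ (Cone.w (pullCone D c (p kl.1)) (φ ≫ φk kl.1)) _).trans (hzk kl.1))).trans
          (Eq.trans ?_ (congrArg (F.map e₂.op) ((res_res _ _ (Cone.w (pullCone D c (p kl.2)) (φ ≫ φk kl.2)) _).trans (hzk kl.2))).symm)
        exact res_sq (by simp [e₁, e₂]) x
      obtain ⟨g', ψ, hψ⟩ := (pull_bijective D c (q kl) (U (j kl.1)) (hloc (j kl.1)) hc' hD hA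
        (pullback.fst _ _ ≫ u kl.1)).2 g _ _ hlim
      refine ⟨g', ψ, ?_⟩
      have b₁ : (pullSystem D (q kl)).map ψ ≫ r₁ kl g = r₁ kl g' ≫ (pullSystem D (p kl.1)).map ψ := by
        apply pullback.hom_ext <;> simp [r₁, pullSystem]
      have b₂ : (pullSystem D (q kl)).map ψ ≫ r₂ kl g = r₂ kl g' ≫ (pullSystem D (p kl.2)).map ψ := by
        apply pullback.hom_ext <;> simp [r₂, pullSystem]
      refine (congrArg (F.map (r₁ kl g').op) ?_).trans (((res_sq b₁ _).symm.trans
        (hψ.trans (res_sq b₂ _))).trans (congrArg (F.map (r₂ kl g').op) ?_))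
      · exact (res_res _ _ (by simp only [Functor.map_comp, Category.assoc]) _).symm
      · exact res_res _ _ (by simp only [Functor.map_comp, Category.assoc]) _
    have hgood : ∀ g : CategoryTheory.Over i, ∀ φ : g ⟶ f, ∃ (g' : CategoryTheory.Over i) (ψ : g' ⟶ g),
        ∀ kl, F.map (r₁ kl g').op (F.map ((pullSystem D (p kl.1)).map ((ψ ≫ φ) ≫ φk kl.1)).op (zk kl.1)) =
          F.map (r₂ kl g').op (F.map ((pullSystem D (p kl.2)).map ((ψ ≫ φ) ≫ φk kl.2)).op (zk kl.2)) := by
      intro g φ
      obtain ⟨o, -, h⟩ := exists_after_all (C := CategoryTheory.Over g)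
        (fun kl (o : CategoryTheory.Over g) =>
          F.map (r₁ kl o.left).op (F.map ((pullSystem D (p kl.1)).map ((o.hom ≫ φ) ≫ φk kl.1)).op (zk kl.1)) =
            F.map (r₂ kl o.left).op (F.map ((pullSystem D (p kl.2)).map ((o.hom ≫ φ) ≫ φk kl.2)).op (zk kl.2)))
        (fun kl o o' w h => by
          have b₁ : (pullSystem D (q kl)).map w.left ≫ r₁ kl o.left =
              r₁ kl o'.left ≫ (pullSystem D (p kl.1)).map w.left := by
            apply pullback.hom_ext <;> simp [r₁, pullSystem]
          have b₂ : (pullSystem D (q kl)).map w.left ≫ r₂ kl o.left =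
              r₂ kl o'.left ≫ (pullSystem D (p kl.2)).map w.left := by
            apply pullback.hom_ext <;> simp [r₂, pullSystem]
          have h' := (res_sq b₁ _).symm.trans
            ((congrArg (F.map ((pullSystem D (q kl)).map w.left).op) h).trans (res_sq b₂ _))
          refine (congrArg (F.map (r₁ kl o'.left).op) ?_).trans (h'.trans (congrArg (F.map (r₂ kl o'.left).op) ?_))
          · exact (res_res _ _ (by simp only [← Functor.map_comp, Category.assoc, Over.w_assoc]) _).symm
          · exact res_res _ _ (by simp only [← Functor.map_comp, Category.assoc, Over.w_assoc]) _)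
        (fun kl o => by
          obtain ⟨g', ψ, h⟩ := key kl o.left (o.hom ≫ φ)
          exact ⟨Over.mk (ψ ≫ o.hom), CategoryTheory.Over.homMk ψ rfl,
            by simpa only [Over.mk_hom, Over.mk_left, Category.assoc] using h⟩)
        (Over.mk (𝟙 g))
      exact ⟨o.left, o.hom, h⟩
    obtain ⟨g, ψ, hg⟩ := hgood f (𝟙 f)
    obtain ⟨hs₁, hs₂, hs₃⟩ := jointly_pullback D p hp (D.map g.hom)
    let w : ∀ k, F.obj (op (pullback (p k) (D.map g.hom))) := fun k =>
      F.map ((pullSystem D (p k)).map ((ψ ≫ 𝟙 f) ≫ φk k)).op (zk k)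
    obtain ⟨z, hz⟩ := exists_amalgamation_jointly hF (fun k => pullback.snd (p k) (D.map g.hom)) hs₃ w
      (fun k l Z a b hab => by
        have hpp : (a ≫ pullback.fst _ _) ≫ p k = (b ≫ pullback.fst _ _) ≫ p l := by
          rw [Category.assoc, Category.assoc, pullback.condition, pullback.condition, reassoc_of% hab]
        let e : Z ⟶ pullback (q (k, l)) (D.map g.hom) := pullback.lift (pullback.lift _ _ hpp)
          (a ≫ pullback.snd _ _) (by simp [q, pullback.condition, reassoc_of% hab])
        have e₁ : e ≫ r₁ (k, l) g = a := by apply pullback.hom_ext <;> simp [e, r₁]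
        have e₂ : e ≫ r₂ (k, l) g = b := by
          apply pullback.hom_ext
          · simp [e, r₂]
          · simpa [e, r₂] using hab
        exact (res_res e _ e₁ _).symm.trans ((congrArg (F.map e.op) (hg (k, l))).trans (res_res e _ e₂ _)))
    refine ⟨op g.left, z, ?_⟩
    refine ext_of_pullback hF D p hp (c.π.app i) fun k => ?_
    refine ((res_sq (pullCone_snd D c (p k) g).symm z).trans ((congrArg _ (hz k)).trans ?_)).symm
    exact (res_res _ _ (Cone.w (pullCone D c (p k)) _) _).trans (hzk k)
  · obtain ⟨i⟩ := i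
    change F.obj (op (D.obj i)) at z z'
    have := hD i
    obtain ⟨κ, _, j, V, p, u, hV, hfl, hfp, hp⟩ := exists_affine_fppf_cover U hsurj (D.obj i)
    have H := fun k => pull_bijective D c (p k) (U (j k)) (hloc (j k)) hc' hD hA (u k)
    obtain ⟨g, -, hg⟩ := exists_after_all (fun k (g : CategoryTheory.Over i) =>
        F.map (pullback.snd (p k) (D.map g.hom)).op (F.map (D.map g.hom).op z) =
          F.map (pullback.snd (p k) (D.map g.hom)).op (F.map (D.map g.hom).op z'))
      (fun k a b φ h => by
        have hr : ∀ w : F.obj (op (D.obj i)),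
            F.map (pullback.snd (p k) (D.map b.hom)).op (F.map (D.map b.hom).op w) =
              F.map ((pullSystem D (p k)).map φ).op
                (F.map (pullback.snd (p k) (D.map a.hom)).op (F.map (D.map a.hom).op w)) := fun w => by
          refine ((congrArg _ (res_res _ _ (by rw [← D.map_comp, Over.w φ]) w).symm).trans
            (res_sq (pullSystem_map_snd D (p k) φ).symm _))
        rw [hr z, hr z', h])
      (fun k a => by
        have hr : ∀ w : F.obj (op (D.obj i)), F.map ((pullCone D c (p k)).π.app a).op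
              (F.map (pullback.snd (p k) (D.map a.hom)).op (F.map (D.map a.hom).op w)) =
            F.map (pullback.snd (p k) (c.π.app i)).op (F.map (c.π.app i).op w) := fun w =>
          (res_sq (pullCone_snd D c (p k) a) _).trans (congrArg _ (res_res _ _ (c.w a.hom) w))
        obtain ⟨b, φ, hb⟩ := (H k).2 a _ _ ((hr z).trans ((congrArg _ hzz).trans (hr z').symm))
        refine ⟨b, φ, ?_⟩
        have hb' : ∀ w : F.obj (op (D.obj i)),
            F.map (pullback.snd (p k) (D.map b.hom)).op (F.map (D.map b.hom).op w) =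
              F.map ((pullSystem D (p k)).map φ).op
                (F.map (pullback.snd (p k) (D.map a.hom)).op (F.map (D.map a.hom).op w)) := fun w => by
          refine ((congrArg _ (res_res _ _ (by rw [← D.map_comp, Over.w φ]) w).symm).trans
            (res_sq (pullSystem_map_snd D (p k) φ).symm _))
        rw [hb' z, hb' z', hb])
      (Over.mk (𝟙 i))
    refine ⟨op g.left, g.hom.op, ?_⟩
    exact ext_of_pullback hF D p hp (D.map g.hom) hg

end Groth.Agent.AlgSpDec
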