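import Groth.Agent.AlgSpDec.LimAffineStage
import Groth.Agent.AlgSpDec.LimDescentDiag
import Groth.Agent.AlgSpDec.AffineLocal

/-!
# Locally finitely presented morphisms and limits of affine schemes
-/

set_option backward.isDefEq.respectTransparency false
set_option backward.isDefEq.respectTransparency.types false

universe u

open CategoryTheory Limits Opposite AlgebraicGeometry AlgSp Groth.Agent.AlgSpLib Groth.Agent.AlgSpPts

namespace Groth.Agent.AlgSpDec

variable {S : Scheme.{u}}

theorem exists_section_stage {J : Type u} [SmallCategory J] [IsCofiltered J] (W : J ⥤ Over S)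
    (hWA : ∀ j, IsAffine (W.obj j).left) (cW : Cone W) (hcW : IsLimit cW) {j : J} {E : Over S} (e : E ⟶ W.obj j)
    [LocallyOfFinitePresentation e.left] (σ : cW.pt ⟶ E) (hσ : σ ≫ e = cW.π.app j) :
    ∃ (k : J) (f : k ⟶ j) (g : W.obj k ⟶ E), g ≫ e = W.map f ∧ cW.π.app k ≫ g = σ := by
  have := IsCofiltered.isConnected (Over j)
  have := IsCofiltered.isConnected J
  let W' := CategoryTheory.Over.forget j ⋙ W ⋙ Over.forget S
  have : ∀ o, IsAffine (W'.obj o) := fun o => hWA o.left
  have : ∀ {o o' : Over j} (f : o ⟶ o'), IsAffineHom (W'.map f) := fun f => inferInstance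
  let t : W' ⟶ (Functor.const (Over j)).obj (W.obj j).left :=
    { app := fun o => (W.map o.hom).left
      naturality := fun o o' f => by
        show (W.map f.left).left ≫ (W.map o'.hom).left = (W.map o.hom).left ≫ 𝟙 _
        rw [Category.comp_id, ← Over.comp_left, ← W.map_comp, Over.w f] }
  obtain ⟨o, g, hg, hg'⟩ := Scheme.exists_π_app_comp_eq_of_locallyOfFinitePresentation W' t e.left
    (((Over.forget S).mapCone cW).whisker (CategoryTheory.Over.forget j))
    ((Functor.Initial.isLimitWhiskerEquiv (CategoryTheory.Over.forget j) _).symm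
      (isLimitOfPreserves (Over.forget S) hcW)) σ.left
    (by
      ext o
      show (cW.π.app o.left).left ≫ (W.map o.hom).left = σ.left ≫ e.left
      rw [← Over.comp_left, ← Over.comp_left, cW.w, hσ])
  refine ⟨o.left, o.hom, CategoryTheory.Over.homMk g ?_, Over.OverMorphism.ext hg', Over.OverMorphism.ext hg⟩
  rw [← Over.w e, reassoc_of% hg']
  exact Over.w (W.map o.hom)

/-- An etale covering of a limit of affine schemes comes from a stage after any given index. -/
theorem exists_stage_etale_cover {J : Type u} [SmallCategory J] [IsCofiltered J] (W : J ⥤ Over S)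
    (hWA : ∀ j, IsAffine (W.obj j).left) (cW : Cone W) (hcW : IsLimit cW) [IsAffine cW.pt.left] {T' : Over S}
    [IsAffine T'.left] (π : T' ⟶ cW.pt) [Etale π.left] [Surjective π.left] (i : J) :
    ∃ (j : J) (_ : j ⟶ i) (Z : Over S) (p : Z ⟶ W.obj j) (q : T' ⟶ Z), IsAffine Z.left ∧ Etale p.left ∧
      Surjective p.left ∧ IsPullback q π p (cW.π.app j) := by
  obtain ⟨Y, U₀, q, π₀, q', hU₀, _, _, _, hY, sq₀⟩ := exists_etale_affine_model π.left
  let YS := baseChangeOver S Y
  let US := baseChangeOver S U₀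
  let πS : US ⟶ YS := CategoryTheory.Over.homMk
    (pullback.map _ _ _ _ π₀ (𝟙 S) (𝟙 _) (by simp) (by simp)) (pullback.lift_snd _ _ _)
  let qS : cW.pt ⟶ YS := CategoryTheory.Over.homMk (pullback.lift q cW.pt.hom (terminal.hom_ext _ _)) (pullback.lift_snd _ _ _)
  let q'S : T' ⟶ US :=
    CategoryTheory.Over.homMk (pullback.lift q' T'.hom (terminal.hom_ext _ _)) (pullback.lift_snd _ _ _)
  have sbase : IsPullback (pullback.fst (terminal.from U₀) (terminal.from S)) πS.left π₀
      (pullback.fst (terminal.from Y) (terminal.from S)) := by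
    refine IsPullback.of_bot (v₂₁ := pullback.snd (terminal.from Y) (terminal.from S))
      (v₂₂ := terminal.from Y) (h₃₁ := terminal.from S) ?_ (pullback.lift_fst _ _ _).symm
      (IsPullback.of_hasPullback (terminal.from Y) (terminal.from S))
    rw [terminal.comp_from π₀]
    convert IsPullback.of_hasPullback (terminal.from U₀) (terminal.from S) using 1
    exact pullback.lift_snd _ _ _ |>.trans (Category.comp_id _)
  have hwS : q'S ≫ πS = π ≫ qS := Over.OverMorphism.ext <| pullback.hom_ext
    (by simp [q'S, πS, qS, sq₀.w]) (by simp [q'S, πS, qS])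
  have sqS : IsPullback q'S.left π.left πS.left qS.left := by
    refine IsPullback.of_right ?_ (congrArg (fun f => f.left) hwS) sbase
    simpa [q'S, qS] using sq₀
  have : Etale πS.left := MorphismProperty.of_isPullback sbase ‹_›
  have : Surjective πS.left := MorphismProperty.of_isPullback sbase ‹_›
  have : IsAffineHom πS.left := MorphismProperty.of_isPullback sbase ‹_›
  have : LocallyOfFinitePresentation YS.hom := MorphismProperty.pullback_snd _ _ hY
  obtain ⟨j₀, g₀, hg₀⟩ := exists_over_hom_stage W hWA cW hcW qS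
  obtain ⟨j, u, v, -⟩ := IsCofilteredOrEmpty.cone_objs j₀ i
  let g := W.map u ≫ g₀
  have hg : cW.π.app j ≫ g = qS := by rw [← Category.assoc, cW.w]; exact hg₀
  have : IsAffine (W.obj j).left := hWA j
  have sZ : IsPullback (pullback.fst πS g).left (pullback.snd πS g).left πS.left g.left :=
    (IsPullback.of_hasPullback πS g).map (Over.forget S)
  have hpe : Etale (pullback.snd πS g).left := MorphismProperty.of_isPullback sZ ‹_›
  have hps : Surjective (pullback.snd πS g).left := MorphismProperty.of_isPullback sZ ‹_›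
  have : IsAffineHom (pullback.snd πS g).left := MorphismProperty.of_isPullback sZ ‹_›
  have hw : q'S ≫ πS = (π ≫ cW.π.app j) ≫ g := by
    rw [Category.assoc, hwS]; exact congrArg (π ≫ ·) hg.symm
  refine ⟨j, v, pullback πS g, pullback.snd πS g, pullback.lift q'S (π ≫ cW.π.app j) hw,
    isAffine_of_isAffineHom (pullback.snd πS g).left, hpe, hps, ?_⟩
  refine IsPullback.of_right ?_ (pullback.lift_snd _ _ _) (IsPullback.of_hasPullback πS g)
  rw [pullback.lift_fst, hg]
  exact IsPullback.of_map (Over.forget S) hwS sqS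

/-- Two maps from a stage to a space locally of finite presentation over another which agree over the
latter and in the limit agree at a later stage. -/
theorem exists_hom_eq_stage_of_lft {X Y : Sp S} (hX : IsAlgSpace X) (hY : IsAlgSpace Y) (f : X ⟶ Y)
    (hf : LocP @LocallyOfFiniteType f) {J : Type u} [SmallCategory J] [IsCofiltered J] (W : J ⥤ Over S)
    (hWA : ∀ j, IsAffine (W.obj j).left) (cW : Cone W) (hcW : IsLimit cW) {j : J}
    (x₁ x₂ : (yon S).obj (W.obj j) ⟶ X) (hw : x₁ ≫ f = x₂ ≫ f)
    (h : (yon S).map (cW.π.app j) ≫ x₁ = (yon S).map (cW.π.app j) ≫ x₂) :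
    ∃ (k : J) (φ : k ⟶ j), (yon S).map (W.map φ) ≫ x₁ = (yon S).map (W.map φ) ≫ x₂ := by
  have hΔ := (diagonal_package hX hY f).1
  have hΔf : RepWith @LocallyOfFinitePresentation (pullback.diagonal f) :=
    repWith_of_locP (isAlgSpace_pullback hX hX hY f f) hΔ (locP_lfp_diagonal hX hY f hf)
  let l := pullback.lift x₁ x₂ hw
  let e := hΔ.snd l
  have : LocallyOfFinitePresentation e.left := hΔf.property_snd l
  have sq := hΔ.isPullback l
  have hc : ((yon S).map (cW.π.app j) ≫ x₁) ≫ pullback.diagonal f = (yon S).map (cW.π.app j) ≫ l :=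
    pullback.hom_ext (by simp [l]) (by simp [l, h])
  obtain ⟨σ, hσ⟩ := (yon S).map_surjective (sq.lift _ _ hc)
  obtain ⟨k, φ, g, hg, -⟩ := exists_section_stage W hWA cW hcW e σ
    ((yon S).map_injective (by rw [Functor.map_comp, hσ, sq.lift_snd]))
  refine ⟨k, φ, ?_⟩
  have e₁ : (yon S).map (W.map φ) ≫ l = ((yon S).map g ≫ hΔ.fst l) ≫ pullback.diagonal f := by
    rw [← hg, Functor.map_comp, Category.assoc, Category.assoc, sq.w]
  have f₁ := congrArg (· ≫ pullback.fst f f) e₁
  have f₂ := congrArg (· ≫ pullback.snd f f) e₁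
  simp [l] at f₁ f₂
  rw [f₁, f₂]

/-- A map from the limit to a space locally of finite presentation over another, lying over a map from
a stage, comes from a later stage. -/
theorem exists_hom_stage_of_lfp {X Y : Sp S} (hX : IsAlgSpace X) (hY : IsAlgSpace Y) (f : X ⟶ Y)
    (hf : LocP @LocallyOfFinitePresentation f) {J : Type u} [SmallCategory J] [IsCofiltered J] (W : J ⥤ Over S)
    (hWA : ∀ j, IsAffine (W.obj j).left) (cW : Cone W) (hcW : IsLimit cW) (hA : IsAffine cW.pt.left) (i : J)
    (x : (yon S).obj cW.pt ⟶ X) (y : (yon S).obj (W.obj i) ⟶ Y) (hxy : x ≫ f = (yon S).map (cW.π.app i) ≫ y) :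
    ∃ (k : J) (φ : k ⟶ i) (x' : (yon S).obj (W.obj k) ⟶ X),
      (yon S).map (cW.π.app k) ≫ x' = x ∧ x' ≫ f = (yon S).map (W.map φ) ≫ y := by
  have := IsCofiltered.isConnected J
  have hfl : LocP @LocallyOfFiniteType f :=
    locP_mono (fun _ _ h (_ : LocallyOfFinitePresentation h) => (inferInstance : LocallyOfFiniteType h)) hf
  obtain ⟨U, V, a, b, h, ha, has, hb, -, hw⟩ := exists_chart hX hY f
  have : LocallyOfFinitePresentation h.left := hf a b h ha hb hw
  obtain ⟨T', π, u₀, hT', _, _, hπ⟩ := exists_affine_cover_lift ha has x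
  have : IsAffine T'.left := hT'
  obtain ⟨j, φ, Z, p, q, hZ, _, _, sqp⟩ := exists_stage_etale_cover W hWA cW hcW π i
  have : IsAffine Z.left := hZ
  -- the base change of the covering to the later stages
  let D := W ⋙ yon S
  let hD := isLimitOfPreserves (yon S) hcW
  have hDa : ∀ (m n : J) (g : m ⟶ n), IsAffineMor (D.map g) := fun m n g => by
    have := hWA m; have := hWA n
    exact isAffineMor_of_repWith le_rfl ((repWith_yon_map_iff _ _).2 (inferInstance : IsAffineHom (W.map g).left))
  obtain ⟨W', cW', hcW', p', fst', aW, bW, haw, sqW, hwb, hA', hWA', sqj, hfst, hp⟩ :=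
    exists_limit_square'' D hDa ((yon S).mapCone cW) hD j ((yon S).map p)
  let ε := sqW.isoIsPullback _ _ (sqp.map (yon S)).flip
  have hε₁ : ε.hom ≫ (yon S).map π = fst' := sqW.isoIsPullback_hom_fst _ _ _
  obtain ⟨winf, hwinf⟩ : ∃ w : cW'.pt ⟶ U, (yon S).map w ≫ a = fst' ≫ x := by
    obtain ⟨e, he⟩ := (yon S).map_surjective ε.hom
    exact ⟨e ≫ u₀, by rw [Functor.map_comp, he, Category.assoc, ← hπ, ← Category.assoc, hε₁]⟩
  let top : Over j := Over.mk (𝟙 j)
  let yW : (yon S).obj (W'.obj top) ⟶ Y := aW top ≫ (yon S).map (W.map φ) ≫ y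
  have hyW : (yon S).map (winf ≫ h) ≫ b = (yon S).map (cW'.π.app top) ≫ yW := by
    rw [Functor.map_comp, Category.assoc, ← hw, ← Category.assoc, hwinf, Category.assoc, hxy]
    show _ = (yon S).map (cW'.π.app top) ≫ aW top ≫ (yon S).map (W.map φ) ≫ y
    rw [← Category.assoc ((yon S).map (cW'.π.app top)), ← hfst top, Category.assoc]
    refine congrArg (fst' ≫ ·) ?_
    show _ = (yon S).map (cW.π.app j) ≫ (yon S).map (W.map φ) ≫ y
    rw [← Functor.map_comp_assoc, cW.w]
  -- lift to the chart of the base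
  have : Etale (hb.rep.snd yW).left := hb.property_snd yW
  obtain ⟨σ, hσ⟩ := (yon S).map_surjective ((hb.rep.isPullback' yW).lift _ _ hyW)
  obtain ⟨o₁, φ₁, v₁, hv₁, hv₁'⟩ := exists_section_stage W' hWA' cW' hcW' (hb.rep.snd yW) σ
    ((yon S).map_injective (by rw [Functor.map_comp, hσ, IsPullback.lift_snd]))
  let v := v₁ ≫ hb.rep.fst' yW
  have hv : (yon S).map v ≫ b = (yon S).map (W'.map φ₁) ≫ yW := by
    rw [Functor.map_comp, Category.assoc, (hb.rep.isPullback' yW).w, ← Category.assoc, ← Functor.map_comp, hv₁]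
  have hvinf : cW'.π.app o₁ ≫ v = winf ≫ h := (yon S).map_injective (by
    rw [← Category.assoc, hv₁', Functor.map_comp, hσ, IsPullback.lift_fst])
  -- lift to the chart of the source
  have sE : IsPullback (pullback.fst h v).left (pullback.snd h v).left h.left v.left :=
    (IsPullback.of_hasPullback h v).map (Over.forget S)
  have : LocallyOfFinitePresentation (pullback.snd h v).left := MorphismProperty.of_isPullback sE ‹_›
  obtain ⟨o₂, φ₂, g₂, hg₂, hg₂'⟩ := exists_section_stage W' hWA' cW' hcW' (pullback.snd h v)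
    (pullback.lift winf (cW'.π.app o₁) hvinf.symm) (pullback.lift_snd _ _ _)
  let w := g₂ ≫ pullback.fst h v
  have hw' : cW'.π.app o₂ ≫ w = winf := by rw [← Category.assoc, hg₂', pullback.lift_fst]
  let x₂ := (yon S).map w ≫ a
  have hx₂ : x₂ ≫ f = aW o₂ ≫ (yon S).map (W.map (o₂.hom ≫ φ)) ≫ y := by
    show ((yon S).map (g₂ ≫ pullback.fst h v) ≫ a) ≫ f = _
    rw [Category.assoc, hw, ← Category.assoc, ← Functor.map_comp, Category.assoc, pullback.condition,
      reassoc_of% hg₂, Functor.map_comp, Category.assoc, hv, ← Category.assoc, ← Functor.map_comp,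
      ← W'.map_comp]
    show (yon S).map (W'.map (φ₂ ≫ φ₁)) ≫ aW top ≫ _ = _
    rw [← Category.assoc, haw, Category.assoc]
    have e : (φ₂ ≫ φ₁).left = o₂.hom := by
      have := Over.w (φ₂ ≫ φ₁); simpa [top] using this
    rw [e]
    show aW o₂ ≫ (yon S).map (W.map o₂.hom) ≫ _ = _
    rw [← Functor.map_comp_assoc, ← W.map_comp]
  -- agreement on the self product of the covering
  obtain ⟨pk, hpk⟩ := (yon S).map_surjective (aW o₂)
  have : IsAffine (W'.obj o₂).left := hWA' o₂
  have : IsAffine (W.obj o₂.left).left := hWA o₂.left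
  have : IsAffineHom pk.left := inferInstance
  have sR : IsPullback (pullback.fst pk pk).left (pullback.snd pk pk).left pk.left pk.left :=
    (IsPullback.of_hasPullback pk pk).map (Over.forget S)
  have : IsAffineHom (pullback.snd pk pk).left := MorphismProperty.of_isPullback sR ‹_›
  have : IsAffine (pullback pk pk).left := isAffine_of_isAffineHom (pullback.snd pk pk).left
  let r₁ := (yon S).map (pullback.fst pk pk) ≫ x₂
  let r₂ := (yon S).map (pullback.snd pk pk) ≫ x₂
  have hr : r₁ ≫ f = r₂ ≫ f := by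
    simp only [r₁, r₂, Category.assoc, hx₂]
    rw [← hpk, ← Functor.map_comp_assoc, ← Functor.map_comp_assoc _ (pullback.snd pk pk), pullback.condition]
  obtain ⟨W'', cW'', hcW'', p'', fst'', aW'', bW'', -, sqW'', hwb'', -, hWA'', sqj'', hfst'', hp''⟩ :=
    exists_limit_square'' D hDa ((yon S).mapCone cW) hD o₂.left ((yon S).map (pullback.fst pk pk ≫ pk))
  let top₂ : Over o₂.left := Over.mk (𝟙 o₂.left)
  have hlim : (yon S).map p'' ≫ r₁ = (yon S).map p'' ≫ r₂ := by
    have hsk : IsPullback fst' ((yon S).map (cW'.π.app o₂)) ((yon S).map (cW.π.app o₂.left)) (aW o₂) := by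
      refine IsPullback.of_bot ?_ (hfst o₂) (sqj o₂)
      rw [← Functor.map_comp, ← hp o₂]
      show IsPullback fst' ((yon S).map p') ((yon S).map (cW.π.app o₂.left) ≫ (yon S).map (W.map o₂.hom)) _
      rw [← Functor.map_comp, cW.w]
      exact sqW
    have e₁ : fst'' ≫ (yon S).map (cW.π.app o₂.left) = (yon S).map (p'' ≫ pullback.fst pk pk) ≫ aW o₂ := by
      rw [show fst'' ≫ (yon S).map (cW.π.app o₂.left) = _ from sqW''.w, ← hpk, ← Functor.map_comp,
        ← Functor.map_comp, Category.assoc]
    have e₂ : fst'' ≫ (yon S).map (cW.π.app o₂.left) = (yon S).map (p'' ≫ pullback.snd pk pk) ≫ aW o₂ := by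
      rw [e₁, ← hpk, ← Functor.map_comp, ← Functor.map_comp, Category.assoc, Category.assoc, pullback.condition]
    have f₁ := hsk.lift_snd _ _ e₁
    have f₂ := hsk.lift_snd _ _ e₂
    simp only [r₁, r₂, ← Category.assoc, ← Functor.map_comp]
    rw [← f₁, ← f₂]
    simp only [x₂, Category.assoc]
    rw [← Functor.map_comp_assoc, hw', hwinf, ← Category.assoc, ← Category.assoc, hsk.lift_fst, hsk.lift_fst]
  obtain ⟨o₃, φ₃, h₃⟩ := exists_hom_eq_stage_of_lft hX hY f hfl W'' hWA'' cW'' hcW'' (j := top₂)
    ((yon S).map (bW'' top₂) ≫ r₁) ((yon S).map (bW'' top₂) ≫ r₂)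
    (by simp only [Category.assoc, hr])
    (by simp only [← Category.assoc, ← Functor.map_comp, ← hp'' top₂]; exact hlim)
  simp only [← Category.assoc, ← Functor.map_comp, hwb''] at h₃
  -- descend
  let k : Over j := Over.mk (o₃.hom ≫ o₂.hom)
  let φk : k ⟶ o₂ := CategoryTheory.Over.homMk o₃.hom rfl
  obtain ⟨pl, hpl⟩ := (yon S).map_surjective (aW k)
  have hple : RepWith @Etale (aW k) := repWith_of_isPullback (sqj k).flip ((repWith_yon_map_iff _ _).2 ‹_›)
  have hpls : RepWith @Surjective (aW k) := repWith_of_isPullback (sqj k).flip ((repWith_yon_map_iff _ _).2 ‹_›)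
  have := isLocallySurjective_of_etale_surjective hple hpls
  have hm : W'.map φk ≫ pk = pl ≫ W.map o₃.hom := (yon S).map_injective (by
    rw [Functor.map_comp, Functor.map_comp, hpk, hpl, haw]; rfl)
  let m : pullback pl pl ⟶ pullback pk pk := pullback.map _ _ _ _ (W'.map φk) (W'.map φk) (W.map o₃.hom)
    hm.symm hm.symm
  obtain ⟨n, hn⟩ := (yon S).map_surjective ((sqj'' o₃).lift ((yon S).map (pullback.fst pl pl ≫ pl)) ((yon S).map m) (by
    show _ ≫ (yon S).map (W.map o₃.hom) = _
    rw [← Functor.map_comp, ← Functor.map_comp]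
    congr 1
    simp [m, hm]))
  have hn' : n ≫ bW'' o₃ = m := (yon S).map_injective (by rw [Functor.map_comp, hn, IsPullback.lift_snd])
  obtain ⟨x', hx'⟩ := exists_desc_of_kernelPair (a := aW k) (t := pullback.fst pl pl) (s := pullback.snd pl pl)
    (by rw [← hpl]; exact (IsPullback.of_hasPullback pl pl).map (yon S))
    ((yon S).map (W'.map φk) ≫ x₂) (by
      have := congrArg ((yon S).map n ≫ ·) h₃
      simp only [r₁, r₂] at this
      simp only [← Category.assoc, ← Functor.map_comp, hn', m, pullback.lift_fst, pullback.lift_snd] at this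
      simpa only [Functor.map_comp, Category.assoc] using this)
  refine ⟨o₃.left, k.hom ≫ φ, x', ?_, ?_⟩
  · have hfe : Epi fst' := (Sheaf.isLocallySurjective_iff_epi _).1 (isLocallySurjective_of_etale_surjective
      (repWith_of_isPullback sqW.flip ((repWith_yon_map_iff _ _).2 ‹_›))
      (repWith_of_isPullback sqW.flip ((repWith_yon_map_iff _ _).2 ‹_›)))
    rw [← cancel_epi fst', ← Category.assoc,
      show fst' ≫ (yon S).map (cW.π.app o₃.left) = (yon S).map (cW'.π.app k) ≫ aW k from hfst k,
      Category.assoc, hx', ← Functor.map_comp_assoc, cW'.w]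
    show (yon S).map _ ≫ (yon S).map w ≫ a = _
    rw [← Functor.map_comp_assoc, hw', hwinf]
  · have hep : Epi (aW k) := (Sheaf.isLocallySurjective_iff_epi _).1 inferInstance
    rw [← cancel_epi (aW k), reassoc_of% hx', hx₂, ← Category.assoc, haw, Category.assoc]
    refine congrArg (aW k ≫ ·) ?_
    show (yon S).map (W.map φk.left) ≫ _ = _
    rw [← Functor.map_comp_assoc, ← W.map_comp]
    exact congrArg (fun e => (yon S).map (W.map e) ≫ y) (Category.assoc _ _ _).symm

end Groth.Agent.AlgSpDec
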