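import Groth.Agent.AlgSpDec.LimLfp
import Groth.Agent.AlgSpPts.LimPres
import Groth.Agent.PopescuLib.FPColim

/-!
# Locally of finite presentation means limit preserving
-/

set_option backward.isDefEq.respectTransparency false
set_option backward.isDefEq.respectTransparency.types false

universe u

open CategoryTheory Limits Opposite AlgebraicGeometry AlgSp Groth.Agent.AlgSpLib Groth.Agent.AlgSpPts
  Groth.Agent.PopescuLib

namespace Groth.Agent.AlgSpDec

variable {S : Scheme.{u}}

/-- Surjectivity in the definition of limit preserving, for morphisms of sheaves. -/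
def HomSurj {X Y : Sp S} (f : X ⟶ Y) : Prop :=
  ∀ ⦃I : Type u⦄ [SmallCategory I] [IsCofiltered I] (D : I ⥤ Over S) (c : Cone D),
    IsLimit ((Over.forget S).mapCone c) → (∀ i, IsAffine (D.obj i).left) → IsAffine c.pt.left →
    ∀ (x : (yon S).obj c.pt ⟶ X) (i : I) (y : (yon S).obj (D.obj i) ⟶ Y),
      x ≫ f = (yon S).map (c.π.app i) ≫ y →
      ∃ (i' : I) (φ : i' ⟶ i) (x' : (yon S).obj (D.obj i') ⟶ X),
        (yon S).map (c.π.app i') ≫ x' = x ∧ x' ≫ f = (yon S).map (D.map φ) ≫ y

theorem locallyOfFinitePresentation_of_homSurj_affine {X Y : Sp S} (hX : IsAlgSpace X) (hY : IsAlgSpace Y)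
    {f : X ⟶ Y} (H : HomSurj f) {U V : Over S} [IsAffine U.left] [IsAffine V.left] {a : (yon S).obj U ⟶ X}
    {b : (yon S).obj V ⟶ Y} (h : U ⟶ V) (ha : RepWith @Etale a) (hb : RepWith @Etale b)
    (w : a ≫ f = (yon S).map h ≫ b) : LocallyOfFinitePresentation h.left := by
  let A := Γ(V.left, ⊤)
  let B := Γ(U.left, ⊤)
  letI := h.left.appTop.hom.toAlgebra
  let J := (FPModel A B)ᵒᵖ
  have : IsConnected (FPModel A B) := IsFiltered.isConnected _
  have : IsConnected J := IsCofiltered.isConnected J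
  let toV : ∀ j : J, Spec (CommRingCat.of j.unop.Alg) ⟶ V.left :=
    fun j => Spec.map (CommRingCat.ofHom (algebraMap A j.unop.Alg)) ≫ V.left.isoSpec.inv
  have htoV : ∀ {j k : J} (g : j ⟶ k),
      Spec.map ((fpDiagram A B ⋙ Under.forget _).map g.unop) ≫ toV k = toV j := fun {j k} g => by
    show _ ≫ _ ≫ _ = _ ≫ _
    rw [← Category.assoc, ← Spec.map_comp]
    exact congrArg (fun r => Spec.map r ≫ V.left.isoSpec.inv) (CategoryTheory.Under.w ((fpDiagram A B).map g.unop))
  let W : J ⥤ Over S :=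
    { obj := fun j => Over.mk (toV j ≫ V.hom)
      map := fun {j k} g => CategoryTheory.Over.homMk (Spec.map ((fpDiagram A B ⋙ Under.forget _).map g.unop)) (by
        show _ ≫ toV k ≫ V.hom = toV j ≫ V.hom
        exact (Category.assoc _ _ _).symm.trans (congrArg (· ≫ V.hom) (htoV g)))
      map_id := fun j => Over.OverMorphism.ext
        ((congrArg Spec.map ((fpDiagram A B ⋙ Under.forget _).map_id j.unop)).trans (Spec.map_id _))
      map_comp := fun g g' => Over.OverMorphism.ext
        ((congrArg Spec.map ((fpDiagram A B ⋙ Under.forget _).map_comp g'.unop g.unop)).trans (Spec.map_comp _ _)) }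
  let cv : ∀ j, W.obj j ⟶ V := fun j => CategoryTheory.Over.homMk (toV j) rfl
  let ci : ∀ j : J, Spec B ⟶ Spec (CommRingCat.of j.unop.Alg) := fun j =>
    Spec.map ((Under.forget _).map ((fpCocone A B).ι.app j.unop))
  have hci : ∀ j, ci j ≫ toV j = U.left.isoSpec.inv ≫ h.left := fun j => by
    show _ ≫ _ ≫ _ = _
    rw [← Category.assoc, ← Spec.map_comp, ← Scheme.isoSpec_inv_naturality]
    exact congrArg (fun r => Spec.map r ≫ V.left.isoSpec.inv) (CategoryTheory.Under.w ((fpCocone A B).ι.app j.unop))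
  let c : Cone W :=
    { pt := Over.mk (U.left.isoSpec.inv ≫ U.hom)
      π :=
        { app := fun j => CategoryTheory.Over.homMk (ci j) (by
            show _ ≫ toV j ≫ V.hom = U.left.isoSpec.inv ≫ U.hom
            rw [reassoc_of% hci j, Over.w h])
          naturality := fun j k g => Over.OverMorphism.ext (by
            show 𝟙 _ ≫ ci k = ci j ≫ Spec.map _
            rw [Category.id_comp, ← Spec.map_comp]
            exact congrArg Spec.map (((Under.forget _).mapCocone (fpCocone A B)).w g.unop).symm) } }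
  have : PreservesLimitsOfSize.{u, u} Scheme.Spec.{u} := ΓSpec.adjunction.rightAdjoint_preservesLimits
  have hcl : IsLimit ((Over.forget S).mapCone c) :=
    isLimitOfPreserves Scheme.Spec (isColimitOfPreserves (Under.forget _) (fpIsColimit A B)).op
  let eU : c.pt ≅ U := CategoryTheory.Over.isoMk U.left.isoSpec.symm rfl
  have hWA : ∀ j, IsAffine (W.obj j).left := fun j => inferInstanceAs (IsAffine (Spec _))
  have hA : IsAffine c.pt.left := inferInstanceAs (IsAffine (Spec _))
  have hcW : IsLimit c := isLimitOfReflects (Over.forget S) hcl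
  obtain ⟨j₀⟩ := IsCofiltered.nonempty (C := J)
  have hlim : ∀ j, c.π.app j ≫ cv j = eU.hom ≫ h := fun j => Over.OverMorphism.ext (hci j)
  obtain ⟨k, φ, x', hx', hx'f⟩ := H W c hcl hWA hA ((yon S).map eU.hom ≫ a) j₀ ((yon S).map (cv j₀) ≫ b) (by
    rw [Category.assoc, w, ← Category.assoc, ← Functor.map_comp, ← hlim j₀, Functor.map_comp, Category.assoc])
  -- lift to the chart
  have : Etale (ha.rep.snd x').left := ha.property_snd x'
  obtain ⟨σ, hσ⟩ := (yon S).map_surjective ((ha.rep.isPullback' x').lift ((yon S).map eU.hom) ((yon S).map (c.π.app k))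
    hx'.symm)
  obtain ⟨k₁, φ₁, g₁, hg₁, hg₁'⟩ := exists_section_stage W hWA c hcW (ha.rep.snd x') σ
    ((yon S).map_injective (by rw [Functor.map_comp, hσ, IsPullback.lift_snd]))
  let gu := g₁ ≫ ha.rep.fst' x'
  have hgu : c.π.app k₁ ≫ gu = eU.hom := (yon S).map_injective (by
    rw [← Category.assoc, hg₁', Functor.map_comp, hσ, IsPullback.lift_fst])
  have hb₁ : (yon S).map (gu ≫ h) ≫ b = (yon S).map (cv k₁) ≫ b := by
    rw [Functor.map_comp, Category.assoc, ← w, Functor.map_comp, Category.assoc,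
      reassoc_of% (ha.rep.isPullback' x').w, hx'f]
    simp only [← Category.assoc, ← Functor.map_comp, hg₁]
    refine congrArg (fun e => (yon S).map e ≫ b) (Over.OverMorphism.ext ?_)
    exact htoV (φ₁ ≫ φ)
  obtain ⟨k₂, φ₂, hk₂⟩ := exists_hom_eq_stage_of_lft (IsAlgSpace.yon_obj V) hY b
    (locP_mono (fun _ _ g (_ : Etale g) => (inferInstance : LocallyOfFiniteType g)) (locP_of_repWith hb))
    W hWA c hcW ((yon S).map (gu ≫ h)) ((yon S).map (cv k₁)) hb₁ (by
      rw [← Functor.map_comp, ← Functor.map_comp, ← Category.assoc, hgu, hlim])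
  rw [← Functor.map_comp, ← Functor.map_comp] at hk₂
  let g := (W.map φ₂ ≫ gu).left
  have hgc : g ≫ h.left = toV k₂ := by
    have := congrArg (fun e => e.left) ((yon S).map_injective hk₂)
    simp only [← Category.assoc] at this
    exact this.trans (htoV φ₂)
  let ρ : U.left ⟶ (W.obj k₂).left := U.left.isoSpec.hom ≫ ci k₂
  have hρ : ρ ≫ g = 𝟙 _ := by
    show (U.left.isoSpec.hom ≫ (c.π.app k₂).left) ≫ (W.map φ₂ ≫ gu).left = _
    rw [Category.assoc, ← Over.comp_left, c.w_assoc, hgu]
    exact U.left.isoSpec.hom_inv_id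
  have : LocallyOfFinitePresentation (toV k₂) := by
    have : LocallyOfFinitePresentation (Spec.map (CommRingCat.ofHom (algebraMap A k₂.unop.Alg))) :=
      (LocallyOfFinitePresentation.SpecMap_iff _).2 (RingHom.finitePresentation_algebraMap.mpr inferInstance)
    show LocallyOfFinitePresentation (_ ≫ _)
    infer_instance
  have : LocallyOfFiniteType (g ≫ h.left) := by rw [hgc]; infer_instance
  have : LocallyOfFiniteType g := locallyOfFiniteType_of_comp g h.left
  have : LocallyOfFinitePresentation (ρ ≫ g) := by rw [hρ]; infer_instance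
  have := Groth.Agent.AlgSpPts.locallyOfFinitePresentation_of_comp ρ g
  have : h.left = ρ ≫ toV k₂ := by
    show _ = (U.left.isoSpec.hom ≫ ci k₂) ≫ toV k₂
    rw [Category.assoc, hci, Iso.hom_inv_id_assoc]
  rw [this]
  infer_instance

theorem locP_lfp_of_homSurj {X Y : Sp S} (hX : IsAlgSpace X) (hY : IsAlgSpace Y) {f : X ⟶ Y} (H : HomSurj f) :
    LocP @LocallyOfFinitePresentation f := by
  intro U V a b h ha hb w
  let O : {p : U.left.affineOpens × V.left.affineOpens // p.1.1 ≤ h.left ⁻¹ᵁ p.2.1} → U.left.Opens := fun p => p.1.1.1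
  have hO : iSup O = ⊤ := top_le_iff.1 fun x _ => by
    obtain ⟨V', hV', hxV, -⟩ := exists_isAffineOpen_mem_and_subset (U := (⊤ : V.left.Opens)) (x := h.left x) trivial
    obtain ⟨U', hU', hxU, hUV⟩ := exists_isAffineOpen_mem_and_subset (U := h.left ⁻¹ᵁ V') (x := x) hxV
    exact TopologicalSpace.Opens.mem_iSup.2 ⟨⟨⟨⟨U', hU'⟩, ⟨V', hV'⟩⟩, hUV⟩, hxU⟩
  refine (IsZariskiLocalAtSource.iff_of_iSup_eq_top (P := @LocallyOfFinitePresentation) O hO).2 ?_
  rintro ⟨⟨⟨U', hU'⟩, ⟨V', hV'⟩⟩, hUV⟩
  let U₁ : Over S := Over.mk (U'.ι ≫ U.hom)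
  let V₁ : Over S := Over.mk (V'.ι ≫ V.hom)
  let iU : U₁ ⟶ U := CategoryTheory.Over.homMk U'.ι rfl
  let iV : V₁ ⟶ V := CategoryTheory.Over.homMk V'.ι rfl
  let h₁ : U₁ ⟶ V₁ := CategoryTheory.Over.homMk (h.left.resLE V' U' hUV) (by
    show h.left.resLE V' U' hUV ≫ V'.ι ≫ V.hom = U'.ι ≫ U.hom
    rw [Scheme.Hom.resLE_comp_ι_assoc, Over.w h])
  have : IsAffine U₁.left := hU'
  have : IsAffine V₁.left := hV'
  have hh : h₁ ≫ iV = iU ≫ h := Over.OverMorphism.ext (Scheme.Hom.resLE_comp_ι _ _)
  have := locallyOfFinitePresentation_of_homSurj_affine hX hY H (a := (yon S).map iU ≫ a) (b := (yon S).map iV ≫ b) h₁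
    (repWith_comp ((repWith_yon_map_iff _ _).2 (inferInstanceAs (Etale U'.ι))) ha)
    (repWith_comp ((repWith_yon_map_iff _ _).2 (inferInstanceAs (Etale V'.ι))) hb)
    (by rw [Category.assoc, w, ← Functor.map_comp_assoc, ← hh, Functor.map_comp_assoc])
  show LocallyOfFinitePresentation (U'.ι ≫ h.left)
  rw [← Scheme.Hom.resLE_comp_ι h.left hUV]
  have : LocallyOfFinitePresentation (h.left.resLE V' U' hUV) := this
  infer_instance

theorem homSurj_of_locP {X Y : Sp S} (hX : IsAlgSpace X) (hY : IsAlgSpace Y) {f : X ⟶ Y}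
    (hf : LocP @LocallyOfFinitePresentation f) : HomSurj f := fun I _ _ D c hc hD hA x i y hxy => by
  have := IsCofiltered.isConnected I
  exact exists_hom_stage_of_lfp hX hY f hf D hD c (isLimitOfReflects (Over.forget S) hc) hA i x y hxy

theorem homSurj_of_relLP {X Y : Sp S} {f : X ⟶ Y} (H : RelLP f.hom) : HomSurj f :=
  fun I _ _ D c hc hD hA x i y hxy => by
  have e := congrArg (J S).uliftYonedaEquiv hxy
  rw [GrothendieckTopology.uliftYonedaEquiv_comp, ← uliftYonedaEquiv_precomp] at e
  obtain ⟨k, φ, z, hz, hzx⟩ := H.surj D c hc hD hA i _ _ e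
  refine ⟨k, φ, (J S).uliftYonedaEquiv.symm z, ?_, ?_⟩
  · apply (J S).uliftYonedaEquiv.injective
    rw [← uliftYonedaEquiv_precomp, Equiv.apply_symm_apply]
    exact hzx
  · apply (J S).uliftYonedaEquiv.injective
    rw [GrothendieckTopology.uliftYonedaEquiv_comp, Equiv.apply_symm_apply, ← uliftYonedaEquiv_precomp]
    exact hz

theorem relLP_of_locP {X Y : Sp S} (hX : IsAlgSpace X) (hY : IsAlgSpace Y) {f : X ⟶ Y}
    (hf : LocP @LocallyOfFinitePresentation f) : RelLP f.hom where
  surj I _ _ D c hc hD hA i y x hxy := by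
    obtain ⟨k, φ, x', h₁, h₂⟩ := homSurj_of_locP hX hY hf D c hc hD hA ((J S).uliftYonedaEquiv.symm x) i
      ((J S).uliftYonedaEquiv.symm y) (by
        apply (J S).uliftYonedaEquiv.injective
        rw [GrothendieckTopology.uliftYonedaEquiv_comp, Equiv.apply_symm_apply, ← uliftYonedaEquiv_precomp,
          Equiv.apply_symm_apply]
        exact hxy)
    refine ⟨k, φ, (J S).uliftYonedaEquiv x', ?_, ?_⟩
    · have := congrArg (J S).uliftYonedaEquiv h₂
      rwa [GrothendieckTopology.uliftYonedaEquiv_comp, ← uliftYonedaEquiv_precomp, Equiv.apply_symm_apply] at this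
    · have := congrArg (J S).uliftYonedaEquiv h₁
      rw [← uliftYonedaEquiv_precomp] at this
      refine this.trans ?_
      exact Equiv.apply_symm_apply _ _
  inj I _ _ D c hc hD hA i x x' he hlim := by
    have := IsCofiltered.isConnected I
    obtain ⟨k, φ, hk⟩ := exists_hom_eq_stage_of_lft hX hY f
      (locP_mono (fun _ _ h (_ : LocallyOfFinitePresentation h) => (inferInstance : LocallyOfFiniteType h)) hf)
      D hD c (isLimitOfReflects (Over.forget S) hc) ((J S).uliftYonedaEquiv.symm x) ((J S).uliftYonedaEquiv.symm x')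
      (by
        apply (J S).uliftYonedaEquiv.injective
        rw [GrothendieckTopology.uliftYonedaEquiv_comp, GrothendieckTopology.uliftYonedaEquiv_comp,
          Equiv.apply_symm_apply, Equiv.apply_symm_apply]
        exact he)
      (by
        apply (J S).uliftYonedaEquiv.injective
        rw [← uliftYonedaEquiv_precomp, ← uliftYonedaEquiv_precomp, Equiv.apply_symm_apply, Equiv.apply_symm_apply]
        exact hlim)
    refine ⟨k, φ, ?_⟩
    have := congrArg (J S).uliftYonedaEquiv hk
    rwa [← uliftYonedaEquiv_precomp, ← uliftYonedaEquiv_precomp, Equiv.apply_symm_apply, Equiv.apply_symm_apply] at this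

theorem locP_lfp_iff_isRelLimitPreserving {X Y : Sp S} (hX : IsAlgSpace X) (hY : IsAlgSpace Y) (f : X ⟶ Y) :
    LocP @LocallyOfFinitePresentation f ↔ IsRelLimitPreserving f.hom :=
  ⟨fun h => (isRelLimitPreserving_iff _).2 (relLP_of_locP hX hY h),
    fun h => locP_lfp_of_homSurj hX hY (homSurj_of_relLP ((isRelLimitPreserving_iff _).1 h))⟩

end Groth.Agent.AlgSpDec
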