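import Groth.Agent.AlgSpDec.LimLfpIff
import Groth.Agent.AlgSpDec.LimHomScheme

/-!
# Locally of finite presentation and limits of quasi-compact quasi-separated spaces
-/

set_option backward.isDefEq.respectTransparency false
set_option backward.isDefEq.respectTransparency.types false

universe u

open CategoryTheory Limits Opposite AlgebraicGeometry AlgSp Groth.Agent.AlgSpLib Groth.Agent.AlgSpPts

namespace Groth.Agent.AlgSpDec

variable {S : Scheme.{u}} {I : Type u} [SmallCategory I] [IsCofiltered I] (D : I ⥤ Sp S)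
  (hDa : ∀ (i j : I) (φ : i ⟶ j), IsAffineMor (D.map φ)) (hqc : ∀ i, IsQuasiCompactSp (D.obj i))
  {X Y : Sp S} (hX : IsAlgSpace X) (hY : IsAlgSpace Y) (f : X ⟶ Y) (c : Cone D) (hc : IsLimit c)

include hDa hqc hX hY hc in
/-- Two maps from a stage which agree over the base and in the limit agree at a later stage. -/
theorem exists_hom_eq_stage_space (hf : LocP @LocallyOfFiniteType f) {i : I} (x x' : D.obj i ⟶ X)
    (he : x ≫ f = x' ≫ f) (hlim : c.π.app i ≫ x = c.π.app i ≫ x') :
    ∃ (k : I) (φ : k ⟶ i), D.map φ ≫ x = D.map φ ≫ x' := by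
  obtain ⟨U, a, hU, ha, has⟩ := exists_affine_atlas (hqc i)
  have : IsAffine U.left := hU
  obtain ⟨W, cW, hcW, p, fst, aW, bW, haw, sqW, hwb, hA, hWA, sqj, hfst, hp⟩ :=
    exists_limit_square'' D hDa c hc i a
  let top : Over i := Over.mk (𝟙 i)
  have hft : fst ≫ c.π.app i = (yon S).map (cW.π.app top) ≫ aW top := hfst top
  obtain ⟨o, φ, ho⟩ := exists_hom_eq_stage_of_lft hX hY f hf W hWA cW hcW (j := top) (aW top ≫ x) (aW top ≫ x')
    (by simp only [Category.assoc, he])
    (by simp only [← Category.assoc, ← hft]; simp only [Category.assoc, hlim])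
  refine ⟨o.left, φ.left, ?_⟩
  have := isLocallySurjective_of_etale_surjective (repWith_of_isPullback (sqj o).flip ha)
    (repWith_of_isPullback (sqj o).flip has)
  have : Epi (aW o) := (Sheaf.isLocallySurjective_iff_epi _).1 inferInstance
  rw [← cancel_epi (aW o), ← reassoc_of% (haw φ), ← reassoc_of% (haw φ)]
  exact ho

include hDa hqc hX hY hc in
/-- A map from the limit over a map from a stage comes from a later stage. -/
theorem exists_hom_stage_space [QuasiSeparatedSpace ↥S] (hqs : ∀ i, IsQuasiSeparatedSp (D.obj i))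
    (hf : LocP @LocallyOfFinitePresentation f) {i : I} (x : c.pt ⟶ X) (y : D.obj i ⟶ Y)
    (hxy : x ≫ f = c.π.app i ≫ y) :
    ∃ (k : I) (φ : k ⟶ i) (x' : D.obj k ⟶ X), c.π.app k ≫ x' = x ∧ x' ≫ f = D.map φ ≫ y := by
  have hfl : LocP @LocallyOfFiniteType f :=
    locP_mono (fun _ _ h (_ : LocallyOfFinitePresentation h) => (inferInstance : LocallyOfFiniteType h)) hf
  obtain ⟨U, a, hU, ha, has⟩ := exists_affine_atlas (hqc i)
  have : IsAffine U.left := hU
  obtain ⟨W, cW, hcW, p, fst, aW, bW, haw, sqW, hwb, hA, hWA, sqj, hfst, hp⟩ :=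
    exists_limit_square'' D hDa c hc i a
  let top : Over i := Over.mk (𝟙 i)
  obtain ⟨j, φ₀, g, hg', hg₀⟩ := exists_hom_stage_of_lfp hX hY f hf W hWA cW hcW hA top (fst ≫ x) (aW top ≫ y)
    (by rw [Category.assoc, hxy, ← Category.assoc, ← Category.assoc]; exact congrArg (· ≫ y) (hfst top))
  have hg : g ≫ f = aW j ≫ D.map j.hom ≫ y := by
    rw [hg₀, reassoc_of% (haw φ₀)]
    have : φ₀.left = j.hom := by simpa [top] using Over.w φ₀
    rw [this]
  -- cover the self product of the chart at `j`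
  have hje : RepWith @Etale (aW j) := repWith_of_isPullback (sqj j).flip ha
  have hjs : RepWith @Surjective (aW j) := repWith_of_isPullback (sqj j).flip has
  let R := hje.rep.pullback (aW j)
  have sR : IsPullback ((yon S).map (hje.rep.fst' (aW j))) ((yon S).map (hje.rep.snd (aW j))) (aW j) (aW j) :=
    hje.rep.isPullback' (aW j)
  have : IsAffine (W.obj j).left := hWA j
  have : QuasiCompact (hje.rep.snd (aW j)).left := quasiCompact_fibreProd (hqs j.left) sR
  have : CompactSpace ↥R.left := QuasiCompact.compactSpace_of_compactSpace (hje.rep.snd (aW j)).left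
  obtain ⟨Z', r, hZ', hr, hrs⟩ := exists_affine_atlas ((isQuasiCompactSp_yon_iff R).2 inferInstance)
  have : IsAffine Z'.left := hZ'
  obtain ⟨r', rfl⟩ := (yon S).map_surjective r
  let t := r' ≫ hje.rep.fst' (aW j)
  let s := r' ≫ hje.rep.snd (aW j)
  have hts : (yon S).map t ≫ aW j = (yon S).map s ≫ aW j := by
    rw [Functor.map_comp, Functor.map_comp, Category.assoc, Category.assoc, sR.w]
  obtain ⟨W', cW', hcW', p', fst', aW', bW', haw', sqW', hwb', hA', hWA', sqj', hfst', hp'⟩ :=
    exists_limit_square'' D hDa c hc j.left ((yon S).map t ≫ aW j)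
  have hsk : IsPullback fst ((yon S).map (cW.π.app j)) (c.π.app j.left) (aW j) := by
    refine IsPullback.of_bot ?_ (hfst j) (sqj j)
    rw [← Functor.map_comp, ← hp j, c.w]
    exact sqW
  have hlim : ((yon S).map p' ≫ (yon S).map t) ≫ g = ((yon S).map p' ≫ (yon S).map s) ≫ g := by
    have e₁ : fst' ≫ c.π.app j.left = ((yon S).map p' ≫ (yon S).map t) ≫ aW j := by
      rw [sqW'.w, Category.assoc]
    have e₂ : fst' ≫ c.π.app j.left = ((yon S).map p' ≫ (yon S).map s) ≫ aW j := by
      rw [sqW'.w, hts, Category.assoc]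
    rw [← hsk.lift_snd _ _ e₁, ← hsk.lift_snd _ _ e₂, Category.assoc, Category.assoc, hg', ← Category.assoc,
      ← Category.assoc, hsk.lift_fst, hsk.lift_fst]
  let k₀ : Over j.left := Over.mk (𝟙 j.left)
  obtain ⟨k, f₁, hk⟩ := exists_hom_eq_stage_of_lft hX hY f hfl W' hWA' cW' hcW' (j := k₀)
    ((yon S).map (bW' k₀ ≫ t) ≫ g) ((yon S).map (bW' k₀ ≫ s) ≫ g)
    (by simp only [Functor.map_comp, Category.assoc, hg, reassoc_of% hts])
    (by simp only [← Category.assoc, ← Functor.map_comp, ← hp' k₀]; simpa only [Functor.map_comp] using hlim)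
  simp only [← Category.assoc, ← Functor.map_comp, hwb' f₁] at hk
  -- descend at the stage `k`
  let l : Over i := Over.mk (k.hom ≫ j.hom)
  let φ : l ⟶ j := CategoryTheory.Over.homMk k.hom rfl
  have sφ : IsPullback (aW l) ((yon S).map (W.map φ)) (D.map k.hom) (aW j) := by
    refine IsPullback.of_bot ?_ (haw φ).symm (sqj j)
    rw [← Functor.map_comp, hwb, ← D.map_comp]
    exact sqj l
  have hle : RepWith @Etale (aW l) := repWith_of_isPullback (sqj l).flip ha
  have hls : RepWith @Surjective (aW l) := repWith_of_isPullback (sqj l).flip has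
  have sRl : IsPullback ((yon S).map (hle.rep.fst' (aW l))) ((yon S).map (hle.rep.snd (aW l))) (aW l) (aW l) :=
    hle.rep.isPullback' (aW l)
  let tl := hle.rep.fst' (aW l)
  let sl := hle.rep.snd (aW l)
  have hm : (yon S).map (tl ≫ W.map φ) ≫ aW j = (yon S).map (sl ≫ W.map φ) ≫ aW j := by
    rw [Functor.map_comp, Functor.map_comp, Category.assoc, Category.assoc, ← sφ.w, ← Category.assoc, sRl.w,
      Category.assoc]
  let m := sR.lift _ _ hm
  let w : (yon S).obj (hle.rep.pullback (aW l)) ⟶ D.obj k.left := (yon S).map tl ≫ aW l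
  have hcond : (pullback.fst m ((yon S).map r') ≫ w) ≫ D.map k.hom = pullback.snd m ((yon S).map r') ≫
      (yon S).map t ≫ aW j := by
    have e : w ≫ D.map k.hom = m ≫ (yon S).map (hje.rep.fst' (aW j)) ≫ aW j := by
      rw [sR.lift_fst_assoc, Functor.map_comp, Category.assoc, Category.assoc, sφ.w]
    rw [Category.assoc, e, pullback.condition_assoc, Functor.map_comp, Category.assoc]
  let n := (sqj' k).lift _ _ hcond
  have hn : n ≫ (yon S).map (bW' k) = pullback.snd m ((yon S).map r') := (sqj' k).lift_snd _ _ _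
  have hep : Epi (pullback.fst m ((yon S).map r')) := by
    have sQ := IsPullback.of_hasPullback m ((yon S).map r')
    exact (Sheaf.isLocallySurjective_iff_epi _).1 (isLocallySurjective_of_etale_surjective
      (repWith_of_isPullback sQ.flip hr) (repWith_of_isPullback sQ.flip hrs))
  have hdesc : (yon S).map tl ≫ (yon S).map (W.map φ) ≫ g = (yon S).map sl ≫ (yon S).map (W.map φ) ≫ g := by
    refine (cancel_epi (pullback.fst m ((yon S).map r'))).1 ?_
    have e₁ : pullback.fst m ((yon S).map r') ≫ (yon S).map tl ≫ (yon S).map (W.map φ) ≫ g =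
        n ≫ (yon S).map (bW' k ≫ t) ≫ g := by
      simp only [t, Functor.map_comp, Category.assoc]
      rw [reassoc_of% hn, ← pullback.condition_assoc, sR.lift_fst_assoc, Functor.map_comp, Category.assoc]
    have e₂ : pullback.fst m ((yon S).map r') ≫ (yon S).map sl ≫ (yon S).map (W.map φ) ≫ g =
        n ≫ (yon S).map (bW' k ≫ s) ≫ g := by
      simp only [s, Functor.map_comp, Category.assoc]
      rw [reassoc_of% hn, ← pullback.condition_assoc, sR.lift_snd_assoc, Functor.map_comp, Category.assoc]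
    rw [e₁, e₂, hk]
  have := isLocallySurjective_of_etale_surjective hle hls
  obtain ⟨zi, hzi⟩ := exists_desc_of_kernelPair sRl ((yon S).map (W.map φ) ≫ g) hdesc
  refine ⟨k.left, k.hom ≫ j.hom, zi, ?_, ?_⟩
  · have hfe : Epi fst := (Sheaf.isLocallySurjective_iff_epi _).1 (isLocallySurjective_of_etale_surjective
      (repWith_of_isPullback sqW.flip ha) (repWith_of_isPullback sqW.flip has))
    rw [← cancel_epi fst, ← Category.assoc]
    rw [show fst ≫ c.π.app k.left = (yon S).map (cW.π.app l) ≫ aW l from hfst l, Category.assoc, hzi,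
      ← Functor.map_comp_assoc, cW.w, hg']
  · have : Epi (aW l) := (Sheaf.isLocallySurjective_iff_epi _).1 inferInstance
    rw [← cancel_epi (aW l), reassoc_of% hzi, hg, reassoc_of% (haw φ), ← Functor.map_comp_assoc]
    rfl

end Groth.Agent.AlgSpDec

namespace Groth.Agent.AlgSpDec

variable {S : Scheme.{u}}

theorem locP_lfp_iff_isPullback_colimit [QuasiSeparatedSpace ↥S] {X Y : Sp S} (hX : IsAlgSpace X) (hY : IsAlgSpace Y)
    (f : X ⟶ Y) :
    LocP @LocallyOfFinitePresentation f ↔
      ∀ ⦃I : Type u⦄ [SmallCategory I] [IsCofiltered I] (D : I ⥤ Sp S),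
        (∀ i, IsAlgSpace (D.obj i)) → (∀ (i j : I) (φ : i ⟶ j), IsAffineMor (D.map φ)) →
        (∀ i, IsQuasiCompactSp (D.obj i)) → (∀ i, IsQuasiSeparatedSp (D.obj i)) →
        ∀ (c : Cone D) (_ : IsLimit c),
          IsPullback (colimMap (Functor.whiskerLeft D.op (yoneda.map f)))
            (colimit.desc (D.op ⋙ yoneda.obj X) ((yoneda.obj X).mapCocone c.op))
            (colimit.desc (D.op ⋙ yoneda.obj Y) ((yoneda.obj Y).mapCocone c.op))
            ((yoneda.map f).app (Opposite.op c.pt)) := by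
  constructor
  · intro hf I _ _ D _ hDa hqc hqs c hc
    have hfl : LocP @LocallyOfFiniteType f :=
      locP_mono (fun _ _ h (_ : LocallyOfFinitePresentation h) => (inferInstance : LocallyOfFiniteType h)) hf
    have hdX : ∀ (i : I) (x : D.obj i ⟶ X),
        colimit.desc (D.op ⋙ yoneda.obj X) ((yoneda.obj X).mapCocone c.op)
            (colimit.ι (D.op ⋙ yoneda.obj X) (op i) x) =
          c.π.app i ≫ x := fun i x => ConcreteCategory.congr_hom (colimit.ι_desc ((yoneda.obj X).mapCocone c.op) (op i)) x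
    have hdY : ∀ (i : I) (y : D.obj i ⟶ Y),
        colimit.desc (D.op ⋙ yoneda.obj Y) ((yoneda.obj Y).mapCocone c.op)
            (colimit.ι (D.op ⋙ yoneda.obj Y) (op i) y) =
          c.π.app i ≫ y := fun i y => ConcreteCategory.congr_hom (colimit.ι_desc ((yoneda.obj Y).mapCocone c.op) (op i)) y
    have hmap : ∀ (i : I) (x : D.obj i ⟶ X),
        colimMap (Functor.whiskerLeft D.op (yoneda.map f)) (colimit.ι (D.op ⋙ yoneda.obj X) (op i) x) =
          colimit.ι (D.op ⋙ yoneda.obj Y) (op i) (x ≫ f) := fun i x =>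
      ConcreteCategory.congr_hom (ι_colimMap (Functor.whiskerLeft D.op (yoneda.map f)) (op i)) x
    rw [Types.isPullback_iff]
    refine ⟨colimit.hom_ext fun i => ?_, ?_, ?_⟩
    · ext x
      obtain ⟨i⟩ := i
      change D.obj i ⟶ X at x
      exact (congrArg (colimit.desc (D.op ⋙ yoneda.obj Y) ((yoneda.obj Y).mapCocone c.op)) (hmap i x)).trans
        ((hdY i (x ≫ f)).trans ((Category.assoc _ _ _).symm.trans (congrArg (· ≫ f) (hdX i x)).symm))
    · rintro x₁ x₂ ⟨h₁, h₂⟩
      obtain ⟨⟨i₁⟩, x₁, rfl⟩ := Types.jointly_surjective_of_isColimit (colimit.isColimit _) x₁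
      obtain ⟨⟨i₂⟩, x₂, rfl⟩ := Types.jointly_surjective_of_isColimit (colimit.isColimit _) x₂
      change D.obj i₁ ⟶ X at x₁
      change D.obj i₂ ⟶ X at x₂
      replace h₁ := (hmap i₁ x₁).symm.trans (h₁.trans (hmap i₂ x₂))
      replace h₂ := (hdX i₁ x₁).symm.trans (h₂.trans (hdX i₂ x₂))
      obtain ⟨⟨k⟩, g₁, g₂, hk⟩ := (Types.FilteredColimit.colimit_eq_iff _).1 h₁
      obtain ⟨k', φ, hk'⟩ := exists_hom_eq_stage_space D hDa hqc hX hY f c hc hfl (D.map g₁.unop ≫ x₁)
        (D.map g₂.unop ≫ x₂) ((Category.assoc (D.map g₁.unop) x₁ f).trans (hk.trans (Category.assoc (D.map g₂.unop) x₂ f).symm))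
        (by rw [Cone.w_assoc, Cone.w_assoc, h₂])
      refine (Types.FilteredColimit.colimit_eq_iff _).2 ⟨op k', g₁ ≫ φ.op, g₂ ≫ φ.op, ?_⟩
      show D.map (φ ≫ g₁.unop) ≫ x₁ = D.map (φ ≫ g₂.unop) ≫ x₂
      simpa only [Functor.map_comp, Category.assoc] using hk'
    · intro y x h
      obtain ⟨⟨i⟩, y, rfl⟩ := Types.jointly_surjective_of_isColimit (colimit.isColimit _) y
      change D.obj i ⟶ Y at y
      replace h : c.π.app i ≫ y = x ≫ f := (hdY i y).symm.trans h
      obtain ⟨k, φ, x', h₁, h₂⟩ := exists_hom_stage_space D hDa hqc hX hY f c hc hqs hf x y h.symm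
      refine ⟨colimit.ι (D.op ⋙ yoneda.obj X) (op k) x', ?_, (hdX k x').trans h₁⟩
      refine (hmap k x').trans ?_
      exact (Types.FilteredColimit.colimit_eq_iff _).2
        ⟨op k, 𝟙 _, φ.op, by
          show D.map (𝟙 k) ≫ x' ≫ f = D.map φ ≫ y
          rw [CategoryTheory.Functor.map_id, Category.id_comp]
          exact h₂⟩
  · intro H
    refine locP_lfp_of_homSurj hX hY fun I _ _ D c hc hD hA x i y hxy => ?_
    have := IsCofiltered.isConnected I
    let hc' := isLimitOfPreserves (yon S) (isLimitOfReflects (Over.forget S) hc)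
    have P := H (D ⋙ yon S) (fun j => IsAlgSpace.yon_obj _)
      (fun j k φ => by
        have := hD j; have := hD k
        exact isAffineMor_of_repWith le_rfl
          ((repWith_yon_map_iff _ _).2 (inferInstance : IsAffineHom (D.map φ).left)))
      (fun j => have := hD j; (isQuasiCompactSp_yon_iff _).2 inferInstance)
      (fun j => have := hD j; (isQuasiSeparatedSp_yon_iff' _).2 (quasiSeparated_hom_of_affine _))
      ((yon S).mapCone c) hc'
    obtain ⟨-, -, hsurj⟩ := (Types.isPullback_iff _ _ _ _).1 P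
    obtain ⟨z, hz₁, hz₂⟩ := hsurj (colimit.ι ((D ⋙ yon S).op ⋙ yoneda.obj Y) (op i) y) x
      ((ConcreteCategory.congr_hom
        (colimit.ι_desc ((yoneda.obj Y).mapCocone ((yon S).mapCone c).op) (op i)) y).trans hxy.symm)
    obtain ⟨⟨k⟩, z, rfl⟩ := Types.jointly_surjective_of_isColimit (colimit.isColimit _) z
    change (yon S).obj (D.obj k) ⟶ X at z
    have hz₂' : (yon S).map (c.π.app k) ≫ z = x :=
      (ConcreteCategory.congr_hom
        (colimit.ι_desc ((yoneda.obj X).mapCocone ((yon S).mapCone c).op) (op k)) z).symm.trans hz₂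
    have hz₁' : colimit.ι ((D ⋙ yon S).op ⋙ yoneda.obj Y) (op k) (z ≫ f) =
        colimit.ι ((D ⋙ yon S).op ⋙ yoneda.obj Y) (op i) y :=
      (ConcreteCategory.congr_hom (ι_colimMap (Functor.whiskerLeft (D ⋙ yon S).op (yoneda.map f)) (op k)) z).symm.trans
        hz₁
    obtain ⟨⟨l⟩, g₁, g₂, hl⟩ := (Types.FilteredColimit.colimit_eq_iff _).1 hz₁'
    refine ⟨l, g₂.unop, (yon S).map (D.map g₁.unop) ≫ z, ?_, (Category.assoc _ _ _).trans hl⟩
    rw [← Functor.map_comp_assoc, c.w, hz₂']

end Groth.Agent.AlgSpDec
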