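import Groth.Agent.AlgSpDec.LimDescent
import Groth.Agent.AlgSpPts.Sep

/-!
# Systems with closed immersion transition maps stabilise when the limit is finitely presented
-/

set_option backward.isDefEq.respectTransparency false
set_option backward.isDefEq.respectTransparency.types false

universe u

open CategoryTheory Limits Opposite AlgebraicGeometry AlgSp Groth.Agent.AlgSpLib Groth.Agent.AlgSpPts

namespace Groth.Agent.AlgSpDec

variable {S : Scheme.{u}}

theorem exists_isIso_proj {J : Type u} [SmallCategory J] [IsCofiltered J] {E : J ⥤ Scheme.{u}} (c : Cone E)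
    (hc : IsLimit c) [∀ j, IsAffine (E.obj j)] [IsAffine c.pt] {U : Scheme.{u}} [IsAffine U] (p : c.pt ⟶ U)
    [LocallyOfFinitePresentation p] (b : ∀ j, E.obj j ⟶ U) [∀ j, IsClosedImmersion (b j)]
    (hp : ∀ j, p = c.π.app j ≫ b j) (hb : ∀ {j k} (f : j ⟶ k), E.map f ≫ b k = b j) :
    ∃ j, IsIso (c.π.app j) := by
  classical
  have hsurj : Function.Surjective p.appTop := fun x => by
    obtain ⟨j, y, rfl⟩ := exists_appTop_π_eq_of_isAffine_of_isLimit E c hc x
    obtain ⟨z, rfl⟩ := (IsClosedImmersion.isAffine_surjective_of_isAffine (b j)).2 y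
    refine ⟨z, ?_⟩
    rw [hp j, Scheme.Hom.comp_appTop]
    rfl
  have hfp : p.appTop.hom.FinitePresentation :=
    (HasRingHomProperty.iff_of_isAffine (P := @LocallyOfFinitePresentation)).1 inferInstance
  have hker : (RingHom.ker p.appTop.hom).FG := by
    letI := p.appTop.hom.toAlgebra
    haveI : Algebra.FinitePresentation Γ(U, ⊤) Γ(c.pt, ⊤) := hfp
    exact Algebra.FinitePresentation.ker_fG_of_surjective (Algebra.ofId Γ(U, ⊤) Γ(c.pt, ⊤)) hsurj
  obtain ⟨s, hs⟩ := hker
  have hz : ∀ z ∈ s, ∃ j, (b j).appTop z = 0 := fun z hz => by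
    obtain ⟨i⟩ := IsCofiltered.nonempty (C := J)
    have h0 : (c.π.app i).appTop ((b i).appTop z) = 0 := by
      have : z ∈ RingHom.ker p.appTop.hom := hs ▸ Ideal.subset_span hz
      rw [RingHom.mem_ker, hp i, Scheme.Hom.comp_appTop] at this
      exact this
    obtain ⟨j, f, hj⟩ := exists_appTop_map_eq_zero_of_isAffine_of_isLimit E c hc i _ h0
    refine ⟨j, ?_⟩
    rw [← hb f, Scheme.Hom.comp_appTop]
    exact hj
  choose jz hjz using hz
  have hinf := IsCofiltered.inf_objs_exists (s.attach.image fun z : {z // z ∈ s} => jz z.1 z.2)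
  obtain ⟨j, hj⟩ := hinf
  have hle : RingHom.ker p.appTop.hom ≤ RingHom.ker (b j).appTop.hom := by
    rw [← hs, Ideal.span_le]
    intro z hz
    obtain ⟨f⟩ := hj (Finset.mem_image.2 ⟨⟨z, hz⟩, Finset.mem_attach _ _, rfl⟩)
    show (b j).appTop z = 0
    rw [← hb f, Scheme.Hom.comp_appTop]
    show (E.map f).appTop ((b (jz z hz)).appTop z) = 0
    rw [hjz z hz, map_zero]
  have hinj : Function.Injective (c.π.app j).appTop := by
    rw [injective_iff_map_eq_zero]
    intro y hy
    obtain ⟨z, rfl⟩ := (IsClosedImmersion.isAffine_surjective_of_isAffine (b j)).2 y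
    refine hle ?_
    rw [RingHom.mem_ker, hp j, Scheme.Hom.comp_appTop]
    exact hy
  have hπs : Function.Surjective (c.π.app j).appTop := fun x => by
    obtain ⟨z, rfl⟩ := hsurj x
    refine ⟨(b j).appTop z, ?_⟩
    rw [hp j, Scheme.Hom.comp_appTop]
    rfl
  have : IsAffine (((Functor.const J).obj c.pt).obj j) := inferInstanceAs (IsAffine c.pt)
  haveI : IsClosedImmersion (c.π.app j) := IsClosedImmersion.of_surjective_of_isAffine _ hπs
  exact ⟨j, IsClosedImmersion.isIso_of_injective_of_isAffine (f := c.π.app j) hinj⟩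

theorem mono_proj {I : Type u} [SmallCategory I] [IsCofiltered I] {D : I ⥤ Sp S}
    (hm : ∀ {i j : I} (φ : i ⟶ j), Mono (D.map φ)) (c : Cone D) (hc : IsLimit c) (i : I) : Mono (c.π.app i) :=
  ⟨fun a b h => hc.hom_ext fun k => by
    obtain ⟨l, u, v, -⟩ := IsCofilteredOrEmpty.cone_objs i k
    have := hm u
    have e : a ≫ c.π.app l = b ≫ c.π.app l := by
      rw [← cancel_mono (D.map u), Category.assoc, Category.assoc, c.w u]
      exact h
    rw [← c.w v, reassoc_of% e]⟩

theorem eventually_isIso_proj {I : Type u} [SmallCategory I] [IsCofiltered I] (B : Space S) (D : I ⥤ Sp S)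
    (hD : ∀ i, IsAlgSpace (D.obj i)) (t : D ⟶ (Functor.const I).obj B.obj)
    (hDc : ∀ (i j : I) (φ : i ⟶ j), RepWith @IsClosedImmersion (D.map φ)) (c : Cone D) (hc : IsLimit c)
    (hqc : ∀ i, IsQuasiCompactSp (D.obj i)) (hft : ∀ i, LocP @LocallyOfFiniteType (t.app i)) (i₁ : I)
    (hX : LocP @LocallyOfFinitePresentation (c.π.app i₁ ≫ t.app i₁)) :
    ∃ i₀ : I, ∀ (i : I) (_ : i ⟶ i₀), IsIso (c.π.app i) := by
  have hDa : ∀ (i j : I) (φ : i ⟶ j), IsAffineMor (D.map φ) := fun i j φ => isAffineMor_of_repWith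
    (fun _ _ g (_ : IsClosedImmersion g) => inferInstanceAs (IsAffineHom g)) (hDc i j φ)
  have hm : ∀ {i j : I} (φ : i ⟶ j), Mono (D.map φ) := fun {i j} φ => mono_of_repWith
    (repWith_mono (fun _ _ g (_ : IsClosedImmersion g) => (inferInstance : Mono g)) _ (hDc i j φ))
  obtain ⟨Z, a₀, hZ, ha₀, has₀⟩ := exists_affine_atlas (hqc i₁)
  have : IsAffine Z.left := hZ
  obtain ⟨V, b₀, hb, hbs⟩ := B.property.atlas
  obtain ⟨V', bV, U, π, v, hV', hbV, hU, _, _, hπ⟩ := exists_affine_chart_lift hb hbs (a₀ ≫ t.app i₁)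
  have : IsAffine V'.left := hV'
  have : IsAffine U.left := hU
  let a := (yon S).map π ≫ a₀
  have ha : RepWith @Etale a := repWith_comp ((repWith_yon_map_iff _ _).2 ‹_›) ha₀
  have has : RepWith @Surjective a := repWith_comp ((repWith_yon_map_iff _ _).2 ‹_›) has₀
  have hat : a ≫ t.app i₁ = (yon S).map v ≫ bV := by rw [Category.assoc]; exact hπ
  obtain ⟨W, cW, hcW, p, fst, aW, bW, sqW, hwb, hA, hWA, sqj, hfst, hp⟩ := exists_limit_square' D hDa c hc i₁ a
  have : ∀ j, IsAffine ((W ⋙ Over.forget S).obj j) := hWA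
  have : IsAffine ((Over.forget S).mapCone cW).pt := hA
  have hv : LocallyOfFiniteType v.left := hft i₁ a bV v ha hbV hat
  have : LocallyOfFinitePresentation (p.left ≫ v.left) :=
    hX fst bV (p ≫ v) (repWith_of_isPullback sqW.flip ha) hbV
      (by rw [← Category.assoc, sqW.w, Category.assoc, hat, Functor.map_comp, Category.assoc])
  have : LocallyOfFinitePresentation p.left := Groth.Agent.AlgSpPts.locallyOfFinitePresentation_of_comp p.left v.left
  have : ∀ j, IsClosedImmersion (bW j).left := fun j => (hDc _ _ j.hom).property _ _ _ (sqj j)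
  have := IsCofiltered.isConnected (Over i₁)
  obtain ⟨j, hj⟩ := exists_isIso_proj ((Over.forget S).mapCone cW) (isLimitOfPreserves (Over.forget S) hcW)
    p.left (fun j => (bW j).left) (fun j => congrArg (fun e => e.left) (hp j))
    (fun f => congrArg (fun e => e.left) (hwb f))
  have : IsIso (cW.π.app j).left := hj
  have : IsIso ((Over.forget S).map (cW.π.app j)) := hj
  have : IsIso (cW.π.app j) := isIso_of_reflects_iso _ (Over.forget S)
  have := isLocallySurjective_of_etale_surjective (repWith_of_isPullback (sqj j).flip ha)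
    (repWith_of_isPullback (sqj j).flip has)
  have hep : Epi (aW j) := (Sheaf.isLocallySurjective_iff_epi _).1 this
  have : Epi (fst ≫ c.π.app j.left) := by rw [hfst j]; infer_instance
  have : Epi (c.π.app j.left) := epi_of_epi fst _
  refine ⟨j.left, fun i φ => ?_⟩
  have := mono_proj hm c hc i
  have := mono_proj hm c hc j.left
  have : IsIso (c.π.app j.left) := isIso_of_mono_of_epi _
  have hw : c.π.app i ≫ D.map φ = c.π.app j.left := c.w φ
  have : Epi (c.π.app i ≫ D.map φ) := by rw [hw]; infer_instance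
  have : Epi (D.map φ) := epi_of_epi (c.π.app i) _
  have := hm φ
  have : IsIso (D.map φ) := isIso_of_mono_of_epi _
  have : IsIso (c.π.app i ≫ D.map φ) := by rw [hw]; infer_instance
  exact IsIso.of_isIso_comp_right (c.π.app i) (D.map φ)

end Groth.Agent.AlgSpDec
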