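import Groth.Agent.AlgSpDec.LimQuasiFiniteScheme
import Groth.Agent.AlgSpDec.LimStable
import Groth.Agent.AlgSpDec.LimMono
import Groth.Agent.AlgSpDec.AffineProps
import Groth.Agent.AlgSpLib.LocalSourceInst

/-!
# Systems with finite transition maps become quasi-finite
-/

set_option backward.isDefEq.respectTransparency false
set_option backward.isDefEq.respectTransparency.types false

universe u

open CategoryTheory Limits Opposite AlgebraicGeometry AlgSp Groth.Agent.AlgSpLib Groth.Agent.AlgSpPts

namespace Groth.Agent.AlgSpDec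

variable {S : Scheme.{u}}

theorem eq_of_specializes_of_etale {A B : Scheme.{u}} (f : A ⟶ B) [Etale f] {x x' : ↥A} (h : f x = f x')
    (hs : x' ⤳ x) : x' = x := by
  have := (f.isDiscrete_preimage_singleton (f x)).to_subtype
  have hs' : (⟨x', h.symm⟩ : ↥(f ⁻¹' {f x})) ⤳ ⟨x, rfl⟩ :=
    Topology.IsInducing.subtypeVal.specializes_iff.1 hs
  exact congrArg Subtype.val hs'.eq

/-- A system with finite transition maps whose limit is integral over the base becomes quasi-finite. -/
theorem eventually_locallyQuasiFinite {I : Type u} [SmallCategory I] [IsCofiltered I] (B : Space S) (D : I ⥤ Sp S)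
    (t : D ⟶ (Functor.const I).obj B.obj) (hDf : ∀ (i j : I) (φ : i ⟶ j), RepWith @IsFinite (D.map φ))
    (c : Cone D) (hc : IsLimit c) (g : c.pt ⟶ B.obj) (hg : ∀ i, c.π.app i ≫ t.app i = g)
    (hqc : ∀ i, IsQuasiCompactSp (D.obj i)) (hft : ∀ i, LocP @LocallyOfFiniteType (t.app i))
    (hX : IsIntegralMor g) :
    ∃ i₀ : I, ∀ (i : I) (_ : i ⟶ i₀), LocP (@LocallyQuasiFinite ⊓ @LocallyOfFiniteType) (t.app i) := by
  have hDa : ∀ (i j : I) (φ : i ⟶ j), IsAffineMor (D.map φ) := fun i j φ => isAffineMor_of_repWith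
    (fun _ _ e (_ : IsFinite e) => inferInstanceAs (IsAffineHom e)) (hDf i j φ)
  obtain ⟨i₁⟩ := IsCofiltered.nonempty (C := I)
  obtain ⟨Z, a₀, hZ, ha₀, has₀⟩ := exists_affine_atlas (hqc i₁)
  have : IsAffine Z.left := hZ
  obtain ⟨V, b₀, hb, hbs⟩ := B.property.atlas
  obtain ⟨V', bV, U, π, v, hV', hbV, hU, _, _, hπ⟩ := exists_affine_chart_lift hb hbs (a₀ ≫ t.app i₁)
  have : IsAffine V'.left := hV'
  have : IsAffine U.left := hU
  let a := (yon S).map π ≫ a₀
  have ha : RepWith @Etale a := repWith_comp ((repWith_yon_map_iff _ _).2 ‹_›) ha₀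
  have has : RepWith @Surjective a := repWith_comp ((repWith_yon_map_iff _ _).2 ‹_›) has₀
  have hat : a ≫ t.app i₁ = (yon S).map v ≫ bV := by rw [Category.assoc]; exact hπ
  obtain ⟨W, cW, hcW, p, fst, aW, bW, sqW, hwb, hA, hWA, sqj, hfst, hp⟩ := exists_limit_square' D hDa c hc i₁ a
  have hbf : ∀ j, IsFinite (bW j).left := fun j => (hDf _ _ j.hom).property _ _ _ (sqj j)
  have hv : LocallyOfFiniteType v.left := hft i₁ a bV v ha hbV hat
  have : IsAffine cW.pt.left := hA
  have hfe : RepWith @Etale fst := repWith_of_isPullback sqW.flip ha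
  -- fibres of the limit over the chart of the base
  have hgI := isIntegralMor_iff_repWith.1 hX
  let P := hgI.rep.pullback bV
  have hw : fst ≫ g = (yon S).map (p ≫ v) ≫ bV := by
    rw [← hg i₁, ← Category.assoc, sqW.w, Category.assoc, hat, Functor.map_comp, Category.assoc]
  let l : cW.pt ⟶ P := hgI.rep.lift fst (p ≫ v) hw
  have h2 : RepWith @Etale ((yon S).map l) :=
    repWith_etale_of_comp _ _ (by rwa [Functor.relativelyRepresentable.lift_fst])
      (repWith_of_isPullback (hgI.rep.isPullback bV).flip hbV)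
  have : Etale l.left := (repWith_yon_map_iff _ _).1 h2
  have : IsIntegralHom (hgI.rep.snd bV).left := hgI.property_snd bV
  have : IsAffine P.left := isAffine_of_isAffineHom (hgI.rep.snd bV).left
  have hl : l ≫ hgI.rep.snd bV = p ≫ v := hgI.rep.lift_snd fst (p ≫ v) hw
  have hq : ∀ z z' : ↥cW.pt.left, v.left (p.left z) = v.left (p.left z') → z' ⤳ z → z' = z := by
    intro z z' hzz hs
    have e : ∀ x, (hgI.rep.snd bV).left (l.left x) = v.left (p.left x) := fun x =>
      congrArg (fun m : cW.pt ⟶ V' => m.left x) hl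
    exact eq_of_specializes_of_etale l.left (eq_of_specializes_of_isIntegralHom (hgI.rep.snd bV).left (hs.map l.left.continuous)
      ((e z').trans (hzz.symm.trans (e z).symm))).symm hs
  obtain ⟨j, hj⟩ := exists_locallyQuasiFinite_stage W hWA cW hcW v.left p.left (fun j => (bW j).left)
    (fun j => congrArg (fun e => e.left) (hp j)) (fun f => congrArg (fun e => e.left) (hwb f)) hq
  refine ⟨j.left, fun i φ => ?_⟩
  let k : Over i₁ := Over.mk (φ ≫ j.hom)
  have hlqf : LocallyQuasiFinite ((bW k).left ≫ v.left) := hj k (Over.homMk φ rfl)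
  refine locP_of_chart (a := aW k) (b := bV) (h := bW k ≫ v) (repWith_of_isPullback (sqj k).flip ha)
    (repWith_of_isPullback (sqj k).flip has) hbV ?_ ⟨hlqf, ?_⟩
  · have ht : D.map k.hom ≫ t.app i₁ = t.app i := (t.naturality k.hom).trans (Category.comp_id _)
    rw [← ht, ← Category.assoc, (sqj k).w, Category.assoc, hat, Functor.map_comp, Category.assoc]
  · change LocallyOfFiniteType ((bW k).left ≫ v.left)
    have := hbf k
    infer_instance

end Groth.Agent.AlgSpDec
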