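import Groth.Agent.AlgSpDec.LimPointsBij
import Mathlib.AlgebraicGeometry.ZariskisMainTheorem

/-!
# Quasi-finiteness descends along finite transition maps
-/

set_option backward.isDefEq.respectTransparency false
set_option backward.isDefEq.respectTransparency.types false

universe u

open CategoryTheory Limits Opposite AlgebraicGeometry TopologicalSpace

namespace Groth.Agent.AlgSpDec

variable {S : Scheme.{u}}

/-- A limit of finite schemes over an affine base is integral over it. -/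
theorem isIntegralHom_limit {J : Type u} [SmallCategory J] [IsCofiltered J] {E : J ⥤ Scheme.{u}} (c : Cone E)
    (hc : IsLimit c) [∀ j, IsAffine (E.obj j)] [IsAffine c.pt] {U : Scheme.{u}} [IsAffine U] (p : c.pt ⟶ U)
    (b : ∀ j, E.obj j ⟶ U) [∀ j, IsFinite (b j)] (hp : ∀ j, p = c.π.app j ≫ b j) : IsIntegralHom p := by
  refine (HasAffineProperty.iff_of_isAffine (P := @IsIntegralHom)).2 ⟨inferInstance, fun x => ?_⟩
  obtain ⟨j, y, rfl⟩ := exists_appTop_π_eq_of_isAffine_of_isLimit E c hc x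
  have hy : (b j).appTop.hom.IsIntegralElem y :=
    ((HasAffineProperty.iff_of_isAffine (P := @IsIntegralHom)).1 (inferInstance : IsIntegralHom (b j))).2 y
  have := hy.map (g := (c.π.app j).appTop.hom)
  have e : p.appTop.hom = (c.π.app j).appTop.hom.comp (b j).appTop.hom := by rw [hp j]; rfl
  exact (congrArg (fun r => RingHom.IsIntegralElem r ((c.π.app j).appTop y)) e).mpr this

theorem finite_of_isClosed_of_specializes {α : Type*} [TopologicalSpace α] [NoetherianSpace α] [QuasiSober α]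
    (K : Closeds α) (h : ∀ a ∈ K, ∀ b ∈ K, a ⤳ b → a = b) : (K : Set α).Finite := by
  obtain ⟨T, hT, hirr, hK⟩ := NoetherianSpace.exists_finite_set_closeds_irreducible K
  refine (hT.biUnion (t := fun t : Closeds α => (t : Set α)) fun t ht => ?_).subset fun x hx => ?_
  · refine Set.Subsingleton.finite fun a ha b hb => ?_
    obtain ⟨η, hη⟩ := QuasiSober.sober (hirr t ht) t.isClosed
    have hle : ∀ d ∈ (t : Set α), η = d := fun d hd =>
      h η (hK ▸ le_sSup ht hη.mem) d (hK ▸ le_sSup ht hd) (hη.specializes hd)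
    rw [← hle a ha, ← hle b hb]
  · rw [hK] at hx
    have : x ∈ closure (⋃ t ∈ T, (t : Set α)) := by
      rw [Closeds.coe_sSup, Set.sUnion_image] at hx
      exact hx
    rwa [(hT.isClosed_biUnion fun t _ => t.isClosed).closure_eq] at this

theorem exists_locallyQuasiFinite_stage {J : Type u} [SmallCategory J] [IsCofiltered J] (W : J ⥤ Over S)
    (hWA : ∀ j, IsAffine (W.obj j).left) (cW : Cone W) (hcW : IsLimit cW) [IsAffine cW.pt.left]
    {U V : Scheme.{u}} [IsAffine U] [IsAffine V] (v : U ⟶ V) [LocallyOfFiniteType v]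
    (p : cW.pt.left ⟶ U) (b : ∀ j, (W.obj j).left ⟶ U) [∀ j, IsFinite (b j)]
    (hp : ∀ j, p = (cW.π.app j).left ≫ b j) (hb : ∀ {j k} (f : j ⟶ k), (W.map f).left ≫ b k = b j)
    (hq : ∀ z z' : ↥cW.pt.left, v (p z) = v (p z') → z' ⤳ z → z' = z) :
    ∃ j, ∀ k, (k ⟶ j) → LocallyQuasiFinite (b k ≫ v) := by
  classical
  have := IsCofiltered.isConnected J
  let E := W ⋙ Over.forget S
  let c := (Over.forget S).mapCone cW
  have hc : IsLimit c := isLimitOfPreserves (Over.forget S) hcW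
  have : ∀ j, IsAffine (E.obj j) := hWA
  have : IsAffine c.pt := ‹IsAffine cW.pt.left›
  have : ∀ {j k} (f : j ⟶ k), IsAffineHom (E.map f) := fun f => inferInstance
  have : IsIntegralHom p := @isIntegralHom_limit _ _ _ E c hc _ _ U _ p b ‹_› hp
  have hfin : ∀ {j k} (f : j ⟶ k), IsFinite (W.map f).left := fun {j k} f => by
    have : IsFinite ((W.map f).left ≫ b k) := by rw [hb f]; infer_instance
    exact IsFinite.of_comp (W.map f).left (b k)
  let Z : ∀ j, Set ↥(E.obj j) := fun j => {x | ¬ (b j ≫ v).QuasiFiniteAt x}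
  have hmaps : ∀ {j k} (f : j ⟶ k), Set.MapsTo (E.map f) (Z j) (Z k) := fun {j k} f x hx hx' => by
    refine hx ?_
    have := hfin f
    rw [← hb f, Category.assoc]
    simp only [Scheme.Hom.QuasiFiniteAt, Scheme.Hom.stalkMap_comp, CommRingCat.hom_comp] at hx' ⊢
    exact RingHom.QuasiFinite.comp ((W.map f).left.quasiFiniteAt x) hx'
  by_contra H
  push Not at H
  have hne : ∀ j, (Z j).Nonempty := fun j => by
    obtain ⟨k, f, hk⟩ := H j
    have : ¬ ∀ x, (b k ≫ v).QuasiFiniteAt x := fun h => hk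
      ((b k ≫ v).quasiFiniteLocus_eq_top_iff.1 (TopologicalSpace.Opens.ext (Set.eq_univ_of_forall h)))
    push Not at this
    obtain ⟨x, hx⟩ := this
    exact ⟨_, hmaps f hx⟩
  obtain ⟨z, hz⟩ := exists_mem_of_isClosed_of_nonempty E c hc Z
    (fun j => (b j ≫ v).isOpen_quasiFiniteAt.isClosed_compl) hne
    (fun j => (b j ≫ v).isOpen_quasiFiniteAt.isClosed_compl.isCompact) hmaps
  let u₀ := p z
  let y := v u₀
  let ι := v.fiberι y
  let K : J → Closeds ↥(v.fiber y) := fun j =>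
    ⟨ι ⁻¹' Set.range (b j), (b j).isClosedMap.isClosed_range.preimage ι.continuous⟩
  have hK : ∀ {j k} (f : j ⟶ k), K j ≤ K k := fun {j k} f x hx => by
    obtain ⟨w, hw⟩ := hx
    exact ⟨(W.map f).left w, by rw [← hw, ← hb f]; rfl⟩
  have : LocallyOfFiniteType (v.fiberToSpecResidueField y) := MorphismProperty.pullback_snd _ _ inferInstance
  have : IsLocallyNoetherian (v.fiber y) := LocallyOfFiniteType.isLocallyNoetherian (v.fiberToSpecResidueField y)
  have : CompactSpace ↥(v.fiber y) := inferInstance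
  have : IsNoetherian (v.fiber y) := ⟨⟩
  obtain ⟨_, ⟨j₀, rfl⟩, hmin⟩ :=
    (wellFounded_lt : WellFounded ((· < ·) : Closeds ↥(v.fiber y) → _ → Prop)).has_min (Set.range K)
      (have := IsCofiltered.nonempty (C := J); Set.range_nonempty K)
  have hK₀ : ∀ j, K j₀ ≤ K j := fun j => by
    obtain ⟨l, f, g, -⟩ := IsCofilteredOrEmpty.cone_objs j₀ j
    have h := hK f
    rcases h.eq_or_lt with h' | h'
    · exact h' ▸ hK g
    · exact absurd h' (hmin _ ⟨l, rfl⟩)
  -- the points of the fibre in all images come from the limit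
  have hlift : ∀ x ∈ K j₀, ∃ w : ↥cW.pt.left, p w = ι x := fun x hx => by
    let G : J ⥤ Type u :=
      { obj := fun j => {w : ↥(W.obj j).left // b j w = ι x}
        map := fun {j k} f => TypeCat.ofHom fun w => ⟨(W.map f).left w.1, by
          rw [← Scheme.Hom.comp_apply, hb f, w.2]⟩
        map_id := fun j => by ext w; simp
        map_comp := fun f g => by ext w; simp }
    have : ∀ j, Finite (G.obj j) := fun j => ((b j).finite_preimage_singleton (ι x)).to_subtype
    have : ∀ j, Nonempty (G.obj j) := fun j => by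
      obtain ⟨w, hw⟩ := hK₀ j hx
      exact ⟨⟨w, hw⟩⟩
    obtain ⟨s, hs⟩ := nonempty_sections_of_finite_cofiltered_system G
    obtain ⟨w, hw⟩ := exists_point_of_compatible W cW hcW (fun j => (s j).1)
      (fun j k f => congrArg Subtype.val (hs f))
    refine ⟨w, ?_⟩
    rw [hp j₀, Scheme.Hom.comp_apply]
    exact (congrArg (b j₀) (hw j₀)).trans (s j₀).2
  have hvι : ∀ x, v (ι x) = y := fun x => by
    have : ι x ∈ Set.range ι := ⟨x, rfl⟩
    rw [v.range_fiberι y] at this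
    exact this
  have hsp : ∀ a ∈ K j₀, ∀ d ∈ K j₀, a ⤳ d → a = d := fun a ha d hd had => by
    obtain ⟨wa, hwa⟩ := hlift a ha
    obtain ⟨wd, hwd, hpd⟩ := p.isClosedMap.specializingMap (show p wa ⤳ ι d from hwa ▸ had.map ι.continuous)
    have hv : v (p wd) = v (p wa) := by rw [hpd, hwa, hvι, hvι]
    refine ι.isEmbedding.injective ?_
    rw [← hwa, ← hpd, hq wd wa hv hwd]
  have hKfin := finite_of_isClosed_of_specializes (K j₀) hsp
  obtain ⟨x₀, hx₀⟩ : ∃ x, ι x = u₀ := by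
    have : u₀ ∈ v ⁻¹' {y} := rfl
    rw [← v.range_fiberι y] at this
    exact this
  have hx₀K : x₀ ∈ K j₀ := ⟨(cW.π.app j₀).left z, by rw [hx₀]; show _ = p z; rw [hp j₀]; rfl⟩
  -- isolate the point in the image
  obtain ⟨O, hO, hxO, hOK⟩ : ∃ O : Set ↥U, IsOpen O ∧ u₀ ∈ O ∧ ∀ x ∈ K j₀, ι x ∈ O → x = x₀ := by
    have hex : ∀ x : (K j₀ : Set ↥(v.fiber y)), ∃ O : Set ↥U, IsOpen O ∧ u₀ ∈ O ∧ (ι x ∈ O → (x : ↥(v.fiber y)) = x₀) :=
      fun ⟨x, hx⟩ => by
      by_cases h : ι x ⤳ u₀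
      · refine ⟨Set.univ, isOpen_univ, trivial, fun _ => hsp x hx x₀ hx₀K ?_⟩
        rw [← hx₀] at h
        exact ι.isEmbedding.isInducing.specializes_iff.1 h
      · obtain ⟨O, hO, h₁, h₂⟩ := not_specializes_iff_exists_open.1 h
        exact ⟨O, hO, h₁, fun h => absurd h h₂⟩
    choose O h₁ h₂ h₃ using hex
    have := hKfin.to_subtype
    exact ⟨⋂ x, O x, isOpen_iInter_of_finite h₁, Set.mem_iInter.2 h₂,
      fun x hx h => h₃ ⟨x, hx⟩ (Set.mem_iInter.1 h _)⟩
  let g := b j₀ ≫ v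
  let w := (cW.π.app j₀).left z
  have hwu : b j₀ w = u₀ := by show _ = p z; rw [hp j₀]; rfl
  obtain ⟨O', hO', hO'w⟩ : ∃ O' : Set ↥(W.obj j₀).left, IsOpen O' ∧ O' ∩ b j₀ ⁻¹' {u₀} = {w} := by
    have hd := (b j₀).isDiscrete_preimage_singleton u₀
    have := hd.to_subtype
    obtain ⟨O', hO', h⟩ := isOpen_induced_iff.1 (isOpen_discrete ({⟨w, hwu⟩} : Set ↥(b j₀ ⁻¹' {u₀})))
    refine ⟨O', hO', Set.ext fun a => ⟨fun ha => ?_, fun ha => ?_⟩⟩
    · exact congrArg Subtype.val (show (⟨a, ha.2⟩ : ↥(b j₀ ⁻¹' {u₀})) ∈ ({⟨w, hwu⟩} : Set _) from h ▸ ha.1)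
    · rw [Set.mem_singleton_iff] at ha
      subst ha
      exact ⟨show (⟨w, hwu⟩ : ↥(b j₀ ⁻¹' {u₀})) ∈ Subtype.val ⁻¹' O' from h ▸ rfl, hwu⟩
  refine hz j₀ ?_
  show g.QuasiFiniteAt w
  rw [Scheme.Hom.quasiFiniteAt_iff_isOpen_singleton_asFiber, ← (g.fiberHomeo (g w)).isOpen_image,
    Set.image_singleton, Scheme.Hom.asFiber, Homeomorph.apply_symm_apply]
  refine isOpen_induced_iff.2 ⟨O' ∩ b j₀ ⁻¹' O, hO'.inter (hO.preimage (b j₀).continuous), Set.ext fun a => ?_⟩
  refine ⟨fun ha => Subtype.ext ?_, fun ha => ?_⟩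
  · have hy : v (b j₀ a.1) = y := by
      have h := a.2
      simp only [Set.mem_preimage, Set.mem_singleton_iff, g, Scheme.Hom.comp_apply] at h
      rw [h, hwu]
    obtain ⟨x, hx⟩ : ∃ x, ι x = b j₀ a.1 := by
      have : b j₀ a.1 ∈ v ⁻¹' {y} := hy
      rw [← v.range_fiberι y] at this
      exact this
    have hxx := hOK x ⟨a.1, hx.symm⟩ (hx ▸ ha.2)
    have : b j₀ a.1 = u₀ := by rw [← hx, hxx, hx₀]
    have : a.1 ∈ ({w} : Set _) := hO'w ▸ ⟨ha.1, this⟩
    exact this
  · rw [Set.mem_singleton_iff] at ha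
    subst ha
    have : w ∈ O' ∩ b j₀ ⁻¹' {u₀} := hO'w ▸ rfl
    exact ⟨this.1, show b j₀ w ∈ O from hwu ▸ hxO⟩

end Groth.Agent.AlgSpDec
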