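import Groth.Agent.AlgSpDec.LimSepScheme
import Groth.Agent.AlgSpDec.LimMono
import Groth.Agent.AlgSpDec.LimClosed

/-!
# Separatedness is attained at a stage
-/

set_option backward.isDefEq.respectTransparency false
set_option backward.isDefEq.respectTransparency.types false

universe u

open CategoryTheory Limits Opposite AlgebraicGeometry AlgSp Groth.Agent.AlgSpLib Groth.Agent.AlgSpPts

namespace Groth.Agent.AlgSpDec

variable {S : Scheme.{u}}

/-- A levelwise representable map of systems whose limit is a closed immersion. -/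
theorem eventually_closedImmersion_systems [QuasiSeparatedSpace ↥S] {I : Type u} [SmallCategory I] [IsCofiltered I]
    (DX DE : I ⥤ Sp S) (τ : DX ⟶ DE)
    (hXa : ∀ (i j : I) (φ : i ⟶ j), IsAffineMor (DX.map φ)) (hEa : ∀ (i j : I) (φ : i ⟶ j), IsAffineMor (DE.map φ))
    (hτc : ∀ i, RepWith @QuasiCompact (τ.app i)) (hτs : ∀ i, RepWith @IsSeparated (τ.app i))
    (hτf : ∀ i, RepWith @LocallyOfFiniteType (τ.app i))
    (hcl : ∀ (i j : I) (φ : i ⟶ j),
      RepWith @IsClosedImmersion (pullback.lift (f := τ.app j) (g := DE.map φ) (DX.map φ) (τ.app i) (τ.naturality φ)))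
    (cX : Cone DX) (hcX : IsLimit cX) (cE : Cone DE) (hcE : IsLimit cE) (G : cX.pt ⟶ cE.pt)
    (hG : ∀ i, G ≫ cE.π.app i = cX.π.app i ≫ τ.app i) (hGc : RepWith @IsClosedImmersion G) (i₁ : I)
    (hqc : IsQuasiCompactSp (DE.obj i₁)) :
    ∃ i₀ : I, ∀ (i : I) (_ : i ⟶ i₀), RepWith @IsClosedImmersion (τ.app i) := by
  have := EtFound.fpqc_isClosedImmersion.{u}
  obtain ⟨U, a, hU, ha, has⟩ := exists_affine_atlas hqc
  have : IsAffine U.left := hU
  obtain ⟨W, cW, hcW, p, fst, aW, bW, haw, sqW, hwb, hA, hWA, sqj, hfst, hp⟩ :=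
    exists_limit_square'' DE hEa cE hcE i₁ a
  let hr : ∀ j : Over i₁, Representable (τ.app j.left) := fun j => (hτc j.left).rep
  let R₀ : Over i₁ → Over S := fun j => (hr j).pullback (aW j)
  let rX : ∀ j, (yon S).obj (R₀ j) ⟶ DX.obj j.left := fun j => (hr j).fst (aW j)
  let rW : ∀ j, R₀ j ⟶ W.obj j := fun j => (hr j).snd (aW j)
  have sR : ∀ j, IsPullback (rX j) ((yon S).map (rW j)) (τ.app j.left) (aW j) := fun j => (hr j).isPullback (aW j)
  have hw : ∀ {j k : Over i₁} (f : j ⟶ k),
      (rX j ≫ DX.map f.left) ≫ τ.app k.left = (yon S).map (rW j ≫ W.map f) ≫ aW k := by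
    intro j k f
    rw [Category.assoc, τ.naturality, ← Category.assoc, (sR j).w, Category.assoc, ← haw, Functor.map_comp,
      Category.assoc]
  have hm : ∀ {j k : Over i₁} (f : j ⟶ k), ∃ m : R₀ j ⟶ R₀ k,
      (yon S).map m ≫ rX k = rX j ≫ DX.map f.left ∧ m ≫ rW k = rW j ≫ W.map f := by
    intro j k f
    obtain ⟨m, hm⟩ := (yon S).map_surjective ((sR k).lift _ _ (hw f))
    refine ⟨m, by rw [hm, IsPullback.lift_fst], (yon S).map_injective ?_⟩
    rw [Functor.map_comp, hm, IsPullback.lift_snd]
  choose m hm₁ hm₂ using @hm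
  have hext : ∀ {T : Over S} {k : Over i₁} {m₁ m₂ : T ⟶ R₀ k},
      (yon S).map m₁ ≫ rX k = (yon S).map m₂ ≫ rX k → m₁ ≫ rW k = m₂ ≫ rW k → m₁ = m₂ := by
    intro T k m₁ m₂ h₁ h₂
    exact (yon S).map_injective ((sR k).hom_ext h₁ (by rw [← Functor.map_comp, h₂, Functor.map_comp]))
  let R : Over i₁ ⥤ Over S :=
    { obj := R₀
      map := fun f => m f
      map_id := fun j => hext (by rw [hm₁]; simp) (by rw [hm₂]; simp)
      map_comp := fun {j k l} f f' => hext
        (by rw [hm₁, (yon S).map_comp, Category.assoc, hm₁, ← Category.assoc, hm₁, Category.assoc,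
          ← DX.map_comp]; rfl)
        (by rw [hm₂, W.map_comp, Category.assoc, hm₂, ← Category.assoc, ← Category.assoc, hm₂]) }
  -- the limit of the fibres
  let Q := hGc.rep.pullback fst
  let qX : (yon S).obj Q ⟶ cX.pt := hGc.rep.fst fst
  let q : Q ⟶ cW.pt := hGc.rep.snd fst
  have sQ : IsPullback qX ((yon S).map q) G fst := hGc.rep.isPullback fst
  have hQw : ∀ j : Over i₁, (qX ≫ cX.π.app j.left) ≫ τ.app j.left = (yon S).map (q ≫ cW.π.app j) ≫ aW j := by
    intro j
    rw [Category.assoc, ← hG, ← Category.assoc, sQ.w, Category.assoc, hfst, Functor.map_comp, Category.assoc]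
  choose πR hπR using fun j => (yon S).map_surjective ((sR j).lift _ _ (hQw j))
  have hπ₁ : ∀ j, (yon S).map (πR j) ≫ rX j = qX ≫ cX.π.app j.left := fun j => by rw [hπR, IsPullback.lift_fst]
  have hπ₂ : ∀ j, πR j ≫ rW j = q ≫ cW.π.app j := fun j => (yon S).map_injective (by
    rw [Functor.map_comp, hπR, IsPullback.lift_snd])
  let cR : Cone R :=
    { pt := Q
      π := { app := πR
             naturality := fun j k f => hext (k := k)
               (by
                 dsimp [R]
                 rw [Category.id_comp, hπ₁, Functor.map_comp, Category.assoc, hm₁, ← Category.assoc, hπ₁,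
                   Category.assoc, cX.w])
               (by
                 dsimp [R]
                 rw [Category.id_comp, hπ₂, Category.assoc, hm₂, ← Category.assoc, hπ₂, Category.assoc, cW.w]) } }
  let hcX' := (Functor.Initial.isLimitWhiskerEquiv (CategoryTheory.Over.forget i₁) cX).symm hcX
  let hcE' := (Functor.Initial.isLimitWhiskerEquiv (CategoryTheory.Over.forget i₁) cE).symm hcE
  let hYW := isLimitOfPreserves (yon S) hcW
  let sX : ∀ s : Cone (R ⋙ yon S), Cone (CategoryTheory.Over.forget i₁ ⋙ DX) := fun s =>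
    { pt := s.pt
      π := { app := fun j => s.π.app j ≫ rX j
             naturality := fun j k f => by
               dsimp
               rw [Category.id_comp, Category.assoc, ← hm₁ f, ← Category.assoc]
               exact congrArg (· ≫ rX k) (s.w f).symm } }
  let sWc : ∀ s : Cone (R ⋙ yon S), Cone (W ⋙ yon S) := fun s =>
    { pt := s.pt
      π := { app := fun j => s.π.app j ≫ (yon S).map (rW j)
             naturality := fun j k f => by
               dsimp
               rw [Category.id_comp, Category.assoc, ← Functor.map_comp, ← hm₂ f, Functor.map_comp, ← Category.assoc]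
               exact congrArg (· ≫ (yon S).map (rW k)) (s.w f).symm } }
  have hsc : ∀ s : Cone (R ⋙ yon S), hcX'.lift (sX s) ≫ G = hYW.lift (sWc s) ≫ fst := fun s => by
    refine hcE'.hom_ext fun j => ?_
    change (hcX'.lift (sX s) ≫ G) ≫ cE.π.app j.left = (hYW.lift (sWc s) ≫ fst) ≫ cE.π.app j.left
    rw [Category.assoc, hG, ← Category.assoc,
      show hcX'.lift (sX s) ≫ cX.π.app j.left = s.π.app j ≫ rX j from hcX'.fac (sX s) j,
      Category.assoc, (sR j).w, Category.assoc, hfst, ← Category.assoc (hYW.lift (sWc s)),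
      show hYW.lift (sWc s) ≫ (yon S).map (cW.π.app j) = s.π.app j ≫ (yon S).map (rW j) from hYW.fac (sWc s) j,
      Category.assoc]
  have hcR : IsLimit cR := isLimitOfReflects (yon S)
    { lift := fun s => sQ.lift _ _ (hsc s)
      fac := fun s j => (sR j).hom_ext
        (by
          change (sQ.lift _ _ (hsc s) ≫ (yon S).map (πR j)) ≫ rX j = s.π.app j ≫ rX j
          rw [Category.assoc, hπ₁, IsPullback.lift_fst_assoc]
          exact hcX'.fac (sX s) j)
        (by
          change (sQ.lift _ _ (hsc s) ≫ (yon S).map (πR j)) ≫ (yon S).map (rW j) = s.π.app j ≫ (yon S).map (rW j)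
          rw [Category.assoc, ← Functor.map_comp, hπ₂, Functor.map_comp, IsPullback.lift_snd_assoc]
          exact hYW.fac (sWc s) j)
      uniq := fun s l hl => sQ.hom_ext
        (by
          rw [IsPullback.lift_fst]
          refine hcX'.hom_ext fun j => ?_
          change (l ≫ qX) ≫ cX.π.app j.left = hcX'.lift (sX s) ≫ cX.π.app j.left
          rw [Category.assoc, ← hπ₁, ← Category.assoc]
          exact (congrArg (· ≫ rX j) (hl j)).trans (hcX'.fac (sX s) j).symm)
        (by
          rw [IsPullback.lift_snd]
          refine hYW.hom_ext fun j => ?_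
          change (l ≫ (yon S).map q) ≫ (yon S).map (cW.π.app j) = hYW.lift (sWc s) ≫ (yon S).map (cW.π.app j)
          rw [Category.assoc, ← Functor.map_comp, ← hπ₂, Functor.map_comp, ← Category.assoc]
          exact (congrArg (· ≫ (yon S).map (rW j)) (hl j)).trans (hYW.fac (sWc s) j).symm) }
  -- the closed immersions between the fibres
  have hstep : ∀ {j k : Over i₁} (f : j ⟶ k) (w : m f ≫ rW k = rW j ≫ W.map f), IsClosedImmersion
      (pullback.lift (f := (rW k).left) (g := (W.map f).left) (m f).left (rW j).left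
        (congrArg (fun e : R₀ j ⟶ W.obj k => e.left) w)) := by
    intro j k f w
    let P : Over S := Over.mk (pullback.fst (rW k).left (W.map f).left ≫ (R₀ k).hom)
    let p₁ : P ⟶ R₀ k := CategoryTheory.Over.homMk (pullback.fst _ _) rfl
    let p₂ : P ⟶ W.obj j := CategoryTheory.Over.homMk (pullback.snd _ _) (by
      change _ ≫ (W.obj j).hom = pullback.fst _ _ ≫ (R₀ k).hom
      rw [← Over.w (W.map f), ← Over.w (rW k), pullback.condition_assoc])
    have sP : IsPullback ((yon S).map p₁) ((yon S).map p₂) ((yon S).map (rW k)) ((yon S).map (W.map f)) :=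
      (IsPullback.of_map (Over.forget S) (Over.OverMorphism.ext pullback.condition)
        (IsPullback.of_hasPullback (rW k).left (W.map f).left) : IsPullback p₁ p₂ (rW k) (W.map f)).map _
    let n : (yon S).obj P ⟶ pullback (τ.app k.left) (DE.map f.left) :=
      pullback.lift ((yon S).map p₁ ≫ rX k) ((yon S).map p₂ ≫ aW j) (by
        rw [Category.assoc, (sR k).w, ← Category.assoc, sP.w, Category.assoc, haw, Category.assoc])
    have outer : IsPullback ((yon S).map p₂) (n ≫ pullback.fst (τ.app k.left) (DE.map f.left))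
        (aW j ≫ DE.map f.left) (τ.app k.left) := by
      rw [pullback.lift_fst, ← haw]
      exact sP.flip.paste_vert (sR k).flip
    have sn : IsPullback ((yon S).map p₂) n (aW j) (pullback.snd (τ.app k.left) (DE.map f.left)) :=
      IsPullback.of_bot outer (pullback.lift_snd _ _ _).symm (IsPullback.of_hasPullback _ _).flip
    let l : R₀ j ⟶ P := CategoryTheory.Over.homMk
      (pullback.lift (f := (rW k).left) (g := (W.map f).left) (m f).left (rW j).left
        (congrArg (fun e : R₀ j ⟶ W.obj k => e.left) w)) (by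
        change _ ≫ pullback.fst _ _ ≫ (R₀ k).hom = _
        rw [pullback.lift_fst_assoc]
        exact Over.w _)
    have hl₁ : l ≫ p₁ = m f := Over.OverMorphism.ext (pullback.lift_fst _ _ _)
    have hl₂ : l ≫ p₂ = rW j := Over.OverMorphism.ext (pullback.lift_snd _ _ _)
    let L := pullback.lift (f := τ.app k.left) (g := DE.map f.left) (DX.map f.left) (τ.app j.left) (τ.naturality f.left)
    have sl : IsPullback ((yon S).map l) (rX j) n L := by
      refine IsPullback.of_right ?_ ?_ sn
      · rw [← Functor.map_comp, hl₂, pullback.lift_snd]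
        exact (sR j).flip
      · apply pullback.hom_ext
        · rw [Category.assoc, Category.assoc, pullback.lift_fst, pullback.lift_fst, ← Category.assoc,
            ← Functor.map_comp, hl₁, hm₁]
        · rw [Category.assoc, Category.assoc, pullback.lift_snd, pullback.lift_snd, ← Category.assoc,
            ← Functor.map_comp, hl₂]
          exact (sR j).w.symm
    exact (hcl j.left k.left f.left).property n _ _ sl.flip
  let δ : R ⋙ Over.forget S ⟶ W ⋙ Over.forget S :=
    { app := fun j => (rW j).left
      naturality := fun j k f => congrArg (fun e : R₀ j ⟶ W.obj k => e.left) (hm₂ f) }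
  have := IsCofiltered.isConnected (Over i₁)
  have : ∀ j, IsAffine ((W ⋙ Over.forget S).obj j) := hWA
  have : IsAffine ((Over.forget S).mapCone cW).pt := hA
  have : IsClosedImmersion q.left := hGc.property_snd fst
  have hs : ∀ j, IsSeparated (rW j).left := fun j => (hτs j.left).property _ _ _ (sR j)
  have hqcW : ∀ j, QuasiCompact (rW j).left := fun j => (hτc j.left).property _ _ _ (sR j)
  have : ∀ j, CompactSpace ↥((R ⋙ Over.forget S).obj j) := fun j =>
    haveI := hqcW j
    haveI := hWA j
    QuasiCompact.compactSpace_of_compactSpace (rW j).left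
  have : ∀ j, QuasiSeparatedSpace ↥((R ⋙ Over.forget S).obj j) := fun j =>
    haveI := hs j
    haveI := hWA j
    quasiSeparatedSpace_of_quasiSeparated (rW j).left
  have : ∀ j, LocallyOfFiniteType (δ.app j) := fun j => (hτf j.left).property _ _ _ (sR j)
  have : ∀ {j k} (f : j ⟶ k), IsAffineHom ((R ⋙ Over.forget S).map f) := fun {j k} f => by
    have := hstep f (hm₂ f)
    have : IsAffineHom (W.map f).left := by
      have := hWA j; have := hWA k; infer_instance
    have : IsAffineHom (pullback.fst (rW k).left (W.map f).left) := MorphismProperty.pullback_fst _ _ this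
    change IsAffineHom (m f).left
    rw [← pullback.lift_fst (f := (rW k).left) (g := (W.map f).left) (m f).left (rW j).left
      (congrArg (fun e : R₀ j ⟶ W.obj k => e.left) (hm₂ f))]
    infer_instance
  obtain ⟨j, hj⟩ := exists_closedImmersion_systems δ (isLimitOfPreserves (Over.forget S) hcR)
    (isLimitOfPreserves (Over.forget S) hcW) q.left
    (fun j => congrArg (fun e : Q ⟶ W.obj j => e.left) (hπ₂ j).symm) (fun f => hstep f (hm₂ f))
  refine ⟨j.left, fun i φ => ?_⟩
  let k : Over i₁ := Over.mk (φ ≫ j.hom)
  exact repWith_of_etale_cover (fun _ _ e (_ : IsClosedImmersion e) => inferInstanceAs (IsAffineHom e))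
    (repWith_of_isPullback (sqj k).flip ha) (repWith_of_isPullback (sqj k).flip has) (sR k)
    ((repWith_yon_map_iff _ _).2 (hj k (CategoryTheory.Over.homMk φ rfl)))

end Groth.Agent.AlgSpDec
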