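import Mathlib.AlgebraicGeometry.AffineTransitionLimit
import Mathlib.AlgebraicGeometry.Morphisms.FiniteType
import Mathlib.AlgebraicGeometry.Morphisms.ClosedImmersion
import Groth.Agent.AlgSpPts.Diag

/-!
# A map of systems of schemes that is a closed immersion in the limit
-/

set_option backward.isDefEq.respectTransparency false
set_option backward.isDefEq.respectTransparency.types false

universe u

open CategoryTheory Limits Opposite AlgebraicGeometry

namespace Groth.Agent.AlgSpDec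

theorem exists_closedImmersion_systems {J : Type u} [SmallCategory J] [IsCofiltered J] {R E : J ⥤ Scheme.{u}}
    (δ : R ⟶ E) {cR : Cone R} (hR : IsLimit cR) {cE : Cone E} (hE : IsLimit cE) (d : cR.pt ⟶ cE.pt)
    (hd : ∀ j, d ≫ cE.π.app j = cR.π.app j ≫ δ.app j) [IsClosedImmersion d] [IsAffine cE.pt]
    [∀ j, IsAffine (E.obj j)] [∀ {i j} (f : i ⟶ j), IsAffineHom (R.map f)]
    [∀ j, CompactSpace ↥(R.obj j)] [∀ j, QuasiSeparatedSpace ↥(R.obj j)] [∀ j, LocallyOfFiniteType (δ.app j)]
    (hcl : ∀ {i j} (f : i ⟶ j),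
      IsClosedImmersion (pullback.lift (f := δ.app j) (g := E.map f) (R.map f) (δ.app i) (δ.naturality f))) :
    ∃ j, ∀ k, (k ⟶ j) → IsClosedImmersion (δ.app k) := by
  classical
  obtain ⟨hRA, hds⟩ := IsClosedImmersion.isAffine_surjective_of_isAffine d
  have : IsAffine cR.pt := hRA
  obtain ⟨a, ha⟩ := Scheme.exists_isAffine_of_isLimit R cR hR
  have : IsAffine (R.obj a) := ha
  have hft : (δ.app a).appTop.hom.FiniteType :=
    (HasRingHomProperty.iff_of_isAffine (P := @LocallyOfFiniteType)).1 inferInstance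
  letI := (δ.app a).appTop.hom.toAlgebra
  haveI : Algebra.FiniteType Γ(E.obj a, ⊤) Γ(R.obj a, ⊤) := hft
  obtain ⟨s, hs⟩ := Algebra.FiniteType.out (R := Γ(E.obj a, ⊤)) (A := Γ(R.obj a, ⊤))
  have hz : ∀ z ∈ s, ∃ (m : J) (φ : m ⟶ a) (e : Γ(E.obj m, ⊤)), (δ.app m).appTop e = (R.map φ).appTop z := by
    intro z _
    obtain ⟨x, hx⟩ := hds ((cR.π.app a).appTop z)
    obtain ⟨l, e, rfl⟩ := exists_appTop_π_eq_of_isAffine_of_isLimit E cE hE x
    obtain ⟨n, u, v, -⟩ := IsCofilteredOrEmpty.cone_objs a l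
    have h0 : (cR.π.app n).appTop ((R.map u).appTop z - (δ.app n).appTop ((E.map v).appTop e)) = 0 := by
      rw [map_sub, sub_eq_zero]
      have h1 : (cR.π.app n).appTop ((R.map u).appTop z) = (cR.π.app a).appTop z := by
        rw [← cR.w u, Scheme.Hom.comp_appTop]
        rfl
      have h2 : (cR.π.app n).appTop ((δ.app n).appTop ((E.map v).appTop e)) = d.appTop ((cE.π.app l).appTop e) := by
        change ((E.map v).appTop ≫ (δ.app n).appTop ≫ (cR.π.app n).appTop) e = ((cE.π.app l).appTop ≫ d.appTop) e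
        rw [← Scheme.Hom.comp_appTop, ← Scheme.Hom.comp_appTop, ← Scheme.Hom.comp_appTop, Category.assoc, ← reassoc_of% (hd n), cE.w]
        rfl
      rw [h1, h2]
      exact hx.symm
    obtain ⟨m, w, hm⟩ := exists_appTop_map_eq_zero_of_isLimit R cR hR (i := n) _ h0
    refine ⟨m, w ≫ u, (E.map (w ≫ v)).appTop e, ?_⟩
    rw [map_sub, sub_eq_zero] at hm
    refine Eq.trans ?_ ((show (R.map (w ≫ u)).appTop z = (R.map w).appTop ((R.map u).appTop z) by
      rw [R.map_comp, Scheme.Hom.comp_appTop]; rfl).trans hm).symm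
    change ((E.map (w ≫ v)).appTop ≫ (δ.app m).appTop) e = ((E.map v).appTop ≫ (δ.app n).appTop ≫ (R.map w).appTop) e
    rw [← Scheme.Hom.comp_appTop, ← Scheme.Hom.comp_appTop, ← Scheme.Hom.comp_appTop, E.map_comp,
      ← Category.assoc (δ.app m), ← δ.naturality]
  choose mz φz ez hez using hz
  have hinf := IsCofiltered.inf_exists (insert a (s.attach.image fun z : {z // z ∈ s} => mz z.1 z.2))
    (s.attach.image fun z : {z // z ∈ s} => ⟨mz z.1 z.2, a,
      Finset.mem_insert_of_mem (Finset.mem_image.2 ⟨z, Finset.mem_attach _ _, rfl⟩),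
      Finset.mem_insert_self _ _, φz z.1 z.2⟩)
  obtain ⟨j, T, hT⟩ := hinf
  refine ⟨j, fun k f => ?_⟩
  let g : k ⟶ a := f ≫ T (Finset.mem_insert_self _ _)
  have := hcl g
  let l := pullback.lift (f := δ.app a) (g := E.map g) (R.map g) (δ.app k) (δ.naturality g)
  have hls := (IsClosedImmersion.isAffine_surjective_of_isAffine l).2
  have : IsAffine (R.obj k) := (IsClosedImmersion.isAffine_surjective_of_isAffine l).1
  refine IsClosedImmersion.of_surjective_of_isAffine _ fun y => ?_
  obtain ⟨w, rfl⟩ := hls y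
  let φ := (δ.app k).appTop.hom
  have hgen : ∀ z : Γ(R.obj a, ⊤), ∃ e, (δ.app k).appTop e = (R.map g).appTop z := fun z => by
    have hmem : z ∈ Algebra.adjoin Γ(E.obj a, ⊤) (s : Set Γ(R.obj a, ⊤)) := hs ▸ Algebra.mem_top
    induction hmem using Algebra.adjoin_induction with
    | mem z hz =>
      have hmz : mz z hz ∈ insert a (s.attach.image fun z : {z // z ∈ s} => mz z.1 z.2) :=
        Finset.mem_insert_of_mem (Finset.mem_image.2 ⟨⟨z, hz⟩, Finset.mem_attach _ _, rfl⟩)
      have hTz : T hmz ≫ φz z hz = T (Finset.mem_insert_self _ _) :=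
        hT hmz _ (Finset.mem_image.2 ⟨⟨z, hz⟩, Finset.mem_attach _ _, rfl⟩)
      refine ⟨(E.map (f ≫ T hmz)).appTop (ez z hz), ?_⟩
      have h1 : (R.map g).appTop z = (R.map (f ≫ T hmz)).appTop ((R.map (φz z hz)).appTop z) := by
        simp only [g, ← hTz, ← Category.assoc f, R.map_comp, Scheme.Hom.comp_appTop]
        rfl
      rw [h1, ← hez z hz]
      change ((E.map (f ≫ T hmz)).appTop ≫ (δ.app k).appTop) (ez z hz) =
        ((δ.app _).appTop ≫ (R.map (f ≫ T hmz)).appTop) (ez z hz)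
      rw [← Scheme.Hom.comp_appTop, ← Scheme.Hom.comp_appTop, δ.naturality]
    | algebraMap v =>
      refine ⟨(E.map g).appTop v, ?_⟩
      change ((E.map g).appTop ≫ (δ.app k).appTop) v = ((δ.app a).appTop ≫ (R.map g).appTop) v
      rw [← Scheme.Hom.comp_appTop, ← Scheme.Hom.comp_appTop, δ.naturality]
    | add a b _ _ ha hb =>
      obtain ⟨a', ha⟩ := ha
      obtain ⟨b', hb⟩ := hb
      exact ⟨a' + b', by rw [map_add, map_add, ha, hb]⟩
    | mul a b _ _ ha hb =>
      obtain ⟨a', ha⟩ := ha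
      obtain ⟨b', hb⟩ := hb
      exact ⟨a' * b', by rw [map_mul, map_mul, ha, hb]⟩
  have hle : (⊤ : Subring _) ≤ φ.range.comap l.appTop.hom := by
    rw [← Groth.Agent.AlgSpPts.closure_eq_top_of_isPushout (isPushout_appTop_of_isPullback
      (IsPullback.of_hasPullback (δ.app a) (E.map g))), Subring.closure_le]
    rintro _ (⟨x, rfl⟩ | ⟨x, rfl⟩)
    · obtain ⟨e, he⟩ := hgen x
      exact ⟨e, he.trans (congrArg (fun q : R.obj k ⟶ R.obj a => q.appTop x)
        (pullback.lift_fst (f := δ.app a) (g := E.map g) (R.map g) (δ.app k) (δ.naturality g))).symm⟩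
    · exact ⟨x, (congrArg (fun q : R.obj k ⟶ E.obj k => q.appTop x)
        (pullback.lift_snd (f := δ.app a) (g := E.map g) (R.map g) (δ.app k) (δ.naturality g))).symm⟩
  exact hle (Subring.mem_top w)

end Groth.Agent.AlgSpDec
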