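import Groth.Agent.AlgSpDec.LocFinIrred
import Groth.Agent.AlgSpPts.Dim
import Groth.Agent.AlgSpPts.Misc
import Groth.Agent.FibDim.Comp

/-!
Locally finitely many irreducible components for algebraic spaces.
-/

set_option autoImplicit false
set_option backward.isDefEq.respectTransparency false
set_option backward.isDefEq.respectTransparency.types false

universe u

open CategoryTheory CategoryTheory.Limits AlgebraicGeometry AlgSp Groth.Agent.AlgSpLib Groth.Agent.AlgSpPts

namespace Groth.Agent.AlgSpDec.LocFinIrredTfae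

noncomputable local instance instSpecOrder (X : Scheme.{u}) : PartialOrder ↥X := specializationOrder _

/-- Every quasi-compact open has finitely many irreducible components. -/
abbrev LFI (U : Scheme.{u}) : Prop :=
  ∀ W : U.Opens, IsCompact (W : Set ↥U) → (irreducibleComponents ↥W).Finite

theorem finite_coheight_zero {U : Scheme.{u}} (h : (irreducibleComponents ↥U).Finite) :
    {u : ↥U | Order.coheight u = 0}.Finite := by
  obtain ⟨G, hG, hcov⟩ := EtaPtLib.exists_generators h
  refine hG.subset fun u hu => ?_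
  obtain ⟨g, hg, hgu⟩ := hcov u
  have hm : IsMax u := Order.coheight_eq_zero.1 hu
  have h' : u ≤ g := hgu
  have h'' : u ⤳ g := hm h'
  rwa [← (hgu.antisymm h'').eq]

theorem finite_components_of_coheight_zero {U : Scheme.{u}} (h : {u : ↥U | Order.coheight u = 0}.Finite) :
    (irreducibleComponents ↥U).Finite := by
  refine EtaPtLib.finite_components_of_generators h fun y => ?_
  obtain ⟨η, hη, hmax⟩ := FibDim.exists_maximal_generization y
  refine ⟨η, Order.coheight_eq_zero.2 fun z hz => ?_, hη⟩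
  rw [hmax z hz]

theorem lfi_of_surjective_etale {V U : Scheme.{u}} (f : V ⟶ U) [Etale f] [Surjective f] (hV : LFI V) : LFI U := by
  intro W hW
  have hcov : ∀ x ∈ (W : Set U), ∃ (O : V.Opens), IsCompact (O : Set V) ∧ x ∈ f '' (O : Set V) ∧
      O ≤ f ⁻¹ᵁ W := by
    intro x hx
    obtain ⟨v, rfl⟩ := f.surjective x
    obtain ⟨O, hO, hv, hle⟩ := exists_isAffineOpen_mem_and_subset (x := v) (U := f ⁻¹ᵁ W) hx
    exact ⟨O, hO.isCompact, ⟨v, hv, rfl⟩, hle⟩
  choose O hO hxO hOW using hcov
  obtain ⟨t, ht⟩ := hW.elim_finite_subcover (fun x : (W : Set U) => f '' (O x.1 x.2 : Set V))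
    (fun x => f.isOpenMap _ (O x.1 x.2).2) (fun x hx => Set.mem_iUnion.2 ⟨⟨x, hx⟩, hxO x hx⟩)
  let O' : V.Opens := ⟨⋃ x ∈ t, (O x.1 x.2 : Set V), isOpen_biUnion fun x _ => (O x.1 x.2).2⟩
  have hO' : IsCompact (O' : Set V) := t.finite_toSet.isCompact_biUnion fun x _ => hO x.1 x.2
  obtain ⟨G, hG, hGcov⟩ := EtaPtLib.exists_generators (X := (O'.toScheme)) (hV O' hO')
  have hle : ∀ z : O'.toScheme, f (O'.ι z) ∈ W := fun z => by
    obtain ⟨x, hx, hz⟩ := Set.mem_iUnion₂.1 z.2
    exact hOW x.1 x.2 hz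
  let m : O'.toScheme → (W : Set U) := fun z => ⟨f (O'.ι z), hle z⟩
  refine EtaPtLib.finite_components_of_generators (hG.image m) fun y => ?_
  obtain ⟨x, hx, v, hv, hvy⟩ := Set.mem_iUnion₂.1 (ht y.2)
  obtain ⟨g, hg, hgz⟩ := hGcov ⟨v, Set.mem_iUnion₂.2 ⟨x, hx, hv⟩⟩
  refine ⟨m g, ⟨g, hg, rfl⟩, ?_⟩
  refine Topology.IsInducing.subtypeVal.specializes_iff.1 ?_
  show f (O'.ι g) ⤳ y.1
  rw [← hvy]
  exact (hgz.map O'.ι.continuous).map f.continuous

theorem lfi_of_etale {V U : Scheme.{u}} (f : V ⟶ U) [Etale f] (hU : LFI U) : LFI V :=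
  fun W hW => LocFinIrred.finite_components_of_flat_lft f hU W hW

variable {S : Scheme.{u}} (X : Space S)

theorem all_charts (h : EtaleLocally (fun U => LFI U) X.obj) (U : Over S) (a : (yon S).obj U ⟶ X.obj)
    (ha : RepWith @Etale a) : LFI U.left := by
  obtain ⟨U₀, a₀, ha₀, ha₀s, h₀⟩ := h
  haveI : Etale (ha₀.rep.snd a).left := ha₀.property_snd a
  haveI : Surjective (ha₀.rep.snd a).left := ha₀s.property_snd a
  haveI : Etale (ha₀.rep.fst' a).left := ha.property _ _ _ (ha₀.rep.isPullback' a).flip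
  exact lfi_of_surjective_etale (ha₀.rep.snd a).left (lfi_of_etale (ha₀.rep.fst' a).left h₀)

theorem qc_etale (h : EtaleLocally (fun U => LFI U) X.obj) (Y : Space S) (g : Y ⟶ X) (hg : IsEtaleMor g.hom)
    (hY : IsQuasiCompactSp Y.obj) :
    {y : Points Y.obj | HasAt (fun U u => ringKrullDim ↥(U.presheaf.stalk u) = 0) Y.obj y}.Finite ∧
      (irreducibleComponents (Points Y.obj)).Finite := by
  obtain ⟨T, q, hq, hqs, hT⟩ := hY
  haveI : CompactSpace ↥T.left := hT
  have hfin : (irreducibleComponents ↥T.left).Finite := by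
    have h1 := all_charts X h T (q ≫ g.hom) (hg q hq) ⊤ isCompact_univ
    refine finite_components_of_coheight_zero ?_
    have h2 := finite_coheight_zero (U := (⊤ : T.left.Opens).toScheme) h1
    refine (h2.image (⊤ : T.left.Opens).ι).subset fun u hu => ?_
    refine ⟨⟨u, trivial⟩, ?_, rfl⟩
    show Order.coheight _ = 0
    rw [coheight_eq_of_etale (⊤ : T.left.Opens).ι]
    exact hu
  refine ⟨?_, ?_⟩
  · refine ((finite_coheight_zero hfin).image (Points.ofPt q)).subset ?_
    rintro y ⟨U, a, u, ha, hu, hd⟩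
    obtain ⟨t, rfl⟩ := surjective_ofPt hqs y
    refine ⟨t, ?_, rfl⟩
    show Order.coheight t = 0
    rw [coheight_eq_of_charts hq ha hu.symm]
    rw [AlgebraicGeometry.ringKrullDim_stalk_eq_coheight] at hd
    exact_mod_cast hd
  · obtain ⟨G, hG, hcov⟩ := EtaPtLib.exists_generators hfin
    refine EtaPtLib.finite_components_of_generators (hG.image (Points.ofPt q)) fun y => ?_
    obtain ⟨t, rfl⟩ := surjective_ofPt hqs y
    obtain ⟨g', hg', hgt⟩ := hcov t
    exact ⟨_, ⟨g', hg', rfl⟩, hgt.map (Points.continuous_ofPt q)⟩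

theorem of_qc_etale
    (H : ∀ (Y : Space S) (g : Y ⟶ X), IsEtaleMor g.hom → IsQuasiCompactSp Y.obj →
      {y : Points Y.obj | HasAt (fun U u => ringKrullDim ↥(U.presheaf.stalk u) = 0) Y.obj y}.Finite ∨
        (irreducibleComponents (Points Y.obj)).Finite) :
    EtaleLocally (fun U => LFI U) X.obj := by
  obtain ⟨U, a, ha, has⟩ := X.property.atlas
  refine ⟨U, a, ha, has, fun W hW => ?_⟩
  let T : Over S := Over.mk (W.ι ≫ U.hom)
  let ι : T ⟶ U := Over.homMk W.ι rfl
  haveI : Etale ι.left := inferInstanceAs (Etale W.ι)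
  haveI : CompactSpace ↥T.left := isCompact_iff_compactSpace.1 hW
  let Y : Space S := ⟨(yon S).obj T, IsAlgSpace.yon_obj _⟩
  have hg : IsEtaleMor ((yon S).map ι ≫ a) := fun V φ hφ =>
    repWith_comp hφ (repWith_comp ((repWith_yon_map_iff _ _).2 ‹Etale ι.left›) ha)
  rcases H Y (ObjectProperty.homMk ((yon S).map ι ≫ a)) hg
    ((isQuasiCompactSp_iff Y.property).2 ((Points.schemeHomeo T).compactSpace)) with h | h
  · show (irreducibleComponents ↥W.toScheme).Finite
    refine finite_components_of_coheight_zero (U := T.left) ?_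
    refine (h.preimage (Points.schemeHomeo T).injective.injOn).subset fun t ht => ?_
    refine ⟨T, 𝟙 _, t, repWith_of_isIso _ _, rfl, ?_⟩
    show ringKrullDim _ = 0
    rw [AlgebraicGeometry.ringKrullDim_stalk_eq_coheight]
    exact_mod_cast ht
  · show (irreducibleComponents ↥T.left).Finite
    let e := Points.schemeHomeo T
    haveI : QuasiSober (Points Y.obj) := e.symm.isClosedEmbedding.quasiSober
    obtain ⟨G, hG, hcov⟩ := EtaPtLib.exists_generators h
    refine EtaPtLib.finite_components_of_generators (hG.image e.symm) fun t => ?_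
    obtain ⟨g, hg, hgt⟩ := hcov (e t)
    exact ⟨e.symm g, ⟨g, hg, rfl⟩, by simpa using hgt.map e.symm.continuous⟩

end Groth.Agent.AlgSpDec.LocFinIrredTfae
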