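import Groth.Agent.AlgSpVal.DvrSep
import Groth.Agent.AlgSpDec.Fibres
import Groth.Agent.AlgSpPts.Field
import Groth.Agent.AlgSpLib.Descent2

/-!
# Locally Noetherian fibres of morphisms of algebraic spaces
-/

set_option backward.isDefEq.respectTransparency false
set_option backward.isDefEq.respectTransparency.types false

open CategoryTheory Limits Opposite AlgebraicGeometry MorphismProperty AlgSp Groth.Agent.AlgSpLib
  Groth.Agent.AlgSpPts

namespace Groth.Agent.AlgSpDec.LocNoethFibre

universe u

variable {S : Scheme.{u}} {X Y : Space S} {f : X ⟶ Y}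

theorem isLocNoethSp_pt (p : FieldPt Y.obj) : IsLocNoethSp ((yon S).obj p.pt) :=
  ⟨p.pt, 𝟙 _, repWith_id _ _, repWith_id _ _, inferInstanceAs (IsLocallyNoetherian (Spec (CommRingCat.of p.K)))⟩

theorem fibre_lft (hf : LocP @LocallyOfFiniteType f.hom) (p : FieldPt Y.obj) {P : Sp S} (fst : P ⟶ X.obj)
    (snd : P ⟶ (yon S).obj p.pt) (hP : IsPullback fst snd f.hom p.toHom) : IsLocNoethSp P := by
  have hPA : IsAlgSpace P := isAlgSpace_of_isPullback hP X.property (IsAlgSpace.yon_obj _) Y.property
  exact AlgSpVal.isLocNoethSp_of_lft hPA (IsAlgSpace.yon_obj _) snd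
    (locP_of_isPullback hP X.property Y.property (IsAlgSpace.yon_obj _) hf) (isLocNoethSp_pt p)

/-- Locally Noetherian descends along a change of the base field. -/
theorem descend {Q : Sp S} (hQ : IsAlgSpace Q) {K L : Type u} [Field K] [Field L]
    {sK : Spec (CommRingCat.of K) ⟶ S} {sL : Spec (CommRingCat.of L) ⟶ S} (π : Q ⟶ (yon S).obj (Over.mk sK))
    (c : Over.mk sL ⟶ Over.mk sK) {P : Sp S} {fst : P ⟶ Q} {snd : P ⟶ (yon S).obj (Over.mk sL)}
    (sq : IsPullback fst snd π ((yon S).map c)) (hP : IsLocNoethSp P) : IsLocNoethSp Q := by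
  obtain ⟨U, a, ha, has⟩ := hQ.atlas
  obtain ⟨v, hv⟩ := (yon S).map_surjective (a ≫ π)
  let hc := representable_yon_map (S := S) c
  have sqW := hc.isPullback' ((yon S).map v)
  let W := hc.pullback ((yon S).map v)
  let wL : W ⟶ Over.mk sL := hc.fst' ((yon S).map v)
  let wU : W ⟶ U := hc.snd ((yon S).map v)
  let m : (yon S).obj W ⟶ P := sq.lift ((yon S).map wU ≫ a) ((yon S).map wL)
    (by rw [Category.assoc, ← hv, sqW.w])
  have sqm : IsPullback ((yon S).map wU) m a fst := by
    refine IsPullback.of_bot ?_ (sq.lift_fst _ _ _).symm sq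
    rw [sq.lift_snd, ← hv]
    exact sqW.flip
  have hm : RepWith @Etale m := repWith_of_isPullback sqm ha
  have : IsLocallyNoetherian W.left := isLocallyNoetherian_chart hm hP
  obtain ⟨φ, hφ⟩ : ∃ φ : CommRingCat.of K ⟶ CommRingCat.of L, Spec.map φ = c.left := ⟨_, Spec.map_preimage _⟩
  have hflat : Flat c.left := by
    change Flat (id c.left : Spec (CommRingCat.of L) ⟶ Spec (CommRingCat.of K))
    rw [id, ← hφ, HasRingHomProperty.Spec_iff (P := @Flat)]
    let _ : Algebra K L := φ.hom.toAlgebra
    exact RingHom.flat_algebraMap_iff.2 (inferInstance : Module.Flat K L)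
  have : Subsingleton ↥(Over.mk sK).left := inferInstanceAs (Subsingleton (PrimeSpectrum K))
  have : Nonempty ↥(Over.mk sL).left := inferInstanceAs (Nonempty (PrimeSpectrum L))
  have : Surjective c.left := ⟨fun _ => ⟨Classical.arbitrary _, Subsingleton.elim _ _⟩⟩
  have : IsIntegral (Over.mk sK).left := inferInstanceAs (IsIntegral (Spec (CommRingCat.of K)))
  have : UniversallyOpen c.left := inferInstance
  have h1 : Flat wU.left := MorphismProperty.of_isPullback (isPullback_of_yon sqW) hflat
  have h2 : Surjective wU.left := MorphismProperty.of_isPullback (isPullback_of_yon sqW) ‹Surjective c.left›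
  have h3 : UniversallyOpen wU.left :=
    MorphismProperty.of_isPullback (isPullback_of_yon sqW) ‹UniversallyOpen c.left›
  exact ⟨U, a, ha, has, isLocallyNoetherian_of_flat wU.left⟩

theorem of_mono (p p₀ : FieldPt Y.obj) (h : Points.mk p = Points.mk p₀) [Mono p₀.toHom]
    (hN : ∀ ⦃P : Sp S⦄ (fst : P ⟶ X.obj) (snd : P ⟶ (yon S).obj p.pt),
      IsPullback fst snd f.hom p.toHom → IsLocNoethSp P)
    {Q : Sp S} (qfst : Q ⟶ X.obj) (qsnd : Q ⟶ (yon S).obj p₀.pt) (hQ : IsPullback qfst qsnd f.hom p₀.toHom) :
    IsLocNoethSp Q := by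
  have hQA : IsAlgSpace Q := isAlgSpace_of_isPullback hQ X.property (IsAlgSpace.yon_obj _) Y.property
  obtain ⟨c, hc, -⟩ := existsUnique_factor p₀.toHom (representable_from_yon' Y.property _) p.toHom
    (by rw [← mk_eq_ofPt, ← mk_eq_ofPt, h])
  refine descend hQA qsnd c (IsPullback.of_hasPullback qsnd ((yon S).map c))
    (hN (pullback.fst qsnd ((yon S).map c) ≫ qfst) (pullback.snd qsnd ((yon S).map c)) ?_)
  have := (IsPullback.of_hasPullback qsnd ((yon S).map c)).paste_horiz hQ
  rwa [hc] at this

theorem of_chart (p : FieldPt Y.obj) (hN : ∀ ⦃P : Sp S⦄ (fst : P ⟶ X.obj) (snd : P ⟶ (yon S).obj p.pt),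
      IsPullback fst snd f.hom p.toHom → IsLocNoethSp P)
    {V : Over S} (b : (yon S).obj V ⟶ Y.obj) (hb : RepWith @Etale b) (v : ↥V.left)
    (hv : Points.ofPt b v = Points.mk p)
    {Q : Sp S} (qfst : Q ⟶ X.obj) (qsnd : Q ⟶ (yon S).obj (FieldPt.ofPt b v).pt)
    (hQ : IsPullback qfst qsnd f.hom (FieldPt.ofPt b v).toHom) : IsLocNoethSp Q := by
  have hQA : IsAlgSpace Q := isAlgSpace_of_isPullback hQ X.property (IsAlgSpace.yon_obj _) Y.property
  have sqV := hb.rep.isPullback' p.toHom
  obtain ⟨w, hw, -⟩ := exists_ofPt_of_eq sqV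
    (show Points.ofPt b v = Points.ofPt p.toHom (IsLocalRing.closedPoint p.K) by rw [Points.ofPt_toHom, hv])
  subst hw
  let W := hb.rep.pullback p.toHom
  let vV := hb.rep.fst' p.toHom
  let vK := hb.rep.snd p.toHom
  have : Etale vK.left := hb.property_snd p.toHom
  -- the residue field of the point of the chart
  let T : Over S := Over.mk (W.left.fromSpecResidueField w ≫ W.hom)
  let j : T ⟶ W := Over.homMk (W.left.fromSpecResidueField w) rfl
  let cv : T ⟶ (FieldPt.ofPt b (vV.left w)).pt := Over.homMk (Spec.map (vV.left.residueFieldMap w)) (by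
    change Spec.map _ ≫ V.left.fromSpecResidueField _ ≫ V.hom = W.left.fromSpecResidueField w ≫ W.hom
    rw [← Category.assoc, Scheme.Hom.SpecMap_residueFieldMap_fromSpecResidueField, Category.assoc, Over.w vV])
  let ck : T ⟶ p.pt := j ≫ vK
  have hcc : (yon S).map cv ≫ (FieldPt.ofPt b (vV.left w)).toHom = (yon S).map ck ≫ p.toHom := by
    rw [FieldPt.toHom_ofPt, ← Category.assoc, ← Functor.map_comp, show (yon S).map ck = (yon S).map j ≫ (yon S).map vK from Functor.map_comp _ _ _, Category.assoc,
      ← sqV.w, ← Category.assoc, ← Functor.map_comp]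
    congr 2
    exact Over.OverMorphism.ext (vV.left.SpecMap_residueFieldMap_fromSpecResidueField w)
  let PP := pullback f.hom ((yon S).map ck ≫ p.toHom)
  have sqL := IsPullback.of_hasPullback f.hom ((yon S).map ck ≫ p.toHom)
  have sqP := IsPullback.of_hasPullback f.hom p.toHom
  have hPA : IsAlgSpace (pullback f.hom p.toHom) :=
    isAlgSpace_of_isPullback sqP X.property (IsAlgSpace.yon_obj _) Y.property
  -- the extended fibre is locally of finite type over the given one
  let m := sqP.lift (pullback.fst _ _) (pullback.snd f.hom ((yon S).map ck ≫ p.toHom) ≫ (yon S).map ck)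
    (by rw [Category.assoc]; exact sqL.w)
  have sqm : IsPullback m (pullback.snd f.hom ((yon S).map ck ≫ p.toHom)) (pullback.snd f.hom p.toHom)
      ((yon S).map ck) := by
    refine IsPullback.of_right ?_ (sqP.lift_snd _ _ _) sqP
    rw [sqP.lift_fst]
    exact sqL
  have hjl : LocallyOfFiniteType ck.left := by
    have : LocallyOfFiniteType (W.left.fromSpecResidueField w) := by
      have hd : DiscreteTopology ↥W.left := by
        have h1 := vK.left.isDiscrete_preimage_singleton (IsLocalRing.closedPoint p.K)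
        rw [show vK.left ⁻¹' {IsLocalRing.closedPoint p.K} = Set.univ from
          Set.eq_univ_of_forall fun x => Subsingleton.elim (α := ↥p.pt.left) _ _] at h1
        exact isDiscrete_univ_iff.1 h1
      have : IsClosedImmersion (W.left.fromSpecResidueField w) :=
        .of_isPreimmersion _ (isClosed_discrete _)
      infer_instance
    change LocallyOfFiniteType (W.left.fromSpecResidueField w ≫ vK.left)
    infer_instance
  have hPP : IsAlgSpace PP := isAlgSpace_of_isPullback sqL X.property (IsAlgSpace.yon_obj _) Y.property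
  have hNL : IsLocNoethSp PP := AlgSpVal.isLocNoethSp_of_lft hPP hPA m
    (locP_of_repWith (repWith_of_isPullback sqm.flip ((repWith_yon_map_iff _ ck).2 hjl)))
    (hN _ _ sqP)
  -- descend to the residue field of the chart
  let n := hQ.lift (pullback.fst _ _) (pullback.snd f.hom ((yon S).map ck ≫ p.toHom) ≫ (yon S).map cv)
    (by rw [Category.assoc, hcc]; exact sqL.w)
  have sqn : IsPullback n (pullback.snd f.hom ((yon S).map ck ≫ p.toHom)) qsnd ((yon S).map cv) := by
    refine IsPullback.of_right ?_ (hQ.lift_snd _ _ _) hQ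
    rw [hQ.lift_fst, hcc]
    exact sqL
  exact descend hQA qsnd cv sqn hNL

end Groth.Agent.AlgSpDec.LocNoethFibre
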