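import Groth.Agent.AlgSpPts.Diag
import Groth.Agent.AlgSpDec.Fibres
import Groth.Agent.MorLib.GeomFibre
import Mathlib.AlgebraicGeometry.Morphisms.FlatMono

/-!
# Locally separated spaces: finiteness of the fibres of affine etale charts
-/

set_option backward.isDefEq.respectTransparency false
set_option backward.isDefEq.respectTransparency.types false

universe u

open CategoryTheory CategoryTheory.Limits AlgebraicGeometry Opposite AlgSp TensorProduct

namespace Groth.Agent.AlgSpDec.LocSep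

open Groth.Agent.AlgSpLib Groth.Agent.MorLib

/-- A family of pairs of functions whose pairings form a diagonal matrix with non-zero entries is
finite. -/
theorem finite_of_offdiag_vanishing {A Ω : Type u} [CommRing A] [Field Ω] (g : A ⊗[ℤ] A)
    (Φ : Set (A →ₐ[ℤ] Ω))
    (h₁ : ∀ φ ∈ Φ, Algebra.TensorProduct.lift φ φ (fun _ _ => Commute.all _ _) g ≠ 0)
    (h₂ : ∀ φ ∈ Φ, ∀ ψ ∈ Φ, φ ≠ ψ → Algebra.TensorProduct.lift φ ψ (fun _ _ => Commute.all _ _) g = 0) :
    Φ.Finite := by
  obtain ⟨F, hF⟩ := TensorProduct.exists_finset g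
  let v : Φ → (↥F → Ω) := fun φ k => φ.1 k.1.1
  have key : ∀ φ ψ : Φ, ∑ k, v φ k * ψ.1 k.1.2 =
      Algebra.TensorProduct.lift φ.1 ψ.1 (fun _ _ => Commute.all _ _) g := by
    intro φ ψ
    rw [hF, map_sum, ← Finset.sum_coe_sort F]
    simp [v]
  have hv : LinearIndependent Ω v := by
    rw [linearIndependent_iff']
    intro s c hc ψ hψ
    have h := congrArg (fun w : ↥F → Ω => ∑ k, w k * ψ.1 k.1.2) hc
    simp only [Finset.sum_apply, Pi.smul_apply, smul_eq_mul, Pi.zero_apply, zero_mul,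
      Finset.sum_const_zero, Finset.sum_mul] at h
    rw [Finset.sum_comm] at h
    simp only [mul_assoc, ← Finset.mul_sum, key] at h
    rw [Finset.sum_eq_single ψ (fun b _ hb => by rw [h₂ _ b.2 _ ψ.2 (fun e => hb (Subtype.ext e)), mul_zero])
      (fun hb => absurd hψ hb)] at h
    exact (mul_eq_zero.1 h).resolve_right (h₁ _ ψ.2)
  exact Set.finite_coe_iff.1 hv.finite

/-- A family of geometric points off-diagonally avoiding a neighbourhood of the diagonal is finite. -/
theorem finite_of_avoid_diagonal {A Ω : Type u} [CommRing A] [Field Ω]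
    (W : Set (PrimeSpectrum (A ⊗[ℤ] A))) (hW : IsOpen W)
    (hΔ : Set.range (PrimeSpectrum.comap (Algebra.TensorProduct.lmul' ℤ (S := A)).toRingHom) ⊆ W)
    (Φ : Set (A →ₐ[ℤ] Ω))
    (h : ∀ φ ∈ Φ, ∀ ψ ∈ Φ, φ ≠ ψ →
      PrimeSpectrum.comap (Algebra.TensorProduct.lift φ ψ (fun _ _ => Commute.all _ _)).toRingHom ⊥ ∉ W) :
    Φ.Finite := by
  let μ := (Algebra.TensorProduct.lmul' ℤ (S := A)).toRingHom
  have hc : IsCompact (Set.range (PrimeSpectrum.comap μ)) :=
    isCompact_range (PrimeSpectrum.continuous_comap μ)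
  have hcov : Set.range (PrimeSpectrum.comap μ) ⊆
      ⋃ g : {g : A ⊗[ℤ] A // (PrimeSpectrum.basicOpen g : Set _) ⊆ W},
        (PrimeSpectrum.basicOpen g.1 : Set (PrimeSpectrum (A ⊗[ℤ] A))) := by
    intro p hp
    obtain ⟨_, ⟨g, rfl⟩, hpg, hg⟩ :=
      PrimeSpectrum.isTopologicalBasis_basic_opens.exists_subset_of_mem_open (hΔ hp) hW
    exact Set.mem_iUnion.2 ⟨⟨g, hg⟩, hpg⟩
  obtain ⟨G, hG⟩ := hc.elim_finite_subcover _ (fun g : {g : A ⊗[ℤ] A // (PrimeSpectrum.basicOpen g : Set _) ⊆ W} => (PrimeSpectrum.basicOpen g.1).isOpen) hcov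
  let P : {g : A ⊗[ℤ] A // (PrimeSpectrum.basicOpen g : Set _) ⊆ W} → Set (A →ₐ[ℤ] Ω) := fun g =>
    {φ | φ ∈ Φ ∧ Algebra.TensorProduct.lift φ φ (fun _ _ => Commute.all _ _) g.1 ≠ 0}
  refine Set.Finite.subset (s := ⋃ g ∈ (G : Set _), P g) (G.finite_toSet.biUnion fun g _ => ?_) ?_
  · refine finite_of_offdiag_vanishing g.1 _ (fun φ hφ => hφ.2) fun φ hφ ψ hψ hne => ?_
    by_contra hne'
    refine h φ hφ.1 ψ hψ.1 hne (g.2 ?_)
    simpa [PrimeSpectrum.comap_asIdeal] using hne'
  · intro φ hφ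
    have hmem := hG ⟨PrimeSpectrum.comap φ.toRingHom ⊥, rfl⟩
    rw [← PrimeSpectrum.comap_comp_apply] at hmem
    obtain ⟨g, hg, hgm⟩ := Set.mem_iUnion₂.1 hmem
    refine Set.mem_iUnion₂.2 ⟨g, hg, hφ, ?_⟩
    have e : φ.toRingHom.comp μ =
        (Algebra.TensorProduct.lift φ φ (fun _ _ => Commute.all _ _)).toRingHom := by
      have : φ.comp (Algebra.TensorProduct.lmul' ℤ (S := A)) =
          Algebra.TensorProduct.lift φ φ (fun _ _ => Commute.all _ _) := by ext <;> simp
      exact congrArg AlgHom.toRingHom this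
    rw [e] at hgm
    simpa [PrimeSpectrum.comap_asIdeal] using hgm

/-- An equivalence relation on an affine scheme which is etale over it and immersed in the absolute
square has finite classes. -/
theorem finite_preimage_of_immersion {A : CommRingCat.{u}} {R : Scheme.{u}} (t s : R ⟶ Spec A) [Etale t]
    (i : R ⟶ Spec (CommRingCat.of ((A : Type u) ⊗[ℤ] A))) [IsImmersion i]
    (ht : i ≫ Spec.map (CommRingCat.ofHom (Algebra.TensorProduct.includeLeft : (A : Type u) →ₐ[ℤ] _).toRingHom) = t)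
    (hs : i ≫ Spec.map (CommRingCat.ofHom (Algebra.TensorProduct.includeRight : (A : Type u) →ₐ[ℤ] _).toRingHom) = s)
    (e : Spec A ⟶ R) [IsOpenImmersion e]
    (he : e ≫ i = Spec.map (CommRingCat.ofHom (Algebra.TensorProduct.lmul' ℤ (S := (A : Type u))).toRingHom))
    (htr : ∀ (Ω : Type u) [Field Ω] (r₁ r₂ : Spec (CommRingCat.of Ω) ⟶ R), r₁ ≫ t = r₂ ≫ t →
      ∃ r₃, r₃ ≫ t = r₁ ≫ s ∧ r₃ ≫ s = r₂ ≫ s) (u : ↥(Spec A)) :
    (t ⁻¹' {u}).Finite := by
  let Ω := AlgebraicClosure ((Spec A).residueField u)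
  let a : Spec (CommRingCat.of Ω) ⟶ Spec A :=
    Spec.map (CommRingCat.ofHom (algebraMap ((Spec A).residueField u) Ω)) ≫ (Spec A).fromSpecResidueField u
  -- geometric points over the fixed one
  have hlift : ∀ r : ↥(t ⁻¹' {u}), ∃ ρ : Spec (CommRingCat.of Ω) ⟶ R,
      ρ (IsLocalRing.closedPoint Ω) = r.1 ∧ ρ ≫ t = a := by
    rintro ⟨r, hr⟩
    obtain rfl : t r = u := hr
    algebraize [(t.residueFieldMap r).hom]
    have : Module.Finite ((Spec A).residueField (t r)) (R.residueField r) :=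
      GF.finite_residueFieldMap t r
    let σ : R.residueField r →ₐ[(Spec A).residueField (t r)] Ω := IsAlgClosed.lift
    refine ⟨Spec.map (CommRingCat.ofHom σ.toRingHom) ≫ R.fromSpecResidueField r, ?_, ?_⟩
    · rw [Scheme.Hom.comp_apply]; exact Scheme.fromSpecResidueField_apply _ _
    · rw [Category.assoc, ← Scheme.Hom.SpecMap_residueFieldMap_fromSpecResidueField, ← Category.assoc,
        ← Spec.map_comp]
      congr 2
      ext x
      exact σ.commutes x
  choose ρ hρ₁ hρ₂ using hlift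
  -- coordinates of field valued points of `R`
  let pr : (Spec (CommRingCat.of Ω) ⟶ Spec A) → (A →ₐ[ℤ] Ω) := fun b => (Spec.preimage b).hom.toIntAlgHom
  have coord : ∀ ρ₀ : Spec (CommRingCat.of Ω) ⟶ R, i (ρ₀ (IsLocalRing.closedPoint Ω)) =
      PrimeSpectrum.comap (Algebra.TensorProduct.lift (pr (ρ₀ ≫ t)) (pr (ρ₀ ≫ s))
        (fun _ _ => Commute.all _ _)).toRingHom ⊥ := by
    intro ρ₀
    have : ρ₀ ≫ i = Spec.map (CommRingCat.ofHom (Algebra.TensorProduct.lift (pr (ρ₀ ≫ t)) (pr (ρ₀ ≫ s))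
        (fun _ _ => Commute.all _ _)).toRingHom) := by
      obtain ⟨τ, hτ⟩ := Spec.map_surjective (ρ₀ ≫ i)
      have h₁ : pr (ρ₀ ≫ t) = τ.hom.toIntAlgHom.comp Algebra.TensorProduct.includeLeft := by
        have : Spec.preimage (ρ₀ ≫ t) = CommRingCat.ofHom
            (Algebra.TensorProduct.includeLeft : (A : Type u) →ₐ[ℤ] _).toRingHom ≫ τ :=
          Spec.map_injective (by rw [Spec.map_preimage, Spec.map_comp, hτ, Category.assoc, ht])
        exact AlgHom.ext fun x => congrArg (fun k => k.hom x) this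
      have h₂ : pr (ρ₀ ≫ s) = τ.hom.toIntAlgHom.comp Algebra.TensorProduct.includeRight := by
        have : Spec.preimage (ρ₀ ≫ s) = CommRingCat.ofHom
            (Algebra.TensorProduct.includeRight : (A : Type u) →ₐ[ℤ] _).toRingHom ≫ τ :=
          Spec.map_injective (by rw [Spec.map_preimage, Spec.map_comp, hτ, Category.assoc, hs])
        exact AlgHom.ext fun x => congrArg (fun k => k.hom x) this
      have : Algebra.TensorProduct.lift (pr (ρ₀ ≫ t)) (pr (ρ₀ ≫ s)) (fun _ _ => Commute.all _ _) =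
          τ.hom.toIntAlgHom := by
        rw [h₁, h₂]; ext <;> simp
      rw [this, ← hτ]; rfl
    rw [← Scheme.Hom.comp_apply, this,
      show IsLocalRing.closedPoint Ω = (⊥ : PrimeSpectrum Ω) from Subsingleton.elim _ _]
    rfl
  let φ : ↥(t ⁻¹' {u}) → (A →ₐ[ℤ] Ω) := fun r => pr (ρ r ≫ s)
  have hinj : Function.Injective φ := by
    intro r r' h
    apply Subtype.ext
    apply i.isEmbedding.injective
    rw [← hρ₁ r, ← hρ₁ r', coord, coord, hρ₂ r, hρ₂ r', show pr (ρ r ≫ s) = pr (ρ r' ≫ s) from h]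
  -- the open avoiding the rest of the relation
  let W : Set (PrimeSpectrum ((A : Type u) ⊗[ℤ] A)) := (closure (i '' (Set.range e)ᶜ))ᶜ
  have hΔ : Set.range (PrimeSpectrum.comap (Algebra.TensorProduct.lmul' ℤ (S := (A : Type u))).toRingHom) ⊆ W := by
    rintro _ ⟨q, rfl⟩ hq
    have : i (e q) ∈ closure (i '' (Set.range e)ᶜ) := by
      rw [← Scheme.Hom.comp_apply, he]; exact hq
    have h' : e q ∈ i ⁻¹' closure (i '' (Set.range e)ᶜ) := this
    rw [← i.isEmbedding.isInducing.closure_eq_preimage_closure_image] at h'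
    rw [e.isOpenEmbedding.isOpen_range.isClosed_compl.closure_eq] at h'
    exact h' ⟨q, rfl⟩
  have hfin : (Set.range φ).Finite := by
    refine finite_of_avoid_diagonal W isClosed_closure.isOpen_compl hΔ _ ?_
    rintro _ ⟨r, rfl⟩ _ ⟨r', rfl⟩ hne hW
    obtain ⟨ρ₃, h₃t, h₃s⟩ := htr Ω (ρ r) (ρ r') ((hρ₂ r).trans (hρ₂ r').symm)
    apply hne
    have hc := coord ρ₃
    rw [h₃t, h₃s] at hc
    change PrimeSpectrum.comap (Algebra.TensorProduct.lift (φ r) (φ r') _).toRingHom ⊥ ∈ W at hW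
    rw [← hc] at hW
    obtain ⟨q, hq⟩ : ρ₃ (IsLocalRing.closedPoint Ω) ∈ Set.range e := by
      by_contra hn
      exact hW (subset_closure ⟨_, hn, rfl⟩)
    ext x
    let d : (A : Type u) ⊗[ℤ] A := x ⊗ₜ[ℤ] 1 - 1 ⊗ₜ[ℤ] x
    have hd : d ∈ (i (ρ₃ (IsLocalRing.closedPoint Ω))).asIdeal := by
      rw [← hq, ← Scheme.Hom.comp_apply, he]
      change Algebra.TensorProduct.lmul' ℤ d ∈ q.asIdeal
      simp [d]
    rw [hc] at hd
    simpa [d, sub_eq_zero] using hd
  have : Finite ↥(t ⁻¹' {u}) := by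
    have := hfin.to_subtype
    exact Finite.of_injective (Set.rangeFactorization φ) fun a b h => hinj (congrArg Subtype.val h)
  exact Set.toFinite _

variable {S : Scheme.{u}}

/-- The absolute square of an affine scheme. -/
theorem isPullback_square (A : CommRingCat.{u}) :
    IsPullback
      (Spec.map (CommRingCat.ofHom (Algebra.TensorProduct.includeLeft : (A : Type u) →ₐ[ℤ] (A : Type u) ⊗[ℤ] (A : Type u)).toRingHom))
      (Spec.map (CommRingCat.ofHom (Algebra.TensorProduct.includeRight : (A : Type u) →ₐ[ℤ] (A : Type u) ⊗[ℤ] (A : Type u)).toRingHom))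
      (specULiftZIsTerminal.from (Spec A)) (specULiftZIsTerminal.from (Spec A)) := by
  let c : CommRingCat.of (ULift.{u} ℤ) ⟶ A :=
    CommRingCat.ofHom ((Int.castRingHom A).comp (ULift.ringEquiv (R := ℤ)).toRingHom)
  have hi : ∀ {B : CommRingCat.{u}} (f g : CommRingCat.of (ULift.{u} ℤ) ⟶ B), f = g := fun f g =>
    CommRingCat.hom_ext ((RingHom.ext fun n => RingHom.congr_fun (RingHom.ext_int (f.hom.comp (ULift.ringEquiv (R := ℤ)).symm.toRingHom) (g.hom.comp (ULift.ringEquiv (R := ℤ)).symm.toRingHom)) n.down))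
  rw [specULiftZIsTerminal.hom_ext (specULiftZIsTerminal.from (Spec A)) (Spec.map c)]
  refine isPullback_SpecMap_of_isPushout _ _ _ _ ⟨⟨hi _ _⟩, ⟨PushoutCocone.IsColimit.mk _
    (fun s => CommRingCat.ofHom (Algebra.TensorProduct.lift s.inl.hom.toIntAlgHom s.inr.hom.toIntAlgHom
      (fun _ _ => Commute.all _ _)).toRingHom) ?_ ?_ ?_⟩⟩
  · intro s; ext x; simp
  · intro s; ext x; simp
  · intro s m h₁ h₂
    ext1
    apply Algebra.TensorProduct.ringHom_ext
    · ext x; simpa using congrArg (fun k => k.hom x) h₁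
    · ext x; simpa using congrArg (fun k => k.hom x) h₂

/-- The square of an affine scheme over the base is immersed in the absolute square. -/
theorem exists_immersion_prod {A : CommRingCat.{u}} {str : Spec A ⟶ S} :
    ∃ j : (Over.mk str ⨯ Over.mk str).left ⟶ Spec (CommRingCat.of ((A : Type u) ⊗[ℤ] (A : Type u))), IsImmersion j ∧
      j ≫ Spec.map (CommRingCat.ofHom (Algebra.TensorProduct.includeLeft : (A : Type u) →ₐ[ℤ] (A : Type u) ⊗[ℤ] (A : Type u)).toRingHom) =
        (prod.fst : Over.mk str ⨯ Over.mk str ⟶ Over.mk str).left ∧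
      j ≫ Spec.map (CommRingCat.ofHom (Algebra.TensorProduct.includeRight : (A : Type u) →ₐ[ℤ] (A : Type u) ⊗[ℤ] (A : Type u)).toRingHom) =
        (prod.snd : Over.mk str ⨯ Over.mk str ⟶ Over.mk str).left := by
  have hs : specULiftZIsTerminal.from (Spec A) = str ≫ specULiftZIsTerminal.from S :=
    specULiftZIsTerminal.hom_ext _ _
  have sq := isPullback_square A
  rw [hs] at sq
  refine ⟨(Over.prodLeftIsoPullback (Over.mk str) (Over.mk str)).hom ≫
    pullback.mapDesc str str (specULiftZIsTerminal.from S) ≫ sq.isoPullback.inv, inferInstance, ?_, ?_⟩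
  · rw [Category.assoc, Category.assoc, sq.isoPullback_inv_fst]
    refine Eq.trans ?_ (Over.prodLeftIsoPullback_hom_fst _ _)
    congr 1
    simp [pullback.mapDesc]
  · rw [Category.assoc, Category.assoc, sq.isoPullback_inv_snd]
    refine Eq.trans ?_ (Over.prodLeftIsoPullback_hom_snd _ _)
    congr 1
    simp [pullback.mapDesc]

/-- In a locally separated space affine etale charts have finite fibres. -/
theorem finite_fibres_of_spec {X : Sp S} (hX : RepWith @IsImmersion (Limits.diag X)) {A : CommRingCat.{u}}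
    {str : Spec A ⟶ S} (φ : (yon S).obj (Over.mk str) ⟶ X) (hφ : RepWith @Etale φ) (R : Over S)
    (s t : R ⟶ Over.mk str) (sq : IsPullback ((yon S).map t) ((yon S).map s) φ φ) (x : Points X) :
    (Points.ofPt φ ⁻¹' {x}).Finite ∧ (Points.ofPt ((yon S).map t ≫ φ) ⁻¹' {x}).Finite := by
  let U : Over S := Over.mk str
  let m : R ⟶ U ⨯ U := prod.lift t s
  have sqd := AlgSpPts.isPullback_diag sq ((yon S).map prod.fst) ((yon S).map prod.snd)
    (fun c d h₁ h₂ => AlgSpPts.yon_prod_ext c d h₁ h₂) ((yon S).map m)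
    (by rw [← Functor.map_comp, prod.lift_fst]) (by rw [← Functor.map_comp, prod.lift_snd])
  have hm : IsImmersion m.left := hX.property _ _ _ sqd
  obtain ⟨j, hj, hj₁, hj₂⟩ : ∃ j : (U ⨯ U).left ⟶ Spec (CommRingCat.of ((A : Type u) ⊗[ℤ] (A : Type u))), IsImmersion j ∧
      j ≫ Spec.map (CommRingCat.ofHom (Algebra.TensorProduct.includeLeft : (A : Type u) →ₐ[ℤ] _).toRingHom) =
        (prod.fst : U ⨯ U ⟶ U).left ∧
      j ≫ Spec.map (CommRingCat.ofHom (Algebra.TensorProduct.includeRight : (A : Type u) →ₐ[ℤ] (A : Type u) ⊗[ℤ] (A : Type u)).toRingHom) =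
        (prod.snd : U ⨯ U ⟶ U).left :=
    exists_immersion_prod
  have : IsImmersion (m.left ≫ j) := inferInstance
  let d : U ⟶ R := (yon S).preimage (sq.lift (𝟙 _) (𝟙 _) rfl)
  have hd₁ : d ≫ t = 𝟙 U := (yon S).map_injective (by
    rw [Functor.map_comp, Functor.map_preimage, sq.lift_fst, CategoryTheory.Functor.map_id])
  have hd₂ : d ≫ s = 𝟙 U := (yon S).map_injective (by
    rw [Functor.map_comp, Functor.map_preimage, sq.lift_snd, CategoryTheory.Functor.map_id])
  have : Etale t.left := hφ.property _ _ _ sq.flip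
  have hd₁' : d.left ≫ t.left = 𝟙 _ := congrArg (·.left) hd₁
  have : IsOpenImmersion d.left := by
    have : Etale (d.left ≫ t.left) := by rw [hd₁']; exact inferInstanceAs (Etale (𝟙 U.left))
    have : Etale d.left := MorphismProperty.of_postcomp @Etale _ t.left ‹_› ‹_›
    have : IsSplitMono d.left := IsSplitMono.mk' ⟨t.left, hd₁'⟩
    exact IsOpenImmersion.of_flat_of_mono d.left
  have key : ∀ v, (t.left ⁻¹' {v}).Finite := by
    intro v
    refine finite_preimage_of_immersion t.left s.left (m.left ≫ j) ?_ ?_ d.left ?_ ?_ v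
    · rw [Category.assoc, hj₁, ← Over.comp_left, prod.lift_fst]
    · rw [Category.assoc, hj₂, ← Over.comp_left, prod.lift_snd]
    · have h₁ : (d.left ≫ m.left ≫ j) ≫ Spec.map (CommRingCat.ofHom
          (Algebra.TensorProduct.includeLeft : (A : Type u) →ₐ[ℤ] _).toRingHom) = 𝟙 _ := by
        rw [Category.assoc, Category.assoc, hj₁, ← Over.comp_left, prod.lift_fst, hd₁']
      have h₂ : (d.left ≫ m.left ≫ j) ≫ Spec.map (CommRingCat.ofHom
          (Algebra.TensorProduct.includeRight : (A : Type u) →ₐ[ℤ] _).toRingHom) = 𝟙 _ := by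
        rw [Category.assoc, Category.assoc, hj₂, ← Over.comp_left, prod.lift_snd]
        exact congrArg (·.left) hd₂
      obtain ⟨τ, hτ⟩ := Spec.map_surjective (d.left ≫ m.left ≫ j)
      rw [← hτ, ← Spec.map_comp, show 𝟙 U.left = Spec.map (𝟙 A) from (Spec.map_id A).symm] at h₁ h₂
      rw [← hτ]
      congr 1
      ext1
      apply Algebra.TensorProduct.ringHom_ext
      · ext x
        change τ.hom (x ⊗ₜ[ℤ] 1) = Algebra.TensorProduct.lmul' ℤ (x ⊗ₜ[ℤ] 1)
        rw [Algebra.TensorProduct.lmul'_apply_tmul, mul_one]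
        exact congrArg (fun k => k.hom x) (Spec.map_injective h₁)
      · ext x
        change τ.hom (1 ⊗ₜ[ℤ] x) = Algebra.TensorProduct.lmul' ℤ (1 ⊗ₜ[ℤ] x)
        rw [Algebra.TensorProduct.lmul'_apply_tmul, one_mul]
        exact congrArg (fun k => k.hom x) (Spec.map_injective h₂)
    · intro Ω _ r₁ r₂ he
      let W : Over S := Over.mk (r₁ ≫ R.hom)
      let ρ₁ : W ⟶ R := Over.homMk r₁
      let ρ₂ : W ⟶ R := Over.homMk r₂ (by
        rw [← Over.w t, ← Category.assoc, ← he, Category.assoc, Over.w t]; rfl)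
      have het : ρ₁ ≫ t = ρ₂ ≫ t := Over.OverMorphism.ext he
      have hw : (yon S).map (ρ₁ ≫ s) ≫ φ = (yon S).map (ρ₂ ≫ s) ≫ φ := by
        rw [Functor.map_comp, Functor.map_comp, Category.assoc, Category.assoc, ← sq.w, ← Category.assoc,
          ← Category.assoc, ← Functor.map_comp, ← Functor.map_comp, het]
      let ρ₃ : W ⟶ R := (yon S).preimage (sq.lift _ _ hw)
      refine ⟨ρ₃.left, ?_, ?_⟩
      · exact congrArg (·.left) ((yon S).map_injective (by
          rw [Functor.map_comp, Functor.map_preimage, sq.lift_fst]) : ρ₃ ≫ t = ρ₁ ≫ s)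
      · exact congrArg (·.left) ((yon S).map_injective (by
          rw [Functor.map_comp, Functor.map_preimage, sq.lift_snd]) : ρ₃ ≫ s = ρ₂ ≫ s)
  have hfib : (Points.ofPt φ ⁻¹' {x}).Finite := by
    by_cases hne : (Points.ofPt φ ⁻¹' {x}).Nonempty
    · obtain ⟨v, hv⟩ := hne
      refine ((key v).image s.left).subset fun w hw => ?_
      obtain ⟨r, hr₁, hr₂⟩ := exists_ofPt_of_eq sq
        (show Points.ofPt φ v = Points.ofPt φ w from hv.trans hw.symm)
      exact ⟨r, hr₁, hr₂⟩
    · rw [Set.not_nonempty_iff_eq_empty.1 hne]; exact Set.finite_empty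
  refine ⟨hfib, (hfib.biUnion fun v _ => key v).subset fun r hr => Set.mem_iUnion₂.2 ⟨t.left r, ?_, rfl⟩⟩
  change Points.ofPt φ (t.left r) = x
  rw [← ofPt_comp]
  exact hr

end Groth.Agent.AlgSpDec.LocSep
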