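import Groth.Agent.AlgSpDec.LqfSplitEZ
import Groth.Agent.AlgSpDec.FinsetAffine
import Groth.Agent.SrcDescent.SmoothFppf
import Groth.Agent.AlgSpDec.MonoQuot

/-!
# Etale charts of the quotient of a flat quasi-finite relation
-/

set_option backward.isDefEq.respectTransparency false
set_option backward.isDefEq.respectTransparency.types false

universe u

open CategoryTheory Limits Opposite AlgebraicGeometry AlgSp Groth.Agent.AlgSpLib Groth.Agent.AlgSpPts

namespace Groth.Agent.AlgSpDec

variable {S : Scheme.{u}} {F : Sp S}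

theorem isOpenImmersion_diagonal_of_repWith {X Y : Over S} {f : X ⟶ Y}
    (h : RepWith @IsOpenImmersion (pullback.diagonal ((yon S).map f))) :
    IsOpenImmersion (pullback.diagonal f.left) := by
  rw [diagonal_yon_map, (RepWith @IsOpenImmersion).cancel_right_of_respectsIso] at h
  have h1 : IsOpenImmersion (pullback.diagonal f).left := (repWith_yon_map_iff _ _).1 h
  show IsOpenImmersion (pullback.diagonal ((Over.forget S).map f))
  rw [diagonal_forget_map, MorphismProperty.cancel_right_of_respectsIso @IsOpenImmersion]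
  exact h1

/-- A map from a scheme is etale when it is flat lfp after a fppf cover and has open diagonal. -/
theorem repWith_etale_of_cover {W Z : Over S} {m : (yon S).obj W ⟶ F} (hm : Representable m) {q : Z ⟶ W}
    (hq : fppf q.left) (hf : RepWith @Flat ((yon S).map q ≫ m))
    (hl : RepWith @LocallyOfFinitePresentation ((yon S).map q ≫ m))
    (hd : RepWith @IsOpenImmersion (pullback.diagonal m)) : RepWith @Etale m := by
  refine ⟨hm, fun T W' g fst snd sq => ?_⟩
  obtain ⟨fst, rfl⟩ := (yon S).map_surjective fst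
  obtain ⟨⟨hq1, hq2⟩, hq3⟩ := hq
  let q' := pullback.fst fst q
  have sqq : IsPullback q'.left (pullback.snd fst q).left fst.left q.left :=
    (IsPullback.of_hasPullback fst q).map (Over.forget S)
  have : Surjective q'.left := MorphismProperty.of_isPullback (P := @Surjective) sqq.flip hq1
  have : Flat q'.left := MorphismProperty.of_isPullback (P := @Flat) sqq.flip hq2
  have : LocallyOfFinitePresentation q'.left :=
    MorphismProperty.of_isPullback (P := @LocallyOfFinitePresentation) sqq.flip hq3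
  have sqc : IsPullback ((yon S).map (pullback.snd fst q)) ((yon S).map (q' ≫ snd)) ((yon S).map q ≫ m) g := by
    rw [Functor.map_comp]
    exact ((IsPullback.of_hasPullback fst q).flip.map (yon S)).paste_vert sq
  have : Flat (q'.left ≫ snd.left) := by
    rw [← Over.comp_left]; exact hf.property _ _ _ sqc
  have : LocallyOfFinitePresentation (q'.left ≫ snd.left) := by
    rw [← Over.comp_left]; exact hl.property _ _ _ sqc
  have : Flat snd.left := Groth.Agent.SrcDescent.flat_of_fppf_comp q'.left snd.left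
  have : LocallyOfFinitePresentation snd.left :=
    Groth.Agent.SrcDescent.locallyOfFinitePresentation_of_fppf_comp q'.left snd.left
  have : IsOpenImmersion (pullback.diagonal snd.left) := isOpenImmersion_diagonal_of_repWith
    (MorphismProperty.of_isPullback (P := (RepWith (S := S) @IsOpenImmersion).diagonal) sq hd)
  show Etale snd.left
  exact Etale.of_formallyUnramified_of_flat _

/-- The pairs over a map, covered by the pairs over its composite with an fppf map. -/
theorem exists_pairs_cover {W Z M R : Over S} {m : (yon S).obj W ⟶ F} {aM bM : M ⟶ W}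
    (sqM : IsPullback ((yon S).map aM) ((yon S).map bM) m m) {q : Z ⟶ W} (hq : fppf q.left) {a b : R ⟶ Z}
    (sqR : IsPullback ((yon S).map a) ((yon S).map b) ((yon S).map q ≫ m) ((yon S).map q ≫ m)) :
    ∃ θ : R ⟶ M, fppf θ.left ∧ θ ≫ aM = a ≫ q ∧ θ ≫ bM = b ≫ q := by
  let X₁ : Over S := pullback bM q
  let f₁ : X₁ ⟶ M := pullback.fst bM q
  let b₁ : X₁ ⟶ Z := pullback.snd bM q
  have sq₁ : IsPullback ((yon S).map (f₁ ≫ aM)) ((yon S).map b₁) m ((yon S).map q ≫ m) := by
    rw [Functor.map_comp]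
    exact ((IsPullback.of_hasPullback bM q).map (yon S)).paste_horiz sqM
  let X₂ : Over S := pullback (f₁ ≫ aM) q
  let f₂ : X₂ ⟶ X₁ := pullback.fst (f₁ ≫ aM) q
  let a₂ : X₂ ⟶ Z := pullback.snd (f₁ ≫ aM) q
  have sq₂ : IsPullback ((yon S).map a₂) ((yon S).map (f₂ ≫ b₁)) ((yon S).map q ≫ m) ((yon S).map q ≫ m) := by
    have h := ((IsPullback.of_hasPullback (f₁ ≫ aM) q).map (yon S)).flip.paste_vert sq₁
    rw [← Functor.map_comp] at h
    exact h
  obtain ⟨ψ, hψa, hψb⟩ := exists_rel_lift sq₂ a b sqR.w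
  obtain ⟨ψ', hψ'a, hψ'b⟩ := exists_rel_lift sqR a₂ (f₂ ≫ b₁) sq₂.w
  have h1 : ψ ≫ ψ' = 𝟙 R := (yon S).map_injective (sqR.hom_ext
    (by rw [← Functor.map_comp, ← Functor.map_comp, Category.assoc, hψ'a, hψa, Category.id_comp])
    (by rw [← Functor.map_comp, ← Functor.map_comp, Category.assoc, hψ'b, hψb, Category.id_comp]))
  have h2 : ψ' ≫ ψ = 𝟙 X₂ := (yon S).map_injective (sq₂.hom_ext
    (by rw [← Functor.map_comp, ← Functor.map_comp, Category.assoc, hψa, hψ'a, Category.id_comp])
    (by rw [← Functor.map_comp, ← Functor.map_comp, Category.assoc, hψb, hψ'b, Category.id_comp]))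
  have : IsIso ψ.left := ⟨ψ'.left, by rw [← Over.comp_left, h1]; rfl, by rw [← Over.comp_left, h2]; rfl⟩
  have hf₁ : fppf f₁.left :=
    MorphismProperty.of_isPullback ((IsPullback.of_hasPullback bM q).map (Over.forget S)).flip hq
  have hf₂ : fppf f₂.left :=
    MorphismProperty.of_isPullback ((IsPullback.of_hasPullback (f₁ ≫ aM) q).map (Over.forget S)).flip hq
  refine ⟨ψ ≫ f₂ ≫ f₁, ?_, ?_, ?_⟩
  · show fppf (ψ.left ≫ f₂.left ≫ f₁.left)
    exact MorphismProperty.comp_mem _ _ _ (fppf_of ψ.left) (MorphismProperty.comp_mem _ _ _ hf₂ hf₁)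
  · simp only [Category.assoc]
    rw [show f₂ ≫ f₁ ≫ aM = a₂ ≫ q from pullback.condition, reassoc_of% hψa]
  · simp only [Category.assoc]
    rw [show f₁ ≫ bM = b₁ ≫ q from pullback.condition, reassoc_of% hψb]

/-- The diagonal is open when the kernel pair of an fppf cover of the source is open in the pairs. -/
theorem repWith_openImm_diagonal {W Z RZ R : Over S} {m : (yon S).obj W ⟶ F} (hm : Representable m)
    {q : Z ⟶ W} (hq : fppf q.left) {a b : RZ ⟶ Z}
    (sqR : IsPullback ((yon S).map a) ((yon S).map b) ((yon S).map q ≫ m) ((yon S).map q ≫ m))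
    {j : R ⟶ RZ} [IsOpenImmersion j.left] (sqq : IsPullback (j ≫ a) (j ≫ b) q q) :
    RepWith @IsOpenImmersion (pullback.diagonal m) := by
  let M := hm.pullback m
  let aM : M ⟶ W := hm.fst' m
  let bM : M ⟶ W := hm.snd m
  have sqM : IsPullback ((yon S).map aM) ((yon S).map bM) m m := hm.isPullback' m
  have hext : ∀ {X : Over S} {x y : X ⟶ M}, x ≫ aM = y ≫ aM → x ≫ bM = y ≫ bM → x = y := fun h1 h2 =>
    (yon S).map_injective (sqM.hom_ext (by rw [← Functor.map_comp, ← Functor.map_comp, h1])
      (by rw [← Functor.map_comp, ← Functor.map_comp, h2]))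
  obtain ⟨δ, hδa, hδb⟩ := exists_rel_lift sqM (𝟙 W) (𝟙 W) rfl
  obtain ⟨θ, hθ, hθa, hθb⟩ := exists_pairs_cover sqM hq sqR
  have : Mono δ := ⟨fun x y h => by
    have := congrArg (· ≫ aM) h
    simpa [Category.assoc, hδa] using this⟩
  have sqδ : IsPullback (j ≫ a ≫ q) j δ θ := by
    have w : (j ≫ a ≫ q) ≫ δ = j ≫ θ := hext
      (by rw [Category.assoc, hδa, Category.comp_id, Category.assoc, hθa])
      (by rw [Category.assoc, hδb, Category.comp_id, Category.assoc, hθb]
          exact (Category.assoc _ _ _).symm.trans (sqq.w.trans (Category.assoc _ _ _)))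
    have : Mono j := (Over.forget S).mono_of_mono_map (inferInstanceAs (Mono j.left))
    refine ⟨⟨w⟩, ⟨PullbackCone.isLimitAux' _ fun c => ?_⟩⟩
    have ha : c.snd ≫ a ≫ q = c.fst := by
      rw [← hθa, ← Category.assoc, ← c.condition, Category.assoc, hδa, Category.comp_id]
    have hb : c.snd ≫ b ≫ q = c.fst := by
      rw [← hθb, ← Category.assoc, ← c.condition, Category.assoc, hδb, Category.comp_id]
    have hl : (c.snd ≫ a) ≫ q = (c.snd ≫ b) ≫ q := by rw [Category.assoc, Category.assoc, ha, hb]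
    have e : sqq.lift _ _ hl ≫ j = c.snd := (yon S).map_injective (sqR.hom_ext
      (by rw [← Functor.map_comp, ← Functor.map_comp, Category.assoc, sqq.lift_fst])
      (by rw [← Functor.map_comp, ← Functor.map_comp, Category.assoc, sqq.lift_snd]))
    refine ⟨sqq.lift _ _ hl, ?_, e, fun {x} _ hx => (cancel_mono j).1 (hx.trans e.symm)⟩
    show sqq.lift _ _ hl ≫ j ≫ a ≫ q = c.fst
    rw [reassoc_of% e, ha]
  have : Sheaf.IsLocallySurjective ((yon S).map θ) :=
    isLocallySurjective_of_repWith ((repWith_yon_map_iff fppf θ).2 hθ)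
  have := isLocalAtTarget_fppf (@Flat : MorphismProperty Scheme.{u})
  have := isLocalAtTarget_fppf (@LocallyOfFinitePresentation : MorphismProperty Scheme.{u})
  have : Flat δ.left := (repWith_yon_map_iff _ δ).1 (repWith_of_locallySurjective (representable_yon_map δ) _
    (sqδ.map (yon S)) @Flat ((repWith_yon_map_iff _ _).2 inferInstance))
  have : LocallyOfFinitePresentation δ.left := (repWith_yon_map_iff _ δ).1 (repWith_of_locallySurjective
    (representable_yon_map δ) _ (sqδ.map (yon S)) @LocallyOfFinitePresentation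
      ((repWith_yon_map_iff _ _).2 inferInstance))
  have : Mono δ.left := inferInstanceAs (Mono ((Over.forget S).map δ))
  have : IsOpenImmersion δ.left := IsOpenImmersion.of_flat_of_mono _
  have e : pullback.diagonal m = (yon S).map δ ≫ sqM.isoPullback.hom := by
    apply pullback.hom_ext
    · rw [pullback.diagonal_fst, Category.assoc, sqM.isoPullback_hom_fst, ← Functor.map_comp, hδa,
        CategoryTheory.Functor.map_id]
    · rw [pullback.diagonal_snd, Category.assoc, sqM.isoPullback_hom_snd, ← Functor.map_comp, hδb,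
        CategoryTheory.Functor.map_id]
  rw [e, (RepWith @IsOpenImmersion).cancel_right_of_respectsIso]
  exact (repWith_yon_map_iff _ δ).2 inferInstance

/-- The restriction of a kernel pair to an invariant part. -/
theorem isPullback_restrict {G : Sp S} {U R U' R' : Over S} {a : (yon S).obj U ⟶ G} {t s : R ⟶ U}
    (sq : IsPullback ((yon S).map t) ((yon S).map s) a a) {ι : U' ⟶ U} [Mono ((yon S).map ι)] {k : R' ⟶ R}
    {t' s' : R' ⟶ U'} (ht : t' ≫ ι = k ≫ t) (hs : IsPullback k s' s ι) :
    IsPullback ((yon S).map t') ((yon S).map s') ((yon S).map ι ≫ a) ((yon S).map ι ≫ a) := by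
  have hs' := hs.map (yon S)
  refine ⟨⟨by
    rw [← Functor.map_comp_assoc, ← Functor.map_comp_assoc, ht, ← hs.w, Functor.map_comp, Functor.map_comp,
      Category.assoc, Category.assoc, sq.w]⟩, ⟨PullbackCone.isLimitAux' _ fun c => ?_⟩⟩
  let l := sq.lift (c.fst ≫ (yon S).map ι) (c.snd ≫ (yon S).map ι)
    (by rw [Category.assoc, Category.assoc]; exact c.condition)
  have hl : l ≫ (yon S).map s = c.snd ≫ (yon S).map ι := sq.lift_snd _ _ _
  refine ⟨hs'.lift l c.snd hl, ?_, hs'.lift_snd _ _ _, fun {x} hx₁ hx => ?_⟩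
  · show hs'.lift l c.snd hl ≫ (yon S).map t' = c.fst
    rw [← cancel_mono ((yon S).map ι), Category.assoc, ← Functor.map_comp, ht, Functor.map_comp,
      hs'.lift_fst_assoc, sq.lift_fst]
  · change x ≫ (yon S).map s' = c.snd at hx
    change x ≫ (yon S).map t' = c.fst at hx₁
    refine hs'.hom_ext ?_ (hx.trans (hs'.lift_snd _ _ _).symm)
    rw [hs'.lift_fst]
    refine sq.hom_ext ?_ ?_
    · rw [sq.lift_fst, Category.assoc, ← Functor.map_comp, ← ht, Functor.map_comp, ← Category.assoc, hx₁]
    · rw [sq.lift_snd, Category.assoc, ← Functor.map_comp, hs.w, Functor.map_comp, ← Category.assoc, hx]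

/-- A flat lfp quasi-finite chart from an affine scheme is covered by etale charts. -/
theorem exists_etale_chart_at (hd : Representable (Limits.diag F)) {V : Over S} [IsAffine V.left]
    {p : (yon S).obj V ⟶ F} (hp : Representable p) (hf : RepWith @Flat p)
    (hlfp : RepWith @LocallyOfFinitePresentation p) (hqf : RepWith @LocallyQuasiFinite p) (v : V.left) :
    ∃ (W : Over S) (m : (yon S).obj W ⟶ F), RepWith @Etale m ∧ ∃ (X : Over S) (x : X ⟶ V) (w : X ⟶ W) (ξ : X.left),
      (yon S).map x ≫ p = (yon S).map w ≫ m ∧ x.left ξ = v := by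
  obtain ⟨D, u, hu, hCov⟩ := Split.exists_cov_split hp hf hlfp hqf v
  obtain ⟨K⟩ := D.exists_pieces hp
  let i := openOverι K.RZ K.EZo
  have : IsOpenImmersion i.left := inferInstanceAs (IsOpenImmersion K.EZo.ι)
  let s := i ≫ K.bZ
  let t := i ≫ K.aZ
  obtain ⟨hfin, hflat, hfp⟩ : IsFinite s.left ∧ Flat s.left ∧ LocallyOfFinitePresentation s.left :=
    K.exists_piece_iso hCov
  have heq : IsEqvRel s t := K.isEqvRel
  obtain ⟨G, aG, sqG, hls⟩ : ∃ (G : Sp S) (a : (yon S).obj K.Z ⟶ G),
      IsPullback ((yon S).map t) ((yon S).map s) a a ∧ Sheaf.IsLocallySurjective a := by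
    refine ⟨_, quotMap s t, isPullback_quotMap heq, ?_⟩
    have : Epi (QuotSh.quotπ Scheme.fppfPrecoverage s t) := by
      unfold QuotSh.quotπ
      infer_instance
    exact (CategoryTheory.Sheaf.isLocallySurjective_iff_epi (quotMap s t)).2 (epi_comp _ _)
  obtain ⟨g, hg⟩ := exists_desc_of_kernelPair sqG K.cZ (by
    simp only [t, s, Functor.map_comp, Category.assoc]
    exact congrArg ((yon S).map i ≫ ·) K.sqZ.w)
  let z₀ : K.Z.left := K.π.left u
  obtain ⟨U, hU, hOU⟩ := exists_affineOpen_of_finite K.ζ.left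
    ((s.left.finite_preimage_singleton z₀).image t.left)
  obtain ⟨G', hGU, hGR, hGs, hGt⟩ := exists_groupoid sqG
  obtain ⟨W₀, hW₀, hzW, hinv⟩ : ∃ W₀ : K.Z.left.Opens, IsAffineOpen W₀ ∧ z₀ ∈ W₀ ∧
      s.left ⁻¹ᵁ W₀ = t.left ⁻¹ᵁ W₀ := by
    obtain ⟨GU, GR, pU, pR, gs, gt, ge, gi, gc, h1, h2, h3, h4, h5, h6, h7, h8, h9, h10, h11, h12, h13⟩ := G'
    subst hGU hGR
    obtain rfl : gs = s.left := eq_of_heq hGs
    obtain rfl : gt = t.left := eq_of_heq hGt
    let G' : Grpd.GroupoidScheme S :=
      ⟨_, _, pU, pR, _, _, ge, gi, gc, h1, h2, h3, h4, h5, h6, h7, h8, h9, h10, h11, h12, h13⟩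
    have : IsFinite G'.s := hfin
    have : Flat G'.s := hflat
    have : LocallyOfFinitePresentation G'.s := hfp
    obtain ⟨W₀, h1, h2, h3, -⟩ := GrpdLib.exists_invariant_affineOpen (G := G') z₀ U hU
      (fun r hr => hOU ⟨r, hr, rfl⟩)
    exact ⟨W₀, h1, h2, h3⟩
  let Z' := openOver K.Z W₀
  let ι := openOverι K.Z W₀
  have : IsAffine Z'.left := hW₀
  obtain ⟨s', hs', sqs⟩ := exists_res s W₀ (rfl : s.left ⁻¹ᵁ W₀ = s.left ⁻¹ᵁ W₀)
  obtain ⟨t', ht', sqt⟩ := exists_res t W₀ (hinv.symm : t.left ⁻¹ᵁ W₀ = s.left ⁻¹ᵁ W₀)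
  have hs'f : IsFinite s'.left := MorphismProperty.of_isPullback (P := @IsFinite) (sqs.map (Over.forget S)) hfin
  have hs'fl : Flat s'.left := MorphismProperty.of_isPullback (P := @Flat) (sqs.map (Over.forget S)) hflat
  have hs'fp : LocallyOfFinitePresentation s'.left :=
    MorphismProperty.of_isPullback (P := @LocallyOfFinitePresentation) (sqs.map (Over.forget S)) hfp
  let k := openOverι (openOver K.RZ K.EZo) (s.left ⁻¹ᵁ W₀)
  have : IsOpenImmersion k.left := inferInstanceAs (IsOpenImmersion (s.left ⁻¹ᵁ W₀).ι)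
  let aG' := (yon S).map ι ≫ aG
  have : Mono ι := (Over.forget S).mono_of_mono_map (inferInstanceAs (Mono W₀.ι))
  have : Mono k := (Over.forget S).mono_of_mono_map (inferInstanceAs (Mono k.left))
  have : Mono ((yon S).map ι) := (yon S).map_mono ι
  have sqG' : IsPullback ((yon S).map t') ((yon S).map s') aG' aG' := isPullback_restrict sqG ht' sqs
  obtain ⟨W, q, m₀, hWa, hq, hm₀, hqm⟩ := exists_quot_of_finite_relation sqG'
  let m := m₀ ≫ g
  have hqc : (yon S).map q ≫ m = (yon S).map (ι ≫ K.ζ) ≫ p := by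
    rw [← Category.assoc, hqm, Category.assoc, hg, (yon S).map_comp ι K.ζ, Category.assoc]
  have hqq : IsPullback t' s' q q := by
    have hw : t' ≫ q = s' ≫ q := (yon S).map_injective ((cancel_mono m₀).1 (by
      rw [Functor.map_comp, Functor.map_comp, Category.assoc, Category.assoc, hqm, sqG'.w]))
    refine IsPullback.of_map (yon S) hw ⟨⟨by rw [← Functor.map_comp, ← Functor.map_comp, hw]⟩,
      ⟨PullbackCone.isLimitAux' _ fun c => ?_⟩⟩
    refine ⟨sqG'.lift c.fst c.snd (by rw [← hqm, reassoc_of% c.condition]), sqG'.lift_fst _ _ _,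
      sqG'.lift_snd _ _ _, fun {x} h1 h2 => sqG'.hom_ext (h1.trans (sqG'.lift_fst _ _ _).symm)
        (h2.trans (sqG'.lift_snd _ _ _).symm)⟩
  have hm : Representable m := Functor.relativelyRepresentable.of_diag hd _
  have hc' : Representable ((yon S).map q ≫ m) := MorphismProperty.comp_mem _ _ _ (representable_yon_map q) hm
  let RZ' := hc'.pullback ((yon S).map q ≫ m)
  let a' : RZ' ⟶ Z' := hc'.fst' ((yon S).map q ≫ m)
  let b' : RZ' ⟶ Z' := hc'.snd ((yon S).map q ≫ m)
  have sqR' : IsPullback ((yon S).map a') ((yon S).map b') ((yon S).map q ≫ m) ((yon S).map q ≫ m) :=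
    hc'.isPullback' _
  obtain ⟨j, hja, hjb⟩ := exists_rel_lift sqR' t' s' (by
    rw [← Functor.map_comp_assoc, ← Functor.map_comp_assoc, hqq.w])
  have hj : IsOpenImmersion j.left := by
    obtain ⟨l, hla, hlb⟩ := exists_rel_lift K.sqZ (a' ≫ ι) (b' ≫ ι) (by
      have := sqR'.w
      rw [hqc, (yon S).map_comp ι K.ζ, Category.assoc, ← Category.assoc ((yon S).map a'),
        ← Category.assoc ((yon S).map b'), ← Functor.map_comp, ← Functor.map_comp] at this
      exact this)
    have : Mono l := ⟨fun x y h => (yon S).map_injective (sqR'.hom_ext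
      (by rw [← Functor.map_comp, ← Functor.map_comp, show x ≫ a' = y ≫ a' from (cancel_mono ι).1 (by
        rw [Category.assoc, Category.assoc, ← hla, reassoc_of% h])])
      (by rw [← Functor.map_comp, ← Functor.map_comp, show x ≫ b' = y ≫ b' from (cancel_mono ι).1 (by
        rw [Category.assoc, Category.assoc, ← hlb, reassoc_of% h])]))⟩
    have hjl : j ≫ l = k ≫ i := K.hom_ext_RZ
      (by rw [Category.assoc, hla, reassoc_of% hja, ht', Category.assoc])
      (by rw [Category.assoc, hlb, reassoc_of% hjb, hs', Category.assoc])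
    have hjl' : IsOpenImmersion (j.left ≫ l.left) := by
      show IsOpenImmersion (j ≫ l).left
      rw [hjl]
      exact inferInstanceAs (IsOpenImmersion (k.left ≫ i.left))
    have : Mono l.left := inferInstanceAs (Mono ((Over.forget S).map l))
    have sqi : IsPullback (𝟙 _) j.left (j.left ≫ l.left) l.left :=
      ⟨⟨by simp⟩, ⟨PullbackCone.IsLimit.mk _ (fun c => c.fst) (fun c => Category.comp_id _)
        (fun c => by rw [← cancel_mono l.left, Category.assoc]; exact c.condition)
        (fun c n h₁ _ => by simpa using h₁)⟩⟩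
    exact MorphismProperty.of_isPullback (P := @IsOpenImmersion) sqi hjl'
  have hdiag : RepWith @IsOpenImmersion (pullback.diagonal m) :=
    repWith_openImm_diagonal hm hq sqR' (j := j) (by rw [hja, hjb]; exact hqq)
  have hflq : RepWith @Flat ((yon S).map q ≫ m) := by
    rw [hqc]
    exact repWith_comp ((repWith_yon_map_iff _ _).2 (inferInstanceAs (Flat (W₀.ι ≫ K.ζ.left)))) hf
  have hlpq : RepWith @LocallyOfFinitePresentation ((yon S).map q ≫ m) := by
    rw [hqc]
    exact repWith_comp
      ((repWith_yon_map_iff _ _).2 (inferInstanceAs (LocallyOfFinitePresentation (W₀.ι ≫ K.ζ.left)))) hlfp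
  refine ⟨W, m, repWith_etale_of_cover hm hq hflq hlpq hdiag, Z', ι ≫ K.ζ, q, ⟨z₀, hzW⟩, hqc.symm, ?_⟩
  show K.ζ.left (K.π.left u) = v
  rw [← Scheme.Hom.comp_apply, ← Over.comp_left, K.πζ, hu]

end Groth.Agent.AlgSpDec
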