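import Groth.Agent.AlgSpDec.SliceQuot
import Groth.Agent.AlgSpDec.LqfPiece

/-!
# Splitting data of a flat quasi-finite chart over an etale neighbourhood

For `p : V ⟶ F` and an etale `τ : T ⟶ V`, a piece `P` of `T ×_F V` finite over `T` and containing the
canonical section gives an equivalence relation on `T` over `F`: two points are related when their
pieces agree.  It is open and closed in `T ×_F T`.
-/

set_option backward.isDefEq.respectTransparency false
set_option backward.isDefEq.respectTransparency.types false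

universe u

open CategoryTheory Limits Opposite AlgebraicGeometry AlgSp Groth.Agent.AlgSpLib Groth.Agent.AlgSpPts

namespace Groth.Agent.AlgSpDec

variable {S : Scheme.{u}} {F : Sp S} {V : Over S} {p : (yon S).obj V ⟶ F}

/-- An etale neighbourhood of a chart with a finite piece through the section. -/
structure Split (p : (yon S).obj V ⟶ F) where
  T : Over S
  τ : T ⟶ V
  Q : Over S
  sn : Q ⟶ T
  cq : Q ⟶ V
  σ : T ⟶ Q
  P : Q.left.Opens
  etaleτ : Etale τ.left
  sq : IsPullback ((yon S).map cq) ((yon S).map sn) p ((yon S).map τ ≫ p)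
  finP : IsFinite (P.ι ≫ sn.left)
  sep : IsSeparated sn.left
  flatSn : Flat sn.left
  lfpSn : LocallyOfFinitePresentation sn.left
  σsn : σ ≫ sn = 𝟙 T
  σcq : σ ≫ cq = τ
  memP : ∀ a, σ.left a ∈ P

namespace Split

variable (D : Split p)

attribute [instance] Split.etaleτ Split.sep Split.flatSn Split.lfpSn

/-- The map to the sheaf. -/
noncomputable abbrev c : (yon S).obj D.T ⟶ F := (yon S).map D.τ ≫ p

theorem hom_ext {X : Over S} {x y : X ⟶ D.Q} (h1 : x ≫ D.cq = y ≫ D.cq) (h2 : x ≫ D.sn = y ≫ D.sn) :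
    x = y :=
  (yon S).map_injective (D.sq.hom_ext (by rw [← Functor.map_comp, ← Functor.map_comp, h1])
    (by rw [← Functor.map_comp, ← Functor.map_comp, h2]))

theorem exists_lift {X : Over S} (v : X ⟶ V) (a : X ⟶ D.T)
    (h : (yon S).map v ≫ p = (yon S).map a ≫ D.c) : ∃ q : X ⟶ D.Q, q ≫ D.cq = v ∧ q ≫ D.sn = a := by
  obtain ⟨q, hq⟩ := (yon S).map_surjective (D.sq.lift _ _ h)
  exact ⟨q, (yon S).map_injective (by rw [Functor.map_comp, hq, D.sq.lift_fst]),
    (yon S).map_injective (by rw [Functor.map_comp, hq, D.sq.lift_snd])⟩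

theorem w' : (yon S).map D.cq ≫ p = (yon S).map D.sn ≫ D.c := D.sq.w

/-- The two pieces of `a` and `b` agree. -/
def Same {X : Over S} (a b : X ⟶ D.T) : Prop :=
  (yon S).map a ≫ D.c = (yon S).map b ≫ D.c ∧
    ∀ ⦃X' : Over S⦄ (φ : X' ⟶ X) (qa qb : X' ⟶ D.Q), qa ≫ D.sn = φ ≫ a → qb ≫ D.sn = φ ≫ b →
      qa ≫ D.cq = qb ≫ D.cq → ∀ ω, qa.left ω ∈ D.P ↔ qb.left ω ∈ D.P

variable {D}

theorem Same.refl {X : Over S} (a : X ⟶ D.T) : D.Same a a :=
  ⟨rfl, fun _ φ qa qb h1 h2 h3 ω => by rw [D.hom_ext h3 (h1.trans h2.symm)]⟩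

theorem Same.symm {X : Over S} {a b : X ⟶ D.T} (h : D.Same a b) : D.Same b a :=
  ⟨h.1.symm, fun _ φ qa qb h1 h2 h3 ω => (h.2 φ qb qa h2 h1 h3.symm ω).symm⟩

theorem Same.trans {X : Over S} {a b d : X ⟶ D.T} (h : D.Same a b) (h' : D.Same b d) : D.Same a d := by
  refine ⟨h.1.trans h'.1, fun X' φ qa qd h1 h2 h3 ω => ?_⟩
  obtain ⟨qb, hb1, hb2⟩ := D.exists_lift (qa ≫ D.cq) (φ ≫ b) (by
    rw [Functor.map_comp, Category.assoc, w', ← Category.assoc, ← Functor.map_comp, h1, Functor.map_comp,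
      Category.assoc, h.1, Functor.map_comp, Category.assoc])
  exact (h.2 φ qa qb h1 hb2 hb1.symm ω).trans (h'.2 φ qb qd hb2 h2 (hb1.trans h3) ω)

theorem Same.comp {X Y : Over S} {a b : X ⟶ D.T} (h : D.Same a b) (ψ : Y ⟶ X) : D.Same (ψ ≫ a) (ψ ≫ b) :=
  ⟨by rw [Functor.map_comp, Functor.map_comp, Category.assoc, Category.assoc, h.1],
    fun _ φ qa qb h1 h2 h3 ω => h.2 (φ ≫ ψ) qa qb (h1.trans (Category.assoc _ _ _).symm)
      (h2.trans (Category.assoc _ _ _).symm) h3 ω⟩

variable (D)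

/-- `T ×_F T`, as pairs `((a, v), b)`. -/
noncomputable abbrev R2 : Over S := pullback D.cq D.τ

/-- The first point of a pair. -/
noncomputable abbrev ra : D.R2 ⟶ D.T := pullback.fst D.cq D.τ ≫ D.sn

/-- The second point of a pair. -/
noncomputable abbrev rb : D.R2 ⟶ D.T := pullback.snd D.cq D.τ

theorem isPullback_R2 : IsPullback ((yon S).map D.ra) ((yon S).map D.rb) D.c D.c := by
  have h := ((IsPullback.of_hasPullback D.cq D.τ).map (yon S)).paste_horiz D.sq.flip
  rw [← Functor.map_comp] at h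
  exact h

/-- The pullback of the pieces to `T ×_F T`. -/
noncomputable abbrev Q2 : Over S := pullback D.ra D.sn

theorem exists_χ : ∃ χ : D.Q2 ⟶ D.Q, χ ≫ D.sn = pullback.fst D.ra D.sn ≫ D.rb ∧
    χ ≫ D.cq = pullback.snd D.ra D.sn ≫ D.cq ∧
    IsPullback χ (pullback.fst D.ra D.sn) D.sn D.rb := by
  let g := pullback.fst D.ra D.sn
  let pr := pullback.snd D.ra D.sn
  obtain ⟨χ, h1, h2⟩ := D.exists_lift (pr ≫ D.cq) (g ≫ D.rb) (by
    rw [Functor.map_comp, Category.assoc, w', ← Category.assoc, ← Functor.map_comp, ← pullback.condition,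
      Functor.map_comp, Category.assoc, D.isPullback_R2.w, Functor.map_comp, Category.assoc])
  refine ⟨χ, h2, h1, IsPullback.of_map (yon S) h2 ?_⟩
  have outer : IsPullback ((yon S).map χ ≫ (yon S).map D.cq) ((yon S).map g) p ((yon S).map D.rb ≫ D.c) := by
    rw [← Functor.map_comp, h1, Functor.map_comp, ← D.isPullback_R2.w]
    exact (((IsPullback.of_hasPullback D.ra D.sn).flip.map (yon S)).paste_horiz D.sq)
  exact IsPullback.of_right outer (by rw [← Functor.map_comp, ← Functor.map_comp, h2]) D.sq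

/-- The second lift over a pair. -/
noncomputable def χ : D.Q2 ⟶ D.Q := D.exists_χ.choose

theorem χ_sn : D.χ ≫ D.sn = pullback.fst D.ra D.sn ≫ D.rb := D.exists_χ.choose_spec.1

theorem χ_cq : D.χ ≫ D.cq = pullback.snd D.ra D.sn ≫ D.cq := D.exists_χ.choose_spec.2.1

theorem isPullback_χ : IsPullback D.χ (pullback.fst D.ra D.sn) D.sn D.rb := D.exists_χ.choose_spec.2.2

theorem isClosed_P : IsClosed (D.P : Set D.Q.left) := by
  have : IsFinite (D.P.ι ≫ D.sn.left) := D.finP
  have : UniversallyClosed D.P.ι := UniversallyClosed.of_comp_of_isSeparated D.P.ι D.sn.left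
  rw [← Scheme.Opens.range_ι D.P]
  exact D.P.ι.isClosedMap.isClosed_range

theorem flat_g : Flat (pullback.fst D.ra D.sn).left ∧ LocallyOfFinitePresentation (pullback.fst D.ra D.sn).left :=
  ⟨MorphismProperty.of_isPullback (P := @Flat)
      ((IsPullback.of_hasPullback D.ra D.sn).map (Over.forget S)).flip D.flatSn,
    MorphismProperty.of_isPullback (P := @LocallyOfFinitePresentation)
      ((IsPullback.of_hasPullback D.ra D.sn).map (Over.forget S)).flip D.lfpSn⟩

/-- Where the two pulled back pieces differ. -/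
def bad : Set D.Q2.left :=
  ((pullback.snd D.ra D.sn).left ⁻¹' (D.P : Set D.Q.left) ∩ (D.χ.left ⁻¹' (D.P : Set D.Q.left))ᶜ) ∪
    (D.χ.left ⁻¹' (D.P : Set D.Q.left) ∩ ((pullback.snd D.ra D.sn).left ⁻¹' (D.P : Set D.Q.left))ᶜ)

theorem isClosed_image_of_piece {X Y : Scheme.{u}} (g : X ⟶ Y) {x : X ⟶ D.Q.left} {y : Y ⟶ D.T.left}
    (h : IsPullback x g D.sn.left y) {C : Set X} (hC : IsClosed C) (hCP : C ⊆ x ⁻¹' (D.P : Set D.Q.left)) :
    IsClosed (g '' C) := by
  have hf : IsFinite ((x ⁻¹ᵁ D.P).ι ≫ g) :=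
    MorphismProperty.of_isPullback (P := @IsFinite) ((isPullback_morphismRestrict x D.P).paste_vert h) D.finP
  have h' : g '' C = ((x ⁻¹ᵁ D.P).ι ≫ g) '' ((x ⁻¹ᵁ D.P).ι ⁻¹' C) := by
    rw [Scheme.Hom.comp_base, TopCat.coe_comp, Set.image_comp, Set.image_preimage_eq_of_subset]
    rw [Scheme.Opens.range_ι]
    exact hCP
  rw [h']
  exact ((x ⁻¹ᵁ D.P).ι ≫ g).isClosedMap _ (hC.preimage (x ⁻¹ᵁ D.P).ι.continuous)

theorem isClopen_image_bad : IsClopen ((pullback.fst D.ra D.sn).left '' D.bad) := by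
  have hP : IsClopen (D.P : Set D.Q.left) := ⟨D.isClosed_P, D.P.2⟩
  have hA := hP.preimage (pullback.snd D.ra D.sn).left.continuous
  have hB := hP.preimage D.χ.left.continuous
  obtain ⟨_, _⟩ := D.flat_g
  refine ⟨?_, (pullback.fst D.ra D.sn).left.isOpenMap _ ((hA.inter hB.compl).union (hB.inter hA.compl)).2⟩
  rw [bad, Set.image_union]
  exact (D.isClosed_image_of_piece _ ((IsPullback.of_hasPullback D.ra D.sn).map (Over.forget S)).flip
      (hA.inter hB.compl).1 Set.inter_subset_left).union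
    (D.isClosed_image_of_piece _ (D.isPullback_χ.map (Over.forget S)) (hB.inter hA.compl).1 Set.inter_subset_left)

/-- The pairs with the same pieces. -/
def E : D.R2.left.Opens := ⟨((pullback.fst D.ra D.sn).left '' D.bad)ᶜ, D.isClopen_image_bad.compl.2⟩

theorem isClosed_E : IsClosed (D.E : Set D.R2.left) := D.isClopen_image_bad.compl.1

theorem mem_E_iff {r : D.R2.left} : r ∈ D.E ↔
    ∀ w, (pullback.fst D.ra D.sn).left w = r →
      ((pullback.snd D.ra D.sn).left w ∈ D.P ↔ D.χ.left w ∈ D.P) := by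
  show r ∉ _ ↔ _
  constructor
  · intro h w hw
    by_contra hne
    refine h ⟨w, ?_, hw⟩
    by_cases hp : (pullback.snd D.ra D.sn).left w ∈ D.P
    · exact Or.inl ⟨hp, fun hχ => hne ⟨fun _ => hχ, fun _ => hp⟩⟩
    · exact Or.inr ⟨by_contra fun hχ => hne ⟨fun h' => absurd h' hp, fun h' => absurd h' hχ⟩, hp⟩
  · rintro h ⟨w, hw, rfl⟩
    rcases hw with ⟨h1, h2⟩ | ⟨h1, h2⟩
    · exact h2 ((h w rfl).1 h1)
    · exact h2 ((h w rfl).2 h1)

theorem same_iff {X : Over S} (r : X ⟶ D.R2) :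
    D.Same (r ≫ D.ra) (r ≫ D.rb) ↔ ∀ x, r.left x ∈ D.E := by
  constructor
  · intro h x
    rw [mem_E_iff]
    intro w hw
    obtain ⟨ω, h1, h2⟩ := Scheme.exists_preimage_of_isPullback
      ((IsPullback.of_hasPullback r (pullback.fst D.ra D.sn)).map (Over.forget S)) x w hw.symm
    let φ := pullback.fst r (pullback.fst D.ra D.sn)
    let w' := pullback.snd r (pullback.fst D.ra D.sn)
    have hφ : φ ≫ r = w' ≫ pullback.fst D.ra D.sn := pullback.condition
    have := h.2 φ (w' ≫ pullback.snd D.ra D.sn) (w' ≫ D.χ)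
      (by rw [Category.assoc, ← pullback.condition, reassoc_of% hφ])
      (by rw [Category.assoc, D.χ_sn, reassoc_of% hφ])
      (by rw [Category.assoc, Category.assoc, D.χ_cq]) ω
    simp only [Over.forget_map] at h2
    rw [Over.comp_left, Over.comp_left, Scheme.Hom.comp_apply, Scheme.Hom.comp_apply] at this
    rwa [show w'.left ω = w from h2] at this
  · intro h
    refine ⟨by rw [(yon S).map_comp r D.ra, Category.assoc, D.isPullback_R2.w, ← Category.assoc, ← Functor.map_comp],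
      fun X' φ qa qb h1 h2 h3 ω => ?_⟩
    let w := pullback.lift (f := D.ra) (g := D.sn) (φ ≫ r) qa (by rw [h1, Category.assoc])
    have hw1 : w ≫ pullback.fst D.ra D.sn = φ ≫ r := pullback.lift_fst _ _ _
    have hw2 : w ≫ pullback.snd D.ra D.sn = qa := pullback.lift_snd _ _ _
    have hw3 : w ≫ D.χ = qb := D.hom_ext (by rw [Category.assoc, D.χ_cq, reassoc_of% hw2, h3])
      (by rw [Category.assoc, D.χ_sn, reassoc_of% hw1, h2])
    have := (D.mem_E_iff.1 (h (φ.left ω))) (w.left ω) (by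
      rw [← Scheme.Hom.comp_apply, ← Over.comp_left, hw1, Over.comp_left, Scheme.Hom.comp_apply])
    rwa [← Scheme.Hom.comp_apply, ← Over.comp_left, hw2, ← Scheme.Hom.comp_apply, ← Over.comp_left, hw3] at this

theorem exists_pair {X : Over S} {a b : X ⟶ D.T} (h : (yon S).map a ≫ D.c = (yon S).map b ≫ D.c) :
    ∃ r : X ⟶ D.R2, r ≫ D.ra = a ∧ r ≫ D.rb = b := by
  obtain ⟨r, hr⟩ := (yon S).map_surjective (D.isPullback_R2.lift _ _ h)
  exact ⟨r, (yon S).map_injective (by rw [Functor.map_comp, hr, D.isPullback_R2.lift_fst]),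
    (yon S).map_injective (by rw [Functor.map_comp, hr, D.isPullback_R2.lift_snd])⟩

theorem exists_diag : ∃ d : D.T ⟶ D.R2, d ≫ pullback.fst D.cq D.τ = D.σ ∧ d ≫ D.rb = 𝟙 D.T ∧
    ∀ a, d.left a ∈ D.E := by
  let d := pullback.lift (f := D.cq) (g := D.τ) D.σ (𝟙 D.T) (by rw [D.σcq, Category.id_comp])
  refine ⟨d, pullback.lift_fst _ _ _, pullback.lift_snd _ _ _, (D.same_iff d).1 ?_⟩
  rw [pullback.lift_snd, pullback.lift_fst_assoc, D.σsn]
  exact Same.refl _

/-- Every point of the piece is the value of the canonical map from the pairs. -/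
def Cov : Prop := ∀ z ∈ D.P, ∃ r ∈ D.E, (pullback.fst D.cq D.τ).left r = z

end Split

end Groth.Agent.AlgSpDec
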