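import Groth.Agent.AlgSpDec.LimScheme
import Groth.Agent.AlgSpDec.LimClosed
import Groth.Agent.AlgSpDec.SchImage
import Groth.Agent.AlgSpDec.LimClosure

/-!
# Minimal closed subspaces which are not schemes
-/

set_option backward.isDefEq.respectTransparency false
set_option backward.isDefEq.respectTransparency.types false

universe u

open CategoryTheory Limits Opposite AlgebraicGeometry AlgSp Groth.Agent.AlgSpLib Groth.Agent.AlgSpPts

namespace Groth.Agent.AlgSpDec

variable {S : Scheme.{u}} {X : Sp S} {U : Over S} {a : (yon S).obj U ⟶ X}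

theorem ker_le_iff_exists_factor {Z Z' : Sp S} {i : Z ⟶ X}
    {i' : Z' ⟶ X} (hi' : RepWith @IsClosedImmersion i') (ha : RepWith @Etale a) (has : RepWith @Surjective a)
    (hi : RepWith @IsClosedImmersion i) :
    (hi'.rep.snd a).left.ker ≤ (hi.rep.snd a).left.ker ↔ ∃ g, g ≫ i' = i := by
  have : IsClosedImmersion (hi'.rep.snd a).left := hi'.property_snd a
  have sq := hi.rep.isPullback a
  have sq' := hi'.rep.isPullback a
  have := mono_of_closedImmersion hi'
  rw [← factor_iff_ker_le, factor_iff_of_isPullback sq']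
  constructor
  · intro h
    refine exists_factor_of_cover (repWith_of_isPullback sq.flip ha) (repWith_of_isPullback sq.flip has) i ?_
    obtain ⟨g, hg⟩ := h
    exact ⟨g, hg.trans sq.w.symm⟩
  · rintro ⟨g, hg⟩
    exact ⟨hi.rep.fst a ≫ g, by rw [Category.assoc, hg, sq.w]⟩

theorem exists_minimal_nonscheme [QuasiSeparatedSpace ↥S] (hX : IsAlgSpace X) (hXqc : IsQuasiCompactSp X)
    (hXqs : IsQuasiSeparatedSp X) (hns : ¬ X.obj.IsRepresentable) :
    ∃ (Z : Space S) (i : Z.obj ⟶ X), RepWith @IsClosedImmersion i ∧ ¬ Z.obj.obj.IsRepresentable ∧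
      ∀ (Z' : Space S) (i' : Z'.obj ⟶ Z.obj), RepWith @IsClosedImmersion i' → ¬ IsIso i' →
        Z'.obj.obj.IsRepresentable := by
  obtain ⟨U, a, ha, has⟩ := hX.atlas
  let P : Set U.left.IdealSheafData := {J | ∃ (Z : Sp S) (i : Z ⟶ X) (hi : RepWith @IsClosedImmersion i),
    ¬ Z.obj.IsRepresentable ∧ (hi.rep.snd a).left.ker = J}
  have h1 : RepWith @IsClosedImmersion (𝟙 X) := repWith_of_isIso _ _
  have hz := zorn_le_nonempty₀ P (fun C hC hch J₀ hJ₀ => by
    choose Zc ic hic hnr hker using fun J : C => hC J.2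
    let J' := (↥C)ᵒᵈ
    have hdir : IsCodirectedOrder J' := ⟨fun x y => by
      rcases hch.total (OrderDual.ofDual x).2 (OrderDual.ofDual y).2 with h | h
      · exact ⟨y, (show (OrderDual.ofDual x : ↥C) ≤ OrderDual.ofDual y from h), le_rfl⟩
      · exact ⟨x, le_rfl, (show (OrderDual.ofDual y : ↥C) ≤ OrderDual.ofDual x from h)⟩⟩
    have : Nonempty J' := ⟨OrderDual.toDual ⟨J₀, hJ₀⟩⟩
    let z : ∀ j : J', Zc (OrderDual.ofDual j) ⟶ X := fun j => ic _
    have hzc : ∀ j, RepWith @IsClosedImmersion (z j) := fun j => hic _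
    have hzm : ∀ j, Mono (z j) := fun j => mono_of_closedImmersion (hzc j)
    have hfac : ∀ {j k : J'} (_ : j ⟶ k), ∃ g, g ≫ z k = z j := fun {j k} f =>
      (ker_le_iff_exists_factor (hic _) ha has (hic _)).1 (by
        rw [hker, hker]; exact (leOfHom f : OrderDual.ofDual k ≤ OrderDual.ofDual j))
    choose m hm using @hfac
    let D : J' ⥤ Sp S :=
      { obj := fun j => Zc (OrderDual.ofDual j)
        map := fun f => m f
        map_id := fun j => (cancel_mono (z j)).1 (by rw [hm, Category.id_comp])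
        map_comp := fun {i j k} f g => (cancel_mono (z k)).1 (by rw [hm, Category.assoc, hm, hm]) }
    have hDA : ∀ j, IsAlgSpace (D.obj j) := fun j => isAlgSpace_of_representable hX (z j) (hzc j).rep
    have haff : ∀ {F : Sp S} {f : F ⟶ X}, RepWith @IsClosedImmersion f → RepWith @IsAffineHom f := fun h =>
      repWith_mono (fun _ _ e (_ : IsClosedImmersion e) => inferInstanceAs (IsAffineHom e)) _ h
    have hDa : ∀ (j k : J') (f : j ⟶ k), IsAffineMor (D.map f) := fun j k f =>
      isAffineMor_cancel_mono _ (z k) (by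
        rw [show D.map f ≫ z k = z j from hm f]; exact isAffineMor_of_repWith le_rfl (haff (hzc j)))
    let cX : Cone ((Functor.const J').obj X) := constCone J' X
    have := IsCofiltered.isConnected J'
    let G : limit D ⟶ X := limit.π D (OrderDual.toDual ⟨J₀, hJ₀⟩) ≫ z _
    have hGall : ∀ j, G = limit.π D j ≫ z j := fun j => by
      let τ₀ : D ⟶ (Functor.const J').obj X :=
        { app := z, naturality := fun j k f => (hm f).trans (Category.comp_id _).symm }
      exact const_proj_eq τ₀ (limit.cone D) _ j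
    have hG : RepWith @IsClosedImmersion G := by
      let τ₀ : D ⟶ (Functor.const J').obj X :=
        { app := z, naturality := fun j k f => (hm f).trans (Category.comp_id _).symm }
      exact repWith_closedImmersion_limMap D _ τ₀ hzc (limit.cone D) (limit.isLimit D) cX
        (isLimitConstCone J' X) G (fun j => (Category.comp_id G).trans (hGall j))
    have hnL : ¬ (limit D).obj.IsRepresentable := fun hr => by
      obtain ⟨T, ⟨r⟩⟩ := hr.has_representation
      obtain ⟨j, hj⟩ := exists_isRepresentable_stage D hDA hDa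
        (fun j => isQuasiCompactSp_of_affine hX _ (haff (hzc j)) hXqc)
        (fun j => isQuasiSeparatedSp_of_affine _ (haff (hzc j)) hXqs) (limit.cone D) (limit.isLimit D)
        (AlgSp.isoOfRepresentableBy r)
      exact hnr _ hj
    refine ⟨_, ⟨_, G, hG, hnL, rfl⟩, fun J hJ => ?_⟩
    refine (hker ⟨J, hJ⟩).symm.le.trans ((ker_le_iff_exists_factor (hic ⟨J, hJ⟩) ha has hG).2 ?_)
    exact ⟨limit.π D (OrderDual.toDual ⟨J, hJ⟩), (hGall _).symm⟩)
    (h1.rep.snd a).left.ker ⟨X, 𝟙 X, h1, hns, rfl⟩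
  obtain ⟨M, -, ⟨Z, i, hi, hZ, rfl⟩, hmax⟩ := hz
  refine ⟨⟨Z, isAlgSpace_of_representable hX i hi.rep⟩, i, hi, hZ, fun Z' i' hi' hniso => ?_⟩
  by_contra hn
  have hc : RepWith @IsClosedImmersion (i' ≫ i) := repWith_comp hi' hi
  have hle : (hi.rep.snd a).left.ker ≤ (hc.rep.snd a).left.ker :=
    (ker_le_iff_exists_factor hi ha has hc).2 ⟨i', rfl⟩
  obtain ⟨g, hg⟩ := (ker_le_iff_exists_factor hc ha has hi).1 (hmax ⟨_, _, hc, hn, rfl⟩ hle)
  refine hniso ?_
  have := mono_of_closedImmersion hi
  have := mono_of_closedImmersion hi'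
  have h2 : g ≫ i' = 𝟙 Z := (cancel_mono i).1 (by rw [Category.assoc, hg, Category.id_comp])
  exact ⟨g, (cancel_mono i').1 (by rw [Category.assoc, h2, Category.comp_id, Category.id_comp]), h2⟩

end Groth.Agent.AlgSpDec
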