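import Groth.Agent.AlgSpDec.MonoRep
import Groth.Agent.AlgSpPts.Field
import Mathlib.AlgebraicGeometry.Morphisms.FiniteType
import Mathlib.AlgebraicGeometry.Noetherian
import Mathlib.RingTheory.Ideal.Quotient.Nilpotent
import Mathlib.AlgebraicGeometry.Morphisms.ClosedImmersion

/-!
# Monomorphisms to discrete locally Noetherian schemes are locally of finite type
-/

set_option backward.isDefEq.respectTransparency false
set_option backward.isDefEq.respectTransparency.types false

universe u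

open CategoryTheory Limits AlgebraicGeometry Groth.Agent.AlgSpLib Groth.Agent.AlgSpPts

namespace Groth.Agent.AlgSpDec

/-- An epimorphism out of a ring with nilpotent maximal ideal into a non-zero ring is surjective. -/
theorem surjective_of_mono_of_nilpotent {A R : CommRingCat.{u}} (φ : A ⟶ R) [Mono (Spec.map φ)] (m : Ideal A)
    [m.IsMaximal] (hm : IsNilpotent m) [Nontrivial R] : Function.Surjective φ.hom := by
  let _ : Algebra A R := φ.hom.toAlgebra
  let _ : Field (A ⧸ m) := Ideal.Quotient.field m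
  let J : Ideal R := m.map φ.hom
  have hJ : IsNilpotent J := by
    obtain ⟨n, hn⟩ := hm
    exact ⟨n, by rw [← Ideal.map_pow, hn, Ideal.zero_eq_bot, Ideal.map_bot, Ideal.zero_eq_bot]⟩
  have hJt : J ≠ ⊤ := fun h => by
    obtain ⟨n, hn⟩ := hJ
    rw [h, Ideal.top_pow] at hn
    exact top_ne_bot hn
  have : Nontrivial (R ⧸ J) := Ideal.Quotient.nontrivial_iff.2 hJt
  let ψ : CommRingCat.of (A ⧸ m) ⟶ CommRingCat.of (R ⧸ J) :=
    CommRingCat.ofHom (Ideal.quotientMap J φ.hom Ideal.le_comap_map)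
  let qA : A ⟶ CommRingCat.of (A ⧸ m) := CommRingCat.ofHom (Ideal.Quotient.mk m)
  let qR : R ⟶ CommRingCat.of (R ⧸ J) := CommRingCat.ofHom (Ideal.Quotient.mk J)
  have hsq : qA ≫ ψ = φ ≫ qR := by ext a; rfl
  have : IsClosedImmersion (Spec.map qR) := IsClosedImmersion.spec_of_surjective qR (Ideal.Quotient.mk_surjective (I := J))
  have : Mono (Spec.map ψ ≫ Spec.map qA) := by rw [← Spec.map_comp, hsq, Spec.map_comp]; exact mono_comp _ _
  have : Mono (Spec.map ψ) := mono_of_mono _ (Spec.map qA)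
  have : Nonempty ↥(Spec (CommRingCat.of (R ⧸ J))) := inferInstanceAs (Nonempty (PrimeSpectrum (R ⧸ J)))
  have : IsIso (Spec.map ψ) := isIso_of_mono_to_field (K := A ⧸ m) (Spec.map ψ)
  have hψ := (isIso_SpecMap_iff.1 this).2
  have hmod : ∀ r : R, ∃ a : A, r - φ.hom a ∈ J := fun r => by
    obtain ⟨b, hb⟩ := hψ (Ideal.Quotient.mk J r)
    obtain ⟨a, rfl⟩ := Ideal.Quotient.mk_surjective b
    exact ⟨a, (Ideal.Quotient.eq).1 (hb.symm.trans rfl)⟩
  obtain ⟨n, hn⟩ := hm
  have key : ∀ (i : ℕ) (r : R), ∃ a : A, r - φ.hom a ∈ (m ^ i).map φ.hom := by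
    intro i
    induction i with
    | zero => exact fun r => ⟨0, by simp [Ideal.map_top]⟩
    | succ i ih =>
      have hs : ∀ y ∈ (m ^ i).map φ.hom, ∃ a : A, y - φ.hom a ∈ (m ^ (i + 1)).map φ.hom := by
        intro y hy
        refine Submodule.span_induction ?_ ⟨0, by simp⟩ ?_ ?_ hy
        · rintro _ ⟨x, hx, rfl⟩
          exact ⟨x, by simp⟩
        · rintro y z - - ⟨a, ha⟩ ⟨b, hb⟩
          exact ⟨a + b, by rw [map_add, add_sub_add_comm]; exact Ideal.add_mem _ ha hb⟩
        · rintro c y hyy ⟨a, ha⟩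
          obtain ⟨c', hc'⟩ := hmod c
          refine ⟨c' * a, ?_⟩
          rw [smul_eq_mul, map_mul, show c * y - φ.hom c' * φ.hom a = (c - φ.hom c') * y + φ.hom c' * (y - φ.hom a) by ring]
          refine Ideal.add_mem _ ?_ (Ideal.mul_mem_left _ _ ha)
          rw [pow_succ', Ideal.map_mul]
          exact Ideal.mul_mem_mul hc' hyy
      intro r
      obtain ⟨a, ha⟩ := ih r
      obtain ⟨b, hb⟩ := hs _ ha
      exact ⟨a + b, by rw [map_add, ← sub_sub]; exact hb⟩
  intro r
  obtain ⟨a, ha⟩ := key n r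
  rw [hn, Ideal.zero_eq_bot, Ideal.map_bot, Submodule.mem_bot, sub_eq_zero] at ha
  exact ⟨a, ha.symm⟩

/-- A monomorphism into a discrete locally Noetherian scheme is locally of finite type. -/
theorem locallyOfFiniteType_of_mono_discrete {W V : Scheme.{u}} (g : W ⟶ V) [Mono g] [DiscreteTopology ↥V]
    [IsLocallyNoetherian V] : LocallyOfFiniteType g := by
  have : DiscreteTopology ↥W := DiscreteTopology.of_continuous_injective g.continuous g.injective
  have key : ∀ w : ↥W, ∃ O : W.Opens, w ∈ O ∧ LocallyOfFiniteType (O.ι ≫ g) := by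
    intro w
    obtain ⟨O, hO, hwO, hO'⟩ := exists_isAffineOpen_mem_and_subset (U := (⟨{w}, isOpen_discrete _⟩ : W.Opens)) (x := w) rfl
    obtain ⟨Q, hQ, hwQ, hQ'⟩ := exists_isAffineOpen_mem_and_subset (U := (⟨{g w}, isOpen_discrete _⟩ : V.Opens)) (x := g w) rfl
    refine ⟨O, hwO, ?_⟩
    have : IsAffine O.toScheme := hO
    have : IsAffine Q.toScheme := hQ
    let l : O.toScheme ⟶ Q.toScheme := IsOpenImmersion.lift Q.ι (O.ι ≫ g) (by
      rw [Scheme.Opens.range_ι]
      rintro _ ⟨o, rfl⟩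
      have h : O.ι o = w := hO' o.2
      rw [Scheme.Hom.comp_apply, h]; exact hwQ)
    have hl : l ≫ Q.ι = O.ι ≫ g := IsOpenImmersion.lift_fac _ _ _
    rw [← hl]
    have : Mono (O.ι ≫ g) := mono_comp _ _
    have : Mono (l ≫ Q.ι) := hl ▸ this
    have : Mono l := mono_of_mono _ Q.ι
    suffices IsClosedImmersion l from inferInstance
    have e : Spec.map l.appTop = O.toScheme.isoSpec.inv ≫ l ≫ Q.toScheme.isoSpec.hom := by
      rw [← Scheme.isoSpec_hom_naturality, Iso.inv_hom_id_assoc]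
    have : Mono (Spec.map l.appTop) := by rw [e]; infer_instance
    have : Nonempty ↥O.toScheme := ⟨⟨w, hwO⟩⟩
    have : Subsingleton ↥Q.toScheme := ⟨fun a b => Subtype.ext ((hQ' a.2).trans (hQ' b.2).symm)⟩
    have : IsNoetherianRing Γ(Q.toScheme, ⊤) := IsLocallyNoetherian.component_noetherian ⟨⊤, isAffineOpen_top _⟩
    have : Subsingleton (PrimeSpectrum Γ(Q.toScheme, ⊤)) :=
      Q.toScheme.isoSpec.inv.homeomorph.injective.subsingleton
    have : Nonempty ↥(Spec Γ(O.toScheme, ⊤)) := ⟨O.toScheme.isoSpec.hom ⟨w, hwO⟩⟩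
    have : Nontrivial Γ(O.toScheme, ⊤) := PrimeSpectrum.nonempty_iff_nontrivial.1 this
    obtain ⟨P⟩ : Nonempty (PrimeSpectrum Γ(Q.toScheme, ⊤)) := ⟨Spec.map l.appTop (Classical.arbitrary _)⟩
    have : P.asIdeal.IsMaximal := by
      obtain ⟨M, hM, hle⟩ := Ideal.exists_le_maximal P.asIdeal P.isPrime.ne_top
      have : (⟨M, hM.isPrime⟩ : PrimeSpectrum _) = P := Subsingleton.elim _ _
      rw [← this]; exact hM
    have hnil : IsNilpotent P.asIdeal := by
      have hrad : P.asIdeal ≤ nilradical Γ(Q.toScheme, ⊤) := by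
        rw [nilradical_eq_sInf]
        exact le_sInf fun J hJ => le_of_eq (congrArg PrimeSpectrum.asIdeal (Subsingleton.elim P ⟨J, hJ⟩))
      obtain ⟨n, hn⟩ := IsNoetherianRing.isNilpotent_nilradical Γ(Q.toScheme, ⊤)
      exact ⟨n, bot_unique ((Ideal.pow_right_mono hrad n).trans hn.le)⟩
    have : IsClosedImmersion (Spec.map l.appTop) :=
      IsClosedImmersion.spec_of_surjective _ (surjective_of_mono_of_nilpotent _ P.asIdeal hnil)
    rw [show l = O.toScheme.isoSpec.hom ≫ Spec.map l.appTop ≫ Q.toScheme.isoSpec.inv by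
      rw [e]; simp]
    infer_instance
  choose O hO hlft using key
  exact (IsZariskiLocalAtSource.iff_of_iSup_eq_top (P := @LocallyOfFiniteType) O
    (top_unique fun w _ => TopologicalSpace.Opens.mem_iSup.2 ⟨w, hO w⟩)).2 hlft

end Groth.Agent.AlgSpDec
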