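import Groth.Agent.AlgSpDec.MonoPtsDescend
import Groth.Agent.AlgSpDec.Closed
import Groth.Agent.AlgSpPts.Sep
import Groth.Agent.AlgSpLib.LocP
import Mathlib.AlgebraicGeometry.Morphisms.Preimmersion

/-!
# Fibres over points with monomorphic representatives
-/

set_option backward.isDefEq.respectTransparency false
set_option backward.isDefEq.respectTransparency.types false

open CategoryTheory Limits Opposite AlgebraicGeometry MorphismProperty AlgSp Groth.Agent.AlgSpLib
  Groth.Agent.AlgSpPts Topology TopologicalSpace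

namespace Groth.Agent.AlgSpDec

universe u

variable {S : Scheme.{u}} {X Y Z W : Sp S}

theorem discreteTopology_over_field' {V : Scheme.{u}} {K : Type u} [Field K]
    (v : V ⟶ Spec (CommRingCat.of K)) [LocallyQuasiFinite v] : DiscreteTopology ↥V := by
  have h1 := v.isDiscrete_preimage_singleton (IsLocalRing.closedPoint K)
  rw [show v ⁻¹' {IsLocalRing.closedPoint K} = Set.univ from
    Set.eq_univ_of_forall fun x => Subsingleton.elim (α := PrimeSpectrum K) _ _] at h1
  exact isDiscrete_univ_iff.1 h1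

/-- Quasi-finite at a point, over a point with monomorphic representative. -/
theorem finite_fibre_of_mono (hX : IsAlgSpace X) (hY : IsAlgSpace Y) {f : X ⟶ Y} {g : Z ⟶ Y} {p : W ⟶ X}
    {q : W ⟶ Z} (hW : IsPullback p q f g) (x : Points X) (z : Points Z) (hxz : Points.map f x = Points.map g z)
    (hy : ∃ r : FieldPt Y, Points.mk r = Points.map g z ∧ Mono r.toHom)
    (hg : HasAtMor (fun U _ h u => ∃ W : U.Opens, u ∈ W ∧ LocallyQuasiFinite (W.ι ≫ h) ∧
      LocallyOfFiniteType (W.ι ≫ h)) g z) :
    {w : Points W | Points.map p w = x ∧ Points.map q w = z}.Finite := by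
  obtain ⟨U, V, a, b, h, u, ha, hb, hw, hu, O, huO, hqf, -⟩ := hg
  obtain ⟨r, hr, hm⟩ := hy
  obtain ⟨ξ, rfl⟩ := Points.mk_surjective x
  let ι : Over.mk (O.ι ≫ U.hom) ⟶ U := Over.homMk O.ι rfl
  have : LocallyQuasiFinite (ι ≫ h).left := hqf
  let a' := (yon S).map ι ≫ a
  let u₀ : ↥(Over.mk (O.ι ≫ U.hom)).left := (⟨u, huO⟩ : O.toScheme)
  have hu₀ : Points.ofPt a' u₀ = z := by rw [ofPt_comp]; exact hu
  have hw' : a' ≫ g = (yon S).map (ι ≫ h) ≫ b := by rw [Category.assoc, hw, Functor.map_comp, Category.assoc]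
  obtain ⟨c, hc, -⟩ := existsUnique_factor r.toHom (representable_from_yon' hY r.toHom) (ξ.map f).toHom
    (by rw [← mk_eq_ofPt, ← mk_eq_ofPt, hr, ← hxz]; rfl)
  have hc' : (yon S).map c ≫ r.toHom = ξ.toHom ≫ f := hc.trans (FieldPt.toHom_map _ _)
  have sqV := hb.rep.isPullback' r.toHom
  have : Etale (hb.rep.snd r.toHom).left := hb.property_snd r.toHom
  let hh := representable_yon_map (S := S) (ι ≫ h)
  let vV := hb.rep.fst' r.toHom
  have sqP := hh.isPullback' ((yon S).map vV)
  let fP := hh.fst' ((yon S).map vV)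
  have : LocallyQuasiFinite (hh.snd ((yon S).map vV)).left :=
    ((repWith_yon_map_iff @LocallyQuasiFinite (ι ≫ h)).2 ‹_›).property_snd ((yon S).map vV)
  let gP : _ ⟶ r.pt := hh.snd ((yon S).map vV) ≫ hb.rep.snd r.toHom
  have sqP' : IsPullback ((yon S).map fP) ((yon S).map gP) (a' ≫ g) r.toHom := by
    rw [hw', Functor.map_comp _ (hh.snd _) (hb.rep.snd _)]
    exact (sqP.flip.paste_horiz sqV.flip).flip
  have : Mono ((yon S).map fP) := sqP'.mono_fst_of_mono
  have : Mono fP := (yon S).mono_of_mono_map this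
  have : LocallyQuasiFinite gP.left := by
    change LocallyQuasiFinite ((hh.snd ((yon S).map vV)).left ≫ (hb.rep.snd r.toHom).left)
    infer_instance
  let hgP := representable_yon_map (S := S) gP
  have sqQ := hgP.isPullback' ((yon S).map c)
  let fQ := hgP.fst' ((yon S).map c)
  let sQ := hgP.snd ((yon S).map c)
  have sqQ' : IsPullback ((yon S).map fQ ≫ (yon S).map fP) ((yon S).map sQ) (a' ≫ g) (ξ.toHom ≫ f) := by
    rw [← hc']
    exact (sqQ.flip.paste_vert sqP'.flip).flip
  let Θ : (yon S).obj (hgP.pullback ((yon S).map c)) ⟶ W :=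
    hW.lift ((yon S).map sQ ≫ ξ.toHom) (((yon S).map fQ ≫ (yon S).map fP) ≫ a')
      (by rw [Category.assoc, Category.assoc, sqQ'.w])
  have hfin : {t | fP.left (fQ.left t) = u₀}.Finite := by
    by_cases he : ∃ pk, fP.left pk = u₀
    · obtain ⟨pk, hpk⟩ := he
      have : IsAffine r.pt.left := inferInstanceAs (IsAffine (Spec (CommRingCat.of r.K)))
      refine (finite_pullback_over (isPullback_of_yon sqQ).flip (IsLocalRing.closedPoint ξ.K) pk).subset
        fun t ht => ⟨Subsingleton.elim (α := PrimeSpectrum ξ.K) _ _, fP.left.injective (ht.trans hpk.symm)⟩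
    · exact Set.Finite.subset Set.finite_empty fun t ht => he ⟨_, ht⟩
  refine (hfin.image (Points.ofPt Θ)).subset fun w ⟨hwx, hwz⟩ => ?_
  -- the point of the iterated fibre product over `w`
  obtain ⟨w₂, hw₂, hw₂'⟩ := exists_point_of_isPullback (IsPullback.of_hasPullback q a')
    (x := w) (y := Points.ofScheme _ u₀) (by rw [hwz, ← Points.ofPt_eq_map_ofScheme, hu₀])
  obtain ⟨w₃, hw₃, -⟩ := exists_point_of_isPullback (IsPullback.of_hasPullback (pullback.fst q a' ≫ p) ξ.toHom)
    (x := w₂) (y := Points.ofScheme _ (IsLocalRing.closedPoint ξ.K))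
    (by rw [Points.map_comp, hw₂, hwx, ← Points.ofPt_eq_map_ofScheme, Points.ofPt_toHom])
  have sq₃ : IsPullback (pullback.fst (pullback.fst q a' ≫ p) ξ.toHom ≫ pullback.snd q a')
      (pullback.snd (pullback.fst q a' ≫ p) ξ.toHom) (a' ≫ g) (ξ.toHom ≫ f) := by
    have s₁ : IsPullback (pullback.fst q a' ≫ p) (pullback.snd q a') f (a' ≫ g) :=
      ((IsPullback.of_hasPullback q a').flip.paste_vert hW.flip).flip
    exact (IsPullback.of_hasPullback (pullback.fst q a' ≫ p) ξ.toHom).paste_horiz s₁.flip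
  let e := sq₃.isoIsPullback _ _ sqQ'
  obtain ⟨t, ht⟩ : ∃ t, Points.ofScheme _ t = Points.map e.hom w₃ :=
    ⟨Points.toScheme _ _, Points.ofScheme_toScheme _ _⟩
  refine ⟨t, ?_, ?_⟩
  · change fP.left (fQ.left t) = u₀
    have h1 : Points.map ((yon S).map fQ ≫ (yon S).map fP) (Points.ofScheme _ t) = Points.ofScheme _ u₀ := by
      rw [ht, ← Points.map_comp, sq₃.isoIsPullback_hom_fst, Points.map_comp, hw₃, hw₂']
    rw [← Points.ofPt_eq_map_ofScheme, ← Functor.map_comp] at h1
    have h2 := congrArg (Points.toScheme _) (((congrArg (Points.ofPt · t) (Category.comp_id _).symm).trans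
      (ofPt_comp (fQ ≫ fP) (𝟙 _) t)).symm.trans h1)
    change Points.toScheme _ (Points.ofScheme _ ((fQ ≫ fP).left t)) = _ at h2
    rw [Points.toScheme_ofScheme, Points.toScheme_ofScheme] at h2
    exact (Scheme.Hom.comp_apply _ _ _).symm.trans h2
  · rw [Points.ofPt_eq_map_ofScheme, ht, ← Points.map_comp]
    have : e.hom ≫ Θ = pullback.fst (pullback.fst q a' ≫ p) ξ.toHom ≫ pullback.fst q a' := by
      refine hW.hom_ext ?_ ?_
      · rw [Category.assoc, hW.lift_fst, ← Category.assoc, sq₃.isoIsPullback_hom_snd, Category.assoc]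
        exact pullback.condition.symm
      · rw [Category.assoc, hW.lift_snd, ← Category.assoc, sq₃.isoIsPullback_hom_fst, Category.assoc,
          Category.assoc, pullback.condition]
    rw [this, Points.map_comp, hw₃, hw₂]

/-- A quasi-compact space of finite type over a field has finitely many isolated points. -/
theorem finite_isolated {P : Sp S} (hP : IsAlgSpace P) (hc : IsQuasiCompactSp P) {K : Type u} [Field K]
    {str : Spec (CommRingCat.of K) ⟶ S} {π : P ⟶ (yon S).obj (Over.mk str)}
    (hπ : LocP @LocallyOfFiniteType π) : {w : Points P | IsOpen ({w} : Set (Points P))}.Finite := by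
  obtain ⟨V, b, hb, hbs, hV⟩ := (isQuasiCompactSp_iff hP).2 ((isQuasiCompactSp_iff hP).1 hc)
  obtain ⟨v, hv⟩ := (yon S).map_surjective (b ≫ π)
  have : LocallyOfFiniteType v.left := hπ b (𝟙 _) v hb (repWith_id _ _) (by rw [Category.comp_id, hv])
  have : IsLocallyNoetherian (Over.mk str).left :=
    inferInstanceAs (IsLocallyNoetherian (Spec (CommRingCat.of K)))
  have : IsLocallyNoetherian V.left := LocallyOfFiniteType.isLocallyNoetherian v.left
  have : IsNoetherian V.left := {}
  let I := {w : Points P | IsOpen ({w} : Set (Points P))}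
  have hI : IsCompact I := by
    rw [← Set.image_preimage_eq I (surjective_ofPt hbs)]
    exact (NoetherianSpace.isCompact _).image (Points.continuous_ofPt b)
  obtain ⟨t, ht⟩ := hI.elim_finite_subcover (fun w : I => ({w.1} : Set (Points P))) (fun w => w.2)
    fun w hw => Set.mem_iUnion.2 ⟨⟨w, hw⟩, rfl⟩
  exact (t.finite_toSet.biUnion fun w _ => Set.finite_singleton w.1).subset ht

/-- Quasi-finite at a point, finite type: finitely many points over a pair. -/
theorem finite_fibre_of_finiteType (hX : IsAlgSpace X) (hY : IsAlgSpace Y) {f : X ⟶ Y}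
    {g : Z ⟶ Y} {p : W ⟶ X}
    {q : W ⟶ Z} (hW : IsPullback p q f g) (x : Points X) (z : Points Z)
    (hft : IsFiniteTypeMor f)
    (hf : HasAtMor (fun U _ h u => ∃ W : U.Opens, u ∈ W ∧ LocallyQuasiFinite (W.ι ≫ h) ∧
      LocallyOfFiniteType (W.ι ≫ h)) f x) :
    {w : Points W | Points.map p w = x ∧ Points.map q w = z}.Finite := by
  obtain ⟨U, V, a, b, h, u, ha, hb, hw, hu, O, huO, hqf, -⟩ := hf
  obtain ⟨ζ, rfl⟩ := Points.mk_surjective z
  let ι : Over.mk (O.ι ≫ U.hom) ⟶ U := Over.homMk O.ι rfl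
  have : LocallyQuasiFinite (ι ≫ h).left := hqf
  let a' := (yon S).map ι ≫ a
  have ha' : RepWith @Etale a' := repWith_comp ((repWith_yon_map_iff _ ι).2 (by
    change Etale O.ι
    infer_instance)) ha
  let u₀ : ↥(Over.mk (O.ι ≫ U.hom)).left := (⟨u, huO⟩ : O.toScheme)
  have hu₀ : Points.ofPt a' u₀ = x := by rw [ofPt_comp]; exact hu
  have hw' : a' ≫ f = (yon S).map (ι ≫ h) ≫ b := by rw [Category.assoc, hw, Functor.map_comp, Category.assoc]
  let Wz := pullback q ζ.toHom
  have sqW : IsPullback (pullback.fst q ζ.toHom ≫ p) (pullback.snd q ζ.toHom) f (ζ.toHom ≫ g) :=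
    ((IsPullback.of_hasPullback q ζ.toHom).flip.paste_vert hW.flip).flip
  have hWz : IsAlgSpace Wz := isAlgSpace_of_isPullback sqW hX (IsAlgSpace.yon_obj _) hY
  have hqc : IsQuasiCompactSp Wz := hft.2 (IsAlgSpace.yon_obj _)
    ((isQuasiCompactSp_yon_iff _).2 (inferInstanceAs (CompactSpace ↥(Spec (CommRingCat.of ζ.K))))) _ _ _ sqW
  have hlft : LocP @LocallyOfFiniteType (pullback.snd q ζ.toHom) :=
    locP_of_isPullback sqW hX hY (IsAlgSpace.yon_obj _) hft.1
  refine ((finite_isolated hWz hqc hlft).image (Points.map (pullback.fst q ζ.toHom))).subset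
    fun w ⟨hwx, hwz⟩ => ?_
  obtain ⟨w₁, hw₁, -⟩ := exists_point_of_isPullback (IsPullback.of_hasPullback q ζ.toHom)
    (x := w) (y := Points.ofScheme _ (IsLocalRing.closedPoint ζ.K))
    (by rw [hwz, ← Points.ofPt_eq_map_ofScheme, Points.ofPt_toHom])
  refine ⟨w₁, ?_, hw₁⟩
  -- a chart in which the point is isolated
  have sqV := hb.rep.isPullback' (ζ.toHom ≫ g)
  have : Etale (hb.rep.snd (ζ.toHom ≫ g)).left := hb.property_snd _
  let hh := representable_yon_map (S := S) (ι ≫ h)
  let vV := hb.rep.fst' (ζ.toHom ≫ g)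
  have sqP := hh.isPullback' ((yon S).map vV)
  let fP := hh.fst' ((yon S).map vV)
  have : LocallyQuasiFinite (hh.snd ((yon S).map vV)).left :=
    ((repWith_yon_map_iff @LocallyQuasiFinite (ι ≫ h)).2 ‹_›).property_snd ((yon S).map vV)
  let gP : _ ⟶ ζ.pt := hh.snd ((yon S).map vV) ≫ hb.rep.snd (ζ.toHom ≫ g)
  have sqP' : IsPullback ((yon S).map fP) ((yon S).map gP) (a' ≫ f) (ζ.toHom ≫ g) := by
    rw [hw', Functor.map_comp _ (hh.snd _) (hb.rep.snd _)]
    exact (sqP.flip.paste_horiz sqV.flip).flip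
  have : LocallyQuasiFinite gP.left := by
    change LocallyQuasiFinite ((hh.snd ((yon S).map vV)).left ≫ (hb.rep.snd (ζ.toHom ≫ g)).left)
    infer_instance
  have hd : DiscreteTopology ↥(hh.pullback ((yon S).map vV)).left := discreteTopology_over_field' gP.left
  let c := sqW.lift ((yon S).map fP ≫ a') ((yon S).map gP) (by rw [Category.assoc]; exact sqP'.w)
  have sqc : IsPullback ((yon S).map fP) c a' (pullback.fst q ζ.toHom ≫ p) := by
    refine IsPullback.of_bot ?_ (sqW.lift_fst _ _ _).symm sqW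
    rw [sqW.lift_snd]
    exact sqP'
  have hc : RepWith @Etale c := repWith_of_isPullback sqc ha'
  obtain ⟨v, -, hv⟩ := exists_point_of_isPullback sqc (x := Points.ofScheme _ u₀) (y := w₁) (by
    rw [← Points.ofPt_eq_map_ofScheme, hu₀, Points.map_comp, hw₁, hwx])
  obtain ⟨t, rfl⟩ : ∃ t, Points.ofScheme _ t = v := ⟨Points.toScheme _ v, Points.ofScheme_toScheme _ v⟩
  change IsOpen ({w₁} : Set (Points Wz))
  rw [← hv, ← Points.ofPt_eq_map_ofScheme, ← Set.image_singleton]
  exact AlgSpLib.isOpenMap_ofPt hc _ (isOpen_discrete _)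

/-- A monomorphism from a discrete reduced scheme is surjective on stalks. -/
theorem surjectiveOnStalks_of_mono_discrete {V U : Scheme.{u}} (f : V ⟶ U) [Mono f] [IsReduced V]
    [DiscreteTopology ↥V] : SurjectiveOnStalks f := ⟨fun v => by
    have : Mono (V.fromSpecResidueField v ≫ f) := mono_comp _ _
    have : Mono (Spec.map (f.residueFieldMap v) ≫ U.fromSpecResidueField (f v)) := by
      rw [Scheme.Hom.SpecMap_residueFieldMap_fromSpecResidueField]; infer_instance
    have : Mono (Spec.map (f.residueFieldMap v)) := mono_of_mono _ (U.fromSpecResidueField (f v))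
    have : Nonempty ↥(Spec (V.residueField v)) := inferInstanceAs (Nonempty (PrimeSpectrum _))
    have : IsIso (Spec.map (f.residueFieldMap v)) :=
      isIso_of_mono_to_field (K := ↥(U.residueField (f v))) (Spec.map (f.residueFieldMap v))
    have hbij := isIso_SpecMap_iff.1 this
    intro z
    obtain ⟨y, hy⟩ := hbij.2 (V.residue v z)
    obtain ⟨y, rfl⟩ := U.residue_surjective (f v) y
    refine ⟨y, ?_⟩
    have hfield : IsField ↥(V.presheaf.stalk v) := by
      have : Ring.KrullDimLE 0 ↥(V.presheaf.stalk v) := by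
        refine krullDimLE_of_coheight_le (n := 0) (le_of_eq ?_)
        exact (Order.coheight_eq_zero (α := ↥V)).2 fun w hw => le_of_eq (Specializes.eq hw)
      exact Ring.KrullDimLE.isField_of_isReduced
    let _ := hfield.toField
    have h2 : V.residue v (f.stalkMap v y) = V.residue v z := by
      rw [← hy]
      exact (congrArg (fun m => m.hom y) (Scheme.residue_residueFieldMap f v)).symm
    exact (V.residue v).hom.injective h2⟩

/-- A quasi-compact monomorphic point pulls back to a preimmersion in charts. -/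
theorem isPreimmersion_chart_pt (r : FieldPt Y) [Mono r.toHom] (hq : RepWith @QuasiCompact r.toHom)
    {V : Over S} {b : (yon S).obj V ⟶ Y} (hb : RepWith @Etale b) :
    IsPreimmersion (hb.rep.fst' r.toHom).left := by
  have sq := hb.rep.isPullback' r.toHom
  let vV := hb.rep.fst' r.toHom
  have : Mono ((yon S).map vV) := sq.mono_fst_of_mono
  have : Mono vV := (yon S).mono_of_mono_map this
  have : Etale (hb.rep.snd r.toHom).left := hb.property_snd _
  have hd := discreteTopology_over_field (hb.rep.snd r.toHom)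
  have : QuasiCompact vV.left := hq.property _ _ _ sq.flip
  have : IsReduced r.pt.left := inferInstanceAs (IsReduced (Spec (CommRingCat.of r.K)))
  have : IsReduced (hb.rep.pullback r.toHom).left :=
    GrpSchLib.isReduced_of_smooth_field (hb.rep.snd r.toHom).left
  refine { toSurjectiveOnStalks := surjectiveOnStalks_of_mono_discrete _, isEmbedding := ⟨?_, vV.left.injective⟩ }
  refine ⟨TopologicalSpace.ext (funext fun s => propext ⟨fun _ => ?_, fun _ => isOpen_discrete s⟩)⟩
  rw [isOpen_induced_iff]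
  have hy : ∀ w, Points.ofPt b (vV.left w) = Points.mk r := fun w => by
    rw [← ofPt_comp, sq.w, ofPt_comp]
    exact Points.ofPt_toHom r _
  have hspec : ∀ w w', vV.left w' ⤳ vV.left w → w = w' := fun w w' hs => vV.left.injective
    (eq_of_specializes (Points.mk r) (fun V' b' hV' hb' => finite_fibre_of_repWith hb' r hq) hb (hy w) (hy w') hs)
  have key : ∀ w, ∃ O : Set ↥V.left, IsOpen O ∧ vV.left ⁻¹' O = {w} := fun w => by
    obtain ⟨W, hW, hwW, -⟩ := exists_isAffineOpen_mem_and_subset (U := (⊤ : V.left.Opens)) (x := vV.left w) trivial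
    have hF : (vV.left ⁻¹' (W : Set ↥V.left)).Finite :=
      (QuasiCompact.isCompact_preimage _ W.isOpen hW.isCompact).finite (IsDiscrete.univ.mono (Set.subset_univ _))
    refine ⟨W \ ⋃ w' ∈ vV.left ⁻¹' (W : Set ↥V.left) \ {w}, closure {vV.left w'},
      W.isOpen.sdiff ((hF.sdiff).isClosed_biUnion fun _ _ => isClosed_closure), ?_⟩
    ext w'
    constructor
    · rintro ⟨h1, h2⟩
      by_contra hne
      exact h2 (Set.mem_iUnion₂.2 ⟨w', ⟨h1, hne⟩, subset_closure rfl⟩)
    · rintro (rfl : w' = w)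
      refine ⟨hwW, fun h2 => ?_⟩
      obtain ⟨w', ⟨-, hne⟩, hcl⟩ := Set.mem_iUnion₂.1 h2
      exact hne (hspec _ _ (specializes_iff_mem_closure.2 hcl)).symm
  choose O hO hO' using key
  refine ⟨⋃ w ∈ s, O w, isOpen_biUnion fun w _ => hO w, ?_⟩
  rw [Set.preimage_iUnion₂]
  change ⋃ i ∈ s, vV.left ⁻¹' O i = s
  simp only [hO', Set.biUnion_of_singleton]

/-- The fibre over a quasi-compact monomorphic point is the fibre on points. -/
theorem isEmbedding_fibre (hX : IsAlgSpace X) (hY : IsAlgSpace Y) (f : X ⟶ Y) (r : FieldPt Y) [Mono r.toHom]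
    (hq : RepWith @QuasiCompact r.toHom) {Xk : Sp S} {fst : Xk ⟶ X} {snd : Xk ⟶ (yon S).obj r.pt}
    (sq : IsPullback fst snd f r.toHom) :
    IsEmbedding (Points.map fst) ∧ Set.range (Points.map fst) = Points.map f ⁻¹' {Points.mk r} := by
  have : Mono fst := sq.mono_fst_of_mono
  have hinj : Function.Injective (Points.map fst) := fun w w' h => by
    obtain ⟨d, hd, hd'⟩ := exists_point_of_isPullback (IsKernelPair.id_of_mono fst) h
    rw [Points.map_id] at hd hd'
    exact hd.symm.trans hd'
  refine ⟨⟨⟨TopologicalSpace.ext (funext fun s => propext ⟨fun hs => ?_, fun hs => ?_⟩)⟩, hinj⟩, ?_⟩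
  · rw [isOpen_induced_iff]
    obtain ⟨U, V, a, b, h, ha, has, hb, -, w⟩ := exists_chart hX hY f
    have sqV := hb.rep.isPullback' r.toHom
    have := isPreimmersion_chart_pt r hq hb
    let hh := representable_yon_map (S := S) h
    let vV := hb.rep.fst' r.toHom
    have sqP := hh.isPullback' ((yon S).map vV)
    let fP := hh.fst' ((yon S).map vV)
    have : IsPreimmersion fP.left :=
      MorphismProperty.of_isPullback (isPullback_of_yon sqP).flip ‹IsPreimmersion vV.left›
    have sqP' : IsPullback ((yon S).map fP) ((yon S).map (hh.snd ((yon S).map vV) ≫ hb.rep.snd r.toHom))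
        (a ≫ f) r.toHom := by
      rw [w, Functor.map_comp _ (hh.snd _) (hb.rep.snd _)]
      exact (sqP.flip.paste_horiz sqV.flip).flip
    let c := sq.lift ((yon S).map fP ≫ a) _ (by rw [Category.assoc]; exact sqP'.w)
    have sqc : IsPullback ((yon S).map fP) c a fst := by
      refine IsPullback.of_bot ?_ (sq.lift_fst _ _ _).symm sq
      rw [sq.lift_snd]
      exact sqP'
    obtain ⟨O, hO, hO'⟩ := fP.left.isEmbedding.isInducing.isOpen_iff.1 (hs.preimage (Points.continuous_ofPt c))
    refine ⟨Points.ofPt a '' O, AlgSpLib.isOpenMap_ofPt ha _ hO, ?_⟩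
    ext y
    constructor
    · rintro ⟨u, hu, huy⟩
      obtain ⟨v, hv, hvy⟩ := exists_point_of_isPullback sqc (x := Points.ofScheme _ u) (y := y)
        (by rw [← Points.ofPt_eq_map_ofScheme, huy])
      obtain ⟨t, rfl⟩ : ∃ t, Points.ofScheme _ t = v := ⟨Points.toScheme _ v, Points.ofScheme_toScheme _ v⟩
      rw [← hvy, ← Points.ofPt_eq_map_ofScheme]
      have h2 := congrArg (Points.toScheme _) hv
      rw [← Points.ofPt_eq_map_ofScheme, show Points.ofPt ((yon S).map fP) t = Points.ofScheme U (fP.left t) from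
        (congrArg (Points.ofPt · t) (Category.comp_id _).symm).trans (ofPt_comp fP (𝟙 _) t),
        Points.toScheme_ofScheme, Points.toScheme_ofScheme] at h2
      have : t ∈ fP.left ⁻¹' O := show fP.left t ∈ O from h2.symm ▸ hu
      rw [hO'] at this
      exact this
    · intro hy
      obtain ⟨u, hu⟩ := surjective_ofPt has (Points.map fst y)
      obtain ⟨v, hv, hvy⟩ := exists_point_of_isPullback sqc (x := Points.ofScheme _ u) (y := y)
        (by rw [← Points.ofPt_eq_map_ofScheme, hu])
      obtain ⟨t, rfl⟩ : ∃ t, Points.ofScheme _ t = v := ⟨Points.toScheme _ v, Points.ofScheme_toScheme _ v⟩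
      rw [← Points.ofPt_eq_map_ofScheme] at hvy
      have : t ∈ Points.ofPt c ⁻¹' s := show Points.ofPt c t ∈ s from hvy.symm ▸ hy
      rw [← hO'] at this
      refine ⟨fP.left t, this, ?_⟩
      rw [← ofPt_comp, sqc.w, ← hvy, Points.map_ofPt]
  · obtain ⟨O, hO, rfl⟩ := hs
    exact hO.preimage (Points.continuous_map fst)
  · ext x
    constructor
    · rintro ⟨y, rfl⟩
      change Points.map f (Points.map fst y) = _
      rw [← Points.map_comp, sq.w, Points.map_comp]
      obtain ⟨t, ht⟩ : ∃ t, Points.ofScheme r.pt t = Points.map snd y :=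
        ⟨Points.toScheme _ _, Points.ofScheme_toScheme _ _⟩
      rw [← ht, ← Points.ofPt_eq_map_ofScheme]
      exact Points.ofPt_toHom r t
    · intro hx
      obtain ⟨y, hy, -⟩ := exists_point_of_isPullback sq (x := x)
        (y := Points.ofScheme _ (IsLocalRing.closedPoint r.K))
        (by rw [← Points.ofPt_eq_map_ofScheme, Points.ofPt_toHom]; exact hx)
      exact ⟨y, hy⟩

end Groth.Agent.AlgSpDec
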