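import Groth.Agent.AlgSpDec.QuasiAffineDescent
import Groth.Agent.MorLib.IndQA
import Groth.Agent.S9876

/-!
# Monomorphisms into schemes which are locally of finite type after an etale covering are schemes
-/

set_option backward.isDefEq.respectTransparency false
set_option backward.isDefEq.respectTransparency.types false

universe u

open CategoryTheory Limits Opposite AlgebraicGeometry AlgSp Groth.Agent.AlgSpLib Groth.Agent.AlgSpPts

namespace Groth.Agent.AlgSpDec

variable {S : Scheme.{u}}

/-- The case of an affine base. -/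
theorem exists_rep_of_mono_affine {T T' W : Over S} [IsAffine T.left] {P : Sp S} {q : P ⟶ (yon S).obj T} [Mono q]
    (e : T' ⟶ T) [Etale e.left] [Surjective e.left] {w : (yon S).obj W ⟶ P} {i : W ⟶ T'}
    [LocallyOfFiniteType i.left] (sq : IsPullback w ((yon S).map i) q ((yon S).map e)) :
    ∃ Q : Over S, Nonempty ((yon S).obj Q ≅ P) := by
  obtain ⟨Z, π, v, hZ, hπe, hπs, hv⟩ := exists_affine_cover_lift (p := (yon S).map e)
    ((repWith_yon_map_iff _ _).2 ‹Etale e.left›) ((repWith_yon_map_iff _ _).2 ‹Surjective e.left›) (𝟙 ((yon S).obj T))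
  rw [Category.comp_id, ← Functor.map_comp] at hv
  obtain rfl := (yon S).map_injective hv
  let R : Over S := Over.mk (pullback.fst i.left v.left ≫ W.hom)
  let r₁ : R ⟶ W := CategoryTheory.Over.homMk (pullback.fst i.left v.left) rfl
  let r₂ : R ⟶ Z := CategoryTheory.Over.homMk (pullback.snd i.left v.left) (by
    change _ = pullback.fst i.left v.left ≫ W.hom
    rw [← Over.w v, ← Over.w i, pullback.condition_assoc])
  have sqr : IsPullback r₁ r₂ i v :=
    IsPullback.of_map (Over.forget S) (Over.OverMorphism.ext pullback.condition) (IsPullback.of_hasPullback i.left v.left)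
  have sqR : IsPullback ((yon S).map r₁ ≫ w) ((yon S).map r₂) q ((yon S).map (v ≫ e)) := by
    rw [Functor.map_comp]
    exact (sqr.map (yon S)).paste_horiz sq
  have : LocallyOfFiniteType r₂.left := MorphismProperty.pullback_snd _ _ ‹LocallyOfFiniteType i.left›
  have : Mono r₂.left := by
    have h1 : Mono ((yon S).map r₂) := MorphismProperty.of_isPullback
      (P := MorphismProperty.monomorphisms (Sp S)) sqR ‹Mono q›
    have : Mono r₂ := (yon S).mono_of_mono_map h1
    exact inferInstanceAs (Mono ((Over.forget S).map r₂))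
  let wR : (yon S).obj R ⟶ P := (yon S).map r₁ ≫ w
  have hwe : RepWith @Etale wR :=
    repWith_of_isPullback sqR.flip ((repWith_yon_map_iff _ _).2 (inferInstanceAs (Etale (v ≫ e).left)))
  have hws : RepWith @Surjective wR :=
    repWith_of_isPullback sqR.flip ((repWith_yon_map_iff _ _).2 (inferInstanceAs (Surjective (v ≫ e).left)))
  have hdiag : Representable (Limits.diag P) := Functor.relativelyRepresentable.diag_iff.2 fun A a A' b => by
    obtain ⟨a', ha'⟩ := (yon S).map_surjective (a ≫ q)
    obtain ⟨b', hb'⟩ := (yon S).map_surjective (b ≫ q)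
    let K : Over S := Over.mk (pullback.fst a'.left b'.left ≫ A.hom)
    let k₁ : K ⟶ A := CategoryTheory.Over.homMk (pullback.fst a'.left b'.left) rfl
    let k₂ : K ⟶ A' := CategoryTheory.Over.homMk (pullback.snd a'.left b'.left) (by
      change _ = pullback.fst a'.left b'.left ≫ A.hom
      rw [← Over.w a', ← Over.w b', pullback.condition_assoc])
    have sqK : IsPullback k₁ k₂ a' b' := IsPullback.of_map (Over.forget S) (Over.OverMorphism.ext pullback.condition)
      (IsPullback.of_hasPullback a'.left b'.left)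
    have h := sqK.map (yon S)
    rw [ha', hb'] at h
    refine ⟨K, k₂, (yon S).map k₁, ⟨⟨(cancel_mono q).1 ?_⟩, ⟨PullbackCone.IsLimit.mk _
      (fun s => h.lift s.fst s.snd (by rw [← Category.assoc, ← Category.assoc, s.condition]))
      (fun s => h.lift_fst _ _ _) (fun s => h.lift_snd _ _ _)
      (fun s m h₁ h₂ => h.hom_ext (by rw [h₁, h.lift_fst]) (by rw [h₂, h.lift_snd]))⟩⟩⟩
    rw [Category.assoc, Category.assoc, h.w]
  have hP : IsAlgSpace P := ⟨hdiag, R, wR, hwe, hws⟩
  have hopen : ∀ O : R.left.affineOpens, IsOpen (Points.ofPt wR '' (O.1 : Set ↥R.left)) :=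
    fun O => isOpenMap_ofPt hwe _ O.1.2
  choose X' j hX' hj hrange using fun O => exists_open_subspace hP (hopen O)
  have hpiece : ∀ O, ∃ Q : Over S, Nonempty ((yon S).obj Q ≅ X' O) := fun O => by
    let V := (hj O).rep.pullback wR
    let s := (hj O).rep.snd wR
    have : IsOpenImmersion s.left := (hj O).property_snd _
    have : IsAffineHom (v ≫ e).left := inferInstance
    -- the saturation of an affine open is quasi-compact
    let K : Scheme.{u} := pullback (r₂ ≫ v ≫ e).left (v ≫ e).left
    let KO : Over S := Over.mk (pullback.fst (r₂ ≫ v ≫ e).left (v ≫ e).left ≫ R.hom)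
    let c₁ : KO ⟶ R := CategoryTheory.Over.homMk (pullback.fst _ _) rfl
    let c₂ : KO ⟶ Z := CategoryTheory.Over.homMk (pullback.snd (r₂ ≫ v ≫ e).left (v ≫ e).left) (by
      change pullback.snd (r₂ ≫ v ≫ e).left (v ≫ e).left ≫ Z.hom = pullback.fst _ _ ≫ R.hom
      rw [← Over.w (r₂ ≫ v ≫ e), ← Over.w (v ≫ e), pullback.condition_assoc])
    have hc : ((yon S).map c₁ ≫ wR) ≫ q = (yon S).map c₂ ≫ (yon S).map (v ≫ e) := by
      rw [Category.assoc, sqR.w, ← Functor.map_comp, ← Functor.map_comp, ← Functor.map_comp]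
      congr 1
      exact Over.OverMorphism.ext pullback.condition
    obtain ⟨c, hc₁, hc₂⟩ : ∃ c : KO ⟶ R, (yon S).map c ≫ wR = (yon S).map c₁ ≫ wR ∧ c ≫ r₂ = c₂ :=
      ⟨(yon S).preimage (sqR.lift _ _ hc), by rw [Functor.map_preimage, sqR.lift_fst], (yon S).map_injective (by
        rw [Functor.map_comp, Functor.map_preimage, sqR.lift_snd])⟩
    have sqKK : IsPullback ((yon S).map c₁) ((yon S).map c) wR wR := by
      refine IsPullback.of_bot ?_ hc₁.symm sqR
      rw [sqR.w, ← Functor.map_comp, ← Functor.map_comp, hc₂]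
      have sqKO : IsPullback c₁ c₂ (r₂ ≫ v ≫ e) (v ≫ e) :=
        IsPullback.of_map (Over.forget S) (Over.OverMorphism.ext pullback.condition)
          (IsPullback.of_hasPullback (r₂ ≫ v ≫ e).left (v ≫ e).left)
      exact sqKO.map (yon S)
    have hset : Set.range s.left = c.left '' (c₁.left ⁻¹' (O.1 : Set ↥R.left)) := by
      ext x
      constructor
      · rintro ⟨y, rfl⟩
        have h1 : Points.ofPt wR (s.left y) ∈ Points.ofPt wR '' (O.1 : Set ↥R.left) := by
          rw [← hrange O]
          exact ⟨_, map_ofPt_fst ((hj O).rep.isPullback wR) y⟩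
        obtain ⟨o, ho, hoy⟩ := h1
        obtain ⟨z, hz₁, hz₂⟩ := exists_ofPt_of_eq sqKK hoy
        exact ⟨z, show c₁.left z ∈ O.1 by rw [hz₁]; exact ho, hz₂⟩
      · rintro ⟨z, hz, rfl⟩
        have h1 : Points.ofPt wR (c.left z) ∈ Set.range (Points.map (j O)) := by
          rw [hrange O]
          exact ⟨c₁.left z, hz, by rw [← ofPt_comp, ← ofPt_comp, hc₁]⟩
        obtain ⟨x, hx⟩ := h1
        obtain ⟨p, -, hp⟩ := exists_point_of_isPullback ((hj O).rep.isPullback wR) (x := x)
          (y := Points.ofScheme R (c.left z)) (hx.trans (Points.ofPt_eq_map_ofScheme _ _))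
        obtain ⟨y, rfl⟩ := (Points.schemeHomeo _).surjective p
        exact ⟨y, (Points.schemeHomeo R).injective ((Points.map_yon_map_apply s y).symm.trans hp)⟩
    have : CompactSpace ↥V.left := by
      have h1 : IsCompact (c₁.left ⁻¹' (O.1 : Set ↥R.left)) := by
        have : QuasiCompact c₁.left := MorphismProperty.pullback_fst _ _ (show QuasiCompact (v ≫ e).left from inferInstance)
        exact c₁.left.isCompact_preimage O.2.isCompact
      exact ⟨s.left.isOpenEmbedding.isEmbedding.isInducing.isCompact_iff.2 (by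
        rw [Set.image_univ, hset]; exact h1.image c.left.continuous)⟩
    have : Mono (s.left ≫ r₂.left) := mono_comp _ _
    have : V.left.IsQuasiAffine := Groth.Agent.MorLib.IQA.qa_of_locallyQuasiFinite (s.left ≫ r₂.left)
    exact exists_quasiAffine_descent (v ≫ e) (W' := V) (i := s ≫ r₂)
      (q := j O ≫ q) (by
        have := ((hj O).rep.isPullback wR).paste_vert sqR
        rwa [← Functor.map_comp] at this)
  choose Q hQ using hpiece
  have hc : ∀ x, ∃ O t, Points.ofPt ((hQ O).some.hom ≫ j O) t = x := fun x => by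
    obtain ⟨r, rfl⟩ := surjective_ofPt hws x
    obtain ⟨O, hO, hrO, -⟩ := exists_isAffineOpen_mem_and_subset (U := (⊤ : R.left.Opens)) (x := r) trivial
    have h1 : Points.ofPt wR r ∈ Set.range (Points.map (j ⟨O, hO⟩)) := by
      rw [hrange]; exact ⟨r, hrO, rfl⟩
    obtain ⟨y, hy⟩ := h1
    obtain ⟨t, ht⟩ := (Points.schemeHomeo _).surjective (Points.map (hQ ⟨O, hO⟩).some.inv y)
    refine ⟨⟨O, hO⟩, t, ?_⟩
    rw [← hy, Points.ofPt_eq_map_ofScheme, Points.map_comp]
    change Points.map _ (Points.map _ ((Points.schemeHomeo _) t)) = _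
    rw [ht, ← Points.map_comp _ _ y, Iso.inv_hom_id]
    congr 1
    induction y using Points.ind with
    | h p => rfl
  obtain ⟨Q', hQ', -⟩ := exists_iso_of_open_cover Q (fun O => (hQ O).some.hom ≫ j O)
    (fun O => repWith_comp (repWith_of_isIso @IsOpenImmersion _) (hj O)) hc
  exact ⟨Q', hQ'⟩

/-- A monomorphism into a scheme which, after an etale covering, is a morphism of schemes locally of finite type,
has a scheme as source. -/
theorem exists_rep_of_mono {T T' W : Over S} {P : Sp S} {q : P ⟶ (yon S).obj T} [Mono q] (e : T' ⟶ T)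
    [Etale e.left] [Surjective e.left] {w : (yon S).obj W ⟶ P} {i : W ⟶ T'} [LocallyOfFiniteType i.left]
    (sq : IsPullback w ((yon S).map i) q ((yon S).map e)) : ∃ Q : Over S, Nonempty ((yon S).obj Q ≅ P) := by
  have hpiece : ∀ U : T.left.affineOpens, ∃ (Q : Over S) (j : (yon S).obj Q ⟶ P), RepWith @IsOpenImmersion j ∧
      ∀ (x : Points P) (t : ↥U.1), Points.map q x = Points.ofScheme T (U.1.ι t) → ∃ v, Points.ofPt j v = x := by
    intro U
    let TU : Over S := Over.mk (U.1.ι ≫ T.hom)
    let inc : TU ⟶ T := CategoryTheory.Over.homMk U.1.ι rfl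
    have : IsAffine TU.left := U.2
    let T'U : Over S := Over.mk ((e.left ⁻¹ᵁ U.1).ι ≫ T'.hom)
    let inc' : T'U ⟶ T' := CategoryTheory.Over.homMk (e.left ⁻¹ᵁ U.1).ι rfl
    let eU : T'U ⟶ TU := CategoryTheory.Over.homMk (e.left ∣_ U.1) (by
      change _ ≫ U.1.ι ≫ T.hom = _ ≫ T'.hom
      rw [← Category.assoc, (isPullback_morphismRestrict e.left U.1).w, Category.assoc, Over.w e])
    let WU : Over S := Over.mk ((i.left ⁻¹ᵁ (e.left ⁻¹ᵁ U.1)).ι ≫ W.hom)
    let iU : WU ⟶ T'U := CategoryTheory.Over.homMk (i.left ∣_ (e.left ⁻¹ᵁ U.1)) (by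
      change _ ≫ (e.left ⁻¹ᵁ U.1).ι ≫ T'.hom = _ ≫ W.hom
      rw [← Category.assoc, (isPullback_morphismRestrict i.left _).w, Category.assoc, Over.w i])
    let k : WU ⟶ W := CategoryTheory.Over.homMk (i.left ⁻¹ᵁ (e.left ⁻¹ᵁ U.1)).ι rfl
    have : Etale eU.left := inferInstanceAs (Etale (e.left ∣_ U.1))
    have : Surjective eU.left := IsZariskiLocalAtTarget.restrict (P := @Surjective) ‹Surjective e.left› U.1
    have : LocallyOfFiniteType iU.left :=
      IsZariskiLocalAtTarget.restrict (P := @LocallyOfFiniteType) ‹LocallyOfFiniteType i.left› _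
    have sqe : IsPullback inc' eU e inc :=
      IsPullback.of_map (Over.forget S) (Over.OverMorphism.ext (isPullback_morphismRestrict e.left U.1).w.symm)
        (isPullback_morphismRestrict e.left U.1).flip
    have sqi : IsPullback k iU i inc' :=
      IsPullback.of_map (Over.forget S) (Over.OverMorphism.ext (isPullback_morphismRestrict i.left _).w.symm)
        (isPullback_morphismRestrict i.left _).flip
    have sq₁ := (sqi.map (yon S)).paste_horiz sq
    rw [← Functor.map_comp, sqe.w, Functor.map_comp] at sq₁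
    have hw : ((yon S).map k ≫ w) ≫ q = ((yon S).map iU ≫ (yon S).map eU) ≫ (yon S).map inc := by
      rw [sq₁.w, Category.assoc]
    let w' : (yon S).obj WU ⟶ pullback q ((yon S).map inc) := pullback.lift _ _ hw
    have sqU : IsPullback w' ((yon S).map iU) (pullback.snd q ((yon S).map inc)) ((yon S).map eU) := by
      refine IsPullback.of_right ?_ (pullback.lift_snd _ _ _) (IsPullback.of_hasPullback _ _)
      rw [pullback.lift_fst]
      exact sq₁
    obtain ⟨Q, ⟨φ⟩⟩ := exists_rep_of_mono_affine eU sqU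
    refine ⟨Q, φ.hom ≫ pullback.fst q ((yon S).map inc), repWith_comp (repWith_of_isIso @IsOpenImmersion φ.hom)
      (repWith_of_isPullback (IsPullback.of_hasPullback q ((yon S).map inc)).flip
        ((repWith_yon_map_iff _ _).2 (inferInstanceAs (IsOpenImmersion U.1.ι)))), fun x t hx => ?_⟩
    obtain ⟨z, hz, -⟩ := exists_point_of_isPullback (IsPullback.of_hasPullback q ((yon S).map inc)) (x := x)
      (y := Points.ofScheme TU t) (hx.trans (Points.map_yon_map_apply inc _).symm)
    obtain ⟨v, hv⟩ := (Points.schemeHomeo Q).surjective (Points.map φ.inv z)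
    refine ⟨v, ?_⟩
    rw [Points.ofPt_eq_map_ofScheme, Points.map_comp]
    change Points.map _ (Points.map _ ((Points.schemeHomeo _) v)) = _
    rw [hv, ← Points.map_comp _ _ z, Iso.inv_hom_id, ← Points.map_comp, Category.id_comp, hz]
  choose Q j hj hv using hpiece
  obtain ⟨Q', hQ', -⟩ := exists_iso_of_open_cover Q j hj fun x => by
    obtain ⟨t, ht⟩ := (Points.schemeHomeo T).surjective (Points.map q x)
    obtain ⟨U, hU, htU, -⟩ := exists_isAffineOpen_mem_and_subset (U := (⊤ : T.left.Opens)) (x := t) trivial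
    exact ⟨⟨U, hU⟩, hv ⟨U, hU⟩ x ⟨t, htU⟩ ht.symm⟩
  exact ⟨Q', hQ'⟩

end Groth.Agent.AlgSpDec
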