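import Groth.Agent.S9400
import Groth.Agent.CAlgOdd.NagataFT.Poly
import Mathlib.AlgebraicGeometry.AffineScheme
import Mathlib.AlgebraicGeometry.Morphisms.FiniteType

/-!
# Being Nagata is affine-local and ascends along morphisms locally of finite type
-/

set_option autoImplicit false
universe u
open AlgebraicGeometry CategoryTheory

namespace Groth.Agent.AlgSpDec.NagataLocal

theorem isNagata_affineOpen {W Y : Scheme.{u}} (f : W ⟶ Y) [LocallyOfFiniteType f] {ι : Type*} (U : ι → Y.Opens)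
    (hU : iSup U = ⊤) (haff : ∀ i, IsAffineOpen (U i)) (hN : ∀ i, CAlg.IsNagata Γ(Y, U i))
    (V : W.Opens) (hV : IsAffineOpen V) : CAlg.IsNagata Γ(W, V) := by
  have key : ∀ y : V, ∃ g : Γ(W, V), y.1 ∈ W.basicOpen g ∧ CAlg.IsNagata Γ(W, W.basicOpen g) := fun y => by
    obtain ⟨i, hi⟩ := TopologicalSpace.Opens.mem_iSup.1 (hU.symm ▸ trivial : f y.1 ∈ iSup U)
    obtain ⟨g, hg, hyg⟩ := hV.exists_basicOpen_le (V := f ⁻¹ᵁ U i) ⟨y.1, hi⟩ y.2
    refine ⟨g, hyg, ?_⟩
    algebraize [(f.appLE (U i) (W.basicOpen g) hg).hom]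
    haveI : Algebra.FiniteType Γ(Y, U i) Γ(W, W.basicOpen g) :=
      f.finiteType_appLE (haff i) (hV.basicOpen g) hg
    exact CAlgOdd.NagataFT.isNagata_of_finiteType (hN i) _
  choose g hg hNg using key
  have hspan : Ideal.span (Set.range g) = ⊤ := by
    refine (hV.self_le_iSup_basicOpen_iff (s := Set.range g)).1 ?_
    intro y hy
    exact TopologicalSpace.Opens.mem_iSup.2 ⟨⟨g ⟨y, hy⟩, ⟨y, hy⟩, rfl⟩, hg ⟨y, hy⟩⟩
  obtain ⟨s, hs, hs1⟩ := (Ideal.span_eq_top_iff_finite _).1 hspan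
  refine Groth.Agent.S9400.result Γ(W, V) (ι := ↥(s : Set Γ(W, V))) (fun x => x.1) (by simpa using hs1) fun x => ?_
  obtain ⟨y, hy⟩ := hs x.2
  have : IsLocalization.Away (g y) Γ(W, W.basicOpen (g y)) := hV.isLocalization_basicOpen (g y)
  show CAlg.IsNagata (Localization.Away x.1)
  rw [← hy]
  exact N12Aux.isNagata_of_surjective
    (IsLocalization.algEquiv (Submonoid.powers (g y)) Γ(W, W.basicOpen (g y)) (Localization.Away (g y))).toRingEquiv.toRingHom
    (IsLocalization.algEquiv (Submonoid.powers (g y)) Γ(W, W.basicOpen (g y)) (Localization.Away (g y))).surjective (hNg y)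

end Groth.Agent.AlgSpDec.NagataLocal
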