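import Groth.Agent.AlgSpDec.NormalSections
import Groth.Agent.AlgSpLib.WeakAssUnit
import Groth.Agent.AlgSpLib.LocSurjComp
import Groth.Agent.AlgSpLib.Points
import Groth.Agent.Hensel.HenselizationNormal
import Groth.Agent.S7180
import Groth.Prelude.Def_AlgSpDec
import Mathlib.CategoryTheory.Limits.ConcreteCategory.Basic

/-!
# Global functions on a normal integral algebraic space
-/

set_option autoImplicit false
set_option linter.style.haveILetI false
set_option backward.isDefEq.respectTransparency false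
set_option backward.isDefEq.respectTransparency.types false

universe u

open CategoryTheory CategoryTheory.Limits AlgebraicGeometry AlgSp Groth.Agent.AlgSpLib Opposite

namespace Groth.Agent.AlgSpDec

variable {S : Scheme.{u}} {X : Space S}

/-- Every chart of a normal space is normal. -/
theorem isNormalScheme_chart {F : Sp S} (hn : EtaleLocally Pi1.IsNormalScheme F) {U : Over S}
    {a : (yon S).obj U ⟶ F} (ha : RepWith @Etale a) : Pi1.IsNormalScheme U.left := by
  obtain ⟨V, φ, hφ, hφs, hV⟩ := hn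
  haveI : Etale (ha.rep.snd φ).left := ha.property_snd φ
  haveI : Etale (ha.rep.fst' φ).left := hφ.property _ _ _ (ha.rep.isPullback' φ).flip
  haveI : Surjective (ha.rep.fst' φ).left := hφs.property _ _ _ (ha.rep.isPullback' φ).flip
  haveI : WeaklyEtale (ha.rep.snd φ).left :=
    (WEtLib.weaklyEtale_iff_stalkMap _).2 fun z =>
      (WEtLib.weaklyEtale_iff_stalkMap _).1 inferInstance z
  have hR : Pi1.IsNormalScheme (ha.rep.pullback φ).left := Groth.Agent.S7180.result (ha.rep.snd φ).left hV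
  intro u
  obtain ⟨z, rfl⟩ := (ha.rep.fst' φ).left.surjective u
  haveI := (hR z).1
  haveI := (hR z).2
  let := ((ha.rep.fst' φ).left.stalkMap z).hom.toAlgebra
  haveI : Module.FaithfullyFlat (U.left.presheaf.stalk ((ha.rep.fst' φ).left z))
      ((ha.rep.pullback φ).left.presheaf.stalk z) := LocSurjComp.stalkMap_faithfullyFlat (ha.rep.fst' φ).left z
  exact Hensel.isIntegrallyClosed_of_faithfullyFlat _ ((ha.rep.pullback φ).left.presheaf.stalk z)

/-- The value of a global function on a chart. -/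
noncomputable def gval (E : EtOver X.obj) : ↥(gsectEt (OEt X.obj)) →+* Γ(E.obj.left.left, ⊤) :=
  ULift.ringEquiv.toRingHom.comp (limit.π (OEt X.obj).obj (op E)).hom

theorem gval_comp {E E' : EtOver X.obj} (g : E ⟶ E') (s : ↥(gsectEt (OEt X.obj))) :
    g.hom.left.left.appTop (gval E' s) = gval E s :=
  congrArg ULift.down (congrArg (fun m => m.hom s) (limit.w (OEt X.obj).obj g.op))

theorem gval_ext {s t : ↥(gsectEt (OEt X.obj))} (h : ∀ E, gval E s = gval E t) : s = t :=
  Concrete.limit_ext _ _ _ fun j => ULift.down_injective (h j.unop)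

theorem exists_gsect (r : ∀ E : EtOver X.obj, Γ(E.obj.left.left, ⊤))
    (hr : ∀ {E E' : EtOver X.obj} (g : E ⟶ E'), g.hom.left.left.appTop (r E') = r E) :
    ∃ s : ↥(gsectEt (OEt X.obj)), ∀ E, gval E s = r E := by
  let hl := isLimitOfPreserves (forget CommRingCat.{u + 1}) (limit.isLimit (OEt X.obj).obj)
  obtain ⟨s, hs, -⟩ := (Types.isLimit_iff _).1 ⟨hl⟩ (fun j => ⟨r j.unop⟩)
    fun {j j'} g => ULift.down_injective (hr g.unop)
  exact ⟨s, fun E => congrArg ULift.down (hs (op E))⟩

theorem exists_mem_basicOpen_gval (hX : IsIntegralSp X.obj) {t : ↥(gsectEt (OEt X.obj))} (ht : t ≠ 0)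
    (E : EtOver X.obj) (O : E.obj.left.left.Opens) (hO : (O : Set E.obj.left.left).Nonempty) :
    ∃ x ∈ O, x ∈ E.obj.left.left.basicOpen (gval E t) := by
  obtain ⟨E₁, w, hw⟩ : ∃ (E₁ : EtOver X.obj) (w : E₁.obj.left.left), w ∈ E₁.obj.left.left.basicOpen (gval E₁ t) := by
    by_contra hcon
    push Not at hcon
    refine ht (gval_ext fun E₁ => ?_)
    haveI : IsReduced E₁.obj.left.left := WeakAssUnit.isReduced_chart hX.1 E₁.obj.hom E₁.property
    rw [map_zero]
    refine (basicOpen_eq_bot_iff (X := E₁.obj.left.left) _).1 ?_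
    ext x
    exact iff_of_false (hcon E₁ x) fun hx => hx
  haveI := hX.2.2.toPreirreducibleSpace
  obtain ⟨x, -, ⟨v, hv, hvx⟩, ⟨v₁, hv₁, hvx₁⟩⟩ := PreirreducibleSpace.isPreirreducible_univ _ _
    (isOpenMap_ofPt E.property _ O.isOpen) (isOpenMap_ofPt E₁.property _ (E₁.obj.left.left.basicOpen (gval E₁ t)).isOpen)
    ⟨_, trivial, hO.some, hO.some_mem, rfl⟩ ⟨_, trivial, w, hw, rfl⟩
  have sq := E.property.rep.isPullback' E₁.obj.hom
  obtain ⟨z, hz, hz₁⟩ := exists_ofPt_of_eq sq (hvx.trans hvx₁.symm)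
  let c := E.property.rep.snd E₁.obj.hom
  let c' := E.property.rep.fst' E₁.obj.hom
  let R : EtOver X.obj := EtOver.mk ((yon S).map c ≫ E₁.obj.hom)
    (repWith_comp ((repWith_yon_map_iff _ _).2 (E.property.property_snd E₁.obj.hom)) E₁.property)
  let g₁ : R ⟶ E₁ := EtOver.homMk c rfl
  let g : R ⟶ E := EtOver.homMk c' sq.w
  have h₁ : z ∈ R.obj.left.left.basicOpen (gval R t) := by
    rw [← gval_comp g₁]
    refine (Scheme.preimage_basicOpen_top c.left _).le ?_
    show c.left z ∈ E₁.obj.left.left.basicOpen (gval E₁ t)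
    rw [hz₁]; exact hv₁
  refine ⟨v, hv, ?_⟩
  rw [← gval_comp g] at h₁
  have := (Scheme.preimage_basicOpen_top c'.left _).ge h₁
  rw [← hz]; exact this

theorem isIntegrallyClosed_gsect (hX : IsIntegralSp X.obj) (hn : EtaleLocally Pi1.IsNormalScheme X.obj)
    [IsDomain ↥(gsectEt (OEt X.obj))] : IsIntegrallyClosed ↥(gsectEt (OEt X.obj)) := by
  refine (isIntegrallyClosed_iff (FractionRing ↥(gsectEt (OEt X.obj)))).2 fun {z} hz => ?_
  obtain ⟨s, t, ht, rfl⟩ := IsFractionRing.div_surjective (A := ↥(gsectEt (OEt X.obj))) z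
  have ht0 : t ≠ 0 := nonZeroDivisors.ne_zero ht
  have hgt : algebraMap _ (FractionRing ↥(gsectEt (OEt X.obj))) t ≠ 0 := IsFractionRing.to_map_ne_zero_of_mem_nonZeroDivisors ht
  obtain ⟨p, hp, hpz⟩ := hz
  have hst : (p.scaleRoots t).eval s = 0 := by
    refine IsFractionRing.injective _ (FractionRing ↥(gsectEt (OEt X.obj))) ?_
    rw [map_zero, ← Polynomial.eval₂_hom, ← mul_div_cancel₀ (algebraMap _ (FractionRing ↥(gsectEt (OEt X.obj))) s) hgt,
      Polynomial.scaleRoots_eval₂_mul, hpz, mul_zero]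
  have key : ∀ E : EtOver X.obj, ∃! r, r * gval E t = gval E s := by
    intro E
    rcases isEmpty_or_nonempty ↥E.obj.left.left with hE | hE
    · haveI : Subsingleton Γ(E.obj.left.left, ⊤) :=
        ⟨fun a b => TopCat.Presheaf.section_ext E.obj.left.left.sheaf ⊤ a b fun x => isEmptyElim x⟩
      exact ⟨0, Subsingleton.elim _ _, fun _ _ => Subsingleton.elim _ _⟩
    haveI : Nontrivial Γ(E.obj.left.left, ⊤) := by
      obtain ⟨x⟩ := hE
      exact RingHom.domain_nontrivial (E.obj.left.left.presheaf.germ ⊤ x trivial).hom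
    refine existsUnique_div (isNormalScheme_chart hn E.property) _ _ (exists_mem_basicOpen_gval hX ht0 E)
      (p.map (gval E)) (hp.map _) ?_
    rw [← Polynomial.map_scaleRoots _ _ _ (by rw [hp.leadingCoeff, map_one]; exact one_ne_zero),
      Polynomial.eval_map, Polynomial.eval₂_hom, hst, map_zero]
  choose r hr using fun E => (key E).exists
  obtain ⟨g, hg⟩ := exists_gsect r fun {E E'} m => (key E).unique (by
    rw [← gval_comp m t, ← map_mul, hr, gval_comp]) (hr E)
  refine ⟨g, ?_⟩
  rw [eq_div_iff hgt, ← map_mul]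
  exact congrArg _ (gval_ext fun E => by rw [map_mul, hg, hr])

end Groth.Agent.AlgSpDec
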