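import Groth.Agent.AlgSpDec.Fibres
import Groth.Agent.AlgSpDec.BirationalBC
import Groth.Agent.S9821

/-!
# Integral affine etale neighbourhoods of normal integral spaces
-/

set_option autoImplicit false
set_option linter.style.haveILetI false
set_option linter.unusedSectionVars false
set_option backward.isDefEq.respectTransparency false
set_option backward.isDefEq.respectTransparency.types false

universe u

open CategoryTheory CategoryTheory.Limits AlgebraicGeometry AlgSp Groth.Agent.AlgSpLib Groth.Agent.AlgSpPts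
  TopologicalSpace

namespace Groth.Agent.AlgSpDec

theorem eq_of_generic_specializes {W : Scheme.{u}} {x ξ ζ : W} [IsDomain (W.presheaf.stalk x)]
    (hξ : ξ ∈ genericPoints W) (hζ : ζ ∈ genericPoints W) (h : ξ ⤳ x) (h' : ζ ⤳ x) : ξ = ζ := by
  have key : ∀ {g : W}, g ∈ genericPoints W → g ⤳ x → g = W.fromSpecStalk x ⟨⊥, Ideal.isPrime_bot⟩ := by
    intro g hg hgx
    obtain ⟨q, rfl⟩ : g ∈ Set.range (W.fromSpecStalk x) := by rw [Scheme.range_fromSpecStalk]; exact hgx
    have hs : W.fromSpecStalk x ⟨⊥, Ideal.isPrime_bot⟩ ⤳ W.fromSpecStalk x q :=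
      ((PrimeSpectrum.le_iff_specializes (x := (⟨⊥, Ideal.isPrime_bot⟩ : PrimeSpectrum (W.presheaf.stalk x))) (y := q)).1 bot_le).map
        (W.fromSpecStalk x).continuous
    have h₁ : closure ({W.fromSpecStalk x q} : Set W) ⊆ closure {W.fromSpecStalk x ⟨⊥, Ideal.isPrime_bot⟩} :=
      specializes_iff_closure_subset.1 hs
    have h₂ : closure ({W.fromSpecStalk x ⟨⊥, Ideal.isPrime_bot⟩} : Set W) ⊆ closure {W.fromSpecStalk x q} :=
      hg.2 isIrreducible_singleton.closure h₁
    exact ((specializes_iff_closure_subset.2 h₂).antisymm hs).eq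
  exact (key hξ h).trans (key hζ h').symm

theorem exists_integral_nbhd {W : Scheme.{u}} (hfin : (genericPoints W).Finite)
    (hd : ∀ x : W, IsDomain (W.presheaf.stalk x)) (v : W) :
    ∃ U : W.Opens, IsAffineOpen U ∧ v ∈ U ∧ IsIntegral U.toScheme := by
  have hgen : ∀ x : W, ∃ ξ ∈ genericPoints W, ξ ⤳ x := by
    intro x
    obtain ⟨Z, hZ, hxZ⟩ := exists_mem_irreducibleComponents_subset_of_isIrreducible {x} isIrreducible_singleton
    obtain ⟨ξ, hξ⟩ := genericPoints.component_surjective (⟨Z, hZ⟩ : irreducibleComponents W)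
    exact ⟨ξ, ξ.2, specializes_iff_mem_closure.2 ((congrArg Subtype.val hξ).ge (hxZ rfl))⟩
  obtain ⟨ξ, hξ, hξv⟩ := hgen v
  have hO : IsClosed (⋃ ζ ∈ genericPoints W \ {ξ}, closure ({ζ} : Set W)) :=
    (hfin.subset Set.sdiff_subset).isClosed_biUnion fun _ _ => isClosed_closure
  have hvO : v ∈ (⋃ ζ ∈ genericPoints W \ {ξ}, closure ({ζ} : Set W))ᶜ := by
    simp only [Set.mem_compl_iff, Set.mem_iUnion, not_exists]
    rintro ζ ⟨hζ, hne⟩ hv
    haveI := hd v
    exact hne (eq_of_generic_specializes hζ hξ (specializes_iff_mem_closure.2 hv) hξv)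
  obtain ⟨U, hU, hvU, hUO⟩ := exists_isAffineOpen_mem_and_subset (U := (⟨_, hO.isOpen_compl⟩ : W.Opens)) hvO
  have hUξ : (U : Set W) ⊆ closure {ξ} := by
    intro x hx
    obtain ⟨ζ, hζ, hζx⟩ := hgen x
    by_contra hne
    refine (hUO hx) (Set.mem_biUnion ⟨hζ, fun e => hne ?_⟩ (specializes_iff_mem_closure.1 hζx))
    rw [← show ζ = ξ from e]; exact specializes_iff_mem_closure.1 hζx
  haveI : IrreducibleSpace ↥U.toScheme := by
    haveI : PreirreducibleSpace ↥U.toScheme := by
      refine PreirreducibleSpace.of_forall_nonempty_inter ?_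
      intro A B hA hB hA' hB'
      obtain ⟨⟨a, haU⟩, haA⟩ := hA'
      obtain ⟨⟨b, hbU⟩, hbB⟩ := hB'
      have hU' : ξ ∈ (U : Set W) := (specializes_iff_mem_closure.2 (hUξ haU)).mem_open U.isOpen haU
      refine ⟨⟨ξ, hU'⟩, ?_, ?_⟩
      · exact (U.ι.isOpenEmbedding.isInducing.specializes_iff.1
          (show U.ι ⟨ξ, hU'⟩ ⤳ U.ι ⟨a, haU⟩ from specializes_iff_mem_closure.2 (hUξ haU))).mem_open hA haA
      · exact (U.ι.isOpenEmbedding.isInducing.specializes_iff.1
          (show U.ι ⟨ξ, hU'⟩ ⤳ U.ι ⟨b, hbU⟩ from specializes_iff_mem_closure.2 (hUξ hbU))).mem_open hB hbB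
    exact { toNonempty := ⟨⟨v, hvU⟩⟩ }
  haveI : ∀ y : W, _root_.IsReduced (W.presheaf.stalk y) := fun y => by haveI := hd y; infer_instance
  haveI : IsReduced W := isReduced_of_isReduced_stalk W
  exact ⟨U, hU, hvU, isIntegral_of_irreducibleSpace_of_isReduced _⟩

variable {S : Scheme.{u}} {X : Sp S}

theorem finite_genericPoints_chart (hXi : IsIntegralSp X) {U : Over S} [CompactSpace ↥U.left]
    {a : (yon S).obj U ⟶ X} (ha : RepWith @Etale a) {η : Points X} (hη : IsGenericPoint η (Set.univ : Set (Points X))) :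
    (genericPoints ↥U.left).Finite := by
  obtain ⟨p, hp, -, hq⟩ := hXi.2.1 η
  have hfin : (Points.ofPt a ⁻¹' {η}).Finite := by rw [← hp]; exact finite_fibre_of_repWith ha p hq
  refine hfin.subset fun g hg => ?_
  obtain ⟨g', hg', hg'η⟩ := exists_specializes_lift_of_isDecent hXi.2.1 ha (u := g) (x' := η)
    (hη.specializes (Set.mem_univ _))
  have h₂ : closure ({g'} : Set ↥U.left) ⊆ closure {g} :=
    hg.2 isIrreducible_singleton.closure (specializes_iff_closure_subset.1 hg')
  show Points.ofPt a g = η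
  rw [← hg'η, ((specializes_iff_closure_subset.2 h₂).antisymm hg').eq]

end Groth.Agent.AlgSpDec
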