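import Mathlib.AlgebraicGeometry.Scheme
import Mathlib.RingTheory.IntegralClosure.IntegrallyClosed
import Mathlib.RingTheory.Polynomial.ScaleRoots
import Mathlib.Topology.Sheaves.SheafCondition.UniqueGluing
import Groth.Prelude.Def_Pi1

/-!
# Division of sections on normal schemes
-/

set_option autoImplicit false
set_option linter.style.haveILetI false
set_option backward.isDefEq.respectTransparency false
set_option backward.isDefEq.respectTransparency.types false

universe u

open CategoryTheory AlgebraicGeometry TopologicalSpace Opposite Polynomial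

namespace Groth.Agent.AlgSpDec

theorem dvd_of_scaleRoots {A : Type*} [CommRing A] [IsDomain A] [IsIntegrallyClosed A] {σ τ : A} (hτ : τ ≠ 0)
    {q : A[X]} (hq : q.Monic) (h : (q.scaleRoots τ).eval σ = 0) : τ ∣ σ := by
  let K := FractionRing A
  let g := algebraMap A K
  have hgτ : g τ ≠ 0 := (map_ne_zero_iff g (IsFractionRing.injective A K)).2 hτ
  let z : K := g σ / g τ
  have hz : q.eval₂ g z = 0 := by
    have h₁ := scaleRoots_eval₂_mul (p := q) g z τ
    rw [mul_div_cancel₀ _ hgτ, eval₂_hom, h, map_zero] at h₁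
    exact (mul_eq_zero.1 h₁.symm).resolve_left (pow_ne_zero _ hgτ)
  obtain ⟨y, hy⟩ := (IsIntegrallyClosed.isIntegral_iff (R := A) (K := K)).1 ⟨q, hq, hz⟩
  refine ⟨y, IsFractionRing.injective A K ?_⟩
  rw [map_mul, hy, mul_div_cancel₀ _ hgτ]

variable {W : Scheme.{u}}

theorem germ_ne_zero_of_dense (t : Γ(W, ⊤))
    (hd : ∀ O : W.Opens, (O : Set W).Nonempty → ∃ x ∈ O, x ∈ W.basicOpen t) (x : W) :
    W.presheaf.germ ⊤ x trivial t ≠ 0 := by
  intro h
  obtain ⟨O, hxO, i, _, hO⟩ := W.presheaf.germ_eq (U := ⊤) (V := ⊤) x trivial trivial t 0 (by rw [h, map_zero])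
  obtain ⟨y, hy, hyt⟩ := hd O ⟨x, hxO⟩
  have h0 : W.presheaf.germ ⊤ y trivial t = 0 := by
    rw [← W.presheaf.germ_res_apply i y hy t, hO, map_zero, map_zero]
  exact not_isUnit_zero (h0 ▸ (W.mem_basicOpen t y trivial).1 hyt)

theorem existsUnique_div (hn : Pi1.IsNormalScheme W) (s t : Γ(W, ⊤))
    (hd : ∀ O : W.Opens, (O : Set W).Nonempty → ∃ x ∈ O, x ∈ W.basicOpen t)
    (p : Γ(W, ⊤)[X]) (hp : p.Monic) (h : (p.scaleRoots t).eval s = 0) : ∃! r, r * t = s := by
  have hreg : ∀ (V : W.Opens) (a b : Γ(W, V)),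
      a * W.presheaf.map (homOfLE le_top).op t = b * W.presheaf.map (homOfLE le_top).op t → a = b := by
    intro V a b hab
    refine TopCat.Presheaf.section_ext W.sheaf V a b fun x hx => ?_
    haveI := (hn x).1
    show W.presheaf.germ V x hx a = W.presheaf.germ V x hx b
    refine mul_right_cancel₀ (germ_ne_zero_of_dense t hd x) ?_
    have := congrArg (W.presheaf.germ V x hx) hab
    rw [map_mul, map_mul, TopCat.Presheaf.germ_res_apply] at this
    exact this
  have hloc : ∀ x : W, ∃ (V : W.Opens) (_ : x ∈ V) (r : Γ(W, V)),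
      r * W.presheaf.map (homOfLE le_top).op t = W.presheaf.map (homOfLE le_top).op s := by
    intro x
    haveI := (hn x).1
    haveI := (hn x).2
    let γ := (W.presheaf.germ ⊤ x trivial).hom
    obtain ⟨c, hc⟩ : γ t ∣ γ s := by
      refine dvd_of_scaleRoots (q := p.map γ) (germ_ne_zero_of_dense t hd x) (hp.map γ) ?_
      rw [← map_scaleRoots _ _ _ (by rw [hp.leadingCoeff, map_one]; exact one_ne_zero), eval_map, eval₂_hom, h, map_zero]
    obtain ⟨V₀, hxV₀, r₀, hr₀⟩ := W.presheaf.exists_germ_eq c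
    obtain ⟨V, hxV, i₁, i₂, hV⟩ := W.presheaf.germ_eq x hxV₀ hxV₀ (r₀ * W.presheaf.map (homOfLE le_top).op t)
      (W.presheaf.map (homOfLE le_top).op s) (by
        rw [map_mul, hr₀, TopCat.Presheaf.germ_res_apply, TopCat.Presheaf.germ_res_apply]
        exact (mul_comm _ _).trans hc.symm)
    refine ⟨V, hxV, W.presheaf.map i₁.op r₀, ?_⟩
    rw [map_mul] at hV
    rw [← ConcreteCategory.comp_apply, ← W.presheaf.map_comp, ← ConcreteCategory.comp_apply, ← W.presheaf.map_comp] at hV
    exact hV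
  choose V hxV r hr using hloc
  have hres : ∀ {A B : W.Opens} (i : A ⟶ B) (a : Γ(W, ⊤)),
      W.presheaf.map i.op (W.presheaf.map (homOfLE le_top).op a) = W.presheaf.map (homOfLE le_top).op a := by
    intro A B i a
    rw [← ConcreteCategory.comp_apply, ← W.presheaf.map_comp]
    rfl
  obtain ⟨(g : Γ(W, ⊤)), hg, -⟩ := W.sheaf.existsUnique_gluing' V ⊤ (fun x => homOfLE le_top)
    (fun x _ => Opens.mem_iSup.2 ⟨x, hxV x⟩) r (fun x y => hreg _ _ _ (by
      have e₁ := congrArg (W.presheaf.map (Opens.infLELeft (V x) (V y)).op) (hr x)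
      have e₂ := congrArg (W.presheaf.map (Opens.infLERight (V x) (V y)).op) (hr y)
      rw [map_mul, hres, hres] at e₁ e₂
      exact e₁.trans e₂.symm))
  have hgts : g * t = s := TopCat.Presheaf.section_ext W.sheaf ⊤ _ _ fun x _ => by
    have e := congrArg (W.presheaf.germ (V x) x (hxV x)) (hr x)
    rw [show r x = W.presheaf.map (homOfLE le_top).op g from (hg x).symm, ← map_mul,
      TopCat.Presheaf.germ_res_apply, TopCat.Presheaf.germ_res_apply] at e
    exact e
  refine ⟨g, hgts, fun g' hg' => hreg ⊤ g' g ?_⟩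
  have e : W.presheaf.map (homOfLE le_top : (⊤ : W.Opens) ⟶ ⊤).op t = t := by
    rw [show (homOfLE le_top : (⊤ : W.Opens) ⟶ ⊤) = 𝟙 _ from Subsingleton.elim _ _, op_id, W.presheaf.map_id]
    rfl
  rw [e, hg', hgts]

end Groth.Agent.AlgSpDec
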