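import Groth.Agent.AlgSpDec.Closed
import Groth.Agent.EtFound.Descent

/-!
# One-point decent spaces, points over closed points of the base
-/

set_option backward.isDefEq.respectTransparency false
set_option backward.isDefEq.respectTransparency.types false

open CategoryTheory Limits Opposite AlgebraicGeometry MorphismProperty AlgSp Groth.Agent.AlgSpLib
  Groth.Agent.AlgSpPts Topology Order

namespace Groth.Agent.AlgSpDec

universe u

variable {S : Scheme.{u}} {X : Sp S}

theorem exists_iso_field_of_reduced (hA : IsAlgSpace X) (hX : IsDecent X)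
    (hr : EtaleLocally (fun U => IsReduced U) X) [Nonempty (Points X)] [Subsingleton (Points X)] :
    ∃ (k : Type u) (_ : Field k) (str : Spec (CommRingCat.of k) ⟶ S),
      Nonempty ((yon S).obj (Over.mk str) ≅ X) := by
  obtain ⟨V, c, hc, hc', hVr⟩ := hr
  obtain ⟨v, -⟩ := surjective_ofPt hc' (Classical.arbitrary _)
  obtain ⟨U, ι, u, hU, hι, -, ha⟩ := exists_affine_restrict hc v
  have : IsReduced U.left := isReduced_of_isOpenImmersion ι.left
  generalize hadef : (yon S).map ι ≫ c = a at ha
  have hUfin : Finite ↥U.left :=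
    Set.finite_univ_iff.1 ((finite_fibre hA hX ha (Points.ofPt a u)).subset fun w _ => Subsingleton.elim _ _)
  have hd : DiscreteTopology ↥U.left := by
    have : T1Space ↥U.left := t1Space_iff_specializes_imp_eq.2 fun w w' hw =>
      (eq_of_specializes_of_isDecent hX ha (Subsingleton.elim _ _) hw).symm
    infer_instance
  obtain ⟨p, hp, hm, hq⟩ := hX (Points.ofPt a u)
  let φ : (FieldPt.ofPt a u).pt ⟶ U := Over.homMk (U.left.fromSpecResidueField u) rfl
  have hφ : IsOpenImmersion φ.left := by
    change IsOpenImmersion (U.left.fromSpecResidueField u)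
    let W : U.left.Opens := ⟨{u}, isOpen_discrete _⟩
    let l : Spec (U.left.residueField u) ⟶ W.toScheme := IsOpenImmersion.lift W.ι (U.left.fromSpecResidueField u) (by
      rw [Scheme.range_fromSpecResidueField, Scheme.Opens.range_ι]; exact subset_rfl)
    have hl : l ≫ W.ι = U.left.fromSpecResidueField u := IsOpenImmersion.lift_fac _ _ _
    have : Subsingleton ↥W.toScheme := ⟨fun x y => Subtype.ext ((show x.1 = u from x.2).trans (show y.1 = u from y.2).symm)⟩
    have : IsReduced W.toScheme := isReduced_of_isOpenImmersion W.ι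
    have hfield : IsField Γ(W.toScheme, ⊤) := by
      have : IsIntegral W.toScheme := by
        have : Nonempty ↥W.toScheme := ⟨⟨u, rfl⟩⟩
        have : IrreducibleSpace ↥W.toScheme := { toNonempty := inferInstance, isPreirreducible_univ := fun A B _ _ ⟨x, _, hx⟩ ⟨y, _, hy⟩ =>
          ⟨x, trivial, hx, (Subsingleton.elim y x) ▸ hy⟩ }
        exact isIntegral_of_irreducibleSpace_of_isReduced _
      exact isField_of_isIntegral_of_subsingleton _
    have : IsAffine W.toScheme := inferInstance
    have : Nonempty ↥(Spec (U.left.residueField u)) := inferInstanceAs (Nonempty (PrimeSpectrum _))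
    let K := hfield.toField
    have : Mono (l ≫ W.ι) := by rw [hl]; infer_instance
    have : Mono l := mono_of_mono l W.ι
    have : Mono (l ≫ W.toScheme.isoSpec.hom) := mono_comp _ _
    have : IsIso (l ≫ W.toScheme.isoSpec.hom) :=
      isIso_of_mono_to_field (K := ↥Γ(W.toScheme, ⊤)) (l ≫ W.toScheme.isoSpec.hom)
    have : IsIso l := IsIso.of_isIso_comp_right l W.toScheme.isoSpec.hom
    rw [← hl]
    infer_instance
  have hq' : RepWith @Etale (FieldPt.ofPt a u).toHom := by
    rw [FieldPt.toHom_ofPt]
    refine repWith_comp ((repWith_yon_map_iff _ φ).2 ?_) ha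
    exact (inferInstance : Etale φ.left)
  have hr' : RepWith @Surjective (FieldPt.ofPt a u).toHom :=
    repWith_surjective_of_surjective hq'.rep fun y =>
      ⟨Points.ofScheme _ (IsLocalRing.closedPoint _), Subsingleton.elim _ _⟩
  obtain ⟨i, hi, -⟩ := existsUnique_factor p.toHom hq.rep (FieldPt.ofPt a u).toHom
    (Subsingleton.elim _ _)
  have : Epi (FieldPt.ofPt a u).toHom := epi_of_etale_surjective hq' hr'
  have : Epi p.toHom := epi_of_epi_fac hi
  have := hm
  have : IsIso p.toHom := isIso_of_mono_of_epi p.toHom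
  exact ⟨p.K, inferInstance, p.str, ⟨asIso p.toHom⟩⟩

theorem exists_iso_field_of_etale_surjective (hA : IsAlgSpace X) (hX : IsDecent X) {k : Type u} [Field k]
    {str : Spec (CommRingCat.of k) ⟶ S} (p : (yon S).obj (Over.mk str) ⟶ X) (hp : RepWith @Etale p)
    (hs : RepWith @Surjective p) :
    ∃ (k' : Type u) (_ : Field k') (str' : Spec (CommRingCat.of k') ⟶ S)
      (e : (yon S).obj (Over.mk str') ≅ X) (c : Over.mk str ⟶ Over.mk str'),
      (yon S).map c ≫ e.hom = p ∧ IsFinite c.left ∧ Etale c.left := by
  have : Nonempty (Points X) := ⟨Points.ofPt p (IsLocalRing.closedPoint k)⟩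
  have : Subsingleton ↥(Over.mk str).left := inferInstanceAs (Subsingleton (PrimeSpectrum k))
  have : Subsingleton (Points X) := (surjective_ofPt hs).subsingleton
  obtain ⟨k', _, str', ⟨e⟩⟩ := exists_iso_field_of_reduced hA hX
    ⟨Over.mk str, p, hp, hs, inferInstanceAs (IsReduced (Spec (CommRingCat.of k)))⟩
  obtain ⟨c, hc⟩ := (yon S).map_surjective (p ≫ e.inv)
  have hce : Etale c.left := (repWith_yon_map_iff _ c).1 (by
    rw [hc]; exact MorphismProperty.RespectsIso.postcomp _ _ _ hp)
  refine ⟨k', inferInstance, str', e, c, by rw [hc, Category.assoc, e.inv_hom_id, Category.comp_id], ?_, hce⟩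
  have : IsArtinianScheme (Over.mk str').left := inferInstanceAs (IsArtinianScheme (Spec (CommRingCat.of k')))
  have : Subsingleton ↥(Over.mk str).left := inferInstanceAs (Subsingleton (PrimeSpectrum k))
  have : QuasiCompact c.left := quasiCompact_of_subsingleton c.left
  exact IsFinite.of_locallyQuasiFinite c.left

/-- A morphism from a zero-dimensional scheme which is `P` over the base is `P`. -/
theorem repWith_of_artinian {P : MorphismProperty Scheme.{u}} [P.HasOfPostcompProperty @IsSeparated]
    [P.IsStableUnderBaseChange] [P.IsStableUnderComposition] [IsZariskiLocalAtTarget P]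
    [P.DescendsAlong (@Surjective ⊓ @Flat ⊓ @QuasiCompact)]
    (hA : IsAlgSpace X) {T : Over S} (hT : P T.hom) (hqc : ∀ {V W : Scheme.{u}} (f : W ⟶ V), QuasiCompact f → LocallyQuasiFinite f → IsLocallyArtinian V → P f)
    [IsLocallyArtinian T.left] (p : (yon S).obj T ⟶ X) (hp : RepWith @QuasiCompact p) : RepWith P p := by
  obtain ⟨U, a, ha, ha'⟩ := hA.atlas
  let 𝒰 := U.left.affineCover
  have : MorphismProperty.IsLocalAtTarget P Scheme.fppfPrecoverage := isLocalAtTarget_fppf _
  have := isLocallySurjective_of_etale_surjective ha ha'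
  refine repWith_of_locallySurjective hp.rep a (hp.rep.isPullback a) _ ((repWith_yon_map_iff _ _).2 ?_)
  let pT : hp.rep.pullback a ⟶ T := hp.rep.fst' a
  let pU : hp.rep.pullback a ⟶ U := hp.rep.snd a
  have : Etale pT.left := ha.property _ _ _ (hp.rep.isPullback' a).flip
  have : QuasiCompact pU.left := hp.property_snd a
  refine (IsZariskiLocalAtTarget.iff_of_iSup_eq_top (P := P)
    (fun i : U.left.affineOpens => i.1) (iSup_affineOpens_eq_top _)).2 fun U' => ?_
  let W := pU.left ⁻¹ᵁ U'.1
  have hsep : IsSeparated (U'.1.ι ≫ U.hom) := by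
    have : IsAffine U'.1.toScheme := U'.2
    infer_instance
  refine MorphismProperty.of_postcomp (W := P) (W' := @IsSeparated) (pU.left ∣_ U'.1) (U'.1.ι ≫ U.hom) hsep ?_
  rw [morphismRestrict_ι_assoc, Over.w pU, ← Over.w pT, ← Category.assoc]
  refine P.comp_mem _ _ (hqc _ ?_ inferInstance inferInstance) hT
  have : CompactSpace ↥W.toScheme := isCompact_iff_compactSpace.1
    (QuasiCompact.isCompact_preimage (f := pU.left) _ U'.1.isOpen U'.2.isCompact)
  have : QuasiCompact (W.ι ≫ pT.left) := by
    refine (quasiCompact_iff _).2 fun A _ hA' => ?_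
    have : Finite ↥W.toScheme := by
      have hd := (W.ι ≫ pT.left).isDiscrete_preimage (s := Set.univ) (isDiscrete_univ_iff.2 inferInstance)
      rw [Set.preimage_univ, isDiscrete_univ_iff] at hd
      exact finite_of_compact_of_discrete
    exact (Set.toFinite _).isCompact
  exact this


theorem isLocallyArtinian_field {K : Type u} [Field K] {str : Spec (CommRingCat.of K) ⟶ S} :
    IsLocallyArtinian (Over.mk str).left := inferInstanceAs (IsLocallyArtinian (Spec (CommRingCat.of K)))

theorem isClosedImmersion_fromSpecResidueField {s : ↥S} (hs : IsClosed ({s} : Set ↥S)) :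
    IsClosedImmersion (S.fromSpecResidueField s) :=
  .of_isPreimmersion _ (by rwa [Scheme.range_fromSpecResidueField])

theorem repWith_isFinite_over_closedPoint (hA : IsAlgSpace X) (hX : IsDecent X) {s : ↥S}
    (hs : IsClosed ({s} : Set ↥S)) {k : Type u} [Field k] (φ : S.residueField s ⟶ CommRingCat.of k)
    (hφ : φ.hom.Finite) (p : (yon S).obj (Over.mk (Spec.map φ ≫ S.fromSpecResidueField s)) ⟶ X) :
    RepWith @IsFinite p := by
  have := isClosedImmersion_fromSpecResidueField hs
  have : IsFinite (Spec.map φ) := (IsFinite.SpecMap_iff φ).2 hφ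
  have : IsFinite (Over.mk (Spec.map φ ≫ S.fromSpecResidueField s)).hom :=
    inferInstanceAs (IsFinite (Spec.map φ ≫ S.fromSpecResidueField s))
  have := isLocallyArtinian_field (K := k) (str := Spec.map φ ≫ S.fromSpecResidueField s)
  have := EtFound.fpqc_isFinite.{u}
  refine repWith_of_artinian hA ‹IsFinite _› (fun f _ _ _ => IsFinite.of_locallyQuasiFinite f) p ?_
  let q : FieldPt X := ⟨k, Spec.map φ ≫ S.fromSpecResidueField s, (J S).uliftYonedaEquiv p⟩
  have : q.toHom = p := Equiv.symm_apply_apply _ _
  exact this ▸ repWith_quasiCompact_toHom hA hX q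

theorem repWith_isClosedImmersion_over_closedPoint (hA : IsAlgSpace X) (hX : IsDecent X) {s : ↥S}
    (hs : IsClosed ({s} : Set ↥S)) {k : Type u} [Field k] (φ : S.residueField s ⟶ CommRingCat.of k)
    (hφ : Function.Bijective φ.hom)
    (p : (yon S).obj (Over.mk (Spec.map φ ≫ S.fromSpecResidueField s)) ⟶ X) :
    RepWith @IsClosedImmersion p := by
  have hfin := repWith_isFinite_over_closedPoint hA hX hs φ (RingHom.Finite.of_surjective _ hφ.2) p
  have : IsIso (Spec.map φ) := isIso_SpecMap_iff.2 hφ
  have hm : Mono p := mono_of_yon_injective fun T a b _ => by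
    obtain ⟨a, rfl⟩ := (yon S).map_surjective a
    obtain ⟨b, rfl⟩ := (yon S).map_surjective b
    congr 1
    apply Over.OverMorphism.ext
    rw [← cancel_mono (Spec.map φ ≫ S.fromSpecResidueField s)]
    exact (Over.w a).trans (Over.w b).symm
  refine ⟨hfin.rep, fun T W g fst snd sq => ?_⟩
  have : IsFinite snd.left := hfin.property g fst snd sq
  have : Mono ((yon S).map snd) := PullbackCone.mono_snd_of_is_pullback_of_mono sq.isLimit
  have : Mono snd := (yon S).mono_of_mono_map this
  have : Mono snd.left := inferInstanceAs (Mono ((Over.forget S).map snd))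
  exact (IsClosedImmersion.iff_isFinite_and_mono snd.left).2 ⟨‹IsFinite snd.left›, this⟩

theorem isClosed_point_over_closedPoint (hA : IsAlgSpace X) (hX : IsDecent X) {s : ↥S}
    (hs : IsClosed ({s} : Set ↥S)) {k : Type u} [Field k] (φ : S.residueField s ⟶ CommRingCat.of k)
    (hφ : φ.hom.IsIntegral)
    (p : (yon S).obj (Over.mk (Spec.map φ ≫ S.fromSpecResidueField s)) ⟶ X) (t : ↥(Spec (CommRingCat.of k))) :
    IsClosed ({Points.ofPt p t} : Set (Points X)) := by
  have := isClosedImmersion_fromSpecResidueField hs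
  have : IsIntegralHom (Spec.map φ) := (IsIntegralHom.SpecMap_iff).2 hφ
  have : IsIntegralHom (Over.mk (Spec.map φ ≫ S.fromSpecResidueField s)).hom :=
    inferInstanceAs (IsIntegralHom (Spec.map φ ≫ S.fromSpecResidueField s))
  have := isLocallyArtinian_field (K := k) (str := Spec.map φ ≫ S.fromSpecResidueField s)
  have := EtFound.fpqc_isIntegralHom.{u}
  let q : FieldPt X := ⟨k, Spec.map φ ≫ S.fromSpecResidueField s, (J S).uliftYonedaEquiv p⟩
  have hqp : q.toHom = p := Equiv.symm_apply_apply _ _
  have hint : RepWith @IsIntegralHom p := repWith_of_artinian hA ‹IsIntegralHom _›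
    (fun f _ _ _ => have := IsFinite.of_locallyQuasiFinite f; inferInstance) p
    (hqp ▸ repWith_quasiCompact_toHom hA hX q)
  obtain ⟨U, a, ha, ha'⟩ := hA.atlas
  have : IsIntegralHom (hint.rep.snd a).left := hint.property_snd a
  rw [← isOpen_compl_iff, isOpen_iff_chart ha ha', Set.preimage_compl, isOpen_compl_iff]
  convert (hint.rep.snd a).left.isClosedMap.isClosed_range using 1
  ext u
  simp only [Set.mem_preimage, Set.mem_singleton_iff, Set.mem_range]
  constructor
  · intro hu
    obtain ⟨w, -, hw⟩ := exists_ofPt_of_eq (hint.rep.isPullback' a) hu.symm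
    exact ⟨w, hw⟩
  · rintro ⟨w, rfl⟩
    have h1 : Points.ofPt a ((hint.rep.snd a).left w) = Points.ofPt p ((hint.rep.fst' a).left w) := by
      rw [← ofPt_comp, ← ofPt_comp, (hint.rep.isPullback' a).w]
    rw [h1]
    congr 1
    exact @Subsingleton.elim _ (inferInstanceAs (Subsingleton (PrimeSpectrum k))) _ _

end Groth.Agent.AlgSpDec
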