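import Mathlib.RingTheory.QuasiFinite.Basic
import Mathlib.AlgebraicGeometry.Limits
import Mathlib.AlgebraicGeometry.Morphisms.Finite
import Groth.Agent.AlgSpDec.FiniteQuot
import Groth.Agent.AlgSpDec.OnePoint
import Groth.Agent.AlgSpDec.More

/-!
# Decent spaces with one point
-/

set_option backward.isDefEq.respectTransparency false
set_option backward.isDefEq.respectTransparency.types false

universe u

open CategoryTheory Limits Opposite AlgebraicGeometry AlgSp Groth.Agent.AlgSpLib Groth.Agent.AlgSpPts

namespace Groth.Agent.AlgSpDec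

/-- A quasi-finite algebra of finite type over a ring with one prime is finite. -/
theorem finite_of_subsingleton {A B : Type u} [CommRing A] [CommRing B] [Algebra A B] [Nontrivial A]
    [Subsingleton (PrimeSpectrum A)] [Algebra.FiniteType A B] [Algebra.QuasiFinite A B] : Module.Finite A B := by
  obtain ⟨m, hm⟩ := Ideal.exists_maximal A
  let _ := Ideal.Quotient.field m
  let B' := B ⧸ m.map (algebraMap A B)
  have : Algebra.QuasiFinite (A ⧸ m) B' := Algebra.QuasiFinite.of_restrictScalars A (A ⧸ m) B'
  have : Module.Finite (A ⧸ m) B' := Module.Finite.of_quasiFinite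
  have : Module.Finite A B' := Module.Finite.trans (A ⧸ m) B'
  have : Algebra.IsIntegral A B := ⟨fun b => by
    obtain ⟨P, hP, hPb⟩ := Algebra.IsIntegral.isIntegral (R := A) (Ideal.Quotient.mk (m.map (algebraMap A B)) b)
    have h : Polynomial.aeval b P ∈ m.map (algebraMap A B) := by
      rw [← Ideal.Quotient.eq_zero_iff_mem]
      exact (Polynomial.aeval_algHom_apply (Ideal.Quotient.mkₐ A (m.map (algebraMap A B))) b P).symm.trans hPb
    have hnil : Polynomial.aeval b P ∈ nilradical B := by
      rw [nilradical_eq_sInf, Ideal.mem_sInf]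
      intro Q hQ
      have : Q.IsPrime := hQ
      have e : Q.comap (algebraMap A B) = m :=
        congrArg PrimeSpectrum.asIdeal (Subsingleton.elim (⟨_, Ideal.IsPrime.comap _⟩ : PrimeSpectrum A) ⟨m, hm.isPrime⟩)
      exact Ideal.map_le_iff_le_comap.2 e.ge h
    obtain ⟨n, hn⟩ := hnil
    exact ⟨P ^ n, hP.pow n, by rw [← Polynomial.aeval_def, map_pow, hn]⟩⟩
  exact Algebra.IsIntegral.finite

variable {S : Scheme.{u}} {X : Sp S}

theorem exists_affine_iso_of_subsingleton (hA : IsAlgSpace X) (hX : IsDecent X) [Nonempty (Points X)]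
    [Subsingleton (Points X)] : ∃ Z : Over S, IsAffine Z.left ∧ Nonempty ((yon S).obj Z ≅ X) := by
  obtain ⟨V, c, hc, hc'⟩ := hA.atlas
  obtain ⟨v, -⟩ := surjective_ofPt hc' (Classical.arbitrary _)
  obtain ⟨U, j, u, hUa, hj, -, ha⟩ := exists_affine_restrict hc v
  generalize hadef : (yon S).map j ≫ c = a at ha
  have hUfin : Finite ↥U.left :=
    Set.finite_univ_iff.1 ((finite_fibre hA hX ha (Points.ofPt a u)).subset fun w _ => Subsingleton.elim _ _)
  have hdU : DiscreteTopology ↥U.left := by
    have : T1Space ↥U.left := t1Space_iff_specializes_imp_eq.2 fun w w' hw =>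
      (eq_of_specializes_of_isDecent hX ha (Subsingleton.elim _ _) hw).symm
    infer_instance
  let O : U.left.Opens := ⟨{u}, isOpen_discrete _⟩
  let W : Over S := Over.mk (O.ι ≫ U.hom)
  let i : W ⟶ U := CategoryTheory.Over.homMk O.ι rfl
  have hie : Etale i.left := (inferInstance : Etale O.ι)
  let b : (yon S).obj W ⟶ X := (yon S).map i ≫ a
  have hb : RepWith @Etale b := repWith_comp ((repWith_yon_map_iff _ i).2 hie) ha
  have hWsub : Subsingleton ↥W.left := ⟨fun x y => Subtype.ext
    ((show x.1 = u from x.2).trans (show y.1 = u from y.2).symm)⟩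
  have hWne : Nonempty ↥W.left := ⟨⟨u, rfl⟩⟩
  have hWd : DiscreteTopology ↥W.left := ⟨Subsingleton.elim _ _⟩
  have hWa : IsAffine W.left := inferInstance
  have hb' : RepWith @Surjective b :=
    repWith_surjective_of_surjective hb.rep fun y => ⟨Points.ofScheme _ (Classical.arbitrary _), Subsingleton.elim _ _⟩
  have : Nonempty ↥(Spec Γ(W.left, ⊤)) := ⟨W.left.isoSpec.hom (Classical.arbitrary _)⟩
  have hsp : Subsingleton (PrimeSpectrum ↑Γ(W.left, ⊤)) :=
    W.left.isoSpec.inv.isOpenEmbedding.injective.subsingleton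
  have hne : Nontrivial ↑Γ(W.left, ⊤) := PrimeSpectrum.nonempty_iff_nontrivial.1 ‹_›
  have : IsLocalRing ↑Γ(W.left, ⊤) := by
    obtain ⟨m, hm⟩ := Ideal.exists_maximal ↑Γ(W.left, ⊤)
    exact IsLocalRing.of_unique_max_ideal ⟨m, hm, fun m' hm' => congrArg PrimeSpectrum.asIdeal
      (Subsingleton.elim (⟨m', hm'.isPrime⟩ : PrimeSpectrum _) ⟨m, hm.isPrime⟩)⟩
  let R := hb.rep.pullback b
  let t : R ⟶ W := hb.rep.fst' b
  let s : R ⟶ W := hb.rep.snd b
  have sq : IsPullback ((yon S).map t) ((yon S).map s) b b := hb.rep.isPullback' b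
  have hse : Etale s.left := hb.property_snd b
  have hq : RepWith @QuasiCompact (FieldPt.ofPt b (Classical.arbitrary ↥W.left)).toHom :=
    repWith_quasiCompact_toHom hA hX _
  have hRfin : Finite ↥R.left := Set.finite_univ_iff.1 ((finite_fibre_pullback hb ⊤ (CompactSpace.isCompact_univ)
    (Classical.arbitrary ↥W.left) hq).subset fun r _ => ⟨Subsingleton.elim _ _, trivial⟩)
  have hRd : DiscreteTopology ↥R.left := by
    have h1 := s.left.isDiscrete_preimage_singleton (Classical.arbitrary ↥W.left)
    rw [show s.left ⁻¹' {Classical.arbitrary ↥W.left} = Set.univ from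
      Set.eq_univ_of_forall fun x => Subsingleton.elim (α := ↥W.left) _ _] at h1
    exact isDiscrete_univ_iff.1 h1
  have hRa : IsAffine R.left := inferInstance
  have : IsFinite s.left := by
    rw [HasAffineProperty.iff_of_isAffine (P := @IsFinite)]
    refine ⟨inferInstance, ?_⟩
    have hq : s.left.appTop.hom.QuasiFinite :=
      (HasRingHomProperty.iff_of_isAffine (P := @LocallyQuasiFinite)).1
        (AlgSpLib.locallyQuasiFinite_of_formallyUnramified s.left)
    have hft : s.left.appTop.hom.FiniteType :=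
      (HasRingHomProperty.iff_of_isAffine (P := @LocallyOfFiniteType)).1 inferInstance
    algebraize [s.left.appTop.hom]
    exact RingHom.finite_algebraMap.2 finite_of_subsingleton
  exact exists_iso_of_finite_relation hA hb hb' sq

end Groth.Agent.AlgSpDec
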