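import Groth.Agent.AlgSpDec.BaseChangeCharts
import Groth.Agent.AlgSpLib.LargestOpen
import Groth.Agent.AlgSpDec.GpdFibres
import Groth.Agent.AlgSpDec.GrpGroupoid
import Groth.Agent.AlgSpPts.OpenSub

/-!
Loci in the points of a space cut out by a pointwise property of morphisms of schemes which is etale
local on source and target and commutes with base change.
-/

set_option autoImplicit false
set_option backward.isDefEq.respectTransparency false
set_option backward.isDefEq.respectTransparency.types false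

universe u

open CategoryTheory CategoryTheory.Limits AlgebraicGeometry AlgSp Groth.Agent.AlgSpLib Groth.Agent.AlgSpPts

namespace Groth.Agent.AlgSpDec.PointLocus

/-- A pointwise property of morphisms locally of finite type. -/
structure PtProp (Q : ∀ {X Y : Scheme.{u}}, (X ⟶ Y) → X → Prop) : Prop where
  precomp : ∀ {X Y Z : Scheme.{u}} (e : X ⟶ Y) (g : Y ⟶ Z) [Etale e] [LocallyOfFiniteType g] (x : X),
    Q (e ≫ g) x ↔ Q g (e x)
  postcomp : ∀ {X Y Z : Scheme.{u}} (g : X ⟶ Y) (j : Y ⟶ Z) [LocallyOfFiniteType g] [Etale j] (x : X),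
    Q (g ≫ j) x ↔ Q g x
  baseChange : ∀ {X Y X' Y' : Scheme.{u}} {p : X' ⟶ X} {q : X' ⟶ Y'} {f : X ⟶ Y} {g : Y' ⟶ Y}
    [LocallyOfFiniteType f] [LocallyOfFiniteType q], IsPullback p q f g → ∀ x', Q q x' ↔ Q f (p x')
  isOpen : ∀ {X Y : Scheme.{u}} (f : X ⟶ Y) [LocallyOfFiniteType f], IsOpen {x | Q f x}

variable {Q : ∀ {X Y : Scheme.{u}}, (X ⟶ Y) → X → Prop}
variable {S : Scheme.{u}} {F G : Sp S} {f : F ⟶ G}

/-- The property at a point of a morphism of spaces. -/
abbrev At (Q : ∀ {X Y : Scheme.{u}}, (X ⟶ Y) → X → Prop) (f : F ⟶ G) (x : Points F) : Prop :=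
  HasAtMor (fun _ _ h u => Q h u) f x

theorem congr_charts (hQ : PtProp @Q) (hf : LocP @LocallyOfFiniteType f) {U V U' V' : Over S}
    {a : (yon S).obj U ⟶ F} {b : (yon S).obj V ⟶ G} {h : U ⟶ V} {u : ↥U.left}
    {a' : (yon S).obj U' ⟶ F} {b' : (yon S).obj V' ⟶ G} {h' : U' ⟶ V'} {u' : ↥U'.left}
    (ha : RepWith @Etale a) (hb : RepWith @Etale b) (w : a ≫ f = (yon S).map h ≫ b)
    (ha' : RepWith @Etale a') (hb' : RepWith @Etale b') (w' : a' ≫ f = (yon S).map h' ≫ b')
    (he : Points.ofPt a u = Points.ofPt a' u') : Q h.left u ↔ Q h'.left u' := by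
  have : LocallyOfFiniteType h.left := hf a b h ha hb w
  have : LocallyOfFiniteType h'.left := hf a' b' h' ha' hb' w'
  let pa : ha.rep.pullback a' ⟶ U := ha.rep.fst' a'
  let pa' : ha.rep.pullback a' ⟶ U' := ha.rep.snd a'
  let wb : hb.rep.pullback b' ⟶ V := hb.rep.fst' b'
  let wb' : hb.rep.pullback b' ⟶ V' := hb.rep.snd b'
  have sqA := ha.rep.isPullback' a'
  have sqB := hb.rep.isPullback' b'
  obtain ⟨z, hz, hz'⟩ := exists_ofPt_of_eq sqA he
  haveI : Etale pa'.left := ha.property_snd a'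
  haveI : Etale pa.left := ha'.property _ _ _ sqA.flip
  haveI : Etale wb'.left := hb.property_snd b'
  haveI : Etale wb.left := hb'.property _ _ _ sqB.flip
  have hc : (yon S).map (pa ≫ h) ≫ b = (yon S).map (pa' ≫ h') ≫ b' := by
    rw [(yon S).map_comp pa h, (yon S).map_comp pa' h', Category.assoc, Category.assoc, ← w, ← w',
      ← Category.assoc, sqA.w, Category.assoc]
  obtain ⟨k, hk⟩ := (yon S).map_surjective (sqB.lift _ _ hc)
  have hk₁ : k ≫ wb = pa ≫ h := (yon S).map_injective (by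
    rw [(yon S).map_comp k wb, hk]; exact sqB.lift_fst _ _ _)
  have hk₂ : k ≫ wb' = pa' ≫ h' := (yon S).map_injective (by
    rw [(yon S).map_comp k wb', hk]; exact sqB.lift_snd _ _ _)
  haveI : LocallyOfFiniteType k.left := by
    haveI : LocallyOfFiniteType (k.left ≫ wb.left) := by
      rw [← Over.comp_left, hk₁, Over.comp_left]; infer_instance
    exact locallyOfFiniteType_of_comp k.left wb.left
  rw [← hz, ← hz', ← hQ.precomp pa.left h.left z, ← hQ.precomp pa'.left h'.left z,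
    ← Over.comp_left, ← Over.comp_left, ← hk₁, ← hk₂, Over.comp_left, Over.comp_left,
    hQ.postcomp, hQ.postcomp]

theorem at_iff_chart (hQ : PtProp @Q) (hf : LocP @LocallyOfFiniteType f) {U V : Over S}
    {a : (yon S).obj U ⟶ F} {b : (yon S).obj V ⟶ G} {h : U ⟶ V} (ha : RepWith @Etale a)
    (hb : RepWith @Etale b) (w : a ≫ f = (yon S).map h ≫ b) (u : ↥U.left) :
    At @Q f (Points.ofPt a u) ↔ Q h.left u := by
  refine ⟨?_, fun hu => ⟨U, V, a, b, h, u, ha, hb, w, rfl, hu⟩⟩
  rintro ⟨U', V', a', b', h', u', ha', hb', w', hx, hu'⟩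
  exact (congr_charts hQ hf ha hb w ha' hb' w' hx.symm).2 hu'

theorem isOpen_at (hQ : PtProp @Q) (hf : LocP @LocallyOfFiniteType f) :
    IsOpen {x : Points F | At @Q f x} := by
  rw [isOpen_iff_forall_mem_open]
  rintro x ⟨U, V, a, b, h, u, ha, hb, w, hx, hu⟩
  haveI : LocallyOfFiniteType h.left := hf a b h ha hb w
  refine ⟨Points.ofPt a '' {u' | Q h.left u'}, ?_, isOpenMap_ofPt ha _ (hQ.isOpen h.left), u, hu, hx⟩
  rintro _ ⟨u', hu', rfl⟩
  exact ⟨U, V, a, b, h, u', ha, hb, w, rfl, hu'⟩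

theorem locP_iff (hQ : PtProp @Q) {P : MorphismProperty Scheme.{u}}
    (hP : ∀ {X Y : Scheme.{u}} (h : X ⟶ Y) [LocallyOfFiniteType h], P h ↔ ∀ x, Q h x)
    (hF : IsAlgSpace F) (hG : IsAlgSpace G) (hf : LocP @LocallyOfFiniteType f) :
    LocP P f ↔ ∀ x : Points F, At @Q f x := by
  constructor
  · intro hp x
    obtain ⟨U, V, a, b, h, ha, ha', hb, -, w⟩ := exists_chart hF hG f
    obtain ⟨u, rfl⟩ := surjective_ofPt ha' x
    haveI : LocallyOfFiniteType h.left := hf a b h ha hb w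
    exact (at_iff_chart hQ hf ha hb w u).2 ((hP h.left).1 (hp a b h ha hb w) u)
  · intro H U V a b h ha hb w
    haveI : LocallyOfFiniteType h.left := hf a b h ha hb w
    exact (hP h.left).2 fun u => (at_iff_chart hQ hf ha hb w u).1 (H _)

theorem at_baseChange_iff (hQ : PtProp @Q) {F' G' : Sp S} {g : G' ⟶ G} {fst : F' ⟶ F} {snd : F' ⟶ G'}
    (sq : IsPullback fst snd f g) (hF : IsAlgSpace F) (hG : IsAlgSpace G) (hG' : IsAlgSpace G')
    (hf : LocP @LocallyOfFiniteType f) (x' : Points F') :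
    At @Q snd x' ↔ At @Q f (Points.map fst x') := by
  obtain ⟨U, V, W, a, b, c, h, h₁, a', ha, hb, hc, w, ha', hs', w', w''⟩ :=
    exists_baseChange_charts sq hF hG hG'
  obtain ⟨z, rfl⟩ := surjective_ofPt hs' x'
  have hx : Points.map fst (Points.ofPt a' z) = Points.ofPt a ((pullback.fst h h₁).left z) := by
    rw [Points.map_ofPt, w'', ofPt_comp]
  rw [hx, at_iff_chart hQ (locP_of_isPullback sq hF hG hG' hf) ha' hc w' z, at_iff_chart hQ hf ha hb w]
  haveI hl : LocallyOfFiniteType h.left := hf a b h ha hb w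
  haveI : LocallyOfFiniteType ((Over.forget S).map h) := hl
  have sq' := (IsPullback.of_hasPullback h h₁).map (Over.forget S)
  haveI : LocallyOfFiniteType ((Over.forget S).map (pullback.snd h h₁)) :=
    MorphismProperty.of_isPullback (P := @LocallyOfFiniteType) sq' hl
  exact hQ.baseChange sq' z

theorem locP_iso_comp (P : MorphismProperty Scheme.{u}) {F' : Sp S} (φ : F' ⟶ F) [IsIso φ] {g : F ⟶ G}
    (hg : LocP P g) : LocP P (φ ≫ g) := fun U V a b h ha hb w =>
  hg (a ≫ φ) b h (repWith_comp ha (repWith_of_isIso _ φ)) hb (by rw [Category.assoc, w])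

theorem locP_iso_comp_iff (P : MorphismProperty Scheme.{u}) {F' : Sp S} (φ : F' ⟶ F) [IsIso φ] (g : F ⟶ G) :
    LocP P (φ ≫ g) ↔ LocP P g :=
  ⟨fun h => by simpa using locP_iso_comp P (inv φ) h, locP_iso_comp P φ⟩

open GpdIdent GpdFibres in
/-- For a groupoid, the property holds at an arrow iff it holds at the identity of its target. -/
theorem at_translate (hQ : PtProp @Q) {B : Sp S} (Γ : GroupoidSp B) (hR : IsAlgSpace Γ.R)
    (hU : IsAlgSpace Γ.U) (hs : LocP @LocallyOfFiniteType Γ.s) (x : Points Γ.R) :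
    At @Q Γ.s x ↔ At @Q Γ.s (Points.map (Γ.t ≫ Γ.e) x) := by
  obtain ⟨T, q, t, -, rfl⟩ := exists_ofPt_eq x
  rw [Points.map_ofPt]
  set r := q ≫ Γ.t ≫ Γ.e with hr_def
  have hrt : r ≫ Γ.t = q ≫ Γ.t := by
    rw [hr_def, Category.assoc, Category.assoc, Γ.e_t, Category.comp_id]
  let p₁ : (yon S).obj T ⟶ pullback (q ≫ Γ.s) Γ.s := pullback.lift (𝟙 _) q (by rw [Category.id_comp])
  let p₂ : (yon S).obj T ⟶ pullback (r ≫ Γ.s) Γ.s := pullback.lift (𝟙 _) r (by rw [Category.id_comp])
  have hp : p₂ ≫ shift r q hrt = p₁ := by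
    apply pullback.hom_ext
    · rw [Category.assoc, shift_fst, pullback.lift_fst, pullback.lift_fst]
    · rw [Category.assoc, shift, pullback.lift_snd, pullback.lift_snd, pre_comp]
      have hA : (r ≫ Γ.i) ≫ Γ.s = q ≫ Γ.t := trans_hs r q hrt
      have hB : r ≫ Γ.s = GpdIdent.comp Γ (r ≫ Γ.i) q hA ≫ Γ.t := by
        rw [comp_t', Category.assoc r Γ.i, Γ.i_t]
      refine (comp_congr Γ _ hB (pullback.lift_snd _ _ _) ?_).trans (comp_inv_comp' Γ r q hrt hA hB)
      rw [← Category.assoc, pullback.lift_fst, Category.id_comp]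
      rfl
  have hT : IsAlgSpace ((yon S).obj T) := IsAlgSpace.yon_obj _
  have sq₁ := (IsPullback.of_hasPullback (q ≫ Γ.s) Γ.s).flip
  have sq₂ := (IsPullback.of_hasPullback (r ≫ Γ.s) Γ.s).flip
  have k₁ := at_baseChange_iff hQ sq₁ hR hU hT hs (Points.ofPt p₁ t)
  have k₂ := at_baseChange_iff hQ sq₂ hR hU hT hs (Points.ofPt p₂ t)
  rw [Points.map_ofPt, pullback.lift_snd] at k₁ k₂
  rw [← k₁, ← k₂, ← hp, ← Points.map_ofPt]
  haveI : IsIso (shift r q hrt) := ⟨shift q r hrt.symm, shift_shift r q hrt, shift_shift q r hrt.symm⟩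
  refine (at_baseChange_iff hQ (IsPullback.of_horiz_isIso (fst := shift r q hrt)
    (snd := pullback.fst (r ≫ Γ.s) Γ.s) (f := pullback.fst (q ≫ Γ.s) Γ.s) (g := 𝟙 _)
    ⟨by rw [shift_fst, Category.comp_id]⟩) (isAlgSpace_pullback hT hR hU _ _) hT hT
    (locP_of_isPullback sq₁ hR hU hT hs) _).symm

open MonoidalCategory MonObj in
/-- The largest open of the base over which a group space has the property. -/
theorem exists_largest (hQ : PtProp @Q) {P : MorphismProperty Scheme.{u}}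
    (hP : ∀ {X Y : Scheme.{u}} (h : X ⟶ Y) [LocallyOfFiniteType h], P h ↔ ∀ x, Q h x)
    {B : Sp S} (hB : IsAlgSpace B) (G : Over B) [GrpObj G] (hG : IsAlgSpace G.left)
    (hlft : LocP @LocallyOfFiniteType G.hom) :
    ∃ (W : Sp S) (w : W ⟶ B), RepWith @IsOpenImmersion w ∧
      (∀ (W' : Sp S) (w' : W' ⟶ B), RepWith @IsOpenImmersion w' →
        (LocP P (pullback.snd G.hom w') ↔ ∃ k : W' ⟶ W, k ≫ w = w')) ∧
      (∀ (B' : Sp S), IsAlgSpace B' → ∀ (f : B' ⟶ B) (W'' : Sp S) (w'' : W'' ⟶ B'),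
        RepWith @IsOpenImmersion w'' →
        (LocP P (pullback.snd (pullback.snd G.hom f) w'') ↔
          ∃ k : W'' ⟶ pullback w f, k ≫ pullback.snd w f = w'')) := by
  let Γ := GrpGroupoid.groupoid G
  obtain ⟨W, w, hW, hw, hr⟩ := exists_open_subspace hB
    ((isOpen_at hQ hlft).preimage (Points.continuous_map Γ.e))
  have key : ∀ (W' : Sp S) (w' : W' ⟶ B), IsAlgSpace W' →
      (LocP P (pullback.snd G.hom w') ↔ Set.range (Points.map w') ⊆ Set.range (Points.map w)) := by
    intro W' w' hW'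
    have sq := IsPullback.of_hasPullback G.hom w'
    rw [locP_iff hQ hP (isAlgSpace_pullback hG hW' hB _ _) hW' (locP_of_isPullback sq hG hB hW' hlft), hr]
    constructor
    · rintro H _ ⟨y, rfl⟩
      obtain ⟨z, h1, -⟩ := exists_point_of_isPullback sq (x := Points.map Γ.e (Points.map w' y)) (y := y)
        (by rw [← Points.map_comp]; exact (congrFun (congrArg Points.map Γ.e_s) _).trans (Points.map_id _))
      have h2 := (at_baseChange_iff hQ sq hG hB hW' hlft z).1 (H z)
      rw [h1] at h2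
      exact h2
    · intro H z
      rw [at_baseChange_iff hQ sq hG hB hW' hlft z]
      refine (at_translate hQ Γ hG hB hlft _).2 ?_
      have h2 := H ⟨Points.map (pullback.snd G.hom w') z, rfl⟩
      rw [← Points.map_comp, ← pullback.condition, Points.map_comp] at h2
      rw [Points.map_comp]
      exact h2
  refine ⟨W, w, hw, fun W' w' hw' => ?_, fun B' hB' f W'' w'' hw'' => ?_⟩
  · have hW' : IsAlgSpace W' := Groth.Agent.AlgSpLib.isAlgSpace_of_representable w' hw'.rep hB
    rw [key W' w' hW']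
    refine ⟨fun h => exists_lift_openImmersion hW' hW hB hw w' h, ?_⟩
    rintro ⟨k, rfl⟩ _ ⟨y, rfl⟩
    exact ⟨Points.map k y, (Points.map_comp k w y).symm⟩
  · have hW'' : IsAlgSpace W'' := Groth.Agent.AlgSpLib.isAlgSpace_of_representable w'' hw''.rep hB'
    have hP' := (IsPullback.of_hasPullback (pullback.snd G.hom f) w'').paste_horiz (IsPullback.of_hasPullback G.hom f)
    have e : LocP P (pullback.snd (pullback.snd G.hom f) w'') ↔ LocP P (pullback.snd G.hom (w'' ≫ f)) := by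
      rw [← hP'.isoPullback_hom_snd]
      exact locP_iso_comp_iff _ _ _
    rw [e, key W'' (w'' ≫ f) hW'']
    constructor
    · intro h
      obtain ⟨k, hk⟩ := exists_lift_openImmersion hW'' hW hB hw (w'' ≫ f) h
      exact ⟨pullback.lift k w'' hk, pullback.lift_snd _ _ _⟩
    · rintro ⟨k, rfl⟩ _ ⟨y, rfl⟩
      refine ⟨Points.map (k ≫ pullback.fst w f) y, ?_⟩
      rw [← Points.map_comp, Category.assoc, Category.assoc, pullback.condition]

end Groth.Agent.AlgSpDec.PointLocus
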