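import Groth.Agent.AlgSpDec.PointLocus
import Groth.Agent.AlgSpDec.RelDimSp
import Groth.Agent.AlgSpDec.FieldFibre
import Groth.Agent.MorLib.UnramLocus
import Groth.Agent.AlgSpLib.EtLocalInst

/-!
Local quasi-finiteness and unramifiedness as pointwise properties.
-/

set_option autoImplicit false
set_option backward.isDefEq.respectTransparency false
set_option backward.isDefEq.respectTransparency.types false

universe u

open CategoryTheory CategoryTheory.Limits AlgebraicGeometry AlgSp Groth.Agent.AlgSpLib Groth.Agent.MorLib.UnrLocus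

namespace Groth.Agent.AlgSpDec.PointLocus

theorem ptProp_lqf : PtProp.{u} (fun {_ _} h u => FlatMor.fibreDimAt h u = 0) where
  precomp e g _ _ x := by rw [fibreDimAt_etale_comp]
  postcomp g j _ _ x := by rw [fibreDimAt_comp_etale]
  baseChange sq x' := by rw [FibDim.fibreDimAt_baseChange sq]
  isOpen f _ := by
    have h := Groth.Agent.S0402.result f 0
    convert h using 1
    ext x
    exact ⟨fun hx => le_of_eq hx, fun hx => FieldFibre.fibreDimAt_eq_zero_of_le f x hx⟩

theorem lqf_iff_forall {X Y : Scheme.{u}} (h : X ⟶ Y) [LocallyOfFiniteType h] :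
    (@LocallyQuasiFinite ⊓ @LocallyOfFiniteType : MorphismProperty Scheme.{u}) h ↔
      ∀ x, FlatMor.fibreDimAt h x = 0 :=
  ⟨fun hh => (lqf_iff_fibreDimAt h).1 hh.1, fun hh => ⟨(lqf_iff_fibreDimAt h).2 hh, ‹_›⟩⟩

theorem ptProp_unram : PtProp.{u} (fun {_ _} h u => Loc h u) where
  precomp {X Y Z} e g _ _ x := by
    constructor
    · rintro ⟨U, hx, hU⟩
      have he : IsOpen (e '' (U : Set X)) := e.isOpenMap _ U.2
      let V : Y.Opens := ⟨_, he⟩
      have hle : U ≤ e ⁻¹ᵁ V := fun z hz => ⟨z, hz, rfl⟩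
      refine ⟨V, ⟨x, hx, rfl⟩, ?_⟩
      have : Surjective (e.resLE V U hle) := ⟨by
        rintro ⟨_, z, hz, rfl⟩
        refine ⟨⟨z, hz⟩, Subtype.ext ?_⟩
        exact ((Scheme.Hom.comp_apply (e.resLE V U hle) V.ι (⟨z, hz⟩ : U)).symm.trans
          ((congrArg (fun k : Scheme.Opens.toScheme U ⟶ Y => k (⟨z, hz⟩ : U)) (e.resLE_comp_ι hle)).trans
            (Scheme.Hom.comp_apply U.ι e (⟨z, hz⟩ : U))) :)⟩
      have hP : (@LocallyOfFiniteType ⊓ @FormallyUnramified : MorphismProperty Scheme.{u})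
          (e.resLE V U hle ≫ V.ι ≫ g) := by
        rw [Scheme.Hom.resLE_comp_ι_assoc]
        exact ⟨inferInstanceAs (LocallyOfFiniteType (U.ι ≫ e ≫ g)), hU⟩
      exact (IsEtLocal.of_precomp (e.resLE V U hle) (V.ι ≫ g) inferInstance this hP).2
    · rintro ⟨V, hx, hV⟩
      refine ⟨e ⁻¹ᵁ V, hx, ?_⟩
      rw [← morphismRestrict_ι_assoc]
      exact MorphismProperty.comp_mem @FormallyUnramified _ _ inferInstance hV
  postcomp g j _ _ x := by
    constructor
    · rintro ⟨U, hx, hU⟩
      refine ⟨U, hx, ?_⟩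
      haveI : FormallyUnramified ((U.ι ≫ g) ≫ j) := by rw [Category.assoc]; exact hU
      exact FormallyUnramified.of_comp _ j
    · rintro ⟨U, hx, hU⟩
      refine ⟨U, hx, ?_⟩
      rw [← Category.assoc]
      exact MorphismProperty.comp_mem @FormallyUnramified _ _ hU inferInstance
  baseChange {X Y X' Y' p q f g} _ _ sq x' := by
    rw [← sq.isoPullback_hom_snd, loc_comp_left, loc_pullback, ← Scheme.Hom.comp_apply, sq.isoPullback_hom_fst]
  isOpen f _ := by
    rw [isOpen_iff_forall_mem_open]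
    rintro x ⟨U, hx, hU⟩
    exact ⟨U, fun z hz => ⟨U, hz, hU⟩, U.2, hx⟩

theorem unram_iff_forall {X Y : Scheme.{u}} (h : X ⟶ Y) [LocallyOfFiniteType h] :
    (@LocallyOfFiniteType ⊓ @FormallyUnramified : MorphismProperty Scheme.{u}) h ↔ ∀ x, Loc h x := by
  refine ⟨fun hh x => ?_, fun hh => ⟨‹_›, ?_⟩⟩
  · haveI : FormallyUnramified h := hh.2
    exact ⟨⊤, trivial, MorphismProperty.comp_mem @FormallyUnramified _ _ inferInstance hh.2⟩
  · choose U hx hU using hh
    exact (IsZariskiLocalAtSource.iff_of_iSup_eq_top (P := @FormallyUnramified) U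
      (TopologicalSpace.Opens.ext (Set.eq_univ_of_forall fun x => by
        simpa using ⟨x, hx x⟩))).2 hU

end Groth.Agent.AlgSpDec.PointLocus
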