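import Groth.Prelude.Def_AlgSpEt

/-!
The functor `EtOver X ⥤ EtOver Y` of an etale morphism is continuous and cocontinuous.
-/

set_option backward.isDefEq.respectTransparency false
set_option backward.isDefEq.respectTransparency.types false

universe u

open CategoryTheory CategoryTheory.Limits AlgebraicGeometry AlgSp

namespace Groth.Agent.AlgSpDec.PostcompSite

variable {S : Scheme.{u}} {X Y : Sp S} (f : X ⟶ Y) (hf : IsEtaleMor f)

theorem preservesPullback {E₁ E₂ E₀ : EtOver X} (g₁ : E₁ ⟶ E₀) (g₂ : E₂ ⟶ E₀) :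
    PreservesLimit (cospan g₁ g₂) (EtOver.postcomp f hf) := by
  refine preservesLimit_of_preserves_limit_cone (EtOver.pullbackIsLimit g₁ g₂)
    ((isLimitMapConePullbackConeEquiv _ _).symm ?_)
  refine PullbackCone.IsLimit.mk _
    (fun s => EtOver.homMk
      (pullback.lift (f := g₁.hom.left) (g := g₂.hom.left) s.fst.hom.left s.snd.hom.left
        (congrArg (fun k => k.hom.left) s.condition)) ?_)
    (fun s => EtOver.hom_ext _ _ (pullback.lift_fst _ _ _))
    (fun s => EtOver.hom_ext _ _ (pullback.lift_snd _ _ _))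
    (fun s m h₁ h₂ => EtOver.hom_ext _ _ (pullback.hom_ext
      ((congrArg (fun k => k.hom.left) h₁).trans (pullback.lift_fst _ _ _).symm)
      ((congrArg (fun k => k.hom.left) h₂).trans (pullback.lift_snd _ _ _).symm)))
  change (yon S).map _ ≫ ((yon S).map _ ≫ E₁.obj.hom) ≫ f = s.pt.obj.hom
  rw [← Category.assoc, ← Category.assoc, ← Functor.map_comp, pullback.lift_fst, Category.assoc]
  exact EtOver.w s.fst

theorem isContinuous : (EtOver.postcomp f hf).IsContinuous (etTop X) (etTop Y) := by
  haveI : ∀ {E₁ E₂ E₀ : EtOver X} (g₁ : E₁ ⟶ E₀) (g₂ : E₂ ⟶ E₀),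
      PreservesLimit (cospan g₁ g₂) (EtOver.postcomp f hf) := preservesPullback f hf
  haveI : PreservesLimitsOfShape WalkingCospan (EtOver.postcomp f hf) :=
    ⟨fun {K} => preservesLimit_of_iso_diagram _ (diagramIsoCospan K).symm⟩
  unfold etTop
  refine Functor.isContinuous_toGrothendieck_of_pullbacksPreservedBy (EtOver.postcomp f hf) _ _ ?_
  unfold etPre
  rw [← Precoverage.comap_comp]
  exact le_rfl

theorem isCocontinuous : (EtOver.postcomp f hf).IsCocontinuous (etTop X) (etTop Y) := by
  constructor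
  intro E T hT
  unfold etTop at hT
  obtain ⟨R, hR, hle⟩ := Precoverage.mem_toGrothendieck_iff_of_isStableUnderComposition.1 hT
  obtain ⟨ι, Z, g, rfl⟩ := R.exists_eq_ofArrows
  let Z' : ι → EtOver X := fun i =>
    EtOver.mk ((yon S).map (g i).hom.left ≫ E.obj.hom)
      ((repWith_isMultiplicative (S := S) @Etale).comp_mem _ _
        ((repWith_yon_map_iff _ _).2 (EtOver.etale_left (g i))) E.property)
  let g' : ∀ i, Z' i ⟶ E := fun i => EtOver.homMk (g i).hom.left rfl
  refine GrothendieckTopology.superset_covering _ ?_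
    (ofArrows_mem_etTop Z' g' ((ofArrows_mem_etPre_iff Z g).1 hR))
  rw [Sieve.ofArrows, Sieve.generate_le_iff]
  rintro _ _ ⟨i⟩
  rw [Sieve.functorPullback_apply, Presieve.functorPullback_mem]
  let k : (EtOver.postcomp f hf).obj (Z' i) ⟶ Z i := EtOver.homMk (𝟙 _) (by
    change (yon S).map (𝟙 _) ≫ (Z i).obj.hom = ((yon S).map (g i).hom.left ≫ E.obj.hom) ≫ f
    rw [CategoryTheory.Functor.map_id, Category.id_comp, Category.assoc]
    exact (EtOver.w (g i)).symm)
  have hk : (EtOver.postcomp f hf).map (g' i) = k ≫ g i :=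
    EtOver.hom_ext _ _ (Category.id_comp _).symm
  rw [hk]
  exact T.downward_closed (hle _ _ (Presieve.ofArrows.mk i)) k

end Groth.Agent.AlgSpDec.PostcompSite
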