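import Groth.Prelude.Def_AlgSpGpd
import Groth.Agent.AlgSpDec.RelDimSp
import Groth.Agent.S10262
import Groth.Agent.AlgSpPts.Sep

/-!
A pseudo-torsor inherits unramifiedness and local quasi-finiteness from the group.
-/

set_option autoImplicit false
set_option backward.isDefEq.respectTransparency false
set_option backward.isDefEq.respectTransparency.types false

universe u

open CategoryTheory CategoryTheory.Limits AlgebraicGeometry MonoidalCategory CartesianMonoidalCategory AlgSp Groth.Agent.AlgSpLib

namespace Groth.Agent.AlgSpDec.PseudoTorsorFibre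

variable {S : Scheme.{u}} {B : Sp S} {G X : Over B} [GrpObj G]

theorem locP_snd {P : MorphismProperty Scheme.{u}} [IsEtLocal P] [P.IsStableUnderComposition]
    [P.IsMultiplicative] (hB : IsAlgSpace B) (hG : IsAlgSpace G.left) (hX : IsAlgSpace X.left)
    (a : GAction G X) (ha : a.IsPseudoTorsor) (h : LocP P G.hom) :
    LocP P (pullback.snd X.hom X.hom) := by
  haveI : IsIso (lift a.act (CartesianMonoidalCategory.snd G X)) := ha
  haveI : IsIso (lift a.act (CartesianMonoidalCategory.snd G X)).left :=
    inferInstanceAs (IsIso ((Over.forget B).map (lift a.act (CartesianMonoidalCategory.snd G X))))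
  have h1 : LocP P (pullback.snd G.hom X.hom) :=
    locP_of_isPullback (IsPullback.of_hasPullback G.hom X.hom) hG hB hX h
  have hw : (lift a.act (CartesianMonoidalCategory.snd G X)).left ≫ (CartesianMonoidalCategory.snd X X).left =
      (CartesianMonoidalCategory.snd G X).left := by
    rw [← Over.comp_left, lift_snd]
  have e : pullback.snd X.hom X.hom =
      inv (lift a.act (CartesianMonoidalCategory.snd G X)).left ≫ pullback.snd G.hom X.hom := by
    exact (IsIso.inv_hom_id_assoc _ _).symm.trans (congrArg (_ ≫ ·) hw)
  rw [e]
  exact locP_comp (isAlgSpace_pullback hX hX hB X.hom X.hom) (isAlgSpace_pullback hG hX hB G.hom X.hom) hX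
    (locP_of_repWith (repWith_of_isIso _ _)) h1

end Groth.Agent.AlgSpDec.PseudoTorsorFibre
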