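import Groth.Agent.AlgSpDec.Fibres
import Groth.Agent.AlgSpDec.Basic
import Groth.Agent.Goldman.Scheme
import Mathlib.RingTheory.Spectrum.Prime.Noetherian
import Mathlib.AlgebraicGeometry.Noetherian

/-!
# Proper generisations of a point of a decent locally Noetherian space
-/

set_option backward.isDefEq.respectTransparency false
set_option backward.isDefEq.respectTransparency.types false

universe u

open CategoryTheory Limits Opposite AlgebraicGeometry AlgSp TopologicalSpace Topology
  Groth.Agent.AlgSpLib Groth.Agent.AlgSpPts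

namespace Groth.Agent.AlgSpDec

/-- A Noetherian T0 space in which locally closed points are closed is Jacobson. -/
theorem jacobsonSpace_of_locallyClosed_singleton {α : Type*} [TopologicalSpace α] [T0Space α] [NoetherianSpace α]
    (h : ∀ a : α, IsLocallyClosed ({a} : Set α) → IsClosed ({a} : Set α)) : JacobsonSpace α := by
  refine jacobsonSpace_iff_locallyClosed.2 fun Z hne hZ => ?_
  obtain ⟨U, C, hU, hC, rfl⟩ := hZ
  have : CompactSpace ↥(U ∩ C) := isCompact_iff_compactSpace.1 (NoetherianSpace.isCompact _)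
  obtain ⟨⟨z, hz⟩, -, hzc⟩ := (isClosed_univ (X := ↥(U ∩ C))).exists_closed_singleton
    ⟨⟨hne.some, hne.some_mem⟩, trivial⟩
  obtain ⟨C', hC', hC'eq⟩ := isClosed_induced_iff.1 hzc
  refine ⟨z, hz, h z ⟨U, C ∩ C', hU, hC.inter hC', ?_⟩⟩
  ext w
  constructor
  · rintro rfl
    exact ⟨hz.1, hz.2, (Set.ext_iff.1 hC'eq ⟨_, hz⟩).2 rfl⟩
  · rintro ⟨h1, h2, h3⟩
    exact congrArg Subtype.val ((Set.ext_iff.1 hC'eq ⟨w, h1, h2⟩).1 h3)

/-- A continuous surjective image of a Noetherian quasi-sober space is quasi-sober. -/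
theorem quasiSober_of_surjective {α β : Type*} [TopologicalSpace α] [TopologicalSpace β] [NoetherianSpace α]
    [QuasiSober α] {f : α → β} (hf : Continuous f) (hs : Function.Surjective f) : QuasiSober β := by
  refine ⟨fun {C} hC hCc => ?_⟩
  obtain ⟨T, hT, hTc, hTi, hTeq⟩ := NoetherianSpace.exists_finite_set_isClosed_irreducible (hCc.preimage hf)
  obtain ⟨z, hz, hCz⟩ := isIrreducible_iff_sUnion_isClosed.1 hC (hT.toFinset.image fun t => closure (f '' t))
    (fun z hz => by
      obtain ⟨t, -, rfl⟩ := Finset.mem_image.1 hz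
      exact isClosed_closure)
    (fun c hc => by
      obtain ⟨a, rfl⟩ := hs c
      obtain ⟨t, ht, hat⟩ : ∃ t ∈ T, a ∈ t := by
        have : a ∈ ⋃₀ T := hTeq ▸ hc
        exact this
      exact ⟨closure (f '' t), Finset.mem_coe.2 (Finset.mem_image_of_mem _ (hT.mem_toFinset.2 ht)),
        subset_closure ⟨a, hat, rfl⟩⟩)
  obtain ⟨t, ht, rfl⟩ := Finset.mem_image.1 hz
  have ht' := hT.mem_toFinset.1 ht
  have hg : IsGenericPoint (hTi t ht').genericPoint t := by
    have := (hTi t ht').isGenericPoint_genericPoint_closure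
    rwa [(hTc t ht').closure_eq] at this
  refine ⟨f (hTi t ht').genericPoint, (Set.Subset.antisymm hCz ?_ : C = _) ▸ hg.image hf⟩
  refine closure_minimal ?_ hCc
  rintro _ ⟨a, ha, rfl⟩
  have : a ∈ f ⁻¹' C := hTeq.symm ▸ Set.mem_sUnion.2 ⟨t, ht', ha⟩
  exact this

variable {S : Scheme.{u}} {X : Sp S}

/-- The proper generisations of a point in a decent locally Noetherian space form a Noetherian, spectral,
Jacobson space. -/
theorem punctured_generizations (hX : IsAlgSpace X) (hd : IsDecent X) (hN : IsLocNoethSp X) (x : Points X) :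
    NoetherianSpace {x' : Points X // x' ⤳ x ∧ x' ≠ x} ∧ SpectralSpace {x' : Points X // x' ⤳ x ∧ x' ≠ x} ∧
      QuasiSober {x' : Points X // x' ⤳ x ∧ x' ≠ x} ∧ JacobsonSpace {x' : Points X // x' ⤳ x ∧ x' ≠ x} := by
  obtain ⟨U, a, u, hU, ha, rfl⟩ := exists_affine_chart_at hX x
  have : IsLocallyNoetherian U.left := isLocallyNoetherian_chart ha hN
  let A := U.left.presheaf.stalk u
  let j := U.left.fromSpecStalk u
  have hjr : Set.range j = {v | v ⤳ u} := Scheme.range_fromSpecStalk
  have hj0 : j (IsLocalRing.closedPoint A) = u := Scheme.fromSpecStalk_closedPoint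
  let P : Set (PrimeSpectrum A) := {IsLocalRing.closedPoint A}ᶜ
  let W := {x' : Points X // x' ⤳ Points.ofPt a u ∧ x' ≠ Points.ofPt a u}
  let φ : ↥P → W := fun q => ⟨Points.ofPt a (j q.1), by
    have h1 : j q.1 ⤳ u := by
      have : j q.1 ∈ Set.range j := ⟨q.1, rfl⟩
      rwa [hjr] at this
    refine ⟨h1.map (Points.continuous_ofPt a), fun h => q.2 ?_⟩
    exact j.isEmbedding.injective
      ((eq_of_specializes_of_isLocallyNoetherian ha h.symm h1).symm.trans hj0.symm)⟩
  have hφ : Continuous φ :=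
    ((Points.continuous_ofPt a).comp (j.continuous.comp continuous_subtype_val)).subtype_mk _
  have hlift : ∀ (v : ↥U.left), v ⤳ u → Points.ofPt a v ≠ Points.ofPt a u → ∃ q : ↥P, j q.1 = v := by
    intro v hv hne
    obtain ⟨q, hq⟩ : v ∈ Set.range j := hjr ▸ hv
    exact ⟨⟨q, fun h => hne (by rw [← hq, Set.mem_singleton_iff.1 h, hj0])⟩, hq⟩
  have hs : Function.Surjective φ := fun w => by
    obtain ⟨v, hv, hvw⟩ := exists_specializes_lift_of_isDecent hd ha w.2.1
    obtain ⟨q, hq⟩ := hlift v hv (hvw ▸ w.2.2)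
    exact ⟨q, Subtype.ext (by show Points.ofPt a (j q.1) = _; rw [hq, hvw])⟩
  have : IsNoetherianRing A := inferInstanceAs (IsNoetherianRing (U.left.presheaf.stalk u))
  have hPo : IsOpen P := (IsLocalRing.isClosed_singleton_closedPoint A).isOpen_compl
  have : QuasiSober ↥P := hPo.isOpenEmbedding_subtypeVal.quasiSober
  have : NoetherianSpace W := noetherianSpace_of_surjective φ hφ hs
  have : T0Space (Points X) := t0Space_points hX hd
  have : QuasiSober W := quasiSober_of_surjective hφ hs
  refine ⟨‹_›, { }, ‹_›, jacobsonSpace_of_locallyClosed_singleton fun w hw => ?_⟩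
  have : JacobsonSpace ↥P := Goldman.jacobson_compl (X := Spec A) (Y := {IsLocalRing.closedPoint A})
    (IsLocalRing.isClosed_singleton_closedPoint A)
    fun Z hZ ⟨z, hz⟩ => ⟨IsLocalRing.closedPoint A, (IsLocalRing.specializes_closedPoint z).mem_closed hZ hz, rfl⟩
  refine isClosed_of_closure_subset fun w'' hw'' => ?_
  have hsp : w ⤳ w'' := specializes_iff_mem_closure.2 hw''
  obtain ⟨q'', hq''⟩ := hs w''
  have hsp' : (w.1 : Points X) ⤳ Points.ofPt a (j q''.1) := by
    have := hsp.map continuous_subtype_val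
    rw [← hq''] at this
    exact this
  obtain ⟨v, hv, hvw⟩ := exists_specializes_lift_of_isDecent hd ha hsp'
  have hju : j q''.1 ⤳ u := by
    have : j q''.1 ∈ Set.range j := ⟨q''.1, rfl⟩
    rwa [hjr] at this
  obtain ⟨q, hq⟩ := hlift v (hv.trans hju) (hvw ▸ w.2.2)
  have hqw : φ q = w := Subtype.ext (by show Points.ofPt a (j q.1) = _; rw [hq, hvw])
  have hqq : q ⤳ q'' := IsInducing.subtypeVal.specializes_iff.1 (j.isEmbedding.isInducing.specializes_iff.1 (by rw [hq]; exact hv))
  obtain ⟨O, C, hO, hC, hOC⟩ := hw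
  have hqlc : IsLocallyClosed ({q} : Set ↥P) := by
    refine ⟨φ ⁻¹' O, closure {q}, hO.preimage hφ, isClosed_closure, Set.Subset.antisymm ?_ ?_⟩
    · rintro _ rfl
      have : w ∈ O ∩ C := hOC ▸ rfl
      exact ⟨show φ _ ∈ O from hqw.symm ▸ this.1, subset_closure rfl⟩
    · rintro r ⟨hrO, hr⟩
      have hwC : w ∈ C := (hOC ▸ (rfl : w ∈ ({w} : Set W)) : w ∈ O ∩ C).2
      have hqr : q ⤳ r := specializes_iff_mem_closure.2 hr
      have hrC : φ r ∈ C := (hqr.map hφ).mem_closed hC (hqw.symm ▸ hwC)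
      have hrw : φ r = w := by
        have : φ r ∈ ({w} : Set W) := hOC.symm ▸ ⟨hrO, hrC⟩
        exact this
      refine Subtype.ext (j.isEmbedding.injective (eq_of_specializes_of_isLocallyNoetherian ha ?_
        ((hqr.map continuous_subtype_val).map j.continuous)))
      exact congrArg Subtype.val (hrw.trans hqw.symm)
  have : q'' = q := hqq.mem_closed (isClosed_singleton_of_isLocallyClosed_singleton hqlc) rfl
  rw [← hq'', this, hqw]
  rfl

end Groth.Agent.AlgSpDec
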