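import Mathlib.RingTheory.Flat.Tensor
import Mathlib.RingTheory.Flat.FaithfullyFlat.Basic
import Mathlib.Algebra.Module.CharacterModule
import Mathlib.LinearAlgebra.TensorProduct.RightExactness
import Mathlib.RingTheory.TensorProduct.Basic

/-!
# Flatness descends along pure ring maps
-/

universe u

open TensorProduct

namespace Groth.Agent.AlgSpDec

variable {A B : Type u} [CommRing A] [CommRing B] [Algebra A B]

/-- A ring map is pure when it stays injective after tensoring with any module. -/
def IsPureMap (A B : Type u) [CommRing A] [CommRing B] [Algebra A B] : Prop :=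
  ∀ (M : Type u) [AddCommGroup M] [Module A M], Function.Injective (fun m : M => (1 : B) ⊗ₜ[A] m)

/-- A pure map has a linear section on character modules. -/
theorem exists_charSection (h : IsPureMap A B) :
    ∃ s : CharacterModule A →ₗ[A] CharacterModule B, ∀ η, s η 1 = η 1 := by
  let ι : CharacterModule A →ₗ[A] B ⊗[A] CharacterModule A := TensorProduct.mk A B (CharacterModule A) 1
  let ev : CharacterModule (CharacterModule A) :=
    AddMonoidHom.mk' (fun η => η 1) fun _ _ => rfl
  obtain ⟨E, hE⟩ := CharacterModule.dual_surjective_of_injective ι (h (CharacterModule A)) ev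
  refine ⟨{ toFun := fun η => AddMonoidHom.mk' (fun ψ => E (ψ ⊗ₜ η))
              (fun a b => by rw [add_tmul, map_add]),
            map_add' := fun η η' => by ext ψ; exact (congrArg E (tmul_add ψ η η')).trans (map_add E _ _),
            map_smul' := fun a η => by ext ψ; exact congrArg E (TensorProduct.smul_tmul a ψ η).symm }, fun η => ?_⟩
  exact DFunLike.congr_fun hE η

/-- Flatness descends along pure maps. -/
theorem flat_of_pure (h : IsPureMap A B) (M : Type u) [AddCommGroup M] [Module A M]
    [Module.Flat B (B ⊗[A] M)] : Module.Flat A M := by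
  obtain ⟨s, hs⟩ := exists_charSection h
  rw [Module.Flat.iff_rTensor_injective']
  intro I
  rw [injective_iff_map_eq_zero]
  intro z hz
  refine CharacterModule.eq_zero_of_character_apply fun χ => ?_
  let η : I ⊗[A] M →ₗ[A] CharacterModule A :=
    { toFun := fun w => AddMonoidHom.mk' (fun a => χ (a • w)) fun a b => by rw [add_smul, map_add]
      map_add' := fun w w' => by
        ext a; exact (congrArg χ (smul_add a w w')).trans (map_add χ _ _)
      map_smul' := fun c w => by
        ext a; exact congrArg χ (show a • c • w = (c • a) • w by rw [smul_smul, smul_eq_mul, mul_comm]) }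
  let Ψ : CharacterModule ((I ⊗[A] M) ⊗[A] B) := CharacterModule.uncurry (s ∘ₗ η)
  let q' : B ⊗[A] I →ₗ[B] B :=
    (AlgebraTensorModule.rid A B B).toLinearMap ∘ₗ LinearMap.baseChange B I.subtype
  let J := LinearMap.range q'
  let q : B ⊗[A] I →ₗ[A] J := q'.rangeRestrict.restrictScalars A
  let e : (I ⊗[A] M) ⊗[A] B ≃ₗ[A] (B ⊗[A] I) ⊗[A] M :=
    TensorProduct.comm A (I ⊗[A] M) B ≪≫ₗ (TensorProduct.assoc A B I M).symm
  let μ : J ⊗[A] M →ₗ[A] B ⊗[A] M := (J.subtype.restrictScalars A).rTensor M
  have hμ : Function.Injective μ := by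
    have h1 : Function.Injective (J.subtype.rTensor (B ⊗[A] M)) :=
      Module.Flat.rTensor_preserves_injective_linearMap _ J.subtype_injective
    have h2 : ∀ w, μ (AlgebraTensorModule.cancelBaseChange A B B J M w) =
        AlgebraTensorModule.cancelBaseChange A B B B M (J.subtype.rTensor (B ⊗[A] M) w) := by
      intro w
      induction w with
      | zero => simp
      | add a b ha hb => simp only [map_add, ha, hb]
      | tmul j y =>
        induction y with
        | zero => simp
        | add a b ha hb => simp only [tmul_add, map_add, ha, hb]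
        | tmul b m => simp [μ]
    intro a b hab
    obtain ⟨a, rfl⟩ := (AlgebraTensorModule.cancelBaseChange A B B J M).surjective a
    obtain ⟨b, rfl⟩ := (AlgebraTensorModule.cancelBaseChange A B B J M).surjective b
    rw [h2, h2] at hab
    rw [h1 ((AlgebraTensorModule.cancelBaseChange A B B B M).injective hab)]
  have hw : q.rTensor M (e (z ⊗ₜ 1)) = 0 := by
    apply hμ
    have h3 : ∀ z : I ⊗[A] M, μ (q.rTensor M (e (z ⊗ₜ 1))) = 1 ⊗ₜ TensorProduct.lid A M (I.subtype.rTensor M z) := by
      intro z
      induction z with
      | zero => simp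
      | add a b ha hb => simp only [add_tmul, map_add, ha, hb, tmul_add]
      | tmul x m =>
        show (q' (1 ⊗ₜ x)) ⊗ₜ[A] m = 1 ⊗ₜ ((x : A) • m)
        rw [← TensorProduct.smul_tmul]
        simp [q']
    rw [h3, hz, map_zero, tmul_zero, map_zero]
  have hexq : Function.Exact (LinearMap.ker q).subtype q := LinearMap.exact_subtype_ker_map q
  have hsurj : Function.Surjective q := q'.surjective_rangeRestrict
  have hex := @rTensor_exact A ↥(LinearMap.ker q) (B ⊗[A] I) ↥J _ _ _ _ _ _ _ _ _ M _ _ hexq hsurj
  obtain ⟨v, hv⟩ := (hex _).1 hw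
  have hkill : ∀ v, Ψ (e.symm ((LinearMap.ker q).subtype.rTensor M v)) = 0 := by
    intro v
    induction v with
    | zero => simp
    | add a b ha hb => simp only [map_add, ha, hb, add_zero]
    | tmul k m =>
      obtain ⟨g', hg'⟩ := (Module.Flat.iff_characterModule_baer.1 (inferInstance : Module.Flat A A)) I
        (η ∘ₗ (TensorProduct.mk A I M).flip m)
      have key : ∀ k : B ⊗[A] I, Ψ (e.symm (k ⊗ₜ m)) = s (g' 1) (q' k) := by
        intro k
        induction k with
        | zero => simp
        | add a b ha hb => simp only [add_tmul, map_add, ha, hb]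
        | tmul ψ x =>
          show s (η (x ⊗ₜ m)) ψ = s (g' 1) (q' (ψ ⊗ₜ x))
          have : η (x ⊗ₜ m) = (x : A) • g' 1 := by
            rw [← map_smul g', smul_eq_mul, mul_one, hg' x x.2]
            rfl
          rw [this, map_smul, CharacterModule.smul_apply]
          simp [q']
      show Ψ (e.symm ((k : B ⊗[A] I) ⊗ₜ m)) = 0
      rw [key, show q' (k : B ⊗[A] I) = 0 from congrArg Subtype.val (LinearMap.mem_ker.1 k.2), map_zero]
  have h0 := hkill v
  rw [hv, LinearEquiv.symm_apply_apply] at h0
  calc χ z = η z 1 := congrArg χ (one_smul A z).symm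
    _ = s (η z) 1 := (hs _).symm
    _ = 0 := h0

end Groth.Agent.AlgSpDec
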