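import Groth.Agent.AlgSpDec.PureFlat
import Groth.Agent.AlgSpLib.FlatMono
import Groth.Agent.AlgSpLib.CartierRegular
import Groth.Agent.GrpSchLib.AntiAffineBC

/-!
# Quasi-compact monomorphisms that are injective on functions are isomorphisms
-/

set_option backward.isDefEq.respectTransparency false
set_option backward.isDefEq.respectTransparency.types false

universe u

open CategoryTheory CategoryTheory.Limits AlgebraicGeometry Opposite AlgSp TensorProduct
open Groth.Agent.AlgSpLib

namespace Groth.Agent.AlgSpDec

variable {S : Scheme.{u}}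

/-- A flat pure ring map is surjective on spectra. -/
theorem comap_surjective_of_pure {A B : Type u} [CommRing A] [CommRing B] [Algebra A B] [Module.Flat A B]
    (h : IsPureMap A B) : Function.Surjective (PrimeSpectrum.comap (algebraMap A B)) := by
  have : Module.FaithfullyFlat A B := by
    refine (Module.FaithfullyFlat.iff_flat_and_rTensor_reflects_triviality A B).2 ⟨inferInstance, ?_⟩
    intro M _ _ _
    refine ⟨fun a b => h M ?_⟩
    exact (TensorProduct.comm A B M).injective (Subsingleton.elim _ _)
  exact PrimeSpectrum.comap_surjective_of_faithfullyFlat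

/-- A functions-injective morphism with affine chart is pure. -/
theorem isPureMap_of_sections_injective {P : Sp S} (hP : IsAlgSpace P) {Z V : Over S} [IsAffine Z.left]
    [IsAffine V.left] {X Y : Sp S} (f : X ⟶ Y) [Mono f] (g : (yon S).obj Z ⟶ Y) (fst : P ⟶ X)
    (snd : P ⟶ (yon S).obj Z) (sq : IsPullback fst snd f g)
    (p : (yon S).obj V ⟶ P) (hp : RepWith @Etale p) (hps : RepWith @Surjective p) (v : V ⟶ Z)
    (hv : p ≫ snd = (yon S).map v)
    (hinj : ∀ (T : Over S) (g : (yon S).obj T ⟶ Y) (P : Sp S) (fst : P ⟶ X) (snd : P ⟶ (yon S).obj T),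
      IsPullback fst snd f g → ∀ s : Γ(T.left, ⊤),
        (∀ (W : Over S) (a : (yon S).obj W ⟶ P) (c : W ⟶ T),
          a ≫ snd = (yon S).map c → c.left.appTop s = 0) → s = 0) :
    letI := v.left.appTop.hom.toAlgebra
    IsPureMap Γ(Z.left, ⊤) Γ(V.left, ⊤) := by
  let A := Γ(Z.left, ⊤)
  let B := Γ(V.left, ⊤)
  letI : Algebra A B := v.left.appTop.hom.toAlgebra
  intro M _ _
  letI : Module Aᵐᵒᵖ M := Module.compHom M ((RingHom.id A).fromOpposite mul_comm)
  haveI : IsCentralScalar A M := ⟨fun _ _ => rfl⟩
  let R := TrivSqZeroExt A M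
  let π : Spec (CommRingCat.of R) ⟶ Z.left :=
    Spec.map (CommRingCat.ofHom (TrivSqZeroExt.inlHom A M)) ≫ Z.left.isoSpec.inv
  let T : Over S := Over.mk (π ≫ Z.hom)
  let π' : T ⟶ Z := Over.homMk π rfl
  intro m₁ m₂ hm
  rw [← sub_eq_zero]
  set m := m₁ - m₂ with hmdef
  have hm0 : (1 : B) ⊗ₜ[A] m = 0 := by
    rw [hmdef, tmul_sub, sub_eq_zero]
    exact hm
  let Q := pullback snd ((yon S).map π')
  have sqT : IsPullback (pullback.fst snd ((yon S).map π') ≫ fst) (pullback.snd snd ((yon S).map π')) f
      ((yon S).map π' ≫ g) := (IsPullback.of_hasPullback snd ((yon S).map π')).paste_horiz sq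
  let sec : Γ(T.left, ⊤) := (Scheme.ΓSpecIso (CommRingCat.of R)).inv (TrivSqZeroExt.inr m)
  have hsec : sec = 0 := by
    refine hinj T _ Q _ _ sqT sec fun W a c hc => ?_
    let a' : (yon S).obj W ⟶ P := a ≫ pullback.fst snd ((yon S).map π')
    have ha' : a' ≫ snd = (yon S).map (c ≫ π') := by
      simp only [a', Category.assoc, pullback.condition, reassoc_of% hc, Functor.map_comp]
    let w := hp.rep.snd a'
    let b := hp.rep.fst' a'
    have : Etale w.left := hp.property_snd a'
    have : Surjective w.left := hps.2 a' _ _ (hp.rep.isPullback a')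
    have hbw : b ≫ v = w ≫ c ≫ π' := by
      apply (yon S).map_injective
      rw [Functor.map_comp, Functor.map_comp, ← hv, ← ha', ← Category.assoc, (hp.rep.isPullback' a').w,
        Category.assoc]
    have : Epi w.left := Flat.epi_of_flat_of_surjective w.left
    refine GrpSchLib.AntiAffine.appTop_injective_of_epi w.left ?_
    rw [map_zero]
    let ψ : B →+* Γ((hp.rep.pullback a').left, ⊤) := b.left.appTop.hom
    let φ : R →+* Γ((hp.rep.pullback a').left, ⊤) :=
      ((Scheme.ΓSpecIso (CommRingCat.of R)).inv ≫ c.left.appTop ≫ w.left.appTop).hom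
    have hAB : ∀ x : A, ψ (algebraMap A B x) = φ (TrivSqZeroExt.inl x) := by
      intro x
      have h1 : π.appTop = CommRingCat.ofHom (TrivSqZeroExt.inlHom A M) ≫ (Scheme.ΓSpecIso _).inv := by
        have h3 : Z.left.isoSpec.inv.appTop = (Scheme.ΓSpecIso Γ(Z.left, ⊤)).inv := by
          have h4 : (Z.left.isoSpec.inv ≫ Z.left.toSpecΓ).appTop = 𝟙 _ := by
            rw [Scheme.isoSpec_inv_toSpecΓ, Scheme.Hom.id_appTop]
          rw [Scheme.Hom.comp_appTop, Scheme.toSpecΓ_appTop, Iso.hom_comp_eq_id] at h4
          exact h4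
        rw [Scheme.Hom.comp_appTop, h3, Scheme.ΓSpecIso_inv_naturality]
        rfl
      have h2 := congrArg (fun k => Scheme.Hom.appTop k.left x) hbw
      simp only [Over.comp_left, Scheme.Hom.comp_appTop, CommRingCat.comp_apply] at h2
      rw [show π'.left.appTop = π.appTop from rfl, h1] at h2
      exact h2
    let χ : B ⊗[A] M →+ Γ((hp.rep.pullback a').left, ⊤) := TensorProduct.liftAddHom
      ((AddMonoidHom.mul.compl₂ (φ.toAddMonoidHom.comp (TrivSqZeroExt.inrHom A M).toAddMonoidHom)).comp ψ.toAddMonoidHom)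
      fun x b y => by
        show ψ (x • b) * φ (TrivSqZeroExt.inr y) = ψ b * φ (TrivSqZeroExt.inr (x • y))
        rw [Algebra.smul_def, map_mul, hAB, ← TrivSqZeroExt.inl_mul_inr, map_mul]
        ring
    have h0 : χ ((1 : B) ⊗ₜ[A] m) = φ (TrivSqZeroExt.inr m) := by
      show ψ 1 * φ (TrivSqZeroExt.inr m) = _
      rw [map_one, one_mul]
    rw [hm0, map_zero] at h0
    exact h0.symm
  have := congrArg (Scheme.ΓSpecIso (CommRingCat.of R)).hom hsec
  simp only [sec, map_zero, Iso.inv_hom_id_apply] at this
  exact congrArg TrivSqZeroExt.snd this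

theorem flat_surjective_chart {X Y : Space S} (f : X ⟶ Y) [Mono f.hom] (hqc : IsQuasiCompactMor f.hom)
    (hinj : ∀ (T : Over S) (g : (yon S).obj T ⟶ Y.obj) (P : Sp S) (fst : P ⟶ X.obj) (snd : P ⟶ (yon S).obj T),
      IsPullback fst snd f.hom g → ∀ s : Γ(T.left, ⊤),
        (∀ (W : Over S) (a : (yon S).obj W ⟶ P) (c : W ⟶ T),
          a ≫ snd = (yon S).map c → c.left.appTop s = 0) → s = 0)
    {Z : Over S} [IsAffine Z.left] (g : (yon S).obj Z ⟶ Y.obj) :
    ∃ (V : Over S) (p : (yon S).obj V ⟶ pullback f.hom g) (v : V ⟶ Z), RepWith @Etale p ∧ RepWith @Surjective p ∧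
      p ≫ pullback.snd f.hom g = (yon S).map v ∧ Flat v.left ∧ Surjective v.left := by
  let sq := IsPullback.of_hasPullback f.hom g
  have hP : IsAlgSpace (pullback f.hom g) := isAlgSpace_pullback X.property (IsAlgSpace.yon_obj Z) Y.property f.hom g
  obtain ⟨V, p, hV, hp, hps⟩ := CartierRegular.exists_affine_atlas hP
    (hqc (IsAlgSpace.yon_obj Z) (isQuasiCompactSp_yon Z) g _ _ sq)
  obtain ⟨v, hv⟩ := (yon S).map_surjective (p ≫ pullback.snd f.hom g)
  let A := Γ(Z.left, ⊤)
  let B := Γ(V.left, ⊤)
  letI : Algebra A B := v.left.appTop.hom.toAlgebra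
  have hpure : IsPureMap A B :=
    isPureMap_of_sections_injective hP f.hom g _ _ sq p hp hps v hv.symm hinj
  -- the first projection of `V ×_Z V` is etale
  have hee : Etale (pullback.fst v.left v.left) := by
    let W : Over S := Over.mk (pullback.fst v.left v.left ≫ V.hom)
    let w₁ : W ⟶ V := Over.homMk (pullback.fst v.left v.left) rfl
    let w₂ : W ⟶ V := Over.homMk (pullback.snd v.left v.left) (by
      rw [← Over.w v, ← Category.assoc, ← pullback.condition, Category.assoc, Over.w v]
      rfl)
    have hw : IsPullback w₁ w₂ v v := IsPullback.of_map (Over.forget S)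
      (Over.OverMorphism.ext pullback.condition) (IsPullback.of_hasPullback v.left v.left)
    have hsnd : Mono (pullback.snd f.hom g) := inferInstance
    have h1 : IsPullback ((yon S).map w₁) ((yon S).map w₂) p p := by
      have h0 := hw.map (yon S)
      rw [hv] at h0
      refine ⟨⟨?_⟩, ⟨PullbackCone.IsLimit.mk _ (fun c => h0.lift c.fst c.snd ?_) (fun c => h0.lift_fst _ _ _)
        (fun c => h0.lift_snd _ _ _) fun c l h₁ h₂ => h0.hom_ext (h₁.trans (h0.lift_fst _ _ _).symm)
          (h₂.trans (h0.lift_snd _ _ _).symm)⟩⟩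
      · rw [← cancel_mono (pullback.snd f.hom g), Category.assoc, Category.assoc]
        exact h0.w
      · rw [← Category.assoc, c.condition, Category.assoc]
    exact hp.property _ _ _ h1.flip
  have hfl : Module.Flat B (B ⊗[A] B) := by
    let g₀ := Spec.map (CommRingCat.ofHom (algebraMap A B))
    have hsq : V.left.isoSpec.hom ≫ g₀ = v.left ≫ Z.left.isoSpec.hom := Scheme.isoSpec_hom_naturality v.left
    let m : pullback g₀ g₀ ⟶ pullback v.left v.left :=
      pullback.map _ _ _ _ V.left.isoSpec.inv V.left.isoSpec.inv Z.left.isoSpec.inv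
        (by rw [← cancel_epi V.left.isoSpec.hom, reassoc_of% hsq]; simp)
        (by rw [← cancel_epi V.left.isoSpec.hom, reassoc_of% hsq]; simp)
    have h2 : Flat (pullback.fst g₀ g₀) := by
      have : pullback.fst g₀ g₀ = m ≫ pullback.fst v.left v.left ≫ V.left.isoSpec.hom := by
        simp [m, pullback.map]
      rw [this]
      infer_instance
    have h3 : Flat ((pullbackSpecIso A B B).inv ≫ pullback.fst g₀ g₀) := inferInstance
    rw [pullbackSpecIso_inv_fst, HasRingHomProperty.Spec_iff (P := @Flat)] at h3
    exact RingHom.flat_algebraMap_iff.1 h3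
  haveI : Module.Flat A B := flat_of_pure hpure B
  refine ⟨V, p, v, hp, hps, hv.symm, ?_, ?_⟩
  · rw [HasRingHomProperty.iff_of_isAffine (P := @Flat)]
    exact RingHom.flat_algebraMap_iff.2 ‹_›
  · have h4 : Surjective (Spec.map v.left.appTop) := ⟨comap_surjective_of_pure hpure⟩
    have : v.left = V.left.isoSpec.hom ≫ Spec.map v.left.appTop ≫ Z.left.isoSpec.inv := by
      rw [← Category.assoc, Scheme.isoSpec_hom_naturality, Category.assoc, Iso.hom_inv_id, Category.comp_id]
    rw [this]
    infer_instance

/-- A quasi-compact monomorphism universally injective on functions is an isomorphism. -/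
theorem isIso_of_qc_mono_sections_injective {X Y : Space S} (f : X ⟶ Y) (hqc : IsQuasiCompactMor f.hom)
    [Mono f.hom]
    (hinj : ∀ (T : Over S) (g : (yon S).obj T ⟶ Y.obj) (P : Sp S) (fst : P ⟶ X.obj) (snd : P ⟶ (yon S).obj T),
      IsPullback fst snd f.hom g → ∀ s : Γ(T.left, ⊤),
        (∀ (W : Over S) (a : (yon S).obj W ⟶ P) (c : W ⟶ T),
          a ≫ snd = (yon S).map c → c.left.appTop s = 0) → s = 0) :
    IsIso f.hom := by
  obtain ⟨U₀, b, hb, hb'⟩ := Y.property.atlas
  obtain ⟨U, a₀, h, ha₀, ha₀', hh⟩ := exists_chart_over X.property Y.property f.hom b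
  let Zs : U₀.left.affineOpens → Over S := fun K => Over.mk (K.1.ι ≫ U₀.hom)
  let j : ∀ K, Zs K ⟶ U₀ := fun K => Over.homMk K.1.ι rfl
  haveI : ∀ K, IsAffine (Zs K).left := fun K => K.2
  choose V p v hp hps hv hvf hvs using fun K => flat_surjective_chart f hqc hinj ((yon S).map (j K) ≫ b)
  have hsurj : IsSurjectiveMor f.hom := by
    intro y
    obtain ⟨u, rfl⟩ := surjective_ofPt hb' y
    obtain ⟨K, hK, hu, -⟩ := exists_isAffineOpen_mem_and_subset (U := (⊤ : U₀.left.Opens)) (x := u) trivial
    obtain ⟨t, ht⟩ := (hvs ⟨K, hK⟩).surj ⟨u, hu⟩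
    refine ⟨Points.ofPt (p ⟨K, hK⟩ ≫ pullback.fst _ _) t, ?_⟩
    rw [Points.map_ofPt, Category.assoc, pullback.condition, ← Category.assoc, hv, ← Category.assoc,
      ← Functor.map_comp, ofPt_comp]
    congr 1
    simp only [Over.comp_left, Scheme.Hom.comp_apply]
    rw [ht]
    rfl
  have hflat : LocP @Flat f.hom := by
    refine locP_of_chart (repWith_comp ha₀ (repWith_fst f.hom hb)) (repWith_comp ha₀' (repWith_fst f.hom hb')) hb
      (by rw [Category.assoc, pullback.condition, ← Category.assoc, hh]) ?_
    rw [IsZariskiLocalAtTarget.iff_of_openCover (P := @Flat) U₀.left.directedAffineCover]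
    intro K
    let UK : Over S := Over.mk (pullback.fst h.left K.1.ι ≫ U.hom)
    let uK : UK ⟶ U := Over.homMk (pullback.fst h.left K.1.ι) rfl
    let hK : UK ⟶ Zs K := Over.homMk (pullback.snd h.left K.1.ι) (by
      show pullback.snd h.left K.1.ι ≫ K.1.ι ≫ U₀.hom = pullback.fst h.left K.1.ι ≫ U.hom
      rw [← Category.assoc, ← pullback.condition, Category.assoc, Over.w h])
    let l : (yon S).obj UK ⟶ pullback f.hom ((yon S).map (j K) ≫ b) :=
      pullback.lift ((yon S).map uK ≫ a₀ ≫ pullback.fst f.hom b) ((yon S).map hK) (by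
        rw [Category.assoc, Category.assoc, pullback.condition, reassoc_of% hh, ← Category.assoc ((yon S).map hK),
          ← Category.assoc ((yon S).map uK), ← Functor.map_comp, ← Functor.map_comp]
        congr 2
        exact Over.OverMorphism.ext pullback.condition)
    let q := (hp K).rep.snd l
    let r := (hp K).rep.fst' l
    have : Etale q.left := (hp K).property_snd l
    have : Surjective q.left := (hps K).2 l _ _ ((hp K).rep.isPullback l)
    have hl : RepWith @Etale l := by
      let k : pullback f.hom ((yon S).map (j K) ≫ b) ⟶ pullback f.hom b :=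
        pullback.lift (pullback.fst _ _) (pullback.snd _ _ ≫ (yon S).map (j K)) (by
          rw [Category.assoc]; exact pullback.condition)
      have sqk : IsPullback k (pullback.snd _ _) (pullback.snd f.hom b) ((yon S).map (j K)) :=
        IsPullback.of_right (by simpa [k] using IsPullback.of_hasPullback f.hom ((yon S).map (j K) ≫ b))
          (pullback.lift_snd _ _ _) (IsPullback.of_hasPullback f.hom b)
      have hUK : IsPullback ((yon S).map uK) ((yon S).map hK) ((yon S).map h) ((yon S).map (j K)) :=
        (IsPullback.of_map (Over.forget S) (h := h) (i := j K) (f := uK) (g := hK)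
          (Over.OverMorphism.ext pullback.condition) (IsPullback.of_hasPullback h.left K.1.ι)).map (yon S)
      have sql : IsPullback ((yon S).map uK) l a₀ k := by
        refine IsPullback.of_bot (v₂₁ := pullback.snd _ _) (v₂₂ := pullback.snd f.hom b) ?_ ?_ sqk
        · rw [pullback.lift_snd, hh]; exact hUK
        · apply pullback.hom_ext
          · simp [l, k]
          · simp only [l, k, Category.assoc, pullback.lift_snd, hh, pullback.lift_snd_assoc]
            exact hUK.w
      exact repWith_of_isPullback sql ha₀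
    have : Etale r.left := hl.property _ _ _ ((hp K).rep.isPullback' l).flip
    have e : r ≫ v K = q ≫ hK := by
      apply (yon S).map_injective
      rw [Functor.map_comp, Functor.map_comp, ← hv K, ← Category.assoc, ((hp K).rep.isPullback' l).w,
        Category.assoc, pullback.lift_snd]
    have : Flat (q.left ≫ pullback.snd h.left K.1.ι) := by
      have := congrArg (fun k => k.left) e
      simp only [Over.comp_left] at this
      rw [show q.left ≫ pullback.snd h.left K.1.ι = q.left ≫ hK.left from rfl, ← this]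
      have := hvf K
      infer_instance
    exact IsEtLocal.of_precomp (P := @Flat) q.left (pullback.snd h.left K.1.ι) inferInstance inferInstance this
  exact isIso_of_qc_flat_surjective_mono X.property Y.property f.hom hqc hflat hsurj

end Groth.Agent.AlgSpDec
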