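import Groth.Agent.AlgSpDec.FiniteNbhd
import Groth.Agent.AlgSpDec.Fibres
import Groth.Agent.AlgSpPts.Dim
import Groth.Agent.AlgSpDec.CodimZero
import Groth.Agent.DimFormula.Fibre

/-!
# Quasi-finiteness over codimension one
-/

set_option autoImplicit false
set_option backward.isDefEq.respectTransparency false
set_option backward.isDefEq.respectTransparency.types false

universe u

open CategoryTheory CategoryTheory.Limits AlgebraicGeometry AlgSp Groth.Agent.AlgSpLib Groth.Agent.AlgSpPts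
open Groth.Agent.DimFormula (cd fb codim)
open Order (coheight_eq_zero)

namespace Groth.Agent.AlgSpDec.QfCodimOne

open Groth.Agent.AlgSpDec

/-- Over a point of codimension at most one, a morphism generically of relative dimension zero is
quasi-finite. -/
theorem fibreDimAt_eq_zero {U V : Scheme.{u}} (f : U ⟶ V) [LocallyOfFiniteType f] [IsLocallyNoetherian V]
    (x : U) (hc : codim (f x) ≤ 1)
    (h : ∀ η : U, (∀ z, z ⤳ η → z = η) → FlatMor.fibreDimAt f η = 0) : FlatMor.fibreDimAt f x = 0 := by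
  have := LocallyOfFiniteType.isLocallyNoetherian f
  obtain ⟨z, -, hfz, -, -, hrd⟩ := DimFormula.exists_fibMax_top f x
  obtain ⟨η, hη, hmax, -⟩ := DimFormula.exists_maximal_cd_eq_codim z
  have h0 := h η hmax
  rw [DimFormula.fibreDimAt_eq_add] at h0
  have h0' : FibDim.rd f η + fb f η = 0 := by exact_mod_cast h0
  have h1 := (DimFormula.cd_formula f hη).1
  have h2 := DimFormula.cd_le_codim (hη.map f.continuous)
  rw [hfz] at h1 h2
  have hz : FibDim.rd f z = 0 := by
    rcases Nat.eq_zero_or_pos (cd η z) with h3 | h3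
    · rw [(DimFormula.cd_eq_zero_iff hη).1 h3] at h0'
      omega
    · omega
  rw [DimFormula.fibreDimAt_eq_add, ← hrd, hz]
  rfl

variable {S : Scheme.{u}}

theorem qfAt_of_codim_le_one {X Y : AlgSp.Space S} (f : X ⟶ Y) (hl : LocP @LocallyOfFiniteType f.hom)
    (hY : IsLocNoethSp Y.obj) (y : Points Y.obj)
    (hy : HasAt (fun U u => ringKrullDim ↥(U.presheaf.stalk u) ≤ 1) Y.obj y)
    (h : ∀ x : Points X.obj, HasAt (fun U u => ringKrullDim ↥(U.presheaf.stalk u) = 0) X.obj x →
      HasAtMor (fun U _ h u => ∃ W : U.Opens, u ∈ W ∧ LocallyQuasiFinite (W.ι ≫ h) ∧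
        LocallyOfFiniteType (W.ι ≫ h)) f.hom x) (x : Points X.obj) (hx : Points.map f.hom x = y) :
    HasAtMor (fun U _ h u => ∃ W : U.Opens, u ∈ W ∧ LocallyQuasiFinite (W.ι ≫ h) ∧
      LocallyOfFiniteType (W.ι ≫ h)) f.hom x := by
  obtain ⟨U, V, a, b, k, ha, ha', hb, -, w⟩ := exists_chart X.property Y.property f.hom
  obtain ⟨u, rfl⟩ := surjective_ofPt ha' x
  have : LocallyOfFiniteType k.left := hl a b k ha hb w
  have : IsLocallyNoetherian V.left := isLocallyNoetherian_chart hb hY
  obtain ⟨V', c, v, hc, hv, hdim⟩ := hy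
  refine (S10313.qfAt_iff hl _).2 ⟨U, V, a, b, k, u, ha, hb, w, rfl, fibreDimAt_eq_zero k.left u ?_ fun η hη => ?_⟩
  · have he : Order.coheight (k.left u) = Order.coheight v := coheight_eq_of_charts hb hc (by
      rw [hv, ← hx, Points.map_ofPt, w, ofPt_comp])
    rw [ringKrullDim_stalk_eq_coheight, ← he, ← DimFormula.coe_codim] at hdim
    exact_mod_cast hdim
  · have := LocallyOfFiniteType.isLocallyNoetherian k.left
    have hq := h (Points.ofPt a η) ⟨U, a, η, ha, rfl, by
      show ringKrullDim ↥(U.left.presheaf.stalk η) = 0; rw [DimFormula.ringKrullDim_stalk, DimFormula.codim_eq_zero_iff.2 hη]; rfl⟩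
    obtain ⟨U', V', a', b', k', u', ha₁, hb₁, w₁, hx₁, hd⟩ := (S10313.qfAt_iff hl _).1 hq
    rw [RelDimSp.fibreDimAt_congr hl ha hb w ha₁ hb₁ w₁ hx₁.symm, hd]

/-- A point of codimension zero lies in every dense open subset. -/
theorem mem_of_dense {X : AlgSp.Space S} {W : Set (Points X.obj)} (hW : IsOpen W) (hd : Dense W)
    (x : Points X.obj) (hx : HasAt (fun U u => ringKrullDim ↥(U.presheaf.stalk u) = 0) X.obj x)
    (hN : ∀ (U : Over S) (a : (yon S).obj U ⟶ X.obj), RepWith @Etale a → IsLocallyNoetherian U.left) :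
    x ∈ W := by
  obtain ⟨U, a, u, ha, rfl, hu⟩ := hx
  have := hN U a ha
  rw [DimFormula.ringKrullDim_stalk] at hu
  have hmax := DimFormula.codim_eq_zero_iff.1 (show codim u = 0 by exact_mod_cast hu)
  by_contra hne
  obtain ⟨A, hA, huA, -⟩ := exists_isAffineOpen_mem_and_subset (x := u) (U := ⊤) trivial
  have : CompactSpace ↥A.toScheme := isCompact_iff_compactSpace.1 hA.isCompact
  have : IsNoetherian A.toScheme := {}
  let K : Set ↥A.toScheme := A.ι ⁻¹' (Points.ofPt a ⁻¹' W)
  have hKo : IsOpen K := (hW.preimage (Points.continuous_ofPt a)).preimage A.ι.continuous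
  have hu' : (⟨u, huA⟩ : ↥A.toScheme) ∉ closure K := by
    refine notMem_closure_of_isCompact (TopologicalSpace.NoetherianSpace.isCompact K) hKo
      (coheight_eq_zero.2 fun z hz => ?_) hne
    have := hmax _ ((Scheme.le_iff_specializes.1 hz).map A.ι.continuous)
    exact le_of_eq (Subtype.ext this)
  have hO : IsOpen (A.ι '' (closure K)ᶜ) := A.ι.isOpenEmbedding.isOpenMap _ isClosed_closure.isOpen_compl
  obtain ⟨_, ⟨_, ⟨t, ht, rfl⟩, rfl⟩, hw⟩ :=
    hd.inter_open_nonempty _ (isOpenMap_ofPt ha _ hO) ⟨_, _, ⟨_, hu', rfl⟩, rfl⟩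
  exact ht (subset_closure hw)

end Groth.Agent.AlgSpDec.QfCodimOne
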