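import Groth.Agent.AlgSpDec.QfCodimOne
import Groth.Agent.AlgSpDec.ResTrdeg
import Groth.Agent.AlgSpDec.FieldFibre

/-!
# Quasi-finiteness over codimension one from transcendence degrees
-/

set_option autoImplicit false
set_option backward.isDefEq.respectTransparency false
set_option backward.isDefEq.respectTransparency.types false

universe u

open CategoryTheory CategoryTheory.Limits AlgebraicGeometry AlgSp Groth.Agent.AlgSpLib Groth.Agent.AlgSpPts
open Groth.Agent.DimFormula (cd fb codim)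

namespace Groth.Agent.AlgSpDec.QfCodimOne

open Groth.Agent.AlgSpDec

theorem fibreDimAt_eq_zero_of_rd {U V : Scheme.{u}} (f : U ⟶ V) [LocallyOfFiniteType f] [IsLocallyNoetherian V]
    (x : U) (hc : codim (f x) ≤ 1)
    (h : ∀ η : U, (∀ z, z ⤳ η → z = η) → f η ⤳ f x → FibDim.rd f η = 0) : FlatMor.fibreDimAt f x = 0 := by
  have := LocallyOfFiniteType.isLocallyNoetherian f
  obtain ⟨z, -, hfz, -, -, hrd⟩ := DimFormula.exists_fibMax_top f x
  obtain ⟨η, hη, hmax, -⟩ := DimFormula.exists_maximal_cd_eq_codim z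
  have h0 : FlatMor.fibreDimAt f η = 0 := by
    rw [FibDim.fibreDimAt_eq_rd f (FibDim.fibMax_of_maximal f hmax), h η hmax (hfz ▸ hη.map f.continuous)]
    rfl
  rw [DimFormula.fibreDimAt_eq_add] at h0
  have h0' : FibDim.rd f η + fb f η = 0 := by exact_mod_cast h0
  have h1 := (DimFormula.cd_formula f hη).1
  have h2 := DimFormula.cd_le_codim (hη.map f.continuous)
  rw [hfz] at h1 h2
  have hz : FibDim.rd f z = 0 := by
    rcases Nat.eq_zero_or_pos (cd η z) with h3 | h3
    · rw [(DimFormula.cd_eq_zero_iff hη).1 h3] at h0'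
      omega
    · omega
  rw [DimFormula.fibreDimAt_eq_add, ← hrd, hz]
  rfl

variable {S : Scheme.{u}}

theorem qfAt_of_trdeg_zero {X Y : AlgSp.Space S} (f : X ⟶ Y) (hl : LocP @LocallyOfFiniteType f.hom)
    (hY : IsLocNoethSp Y.obj) (y : Points Y.obj)
    (hy : HasAt (fun U u => ringKrullDim ↥(U.presheaf.stalk u) ≤ 1) Y.obj y)
    (h : ∀ x : Points X.obj, HasAt (fun U u => ringKrullDim ↥(U.presheaf.stalk u) = 0) X.obj x →
      Points.map f.hom x ⤳ y → HasAtMor (fun _ _ h u => Dual3.resTrdeg h u = 0) f.hom x)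
    (x : Points X.obj) (hx : Points.map f.hom x = y) :
    HasAtMor (fun U _ h u => ∃ W : U.Opens, u ∈ W ∧ LocallyQuasiFinite (W.ι ≫ h) ∧
      LocallyOfFiniteType (W.ι ≫ h)) f.hom x := by
  obtain ⟨U, V, a, b, k, ha, ha', hb, -, w⟩ := exists_chart X.property Y.property f.hom
  obtain ⟨u, rfl⟩ := surjective_ofPt ha' x
  have : LocallyOfFiniteType k.left := hl a b k ha hb w
  have : IsLocallyNoetherian V.left := isLocallyNoetherian_chart hb hY
  have hfy : ∀ t : ↥U.left, Points.map f.hom (Points.ofPt a t) = Points.ofPt b (k.left t) := fun t => by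
    rw [Points.map_ofPt, w, ofPt_comp]
  obtain ⟨V', c, v, hc, hv, hdim⟩ := hy
  refine (S10313.qfAt_iff hl _).2 ⟨U, V, a, b, k, u, ha, hb, w, rfl,
    fibreDimAt_eq_zero_of_rd k.left u ?_ fun η hη hsp => ?_⟩
  · have he : Order.coheight (k.left u) = Order.coheight v := coheight_eq_of_charts hb hc (by
      rw [hv, ← hx, hfy])
    rw [ringKrullDim_stalk_eq_coheight, ← he, ← DimFormula.coe_codim] at hdim
    exact_mod_cast hdim
  · have := LocallyOfFiniteType.isLocallyNoetherian k.left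
    have hq := (ResTrdeg.hasAtMor_iff ha hb w η 0).1 (h (Points.ofPt a η) ⟨U, a, η, ha, rfl, by
      show ringKrullDim ↥(U.left.presheaf.stalk η) = 0
      rw [DimFormula.ringKrullDim_stalk, DimFormula.codim_eq_zero_iff.2 hη]; rfl⟩
      (by rw [hfy, ← hx, hfy]; exact hsp.map (Points.continuous_ofPt b)))
    rw [← FibDim.rd_eq_rdeg] at hq
    exact_mod_cast hq

theorem qfAt_of_dense {X Y : AlgSp.Space S} (f : X ⟶ Y) (hl : LocP @LocallyOfFiniteType f.hom)
    (hY : IsLocNoethSp Y.obj) (y : Points Y.obj)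
    (hy : HasAt (fun U u => ringKrullDim ↥(U.presheaf.stalk u) ≤ 1) Y.obj y)
    (h : Dense {x : Points X.obj | HasAtMor (fun U _ h u => ∃ W : U.Opens, u ∈ W ∧ LocallyQuasiFinite (W.ι ≫ h) ∧
      LocallyOfFiniteType (W.ι ≫ h)) f.hom x})
    (x : Points X.obj) (hx : Points.map f.hom x = y) :
    HasAtMor (fun U _ h u => ∃ W : U.Opens, u ∈ W ∧ LocallyQuasiFinite (W.ι ≫ h) ∧
      LocallyOfFiniteType (W.ι ≫ h)) f.hom x := by
  have hset : {x : Points X.obj | HasAtMor (fun U _ h u => ∃ W : U.Opens, u ∈ W ∧ LocallyQuasiFinite (W.ι ≫ h) ∧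
      LocallyOfFiniteType (W.ι ≫ h)) f.hom x} =
      {x | HasAtMor (fun _ _ h u => FlatMor.fibreDimAt h u ≤ ((0 : ℕ) : WithBot ℕ∞)) f.hom x} := by
    ext z
    refine (S10313.qfAt_iff hl z).trans ⟨?_, ?_⟩
    · rintro ⟨U, V, a, b, k, u, ha, hb, w, hz, h0⟩
      exact ⟨U, V, a, b, k, u, ha, hb, w, hz, by show FlatMor.fibreDimAt k.left u ≤ _; rw [h0]; rfl⟩
    · rintro ⟨U, V, a, b, k, u, ha, hb, w, hz, h0⟩
      have : LocallyOfFiniteType k.left := hl a b k ha hb w
      exact ⟨U, V, a, b, k, u, ha, hb, w, hz, FieldFibre.fibreDimAt_eq_zero_of_le k.left u h0⟩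
  have hopen := RelDimSp.isOpen_le (f := f.hom) hl 0
  rw [← hset] at hopen
  obtain ⟨U, V, a, b, k, ha, ha', hb, -, w⟩ := exists_chart X.property Y.property f.hom
  have : LocallyOfFiniteType k.left := hl a b k ha hb w
  have : IsLocallyNoetherian V.left := isLocallyNoetherian_chart hb hY
  have hX : IsLocNoethSp X.obj := ⟨U, a, ha, ha', LocallyOfFiniteType.isLocallyNoetherian k.left⟩
  exact qfAt_of_codim_le_one f hl hY y hy
    (fun z hz => mem_of_dense hopen h z hz fun U' a' ha₁ => isLocallyNoetherian_chart ha₁ hX) x hx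

end Groth.Agent.AlgSpDec.QfCodimOne
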