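import Groth.Agent.AlgSpDec.LqfQuot

/-!
# Open subquotients
-/

set_option backward.isDefEq.respectTransparency false
set_option backward.isDefEq.respectTransparency.types false

universe u

open CategoryTheory Limits Opposite AlgebraicGeometry AlgSp Groth.Agent.AlgSpLib Groth.Agent.AlgSpPts

namespace Groth.Agent.AlgSpDec

variable {S : Scheme.{u}}

/-- A monomorphism whose pullback to a cover is an open subscheme is an open immersion. -/
theorem repWith_openImm_of_invariant {A B : Sp S} (φ : A ⟶ B) [Mono φ] {U : Over S} (q : (yon S).obj U ⟶ B)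
    [Sheaf.IsLocallySurjective q] (W : U.left.Opens)
    (hin : ∀ {T : Over S} (x : T ⟶ U), (∀ t, x.left t ∈ W) →
      ∃ (T' : Over S) (k : T' ⟶ T) (a : (yon S).obj T' ⟶ A), fppf k.left ∧ a ≫ φ = (yon S).map (k ≫ x) ≫ q)
    (hout : ∀ {T : Over S} (x : T ⟶ U) (a : (yon S).obj T ⟶ A), a ≫ φ = (yon S).map x ≫ q → ∀ t, x.left t ∈ W) :
    RepWith @IsOpenImmersion φ := by
  refine repWith_of_squares fun T ξ => ?_
  obtain ⟨V, k, x, hk, hx⟩ := exists_fppf_lift_of_locallySurjective q ξ
  obtain ⟨x, rfl⟩ := (yon S).map_surjective x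
  obtain ⟨⟨hk1, hk2⟩, hk3⟩ := hk
  have : Surjective k.left := hk1
  have : Flat k.left := hk2
  have : LocallyOfFinitePresentation k.left := hk3
  let O : T.left.Opens := ⟨k.left '' (x.left ⁻¹' (W : Set U.left)), k.left.isOpenMap _ (W.2.preimage x.left.continuous)⟩
  have hO : ∀ v, k.left v ∈ O ↔ x.left v ∈ W := by
    refine fun v => ⟨fun ⟨v₁, hv₁, hvv⟩ => ?_, fun h => ⟨v, h, rfl⟩⟩
    obtain ⟨ξ₂, h1, h2⟩ : ∃ ξ₂ : (pullback k k).left, (pullback.fst k k).left ξ₂ = v₁ ∧
        (pullback.snd k k).left ξ₂ = v :=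
      Scheme.exists_preimage_of_isPullback ((IsPullback.of_hasPullback k k).map (Over.forget S)) v₁ v hvv
    let i := openOverι (pullback k k) ((pullback.fst k k ≫ x).left ⁻¹ᵁ W)
    obtain ⟨Z, c, a, hc, ha⟩ := hin (i ≫ pullback.fst k k ≫ x) fun z => z.2
    have : Surjective c.left := hc.1.1
    obtain ⟨ζ, hζ⟩ := c.left.surjective ⟨ξ₂, by
      show (pullback.fst k k ≫ x).left ξ₂ ∈ W
      rw [Over.comp_left, Scheme.Hom.comp_apply, h1]; exact hv₁⟩
    have := hout (c ≫ i ≫ pullback.snd k k ≫ x) a (by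
      rw [ha]
      simp only [Functor.map_comp, Category.assoc, hx]
      rw [← Functor.map_comp_assoc (yon S) (pullback.fst k k), pullback.condition, Functor.map_comp,
        Category.assoc]) ζ
    change x.left ((pullback.snd k k).left (i.left (c.left ζ))) ∈ W at this
    rw [hζ] at this
    change x.left ((pullback.snd k k).left ξ₂) ∈ W at this
    rw [h2] at this
    exact this
  let ι := openOverι T O
  have : IsOpenImmersion ι.left := inferInstanceAs (IsOpenImmersion O.ι)
  have : Mono ι := (Over.forget S).mono_of_mono_map (inferInstanceAs (Mono O.ι))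
  obtain ⟨k₀, hk₀, sqk⟩ := exists_res k O (rfl : k.left ⁻¹ᵁ O = k.left ⁻¹ᵁ O)
  let j := openOverι V (k.left ⁻¹ᵁ O)
  obtain ⟨T'', k', a, hk', ha⟩ := hin (j ≫ x) fun v => (hO _).1 v.2
  have hk₀f : fppf k₀.left :=
    MorphismProperty.of_isPullback (sqk.map (Over.forget S)) (fppf_of k.left)
  let c := k' ≫ k₀
  have hcf : fppf c.left := MorphismProperty.comp_mem _ k'.left k₀.left hk' hk₀f
  have : Sheaf.IsLocallySurjective ((yon S).map c) :=
    isLocallySurjective_of_repWith ((repWith_yon_map_iff fppf c).2 hcf)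
  have haξ : a ≫ φ = (yon S).map c ≫ (yon S).map ι ≫ ξ := by
    rw [ha]
    simp only [c, Functor.map_comp, Category.assoc, hx]
    rw [← Functor.map_comp_assoc (yon S) k₀ ι, hk₀, Functor.map_comp, Category.assoc]
  obtain ⟨κ, hκ⟩ := exists_desc_of_kernelPair ((IsPullback.of_hasPullback c c).map (yon S)) a ((cancel_mono φ).1 (by
    rw [Category.assoc, Category.assoc, haξ, ← Category.assoc ((yon S).map (pullback.fst c c)),
      ← Category.assoc ((yon S).map (pullback.snd c c)), ← Functor.map_comp, ← Functor.map_comp, pullback.condition]))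
  have hκφ : κ ≫ φ = (yon S).map ι ≫ ξ := by
    have : Epi ((yon S).map c) := (Sheaf.isLocallySurjective_iff_epi _).1 inferInstance
    rw [← cancel_epi ((yon S).map c), reassoc_of% hκ, haξ]
  let l : (yon S).obj (openOver T O) ⟶ pullback φ ξ := pullback.lift κ ((yon S).map ι) hκφ
  have hl2 : l ≫ pullback.snd φ ξ = (yon S).map ι := pullback.lift_snd _ _ _
  have : Mono ((yon S).map ι) := (yon S).map_mono ι
  have : Mono l := ⟨fun y y' h => (cancel_mono ((yon S).map ι)).1 (by rw [← hl2, reassoc_of% h])⟩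
  have : Sheaf.IsLocallySurjective l := isLocallySurjective_of_lifts l fun T' z => by
    obtain ⟨w, hw⟩ := (yon S).map_surjective (z ≫ pullback.snd φ ξ)
    let e := pullback.fst w k
    let v := pullback.snd w k
    have he : fppf e.left :=
      MorphismProperty.of_isPullback ((IsPullback.of_hasPullback w k).map (Over.forget S)).flip (fppf_of k.left)
    have hvW := hout (v ≫ x) ((yon S).map e ≫ z ≫ pullback.fst φ ξ) (by
      rw [(yon S).map_comp v x, Category.assoc, Category.assoc, Category.assoc, hx, pullback.condition,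
        ← Category.assoc z, ← hw, ← Functor.map_comp_assoc, ← Functor.map_comp_assoc, pullback.condition])
    obtain ⟨o, ho⟩ := exists_factor_openImm ι (e ≫ w) fun t => by
      show _ ∈ Set.range O.ι
      rw [Scheme.Opens.range_ι, show e ≫ w = v ≫ k from pullback.condition, Over.comp_left, Scheme.Hom.comp_apply]
      refine (hO _).2 ?_
      have := hvW t
      rwa [Over.comp_left, Scheme.Hom.comp_apply] at this
    refine ⟨_, e, (yon S).map o, he, pullback.hom_ext ?_ ?_⟩
    · rw [Category.assoc, pullback.lift_fst]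
      refine (cancel_mono φ).1 ?_
      rw [Category.assoc, hκφ, ← Functor.map_comp_assoc, ho, Functor.map_comp, Category.assoc, hw]
      simp only [Category.assoc, pullback.condition]
    · rw [Category.assoc, hl2, ← Functor.map_comp, ho, Functor.map_comp, hw]
      simp only [Category.assoc]
  have := isIso_of_mono_of_locallySurjective l
  exact ⟨openOver T O, l ≫ pullback.fst φ ξ, ι, (IsPullback.of_hasPullback φ ξ).of_iso (asIso l).symm
    (Iso.refl _) (Iso.refl _) (Iso.refl _) (by simp) (by simp [← hl2]) (by simp) (by simp), inferInstance⟩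

/-- The map on quotients of a restricted relation is a monomorphism. -/
theorem mono_of_restrict {A B : Sp S} {φ : A ⟶ B} {U U' : Over S} {q : (yon S).obj U ⟶ B}
    {q' : (yon S).obj U' ⟶ A} [Sheaf.IsLocallySurjective q'] {g : U' ⟶ U}
    (hφ : q' ≫ φ = (yon S).map g ≫ q)
    (hker : ∀ {T : Over S} (x y : T ⟶ U'), (yon S).map (x ≫ g) ≫ q = (yon S).map (y ≫ g) ≫ q →
      (yon S).map x ≫ q' = (yon S).map y ≫ q') : Mono φ := by
  refine mono_of_yon_injective fun T z z' h => ?_
  obtain ⟨T₁, k₁, x, hk₁, hx⟩ := exists_fppf_lift_of_locallySurjective q' z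
  obtain ⟨T₂, k₂, y, hk₂, hy⟩ := exists_fppf_lift_of_locallySurjective q' ((yon S).map k₁ ≫ z')
  obtain ⟨x, rfl⟩ := (yon S).map_surjective x
  obtain ⟨y, rfl⟩ := (yon S).map_surjective y
  have key := hker (k₂ ≫ x) y (by
    simp only [Functor.map_comp, Category.assoc, ← hφ]
    rw [reassoc_of% hx, reassoc_of% hy, h])
  rw [Functor.map_comp, Category.assoc, hx, hy] at key
  exact hom_ext_of_fppf k₁ hk₁ _ _ (hom_ext_of_fppf k₂ hk₂ _ _ key)

end Groth.Agent.AlgSpDec
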