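import Groth.Agent.AlgSpDec.QuotRep
import Groth.Prelude.Def_AlgSpGpd
import Mathlib.CategoryTheory.Limits.Types.Pullbacks
import Mathlib.CategoryTheory.Limits.FunctorCategory.EpiMono

/-!
# Sections equal in the quotient of a relation of sheaves are locally related
-/

set_option backward.isDefEq.respectTransparency false
set_option backward.isDefEq.respectTransparency.types false

universe u

open CategoryTheory Limits Opposite AlgebraicGeometry AlgSp Groth.Agent.AlgSpLib Groth.Agent.AlgSpPts

namespace Groth.Agent.AlgSpDec.SpQ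

variable {S : Scheme.{u}} {R U : Sp S} {s t : R ⟶ U}

/-- The relation on sections. -/
def rel (s t : R ⟶ U) (T : (Over S)ᵒᵖ) (a b : U.obj.obj T) : Prop :=
  ∃ r : R.obj.obj T, t.hom.app T r = a ∧ s.hom.app T r = b

theorem equivalence_rel (h : IsPreEqvRelSp s t) (T : (Over S)ᵒᵖ) : Equivalence (rel s t T) := by
  let e := fun (G : Sp S) => (GrothendieckTopology.uliftYonedaEquiv.{u + 1} (J S) (X := T.unop) (F := G))
  have hnat : ∀ {G H : Sp S} (f : G ⟶ H) (a : (yon S).obj T.unop ⟶ G), e H (a ≫ f) = f.hom.app T (e G a) :=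
    fun f a => by exact GrothendieckTopology.uliftYonedaEquiv_comp (J S) a f
  have key : ∀ a b : (yon S).obj T.unop ⟶ U,
      (∃ r : (yon S).obj T.unop ⟶ R, r ≫ t = a ∧ r ≫ s = b) ↔ rel s t T (e U a) (e U b) := by
    intro a b
    constructor
    · rintro ⟨r, rfl, rfl⟩
      exact ⟨e R r, (hnat t r).symm, (hnat s r).symm⟩
    · rintro ⟨r, h1, h2⟩
      refine ⟨(e R).symm r, (e U).injective ?_, (e U).injective ?_⟩
      · rw [hnat, Equiv.apply_symm_apply, h1]
      · rw [hnat, Equiv.apply_symm_apply, h2]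
  refine ⟨fun a => ?_, fun {a b} hab => ?_, fun {a b d} hab hbd => ?_⟩
  · rw [← (e U).apply_symm_apply a]
    exact (key _ _).1 ((h T.unop).refl _)
  · rw [← (e U).apply_symm_apply a, ← (e U).apply_symm_apply b] at hab ⊢
    exact (key _ _).1 ((h T.unop).symm ((key _ _).2 hab))
  · rw [← (e U).apply_symm_apply a, ← (e U).apply_symm_apply b] at hab
    rw [← (e U).apply_symm_apply b, ← (e U).apply_symm_apply d] at hbd
    rw [← (e U).apply_symm_apply a, ← (e U).apply_symm_apply d]
    exact (key _ _).1 ((h T.unop).trans ((key _ _).2 hab) ((key _ _).2 hbd))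

/-- The presheaf quotient. -/
def preQuot (h : IsPreEqvRelSp s t) : (Over S)ᵒᵖ ⥤ Type (u + 1) where
  obj T := Quotient (⟨_, equivalence_rel h T⟩ : Setoid (U.obj.obj T))
  map {T T'} f := ↾Quotient.map (U.obj.map f) (by
    rintro a b ⟨r, rfl, rfl⟩
    exact ⟨R.obj.map f r, NatTrans.naturality_apply t.hom f r, NatTrans.naturality_apply s.hom f r⟩)
  map_id T := by
    ext x
    induction x using Quotient.inductionOn with
    | h a => simp
  map_comp f g := by
    ext x
    induction x using Quotient.inductionOn with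
    | h a => simp

/-- The presheaf quotient map. -/
def preQuotπ (h : IsPreEqvRelSp s t) : U.obj ⟶ preQuot h where
  app T := ↾fun a => Quotient.mk _ a
  naturality T T' f := by ext a; rfl

theorem preQuotπ_w (h : IsPreEqvRelSp s t) : s.hom ≫ preQuotπ h = t.hom ≫ preQuotπ h := by
  ext T a
  exact Quotient.sound ((equivalence_rel h T).symm ⟨a, rfl, rfl⟩)

/-- The presheaf quotient is the coequalizer. -/
noncomputable def isColimitPreQuot (h : IsPreEqvRelSp s t) : IsColimit (Cofork.ofπ (preQuotπ h) (preQuotπ_w h)) :=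
  Cofork.IsColimit.mk _
    (fun c =>
      { app := fun T => ↾fun x => Quotient.lift (fun a => c.π.app T a) (by
          rintro _ _ ⟨r, rfl, rfl⟩
          exact (congrArg (fun q : _ ⟶ c.pt => q.app T r) c.condition).symm) x
        naturality := fun T T' f => by
          ext x
          induction x using Quotient.inductionOn with
          | h a => exact NatTrans.naturality_apply c.π f a })
    (fun c => by ext T a; rfl)
    (fun c m hm => by
      ext T x
      induction x using Quotient.inductionOn with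
      | h a => exact congrArg (fun q : _ ⟶ c.pt => q.app T a) hm)

theorem epi_preKernel (h : IsPreEqvRelSp s t) :
    Epi (pullback.lift t.hom s.hom (preQuotπ_w h).symm : _ ⟶ pullback (preQuotπ h) (preQuotπ h)) := by
  have sq := IsPullback.of_hasPullback (preQuotπ h) (preQuotπ h)
  suffices ∀ T, Epi ((pullback.lift t.hom s.hom (preQuotπ_w h).symm :
      _ ⟶ pullback (preQuotπ h) (preQuotπ h)).app T) from NatTrans.epi_of_epi_app _
  intro T
  rw [CategoryTheory.epi_iff_surjective]
  intro z
  have hsq := sq.map ((evaluation _ _).obj T)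
  have hz := congrArg (fun f => f.app T z) sq.w
  obtain ⟨r, h1, h2⟩ := Quotient.exact hz
  refine ⟨r, Types.ext_of_isPullback hsq ?_ ?_⟩
  · exact (congrArg (fun f => f.app T r) (pullback.lift_fst t.hom s.hom (preQuotπ_w h).symm)).trans h1
  · exact (congrArg (fun f => f.app T r) (pullback.lift_snd t.hom s.hom (preQuotπ_w h).symm)).trans h2

/-- The arrows of a pre-relation cover the kernel pair of its quotient. -/
theorem isLocallySurjective_kernel (h : IsPreEqvRelSp s t) :
    Sheaf.IsLocallySurjective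
      (pullback.lift t s (quotSp_condition s t).symm : R ⟶ pullback (quotSpπ s t) (quotSpπ s t)) := by
  let A := presheafToSheaf (J S) (Type (u + 1))
  let eU := sheafificationIso U
  let eR := sheafificationIso R
  have hc : IsColimit (Cofork.ofπ (f := A.map s.hom) (g := A.map t.hom) (A.map (preQuotπ h))
      (by rw [← Functor.map_comp, preQuotπ_w, Functor.map_comp])) :=
    isColimitCoforkMapOfIsColimit A (preQuotπ_w h) (isColimitPreQuot h)
  have nat : ∀ g : R ⟶ U, g ≫ eU.hom = eR.hom ≫ A.map g.hom := fun g =>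
    ObjectProperty.hom_ext _ (toSheafify_naturality (J S) g.hom)
  let q : U ⟶ A.obj (preQuot h) := eU.hom ≫ A.map (preQuotπ h)
  have hq : s ≫ q = t ≫ q := by
    rw [reassoc_of% (nat s), reassoc_of% (nat t), ← Functor.map_comp, preQuotπ_w, Functor.map_comp]
  let φ := quotSpDesc q hq
  have hφ : quotSpπ s t ≫ φ = q := coequalizer.π_desc _ _
  let ψ : A.obj (preQuot h) ⟶ quotSp s t := Cofork.IsColimit.desc hc (eU.inv ≫ quotSpπ s t) (by
    have e1 : A.map s.hom ≫ eU.inv = eR.inv ≫ s := by rw [Iso.eq_inv_comp, ← reassoc_of% (nat s), eU.hom_inv_id, Category.comp_id]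
    have e2 : A.map t.hom ≫ eU.inv = eR.inv ≫ t := by rw [Iso.eq_inv_comp, ← reassoc_of% (nat t), eU.hom_inv_id, Category.comp_id]
    rw [reassoc_of% e1, reassoc_of% e2, quotSp_condition])
  have hψ : A.map (preQuotπ h) ≫ ψ = eU.inv ≫ quotSpπ s t := Cofork.IsColimit.π_desc' hc _ _
  have : Epi (quotSpπ s t) := coequalizer.π_epi
  have : IsIso φ := ⟨ψ, by
    rw [← cancel_epi (quotSpπ s t), reassoc_of% hφ]
    simp [q, hψ], by
    apply Cofork.IsColimit.hom_ext hc
    show A.map (preQuotπ h) ≫ ψ ≫ φ = A.map (preQuotπ h) ≫ 𝟙 _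
    rw [reassoc_of% hψ, hφ]
    simp [q]⟩
  have := epi_preKernel h
  let κ₀ := A.map (pullback.lift t.hom s.hom (preQuotπ_w h).symm)
  have : Epi κ₀ := inferInstance
  have sq₀ := (IsPullback.of_hasPullback (preQuotπ h) (preQuotπ h)).map A
  have sq : IsPullback (A.map (pullback.fst (preQuotπ h) (preQuotπ h)) ≫ eU.inv)
      (A.map (pullback.snd (preQuotπ h) (preQuotπ h)) ≫ eU.inv) (quotSpπ s t) (quotSpπ s t) :=
    sq₀.of_iso (Iso.refl _) eU.symm eU.symm (asIso φ).symm (by simp) (by simp)
      (by rw [Iso.symm_hom, Iso.symm_hom, asIso_inv, IsIso.comp_inv_eq, Category.assoc, hφ]; simp [q])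
      (by rw [Iso.symm_hom, Iso.symm_hom, asIso_inv, IsIso.comp_inv_eq, Category.assoc, hφ]; simp [q])
  have e : (pullback.lift t s (quotSp_condition s t).symm : R ⟶ pullback (quotSpπ s t) (quotSpπ s t)) =
      (eR.hom ≫ κ₀) ≫ sq.isoPullback.hom := by
    apply pullback.hom_ext
    · rw [pullback.lift_fst, Category.assoc, sq.isoPullback_hom_fst, Category.assoc]
      simp only [κ₀]
      rw [← Functor.map_comp_assoc, pullback.lift_fst, ← reassoc_of% (nat t), eU.hom_inv_id, Category.comp_id]
    · rw [pullback.lift_snd, Category.assoc, sq.isoPullback_hom_snd, Category.assoc]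
      simp only [κ₀]
      rw [← Functor.map_comp_assoc, pullback.lift_snd, ← reassoc_of% (nat s), eU.hom_inv_id, Category.comp_id]
  rw [e]
  exact (Sheaf.isLocallySurjective_iff_epi _).2 (epi_comp _ _)

/-- Points with the same image in the quotient are locally related. -/
theorem exists_rel_of_eq (h : IsPreEqvRelSp s t) {T : Over S} (x y : (yon S).obj T ⟶ U)
    (hxy : x ≫ quotSpπ s t = y ≫ quotSpπ s t) :
    ∃ (T' : Over S) (k : T' ⟶ T) (r : (yon S).obj T' ⟶ R),
      fppf k.left ∧ r ≫ t = (yon S).map k ≫ x ∧ r ≫ s = (yon S).map k ≫ y := by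
  have := isLocallySurjective_kernel h
  obtain ⟨T', k, r, hk, hr⟩ := exists_fppf_lift_of_locallySurjective
    (pullback.lift t s (quotSp_condition s t).symm : R ⟶ pullback (quotSpπ s t) (quotSpπ s t))
    (pullback.lift x y hxy)
  refine ⟨T', k, r, hk, ?_, ?_⟩
  · simpa using congrArg (· ≫ pullback.fst _ _) hr
  · simpa using congrArg (· ≫ pullback.snd _ _) hr

/-- A map of quotients along which related points have related preimages is injective. -/
theorem mono_desc {R' U' : Sp S} {s' t' : R' ⟶ U'} (h : IsPreEqvRelSp s t) {g : U' ⟶ U}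
    (hlift : ∀ {T : Over S} (x y : (yon S).obj T ⟶ U') (r : (yon S).obj T ⟶ R),
      r ≫ t = x ≫ g → r ≫ s = y ≫ g → ∃ r' : (yon S).obj T ⟶ R', r' ≫ t' = x ∧ r' ≫ s' = y)
    {ψ : quotSp s' t' ⟶ quotSp s t} (hψ : quotSpπ s' t' ≫ ψ = g ≫ quotSpπ s t) : Mono ψ := by
  have : Epi (quotSpπ s' t') := coequalizer.π_epi
  have : Sheaf.IsLocallySurjective (quotSpπ s' t') := (Sheaf.isLocallySurjective_iff_epi _).2 inferInstance
  refine mono_of_yon_injective fun T z z' hz => ?_
  obtain ⟨T₁, k₁, x, hk₁, hx⟩ := exists_fppf_lift_of_locallySurjective (quotSpπ s' t') z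
  obtain ⟨T₂, k₂, y, hk₂, hy⟩ := exists_fppf_lift_of_locallySurjective (quotSpπ s' t') ((yon S).map k₁ ≫ z')
  obtain ⟨T₃, k₃, r, hk₃, hr1, hr2⟩ := exists_rel_of_eq h (((yon S).map k₂ ≫ x) ≫ g) (y ≫ g) (by
    simp only [Category.assoc, ← hψ]
    rw [reassoc_of% hx, reassoc_of% hy, hz])
  obtain ⟨r', h1, h2⟩ := hlift ((yon S).map k₃ ≫ (yon S).map k₂ ≫ x) ((yon S).map k₃ ≫ y) r
    (by simp only [hr1, Category.assoc]) (by simp only [hr2, Category.assoc])
  refine hom_ext_of_fppf k₁ hk₁ _ _ (hom_ext_of_fppf k₂ hk₂ _ _ (hom_ext_of_fppf k₃ hk₃ _ _ ?_))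
  rw [← hx, ← hy, ← reassoc_of% h1, ← reassoc_of% h2, quotSp_condition]

end Groth.Agent.AlgSpDec.SpQ
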