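import Groth.Agent.AlgSpDec.SymPower
import Groth.Agent.AlgSpDec.MonoRep
import Mathlib.FieldTheory.IsSepClosed
import Mathlib.FieldTheory.Galois.Infinite
import Mathlib.RingTheory.Unramified.Finite

/-!
# Points of algebraic spaces over a field lift to affine etale charts

The point is lifted through the space of multisections of a chart, on which the finitely many lifts over a
separable closure form one Galois invariant point.
-/

set_option backward.isDefEq.respectTransparency false
set_option backward.isDefEq.respectTransparency.types false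

noncomputable section

universe u

open CategoryTheory Limits Opposite AlgebraicGeometry AlgSp Groth.Agent.AlgSpLib Groth.Agent.AlgSpPts
  Groth.Agent.AlgSpDec.ElemNbhd

namespace Groth.Agent.AlgSpDec.RatLift

variable {k : Type u} [Field k] {L : Type u} [Field L] [Algebra k L]

/-- The map of spectra of a field extension. -/
abbrev extMap (k L : Type u) [Field k] [Field L] [Algebra k L] :
    Spec (CommRingCat.of L) ⟶ Spec (CommRingCat.of k) :=
  Spec.map (CommRingCat.ofHom (algebraMap k L))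

/-- The action of the Galois group on the spectrum of the extension. -/
abbrev galMap (σ : L ≃ₐ[k] L) : Spec (CommRingCat.of L) ⟶ Spec (CommRingCat.of L) :=
  Spec.map (CommRingCat.ofHom σ.toAlgHom.toRingHom)

theorem galMap_extMap (σ : L ≃ₐ[k] L) : galMap σ ≫ extMap k L = extMap k L := by
  rw [← Spec.map_comp, ← CommRingCat.ofHom_comp]
  congr 2
  exact RingHom.ext fun c => σ.commutes c

/-- A Galois invariant point of a scheme over a field comes from a rational point. -/
theorem exists_rational_of_invariant [IsGalois k L] {E : Scheme.{u}} (f : E ⟶ Spec (CommRingCat.of k))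
    (j : Spec (CommRingCat.of L) ⟶ E) (hj : j ≫ f = extMap k L)
    (hinv : ∀ σ : L ≃ₐ[k] L, galMap σ ≫ j = j) :
    ∃ sec : Spec (CommRingCat.of k) ⟶ E, sec ≫ f = 𝟙 _ := by
  obtain ⟨O, hO, hjO, -⟩ := exists_isAffineOpen_mem_and_subset (U := (⊤ : E.Opens))
    (x := j (IsLocalRing.closedPoint L)) trivial
  haveI := hO.isOpenImmersion_fromSpec
  haveI : Subsingleton ↥(Spec (CommRingCat.of L)) := inferInstanceAs (Subsingleton (PrimeSpectrum L))
  let j' := IsOpenImmersion.lift hO.fromSpec j (by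
    rintro _ ⟨t, rfl⟩
    rw [hO.range_fromSpec, Subsingleton.elim t (IsLocalRing.closedPoint L)]
    exact hjO)
  obtain ⟨ψ, hψ⟩ := Spec.map_surjective j'
  obtain ⟨φ, hφ⟩ := Spec.map_surjective (hO.fromSpec ≫ f)
  have hψj : Spec.map ψ ≫ hO.fromSpec = j := by rw [hψ]; exact IsOpenImmersion.lift_fac _ _ _
  have hσ : ∀ σ : L ≃ₐ[k] L, ψ ≫ CommRingCat.ofHom σ.toAlgHom.toRingHom = ψ := fun σ => by
    apply Spec.map_injective
    rw [← cancel_mono hO.fromSpec, Spec.map_comp, Category.assoc, hψj]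
    exact hinv σ
  have hrange : ∀ b, ψ.hom b ∈ (algebraMap k L).range := fun b => by
    obtain ⟨c, hc⟩ := (InfiniteGalois.mem_range_algebraMap_iff_fixed (k := k) (ψ.hom b)).2
      fun σ => congr(($(hσ σ)).hom b)
    exact ⟨c, hc⟩
  let eqv : k ≃+* (algebraMap k L).range :=
    RingEquiv.ofBijective (algebraMap k L).rangeRestrict
      ⟨fun a b h => (algebraMap k L).injective (congrArg Subtype.val h),
        RingHom.rangeRestrict_surjective _⟩
  let ψ₀ : Γ(E, O) →+* k := eqv.symm.toRingHom.comp (ψ.hom.codRestrict _ hrange)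
  have hψ₀ : ∀ b, algebraMap k L (ψ₀ b) = ψ.hom b := fun b =>
    congrArg Subtype.val (eqv.apply_symm_apply ⟨ψ.hom b, hrange b⟩)
  refine ⟨Spec.map (CommRingCat.ofHom ψ₀) ≫ hO.fromSpec, ?_⟩
  rw [Category.assoc, ← hφ, ← Spec.map_comp]
  have e : φ ≫ ψ = CommRingCat.ofHom (algebraMap k L) := by
    apply Spec.map_injective
    rw [Spec.map_comp, hφ, ← Category.assoc, hψj, hj]
  have : φ ≫ CommRingCat.ofHom ψ₀ = 𝟙 _ := by
    ext c
    refine (algebraMap k L).injective ?_
    exact (hψ₀ _).trans congr(($e).hom c)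
  rw [this, Spec.map_id]

/-- A finite nonempty Galois stable family of geometric points of an etale scheme over a field. -/
theorem exists_stable_points [IsSepClosed L] {F : Scheme.{u}} (f : F ⟶ Spec (CommRingCat.of k)) [Etale f]
    (w : F) :
    ∃ (n : ℕ) (v : Fin (n + 1) → (Spec (CommRingCat.of L) ⟶ F)), Function.Injective v ∧
      (∀ i, v i ≫ f = extMap k L) ∧ ∀ (σ : L ≃ₐ[k] L), ∀ i, ∃ j, galMap σ ≫ v i = v j := by
  obtain ⟨O, hO, hwO, -⟩ := exists_isAffineOpen_mem_and_subset (U := (⊤ : F.Opens)) (x := w) trivial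
  haveI := hO.isOpenImmersion_fromSpec
  obtain ⟨φ, hφ⟩ := Spec.map_surjective (hO.fromSpec ≫ f)
  haveI hE : Etale (Spec.map φ) := by rw [hφ]; infer_instance
  letI : Algebra k Γ(F, O) := φ.hom.toAlgebra
  haveI : Algebra.Etale k Γ(F, O) := (HasRingHomProperty.Spec_iff (P := @Etale)).mp hE
  haveI : Module.Finite k Γ(F, O) := Algebra.FormallyUnramified.finite_of_free k Γ(F, O)
  obtain ⟨w', -⟩ : ∃ w' : ↥(Spec Γ(F, O)), hO.fromSpec w' = w := by
    rw [← Set.mem_range, hO.range_fromSpec]; exact hwO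
  haveI : Subsingleton ↥(Spec (CommRingCat.of k)) := inferInstanceAs (Subsingleton (PrimeSpectrum k))
  obtain ⟨l, hl, -⟩ := Scheme.exists_fac_of_etale_of_isSepClosed (Spec.map φ) (Ω := L) (extMap k L) w'
    (Subsingleton.elim _ _)
  have hne : Nonempty (Γ(F, O) →ₐ[k] L) := by
    obtain ⟨ψ, rfl⟩ := Spec.map_surjective l
    rw [← Spec.map_comp] at hl
    exact ⟨{ ψ.hom with commutes' := fun c => congr(($(Spec.map_injective hl)).hom c) }⟩
  obtain ⟨n, hn⟩ : ∃ n, Nat.card (Γ(F, O) →ₐ[k] L) = n + 1 :=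
    Nat.exists_eq_succ_of_ne_zero Nat.card_pos.ne'
  let ε := (Finite.equivFinOfCardEq hn).symm
  let v : Fin (n + 1) → (Spec (CommRingCat.of L) ⟶ F) := fun i =>
    Spec.map (CommRingCat.ofHom (ε i).toRingHom) ≫ hO.fromSpec
  refine ⟨n, v, fun i j h => ε.injective ?_, fun i => ?_, fun σ i => ⟨ε.symm (σ.toAlgHom.comp (ε i)), ?_⟩⟩
  · exact AlgHom.coe_ringHom_injective
      (congrArg CommRingCat.Hom.hom (Spec.map_injective ((cancel_mono hO.fromSpec).1 h)))
  · rw [Category.assoc, ← hφ, ← Spec.map_comp]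
    congr 1
    ext c
    exact (ε i).commutes c
  · simp only [v, Equiv.apply_symm_apply]
    rw [← Spec.map_comp_assoc]
    rfl

variable {S : Scheme.{u}}

/-- A point over a field with a lift to a chart after extension lifts to some space of multisections. -/
theorem exists_lift_symPower {X : Sp S} {k : Type u} [Field k]
    (s : Spec (CommRingCat.of k) ⟶ S) (z : (yon S).obj (Over.mk s) ⟶ X) {U : Over S} {a : (yon S).obj U ⟶ X}
    (ha : RepWith @Etale a) [IsSeparated (ha.rep.snd a).left] {u : ↥U.left}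
    (hu : Points.ofPt a u = Points.ofPt z (IsLocalRing.closedPoint k)) :
    ∃ n : ℕ, ∀ (W : SymPower.Tuples ha n) (M : Over S) (q : W.W ⟶ M) (m : (yon S).obj M ⟶ X),
      RepWith @Etale m → (yon S).map q ≫ m = W.π →
      (∀ (T : Over S) (l l' : T ⟶ W.W) (σ : Equiv.Perm (Fin (n + 1))),
        (∀ i, l' ≫ W.pr i = l ≫ W.pr (σ i)) → l' ≫ q = l ≫ q) →
      ∃ g : Over.mk s ⟶ M, (yon S).map g ≫ m = z := by
  let L := SeparableClosure k
  have sqF := ha.rep.isPullback' z
  let F := ha.rep.pullback z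
  haveI : Etale (ha.rep.snd z).left := ha.property_snd z
  obtain ⟨w, -, -⟩ := exists_ofPt_of_eq sqF hu
  obtain ⟨n, v, hv, hvf, hvσ⟩ := exists_stable_points (L := L) (ha.rep.snd z).left w
  let T : Over S := Over.mk s
  let T' : Over S := Over.mk (extMap k L ≫ s)
  haveI : Subsingleton ↥T'.left := inferInstanceAs (Subsingleton (PrimeSpectrum L))
  haveI : Nonempty ↥T'.left := inferInstanceAs (Nonempty (PrimeSpectrum L))
  let e : T' ⟶ T := Over.homMk (extMap k L) rfl
  let vF : Fin (n + 1) → (T' ⟶ F) := fun i => Over.homMk (v i) (by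
    show v i ≫ F.hom = extMap k L ≫ s
    rw [← Over.w (ha.rep.snd z), reassoc_of% hvf i]
    rfl)
  have hvFs : ∀ i, vF i ≫ ha.rep.snd z = e := fun i => Over.OverMorphism.ext (hvf i)
  let vU : Fin (n + 1) → (T' ⟶ U) := fun i => vF i ≫ ha.rep.fst' z
  have hvUa : ∀ i, (yon S).map (vU i) ≫ a = (yon S).map e ≫ z := fun i => by
    rw [Functor.map_comp, Category.assoc, sqF.w, ← Functor.map_comp_assoc, hvFs]
  have hvU : Function.Injective vU := fun i j h => hv (congrArg CommaMorphism.left (show vF i = vF j from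
    (yon S).map_injective (sqF.hom_ext
      (by rw [← Functor.map_comp, ← Functor.map_comp]; exact congrArg (yon S).map h)
      (by rw [← Functor.map_comp, ← Functor.map_comp, hvFs, hvFs]))))
  refine ⟨n, fun W M q m hm hqm hinv => ?_⟩
  obtain ⟨l, hl⟩ := W.lift T' vU (fun i => (hvUa i).trans (hvUa 0).symm) fun t i j h =>
    hvU (SymPower.eq_of_comp_eq ha (SymPower.ptOver t) _ _ ((hvUa i).trans (hvUa j).symm) h)
  have hjm : (yon S).map (l ≫ q) ≫ m = (yon S).map e ≫ z := by
    rw [Functor.map_comp, Category.assoc, hqm, ← hvUa 0, ← hl 0, Functor.map_comp_assoc]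
  have sqE := hm.rep.isPullback' z
  let E := hm.rep.pullback z
  obtain ⟨jE, hjE1, hjE2⟩ := exists_lift_yon sqE (l ≫ q) e hjm
  have hgal : ∀ σ : L ≃ₐ[k] L, galMap σ ≫ jE.left = jE.left := fun σ => by
    let σT : T' ⟶ T' := Over.homMk (galMap σ) (by
      show galMap σ ≫ extMap k L ≫ s = extMap k L ≫ s
      rw [← Category.assoc, galMap_extMap])
    have he : σT ≫ e = e := Over.OverMorphism.ext (galMap_extMap σ)
    choose π hπ using hvσ σ
    haveI : IsIso (galMap σ) := inferInstanceAs (IsIso (Spec.map σ.toRingEquiv.toCommRingCatIso.hom))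
    have hπb : Function.Bijective π := Finite.injective_iff_bijective.1 fun i j h =>
      hv ((cancel_epi (galMap σ)).1 (by rw [hπ i, hπ j, h]))
    have h1 : σT ≫ l ≫ q = l ≫ q := by
      rw [← Category.assoc]
      refine hinv T' l (σT ≫ l) (Equiv.ofBijective π hπb) fun i => ?_
      rw [Category.assoc, hl, hl]
      show σT ≫ vF i ≫ ha.rep.fst' z = vF (π i) ≫ ha.rep.fst' z
      rw [← Category.assoc]
      exact congrArg (· ≫ ha.rep.fst' z) (Over.OverMorphism.ext (hπ i))
    exact congrArg CommaMorphism.left (show σT ≫ jE = jE from (yon S).map_injective (sqE.hom_ext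
      (by rw [← Functor.map_comp, ← Functor.map_comp, Category.assoc, hjE1, h1])
      (by rw [← Functor.map_comp, ← Functor.map_comp, Category.assoc, hjE2, he])))
  haveI : IsGalois k L := inferInstance
  obtain ⟨sec, hsec⟩ := exists_rational_of_invariant (hm.rep.snd z).left jE.left
    (congrArg CommaMorphism.left hjE2) hgal
  let sE : T ⟶ E := Over.homMk sec (by
    show sec ≫ E.hom = s
    rw [← Over.w (hm.rep.snd z), reassoc_of% hsec]
    rfl)
  have hsE : sE ≫ hm.rep.snd z = 𝟙 T := Over.OverMorphism.ext hsec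
  let g₀ : T ⟶ M := sE ≫ hm.rep.fst' z
  have hg₀ : (yon S).map g₀ ≫ m = z := by
    rw [Functor.map_comp, Category.assoc, sqE.w, ← Functor.map_comp_assoc, hsE,
      CategoryTheory.Functor.map_id, Category.id_comp]
  exact ⟨g₀, hg₀⟩

/-- The points with values in a field form a small family of lifts to affine etale charts. -/
theorem exists_small_lifts {X : Sp S} (hX : IsAlgSpace X) {k : Type u} [Field k]
    (s : Spec (CommRingCat.of k) ⟶ S) :
    ∃ (ι : Type u) (V : ι → Over S) (p : ∀ i, (yon S).obj (V i) ⟶ X) (g : ∀ i, Over.mk s ⟶ V i),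
      (∀ i, IsAffine (V i).left) ∧ (∀ i, RepWith @Etale (p i)) ∧
      ∀ z : (yon S).obj (Over.mk s) ⟶ X, ∃ i, (yon S).map (g i) ≫ p i = z := by
  obtain ⟨U₀, a₀, ha₀, hs₀⟩ := hX.atlas
  let U : U₀.left.affineOpens → Over S := fun O => Over.mk (O.1.ι ≫ U₀.hom)
  let a : ∀ O, (yon S).obj (U O) ⟶ X := fun O =>
    (yon S).map (Over.homMk O.1.ι rfl : U O ⟶ U₀) ≫ a₀
  have ha : ∀ O, RepWith @Etale (a O) := fun O =>
    repWith_comp ((repWith_yon_map_iff _ _).2 (show Etale O.1.ι from inferInstance)) ha₀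
  have hUa : ∀ O, IsAffine (U O).left := fun O => O.2
  have hsep : ∀ O, IsSeparated ((ha O).rep.snd (a O)).left := fun O => by
    haveI := hUa O
    exact SymPower.isSeparated_snd (ha O) inferInstance
  have key : ∀ On : U₀.left.affineOpens × ℕ, ∃ (W : SymPower.Tuples (ha On.1) On.2) (M : Over S)
      (q : W.W ⟶ M) (m : (yon S).obj M ⟶ X), RepWith @Etale m ∧ (yon S).map q ≫ m = W.π ∧
      (∀ (T : Over S) (l l' : T ⟶ W.W) (σ : Equiv.Perm (Fin (On.2 + 1))),
        (∀ i, l' ≫ W.pr i = l ≫ W.pr (σ i)) → l' ≫ q = l ≫ q) := fun On => by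
    haveI := hUa On.1
    haveI := hsep On.1
    obtain ⟨W⟩ := SymPower.nonempty_tuples (ha On.1) On.2
    obtain ⟨M, q, m, -, -, -, hm, hqm, -, hinv⟩ := SymPower.exists_symPower hX (ha On.1) W
    exact ⟨W, M, q, m, hm, hqm, hinv⟩
  choose W M q m hm hqm hinv using key
  let ι := Σ On : U₀.left.affineOpens × ℕ, (Over.mk s ⟶ M On)
  haveI : Subsingleton ↥(Over.mk s).left := inferInstanceAs (Subsingleton (PrimeSpectrum k))
  have key2 : ∀ i : ι, ∃ (V : Over S) (p : (yon S).obj V ⟶ X) (g : Over.mk s ⟶ V),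
      IsAffine V.left ∧ RepWith @Etale p ∧ (yon S).map g ≫ p = (yon S).map i.2 ≫ m i.1 := fun i => by
    obtain ⟨O, hO, htO, -⟩ := exists_isAffineOpen_mem_and_subset (U := (⊤ : (M i.1).left.Opens))
      (x := i.2.left (IsLocalRing.closedPoint k)) trivial
    let j : Over.mk (O.ι ≫ (M i.1).hom) ⟶ M i.1 := Over.homMk O.ι rfl
    haveI : IsOpenImmersion j.left := inferInstanceAs (IsOpenImmersion O.ι)
    obtain ⟨g, hg⟩ := exists_factor_openImm j i.2 fun t => by
      show _ ∈ Set.range O.ι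
      rw [Scheme.Opens.range_ι, Subsingleton.elim t (IsLocalRing.closedPoint k)]
      exact htO
    exact ⟨_, (yon S).map j ≫ m i.1, g, hO,
      repWith_comp ((repWith_yon_map_iff _ j).2 (show Etale O.ι from inferInstance)) (hm i.1),
      by rw [← Functor.map_comp_assoc, hg]⟩
  choose V p g hV hp hg using key2
  refine ⟨ι, V, p, g, hV, hp, fun z => ?_⟩
  obtain ⟨u, hu⟩ := surjective_ofPt hs₀ (Points.ofPt z (IsLocalRing.closedPoint k))
  obtain ⟨O', hO', huO, -⟩ := exists_isAffineOpen_mem_and_subset (U := (⊤ : U₀.left.Opens)) (x := u) trivial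
  let O : U₀.left.affineOpens := ⟨O', hO'⟩
  haveI := hsep O
  obtain ⟨n, hn⟩ := exists_lift_symPower s z (ha O) (u := (⟨u, huO⟩ : ↥O'.toScheme)) (by
    rw [← hu]
    show Points.ofPt ((yon S).map _ ≫ a₀) _ = _
    rw [ofPt_comp]
    rfl)
  obtain ⟨g₀, hg₀⟩ := hn _ _ _ _ (hm (O, n)) (hqm (O, n)) (hinv (O, n))
  exact ⟨⟨(O, n), g₀⟩, by rw [hg]; exact hg₀⟩

/-- Every point with values in a field lifts to an affine etale chart, without any separation hypothesis. -/
theorem exists_affine_chart_lift {X : Sp S} (hX : IsAlgSpace X) {k : Type u} [Field k]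
    (s : Spec (CommRingCat.of k) ⟶ S) (z : (yon S).obj (Over.mk s) ⟶ X) :
    ∃ (V : Over S) (p : (yon S).obj V ⟶ X) (g : Over.mk s ⟶ V),
      IsAffine V.left ∧ RepWith @Etale p ∧ (yon S).map g ≫ p = z := by
  obtain ⟨ι, V, p, g, hV, hp, hg⟩ := exists_small_lifts hX s
  obtain ⟨i, hi⟩ := hg z
  exact ⟨V i, p i, g i, hV i, hp i, hi⟩

end Groth.Agent.AlgSpDec.RatLift
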