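import Groth.Agent.AlgSpDec.SchImage
import Groth.Agent.AlgSpDec.Glue
import Groth.Agent.AlgSpDec.LqfQuot
import Groth.Agent.AlgSpLib.LocalBaseTop
import Groth.Agent.S4667

/-!
# Scheme theoretic images of quasi-compact morphisms on charts
-/

set_option backward.isDefEq.respectTransparency false
set_option backward.isDefEq.respectTransparency.types false

universe u

open CategoryTheory CategoryTheory.Limits AlgebraicGeometry TopologicalSpace AlgSp Groth.Agent.AlgSpLib Groth.Agent.AlgSpPts

namespace Groth.Agent.AlgSpDec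

theorem ker_eq_bot_of_flat_surjective {A B : Scheme.{u}} (g : A ⟶ B) [Flat g] [Surjective g] : g.ker = ⊥ := by
  refine le_antisymm (fun W s hs => ?_) bot_le
  rw [Scheme.IdealSheafData.ideal_bot, Pi.bot_apply, Ideal.mem_bot]
  have h0 : g.app W s = 0 := RingHom.mem_ker.1 (Scheme.Hom.ideal_ker_le g W hs)
  refine TopCat.Presheaf.section_ext B.sheaf _ _ _ fun y hy => ?_
  obtain ⟨x, rfl⟩ := g.surjective y
  have hinj : Function.Injective (g.stalkMap x).hom := by
    have h := Flat.stalkMap g x
    algebraize [(g.stalkMap x).hom]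
    have : IsLocalHom (algebraMap (B.presheaf.stalk (g x)) (A.presheaf.stalk x)) :=
      inferInstanceAs <| IsLocalHom (g.stalkMap x).hom
    have : Module.FaithfullyFlat (B.presheaf.stalk (g x)) (A.presheaf.stalk x) :=
      Module.FaithfullyFlat.of_flat_of_isLocalHom
    exact FaithfulSMul.algebraMap_injective (B.presheaf.stalk (g x)) (A.presheaf.stalk x)
  refine hinj ?_
  show g.stalkMap x (B.presheaf.germ W (g x) hy s) = g.stalkMap x (B.presheaf.germ W _ hy 0)
  rw [Scheme.Hom.germ_stalkMap_apply, Scheme.Hom.germ_stalkMap_apply, h0, map_zero (g.app W).hom]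

theorem ker_comp_flat_surjective {A B C : Scheme.{u}} (g : A ⟶ B) [Flat g] [Surjective g] (k : B ⟶ C) :
    (g ≫ k).ker = k.ker := by
  rw [Scheme.Hom.ker_comp, ker_eq_bot_of_flat_surjective g, Scheme.IdealSheafData.map_bot]

variable {S : Scheme.{u}} {X Y : Sp S}

section Sigma

variable {ι : Type u} {W V : ι → Over S}

theorem isCompact_preimage_sigma (k : sigmaOver W ⟶ sigmaOver V) (ki : ∀ i, W i ⟶ V i)
    (h : ∀ i, sigmaι W i ≫ k = ki i ≫ sigmaι V i) [∀ i, QuasiCompact (ki i).left] : QuasiCompact k.left := by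
  rw [quasiCompact_iff_forall_isAffineOpen]
  intro O hO
  classical
  have hcov : (O : Set ↥(sigmaOver V).left) ⊆ ⋃ i, Set.range (sigmaι V i).left := fun v _ => by
    obtain ⟨i, w, rfl⟩ := exists_sigmaι V v
    exact Set.mem_iUnion.2 ⟨i, w, rfl⟩
  obtain ⟨t, ht⟩ := hO.isCompact.elim_finite_subcover (fun i => Set.range (sigmaι V i).left)
    (fun i => (sigmaι V i).left.isOpenEmbedding.isOpen_range) hcov
  have hc : ∀ i, IsCompact ((O : Set ↥(sigmaOver V).left) ∩ Set.range (sigmaι V i).left) := fun i => by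
    have hcl : IsClosed (Set.range (sigmaι V i).left) := by
      rw [← isOpen_compl_iff, isOpen_iff_forall_mem_open]
      intro v hv
      obtain ⟨j, w, rfl⟩ := exists_sigmaι V v
      refine ⟨Set.range (sigmaι V j).left, ?_, (sigmaι V j).left.isOpenEmbedding.isOpen_range, w, rfl⟩
      rintro _ ⟨w', rfl⟩ ⟨a, ha⟩
      obtain rfl := sigmaι_injective V ha
      exact hv ⟨w, rfl⟩
    exact hO.isCompact.inter_right hcl
  have e : (k.left ⁻¹ᵁ O : Set ↥(sigmaOver W).left) =
      ⋃ i ∈ t, (sigmaι W i).left '' ((ki i).left ⁻¹' ((sigmaι V i).left ⁻¹' (O : Set ↥(sigmaOver V).left))) := by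
    have hk : ∀ i w, k.left ((sigmaι W i).left w) = (sigmaι V i).left ((ki i).left w) := fun i w => by
      rw [← Scheme.Hom.comp_apply, ← Scheme.Hom.comp_apply, ← Over.comp_left, ← Over.comp_left, h]
    ext w
    constructor
    · intro hw
      obtain ⟨i, w, rfl⟩ := exists_sigmaι W w
      obtain ⟨j, hj⟩ := Set.mem_iUnion.1 (ht hw)
      obtain ⟨hjt, z, hz⟩ : j ∈ t ∧ ∃ z, (sigmaι V j).left z = k.left ((sigmaι W i).left w) := by simpa using hj
      rw [hk] at hz
      obtain rfl := sigmaι_injective V hz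
      refine Set.mem_iUnion₂.2 ⟨j, hjt, w, ?_, rfl⟩
      show (sigmaι V j).left ((ki j).left w) ∈ O
      rw [← hk]; exact hw
    · intro hw
      obtain ⟨i, -, z, hz, rfl⟩ := Set.mem_iUnion₂.1 hw
      show k.left ((sigmaι W i).left z) ∈ O
      rw [hk]; exact hz
  rw [e]
  refine t.isCompact_biUnion fun i _ => IsCompact.image ?_ (sigmaι W i).left.continuous
  refine QuasiCompact.isCompact_preimage (f := (ki i).left) _ (O.isOpen.preimage (sigmaι V i).left.continuous) ?_
  rw [(sigmaι V i).left.isOpenEmbedding.isInducing.isCompact_iff, Set.image_preimage_eq_inter_range]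
  exact hc i

end Sigma

/-- Charts on which a quasi-compact morphism is a quasi-compact morphism of schemes. -/
theorem exists_qc_chart (hX : IsAlgSpace X) (hY : IsAlgSpace Y) {f : X ⟶ Y} (hq : IsQuasiCompactMor f) :
    ∃ (U T : Over S) (b : (yon S).obj U ⟶ Y) (c : (yon S).obj T ⟶ pullback f b) (k : T ⟶ U),
      RepWith @Etale b ∧ RepWith @Surjective b ∧ RepWith @Etale c ∧ RepWith @Surjective c ∧
        c ≫ pullback.snd f b = (yon S).map k ∧ QuasiCompact k.left := by
  obtain ⟨U₀, b₀, hb₀, hb₀'⟩ := hY.atlas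
  let ι := U₀.left.affineOpens
  let O : ι → Over S := fun i => Over.mk (i.1.ι ≫ U₀.hom)
  let o : ∀ i, O i ⟶ U₀ := fun i => Over.homMk i.1.ι rfl
  haveI : ∀ i, IsAffine (O i).left := fun i => i.2
  let bi : ∀ i, (yon S).obj (O i) ⟶ Y := fun i => (yon S).map (o i) ≫ b₀
  have hbi : ∀ i, RepWith @Etale (bi i) := fun i =>
    repWith_comp ((repWith_yon_map_iff _ _).2 (inferInstanceAs (Etale i.1.ι))) hb₀
  obtain ⟨b, hbσ⟩ := exists_hom_sigma O bi
  have key : ∀ i, ∃ (T : Over S) (c : (yon S).obj T ⟶ pullback f (bi i)) (k : T ⟶ O i),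
      RepWith @Etale c ∧ RepWith @Surjective c ∧ c ≫ pullback.snd f (bi i) = (yon S).map k ∧
        QuasiCompact k.left := fun i => by
    obtain ⟨T, c, hc, hcs, hT⟩ := hq (IsAlgSpace.yon_obj (O i)) (AlgSpLib.isQuasiCompactSp_yon (O i)) (bi i) _ _
      (IsPullback.of_hasPullback f (bi i))
    obtain ⟨k, hk⟩ := (yon S).map_surjective (c ≫ pullback.snd f (bi i))
    exact ⟨T, c, k, hc, hcs, hk.symm, HasAffineProperty.iff_of_isAffine.2 hT⟩
  choose Ti ci ki hci hcis hk hkq using key
  haveI := hkq
  have hbr : Representable b := hY.representable_from_yon _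
  have hbe : RepWith @Etale b := repWith_etale_sigma hbr fun i => by rw [hbσ]; exact hbi i
  have hbs : RepWith @Surjective b := repWith_surjective_of_surjective hbr fun y => by
    obtain ⟨u, rfl⟩ := surjective_ofPt hb₀' y
    obtain ⟨W, hW, huW, -⟩ := exists_isAffineOpen_mem_and_subset (U := (⊤ : U₀.left.Opens)) (x := u) trivial
    refine ⟨Points.ofScheme _ ((sigmaι O ⟨W, hW⟩).left ⟨u, huW⟩), ?_⟩
    rw [← Points.ofPt_eq_map_ofScheme, ← ofPt_comp, hbσ, ofPt_comp]
    rfl
  let m : ∀ i, pullback f (bi i) ⟶ pullback f b := fun i =>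
    pullback.lift (pullback.fst f (bi i)) (pullback.snd f (bi i) ≫ (yon S).map (sigmaι O i))
      (by rw [Category.assoc, hbσ, pullback.condition])
  have hm : ∀ i, IsPullback (m i) (pullback.snd f (bi i)) (pullback.snd f b) ((yon S).map (sigmaι O i)) := fun i => by
    refine IsPullback.of_right ?_ (pullback.lift_snd _ _ _) (IsPullback.of_hasPullback f b)
    rw [pullback.lift_fst, hbσ]
    exact IsPullback.of_hasPullback f (bi i)
  have hme : ∀ i, RepWith @Etale (m i) := fun i => repWith_of_isPullback (hm i).flip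
    ((repWith_yon_map_iff _ _).2 (inferInstanceAs (Etale (sigmaι O i).left)))
  obtain ⟨c, hcσ⟩ := exists_hom_sigma Ti fun i => ci i ≫ m i
  obtain ⟨k, hkσ⟩ := (yon S).map_surjective (c ≫ pullback.snd f b)
  have hP : IsAlgSpace (pullback f b) := isAlgSpace_pullback hX (IsAlgSpace.yon_obj _) hY f b
  have hcr : Representable c := hP.representable_from_yon _
  have hce : RepWith @Etale c := repWith_etale_sigma hcr fun i => by rw [hcσ]; exact repWith_comp (hci i) (hme i)
  have hcs : RepWith @Surjective c := repWith_surjective_of_surjective hcr fun p => by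
    obtain ⟨v, hv⟩ := (Points.schemeEquiv (sigmaOver O)).surjective (Points.map (pullback.snd f b) p)
    obtain ⟨i, w, rfl⟩ := exists_sigmaι O v
    obtain ⟨z, hz, -⟩ := exists_point_of_isPullback (hm i) (x := p) (y := Points.ofScheme (O i) w)
      (by rw [← Points.ofPt_eq_map_ofScheme, ← hv, ← Category.comp_id ((yon S).map (sigmaι O i)), ofPt_comp]; rfl)
    obtain ⟨t, rfl⟩ := surjective_ofPt (hcis i) z
    refine ⟨Points.ofScheme _ ((sigmaι Ti i).left t), ?_⟩
    rw [← Points.ofPt_eq_map_ofScheme, ← ofPt_comp, hcσ, ← Points.map_ofPt, hz]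
  refine ⟨sigmaOver O, sigmaOver Ti, b, c, k, hbe, hbs, hce, hcs, hkσ.symm,
    isCompact_preimage_sigma k ki fun i => (yon S).map_injective ?_⟩
  rw [Functor.map_comp, Functor.map_comp, hkσ, reassoc_of% (hcσ i), ← hk]
  simp only [m, Category.assoc, pullback.lift_snd]

variable {U T : Over S} {f : X ⟶ Y} {b : (yon S).obj U ⟶ Y} {c : (yon S).obj T ⟶ pullback f b} {k : T ⟶ U}

theorem comap_ker_eq (hX : IsAlgSpace X) (hY : IsAlgSpace Y) (hb : RepWith @Etale b)
    (hc : RepWith @Etale c) (hcs : RepWith @Surjective c) (hk : c ≫ pullback.snd f b = (yon S).map k)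
    [QuasiCompact k.left] :
    k.left.ker.comap (hb.rep.fst' b).left = k.left.ker.comap (hb.rep.snd b).left := by
  let R := hb.rep.pullback b
  let p₁ : R ⟶ U := hb.rep.fst' b
  let p₂ : R ⟶ U := hb.rep.snd b
  haveI : Etale p₂.left := hb.property_snd b
  haveI : Etale p₁.left := hb.property _ _ _ (hb.rep.isPullback' b).flip
  let g : (yon S).obj R ⟶ Y := (yon S).map p₁ ≫ b
  have hg : (yon S).map p₂ ≫ b = g := (hb.rep.isPullback' b).w.symm
  have key : ∀ (p : R ⟶ U) (hp : (yon S).map p ≫ b = g), ∃ (d : (yon S).obj (pullback k p) ⟶ pullback f g),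
      RepWith @Etale d ∧ RepWith @Surjective d ∧ d ≫ pullback.snd f g = (yon S).map (pullback.snd k p) := by
    intro p hp
    let n : pullback f g ⟶ pullback f b :=
      pullback.lift (pullback.fst f g) (pullback.snd f g ≫ (yon S).map p) (by rw [Category.assoc, hp, pullback.condition])
    have hn : IsPullback n (pullback.snd f g) (pullback.snd f b) ((yon S).map p) := by
      refine IsPullback.of_right ?_ (pullback.lift_snd _ _ _) (IsPullback.of_hasPullback f b)
      rw [pullback.lift_fst, hp]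
      exact IsPullback.of_hasPullback f g
    have sqT : IsPullback ((yon S).map (pullback.fst k p)) ((yon S).map (pullback.snd k p)) ((yon S).map k)
        ((yon S).map p) := (IsPullback.of_hasPullback k p).map (yon S)
    let d : (yon S).obj (pullback k p) ⟶ pullback f g := hn.lift ((yon S).map (pullback.fst k p) ≫ c)
      ((yon S).map (pullback.snd k p)) (by rw [Category.assoc, hk, sqT.w])
    have hd : IsPullback ((yon S).map (pullback.fst k p)) d c n := by
      refine IsPullback.of_bot ?_ (hn.lift_fst _ _ _).symm hn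
      rw [hn.lift_snd, hk]
      exact sqT
    exact ⟨d, repWith_of_isPullback hd hc, repWith_of_isPullback hd hcs, hn.lift_snd _ _ _⟩
  obtain ⟨d₁, hd₁, hd₁s, e₁⟩ := key p₁ rfl
  obtain ⟨d₂, hd₂, hd₂s, e₂⟩ := key p₂ hg
  have h4 : ∀ p : R ⟶ U, Etale p.left → (pullback.snd k p).left.ker = k.left.ker.comap p.left := by
    intro p _
    have sq := (IsPullback.of_hasPullback k p).map (Over.forget S)
    rw [← Groth.Agent.S4667.result k.left p.left, ← Scheme.Hom.ker_comp_of_isIso sq.isoPullback.hom]
    congr 1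
    exact sq.isoPullback_hom_snd.symm
  rw [← h4 p₁ inferInstance, ← h4 p₂ inferInstance]
  let w₁ := hd₁.rep.fst' d₂
  let w₂ := hd₁.rep.snd d₂
  have sqW := hd₁.rep.isPullback' d₂
  haveI : Etale w₂.left := hd₁.property_snd d₂
  haveI : Surjective w₂.left := hd₁s.property _ _ _ (hd₁.rep.isPullback d₂)
  haveI : Etale w₁.left := hd₂.property _ _ _ sqW.flip
  haveI : Surjective w₁.left := hd₂s.property _ _ _ sqW.flip
  rw [← ker_comp_flat_surjective w₁.left (pullback.snd k p₁).left,
    ← ker_comp_flat_surjective w₂.left (pullback.snd k p₂).left, ← Over.comp_left, ← Over.comp_left]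
  congr 2
  apply (yon S).map_injective
  rw [Functor.map_comp, Functor.map_comp, ← e₁, ← e₂, ← Category.assoc, ← Category.assoc, sqW.w]

/-- The scheme theoretic image of a quasi-compact morphism is cut out on a chart by the kernel. -/
theorem schImage_chart (hX : IsAlgSpace X) (hY : IsAlgSpace Y) (hb : RepWith @Etale b) (hbs : RepWith @Surjective b)
    (hc : RepWith @Etale c) (hcs : RepWith @Surjective c) (hk : c ≫ pullback.snd f b = (yon S).map k)
    [QuasiCompact k.left] {Z : Sp S} {i : Z ⟶ Y} (hi : IsSchImage f i) :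
    (hi.1.rep.snd b).left.ker = k.left.ker := by
  let J := k.left.ker
  let ZU : Over S := Over.mk (J.subschemeι ≫ U.hom)
  let ι : ZU ⟶ U := Over.homMk J.subschemeι rfl
  haveI : IsClosedImmersion ι.left := inferInstanceAs (IsClosedImmersion J.subschemeι)
  have hker : ι.left.ker = J := J.ker_subschemeι
  have hcompat : ∀ (A : Over S) (x y : A ⟶ U), (yon S).map x ≫ b = (yon S).map y ≫ b →
      (∃ l, l ≫ ι = x) → ∃ l, l ≫ ι = y := by
    intro A x y hxy hx
    obtain ⟨r, hr⟩ := (yon S).map_surjective ((hb.rep.isPullback' b).lift _ _ hxy)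
    have hr₁ : r ≫ hb.rep.fst' b = x := (yon S).map_injective (by rw [Functor.map_comp, hr]; exact IsPullback.lift_fst _ _ _ _)
    have hr₂ : r ≫ hb.rep.snd b = y := (yon S).map_injective (by rw [Functor.map_comp, hr]; exact IsPullback.lift_snd _ _ _ _)
    rw [factor_iff_ker_le, hker] at hx ⊢
    rw [← hr₁, Over.comp_left, Scheme.Hom.ker_comp, Scheme.IdealSheafData.le_map_iff_comap_le] at hx
    rw [← hr₂, Over.comp_left, Scheme.Hom.ker_comp, Scheme.IdealSheafData.le_map_iff_comap_le,
      ← comap_ker_eq hX hY hb hc hcs hk]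
    exact hx
  obtain ⟨Z', j, q, hj, sqZ, -, -⟩ := exists_closed_subspace hY hb hbs hcompat
  have : Mono j := mono_of_closedImmersion hj
  have hXc : RepWith @Etale (c ≫ pullback.fst f b) := repWith_comp hc (repWith_fst f hb)
  have hXcs : RepWith @Surjective (c ≫ pullback.fst f b) := repWith_comp hcs (repWith_fst f hbs)
  have hcomm : (c ≫ pullback.fst f b) ≫ f = (yon S).map k ≫ b := by
    rw [Category.assoc, pullback.condition, ← Category.assoc, hk]
  have hf' : ∃ f'', f'' ≫ j = f := by
    refine exists_factor_of_cover hXc hXcs f ?_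
    rw [hcomm, ← factor_iff_of_isPullback sqZ, factor_iff_ker_le, hker]
  obtain ⟨hic, ⟨f₁, hf₁⟩, hmin⟩ := hi
  haveI : IsClosedImmersion (hic.rep.snd b).left := hic.property_snd b
  refine le_antisymm ?_ ?_
  · refine (factor_iff_ker_le (hic.rep.snd b) k).1 ((factor_iff_of_isPullback (hic.rep.isPullback b) k).2
      ⟨(c ≫ pullback.fst f b) ≫ f₁, ?_⟩)
    rw [Category.assoc, hf₁, hcomm]
  · obtain ⟨l, hl⟩ := hmin j Z'.property hj hf'
    have := (factor_iff_of_isPullback sqZ (hic.rep.snd b)).2 ⟨hic.rep.fst b ≫ l, by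
      rw [Category.assoc, hl]; exact hic.rep.w b⟩
    rw [factor_iff_ker_le, hker] at this
    exact this

end Groth.Agent.AlgSpDec
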