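import Groth.Agent.AlgSpDec.AffineRep
import Groth.Agent.AlgSpLib.Rep
import Groth.Prelude.Def_AlgSpMor5
import Mathlib.AlgebraicGeometry.Normalization

/-!
The normalization of a scheme is the normalization as algebraic spaces.
-/

set_option autoImplicit false
set_option backward.isDefEq.respectTransparency false
set_option backward.isDefEq.respectTransparency.types false

universe u

open CategoryTheory CategoryTheory.Limits AlgebraicGeometry AlgSp Groth.Agent.AlgSpLib

namespace Groth.Agent.AlgSpDec.SchemeNormalization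

variable {S : Scheme.{u}} {V U N : Over S} (g : V ⟶ U) [QuasiCompact g.left] [QuasiSeparated g.left]

theorem isRelNormalization (f' : V ⟶ N) (ν : N ⟶ U) (e : N.left ≅ g.left.normalization)
    (he1 : f'.left ≫ e.hom = g.left.toNormalization) (he2 : e.hom ≫ g.left.fromNormalization = ν.left) :
    IsRelNormalization ((yon S).map g) ((yon S).map ν) ((yon S).map f') := by
  have hν : IsIntegralHom ν.left := by rw [← he2]; infer_instance
  have hfg : f' ≫ ν = g := Over.OverMorphism.ext (by
    rw [Over.comp_left, ← he2, ← Category.assoc, he1, Scheme.Hom.toNormalization_fromNormalization])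
  refine ⟨by rw [← Functor.map_comp, hfg],
    isIntegralMor_iff_repWith.2 ((repWith_yon_map_iff @IsIntegralHom ν).2 hν), ?_⟩
  intro Z hZ π γ hπ hγ
  have hr := isIntegralMor_iff_repWith.1 hπ
  have sq := hr.rep.isPullback (𝟙 ((yon S).obj U))
  haveI : IsIso (hr.rep.fst (𝟙 ((yon S).obj U))) := sq.isIso_fst_of_isIso
  let E := asIso (hr.rep.fst (𝟙 ((yon S).obj U)))
  let w := hr.rep.snd (𝟙 ((yon S).obj U))
  haveI hw : IsIntegralHom w.left := hr.property_snd (𝟙 ((yon S).obj U))
  have hwπ : E.hom ≫ π = (yon S).map w := sq.w.trans (Category.comp_id _)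
  obtain ⟨γ', hγ'⟩ := (yon S).map_surjective (γ ≫ E.inv)
  have hγw : γ' ≫ w = g := (yon S).map_injective (by
    rw [Functor.map_comp, hγ', ← hwπ, Category.assoc, E.inv_hom_id_assoc, hγ])
  have H : g.left = γ'.left ≫ w.left := by rw [← Over.comp_left, hγw]
  let d := g.left.normalizationDesc γ'.left w.left H
  have hd1 : g.left.toNormalization ≫ d = γ'.left := g.left.toNormalization_normalizationDesc _ _ H
  have hd2 : d ≫ w.left = g.left.fromNormalization := g.left.normalizationDesc_comp _ _ H
  let h₀ : N ⟶ hr.rep.pullback (𝟙 ((yon S).obj U)) := Over.homMk (e.hom ≫ d) (by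
    rw [← Over.w w, Category.assoc, ← Category.assoc d, hd2, ← Category.assoc, he2]; exact Over.w ν)
  refine ⟨(yon S).map h₀ ≫ E.hom, ⟨?_, ?_⟩, ?_⟩
  · rw [← Category.assoc, ← Functor.map_comp]
    have : f' ≫ h₀ = γ' := Over.OverMorphism.ext (by
      rw [Over.comp_left]; show f'.left ≫ e.hom ≫ d = _; rw [← Category.assoc, he1, hd1])
    rw [this, hγ', Category.assoc, E.inv_hom_id, Category.comp_id]
  · rw [Category.assoc, hwπ, ← Functor.map_comp]
    congr 1
    refine Over.OverMorphism.ext ?_
    rw [Over.comp_left]; show (e.hom ≫ d) ≫ w.left = _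
    rw [Category.assoc, hd2, he2]
  · rintro k ⟨hk1, hk2⟩
    obtain ⟨k', hk'⟩ := (yon S).map_surjective (k ≫ E.inv)
    have hk : k = (yon S).map k' ≫ E.hom := by rw [hk', Category.assoc, E.inv_hom_id, Category.comp_id]
    have c1 : f' ≫ k' = γ' := (yon S).map_injective (by
      rw [Functor.map_comp, hk', hγ', ← Category.assoc, hk1])
    have c2 : k' ≫ w = ν := (yon S).map_injective (by
      rw [Functor.map_comp, ← hwπ, ← Category.assoc, ← hk, hk2])
    have key : e.inv ≫ k'.left = d := by
      refine Scheme.Hom.normalization.hom_ext g.left _ _ w.left ?_ ?_ hd2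
      · rw [hd1, ← Category.assoc, ← he1, Category.assoc f'.left, e.hom_inv_id, Category.comp_id,
          ← Over.comp_left, c1]
      · rw [Category.assoc, ← Over.comp_left, c2, ← he2, e.inv_hom_id_assoc]
    have : k' = h₀ := Over.OverMorphism.ext (by show k'.left = e.hom ≫ d; rw [← key, e.hom_inv_id_assoc])
    rw [hk, this]

end Groth.Agent.AlgSpDec.SchemeNormalization
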