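import Groth.Agent.AlgSpDec.MonoPoint
import Groth.Agent.AlgSpDec.Glue
import Groth.Agent.AlgSpDec.Fibres
import Mathlib.RingTheory.Ideal.MinimalPrime.Localization
import Mathlib.RingTheory.Spectrum.Prime.Noetherian
import Mathlib.AlgebraicGeometry.Noetherian

/-!
# Factorisation through the residual space in the locally Noetherian case
-/

set_option backward.isDefEq.respectTransparency false
set_option backward.isDefEq.respectTransparency.types false

universe u

open CategoryTheory Limits Opposite AlgebraicGeometry AlgSp Groth.Agent.AlgSpLib Groth.Agent.AlgSpPts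

namespace Groth.Agent.AlgSpDec

variable {S : Scheme.{u}}

/-- A map from a scheme lifts along a monomorphism of sheaves if it does so on an open cover. -/
theorem exists_lift_of_openCover {Z X : Sp S} (i : Z ⟶ X) [Mono i] {T : Over S} (𝒰 : T.left.OpenCover)
    (g : (yon S).obj T ⟶ X)
    (h : ∀ j, ∃ l, l ≫ i =
      (yon S).map (CategoryTheory.Over.homMk (U := Over.mk (𝒰.f j ≫ T.hom)) (𝒰.f j) rfl) ≫ g) :
    ∃ l : (yon S).obj T ⟶ Z, l ≫ i = g := by
  let R : Sieve T :=
    { arrows := fun T' φ => ∃ l : (yon S).obj T' ⟶ Z, l ≫ i = (yon S).map φ ≫ g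
      downward_closed := by
        rintro T₁ T₂ φ ⟨l, hl⟩ ψ
        exact ⟨(yon S).map ψ ≫ l, by rw [Category.assoc, hl, Functor.map_comp, Category.assoc]⟩ }
  have hR : R ∈ J S T := mem_J_of_openCover 𝒰 R fun j => h j
  let x : Presieve.FamilyOfElements Z.obj R.arrows := fun T' φ hφ => (J S).uliftYonedaEquiv hφ.choose
  have hx : x.Compatible := by
    intro T₁ T₂ W g₁ g₂ f₁ f₂ h₁ h₂ he
    change Z.obj.map g₁.op ((J S).uliftYonedaEquiv h₁.choose) = Z.obj.map g₂.op ((J S).uliftYonedaEquiv h₂.choose)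
    rw [uliftYonedaEquiv_precomp, uliftYonedaEquiv_precomp]
    congr 1
    rw [← cancel_mono i, Category.assoc, Category.assoc, h₁.choose_spec, h₂.choose_spec, ← Category.assoc,
      ← Category.assoc, ← Functor.map_comp, ← Functor.map_comp, he]
  obtain ⟨t, ht, -⟩ := ((isSheaf_iff_isSheaf_of_type _ _).1 Z.property) R hR x hx
  refine ⟨(J S).uliftYonedaEquiv.symm t, hom_ext_of_covering _ _ hR fun T' φ hφ => ?_⟩
  rw [← hφ.choose_spec, ← Category.assoc]
  congr 1
  apply (J S).uliftYonedaEquiv.injective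
  rw [← uliftYonedaEquiv_precomp, Equiv.apply_symm_apply]
  exact ht φ hφ

/-- The image of a ring map into a Noetherian spectrum without specialisations is finite. -/
theorem finite_range_comap_of_no_specializations {R A : Type u} [CommRing R] [CommRing A] [IsNoetherianRing R]
    (φ : R →+* A) (h : ∀ P Q : PrimeSpectrum A, (Q.comap φ).asIdeal ≤ (P.comap φ).asIdeal → Q.comap φ = P.comap φ) :
    (Set.range (PrimeSpectrum.comap φ)).Finite := by
  refine Set.Finite.of_finite_image (f := PrimeSpectrum.asIdeal)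
    (((⊥ : Ideal A).comap φ).finite_minimalPrimes_of_isNoetherianRing.subset ?_)
    fun p _ q _ e => PrimeSpectrum.ext e
  rintro _ ⟨_, ⟨P, rfl⟩, rfl⟩
  obtain ⟨m, hm, hmP⟩ := Ideal.exists_minimalPrimes_le (I := (⊥ : Ideal A).comap φ) (J := (P.comap φ).asIdeal)
    (Ideal.comap_mono bot_le)
  obtain ⟨Q, hQ, -, rfl⟩ := Ideal.exists_comap_eq_of_mem_minimalPrimes φ (I := ⊥) m hm
  have := h P ⟨Q, hQ⟩ hmP
  rwa [← this]

/-- The image of an affine scheme in a Noetherian affine scheme without specialisations is finite. -/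
theorem finite_range_of_no_specializations {B A : Scheme.{u}} [IsAffine B] [IsAffine A] [IsLocallyNoetherian A]
    (g : B ⟶ A) (h : ∀ b b', g b' ⤳ g b → g b' = g b) : (Set.range g).Finite := by
  have : IsNoetherianRing Γ(A, ⊤) := IsLocallyNoetherian.component_noetherian ⟨⊤, isAffineOpen_top A⟩
  have e : g ≫ A.isoSpec.hom = B.isoSpec.hom ≫ Spec.map g.appTop := (Scheme.isoSpec_hom_naturality g).symm
  have e' : ∀ b, A.isoSpec.hom (g b) = PrimeSpectrum.comap g.appTop.hom (B.isoSpec.hom b) := fun b => by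
    rw [← Scheme.Hom.comp_apply, e]
    rfl
  refine Set.Finite.of_finite_image (f := A.isoSpec.hom)
    ((finite_range_comap_of_no_specializations g.appTop.hom ?_).subset ?_)
    A.isoSpec.hom.isEmbedding.injective.injOn
  · intro P Q hQP
    obtain ⟨b, rfl⟩ := B.isoSpec.hom.surjective P
    obtain ⟨b', rfl⟩ := B.isoSpec.hom.surjective Q
    have hs : (PrimeSpectrum.comap g.appTop.hom (B.isoSpec.hom b')) ⤳ PrimeSpectrum.comap g.appTop.hom (B.isoSpec.hom b) :=
      (PrimeSpectrum.le_iff_specializes _ _).1 hQP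
    rw [← e', ← e'] at hs
    exact (e' b').symm.trans ((congrArg A.isoSpec.hom
      (h b b' (A.isoSpec.hom.isEmbedding.isInducing.specializes_iff.1 hs))).trans (e' b))
  · rintro _ ⟨_, ⟨b, rfl⟩, rfl⟩
    exact ⟨B.isoSpec.hom b, (e' b).symm⟩

/-- A point in the image of a monomorphism of spaces factors through it. -/
theorem exists_lift_fieldPt {Z X : Sp S} (hZ : IsAlgSpace Z) (hX : IsAlgSpace X) (i : Z ⟶ X) [Mono i]
    (q : FieldPt X) (h : Points.mk q ∈ Set.range (Points.map i)) :
    ∃ c : (yon S).obj q.pt ⟶ Z, c ≫ i = q.toHom := by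
  obtain ⟨z, hz⟩ := h
  obtain ⟨w, -, -⟩ := exists_point_of_isPullback (IsPullback.of_hasPullback i q.toHom) (x := z)
    (y := Points.ofScheme q.pt (IsLocalRing.closedPoint q.K)) (by
      rw [hz, ← Points.ofPt_eq_map_ofScheme, ← mk_eq_ofPt])
  have := isIso_of_mono_field (isAlgSpace_pullback hZ (IsAlgSpace.yon_obj q.pt) hX i q.toHom)
    (pullback.snd i q.toHom) w
  exact ⟨inv (pullback.snd i q.toHom) ≫ pullback.fst i q.toHom, by
    rw [Category.assoc, pullback.condition, IsIso.inv_hom_id_assoc]⟩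

/-- The fibres of a chart of a locally Noetherian space meet images of affines in finite sets. -/
theorem exists_open_singleton_image {X : Sp S} {U W : Over S} {a : (yon S).obj U ⟶ X} (ha : RepWith @Etale a)
    [IsLocallyNoetherian U.left] (f : W ⟶ U) (x : Points X) (hf : ∀ w, Points.ofPt a (f.left w) = x) (w : ↥W.left) :
    ∃ O : W.left.Opens, w ∈ O ∧ ∀ o ∈ O, f.left o = f.left w := by
  obtain ⟨A, hA, huA, -⟩ := exists_isAffineOpen_mem_and_subset (U := (⊤ : U.left.Opens)) (x := f.left w) trivial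
  obtain ⟨B, hB, hwB, hBA⟩ := exists_isAffineOpen_mem_and_subset (U := f.left ⁻¹ᵁ A) (x := w) huA
  have : IsAffine A.toScheme := hA
  have : IsAffine B.toScheme := hB
  let g : B.toScheme ⟶ A.toScheme := IsOpenImmersion.lift A.ι (B.ι ≫ f.left) (by
    rw [Scheme.Opens.range_ι]
    rintro _ ⟨b, rfl⟩
    exact hBA b.2)
  have hg : ∀ b, A.ι (g b) = f.left (B.ι b) := fun b => by
    rw [← Scheme.Hom.comp_apply, IsOpenImmersion.lift_fac]
    rfl
  have hF : (A.ι '' Set.range g).Finite := by
    refine (finite_range_of_no_specializations g fun b b' hs => A.ι.isEmbedding.injective ?_).image _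
    refine (eq_of_specializes_of_isLocallyNoetherian ha ?_ (hs.map A.ι.continuous)).symm
    rw [hg, hg, hf, hf]
  obtain ⟨O₁, hO₁, huO₁, hO₁F⟩ := isOpen_singleton_fibre hF (u := f.left w) ⟨_, ⟨⟨w, hwB⟩, rfl⟩, hg _⟩
    (by
      rintro _ ⟨_, ⟨b, rfl⟩, rfl⟩ hs
      exact (eq_of_specializes_of_isLocallyNoetherian ha (by rw [hg, hf, hf]) hs).symm)
  refine ⟨B ⊓ f.left ⁻¹ᵁ ⟨O₁, hO₁⟩, ⟨hwB, huO₁⟩, fun o ho => ?_⟩
  exact hO₁F ⟨ho.2, _, ⟨⟨o, ho.1⟩, rfl⟩, hg _⟩

/-- A map from a reduced scheme with image one point of a locally Noetherian space factors through the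
monomorphism with that image. -/
theorem exists_lift_of_reduced_scheme {Z X : Sp S} (hZ : IsAlgSpace Z) (hX : IsAlgSpace X) (hN : IsLocNoethSp X)
    (i : Z ⟶ X) [Mono i] {x : Points X} (hx : x ∈ Set.range (Points.map i)) {T : Over S} [IsReduced T.left]
    (g : (yon S).obj T ⟶ X) (hg : ∀ t, Points.ofPt g t = x) : ∃ l, l ≫ i = g := by
  obtain ⟨U, a, ha, ha', hU⟩ := hN
  have : IsLocallyNoetherian U.left := hU
  let W := ha.rep.pullback g
  let gU : W ⟶ U := ha.rep.fst' g
  let π : W ⟶ T := ha.rep.snd g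
  have : Etale π.left := ha.property_snd g
  have : Surjective π.left := ha'.property _ _ _ (ha.rep.isPullback g)
  have : IsReduced W.left := isReduced_of_etaleMor π.left
  have hw : (yon S).map gU ≫ a = (yon S).map π ≫ g := (ha.rep.isPullback' g).w
  have hf : ∀ w, Points.ofPt a (gU.left w) = x := fun w => by rw [← ofPt_comp, hw, ofPt_comp, hg]
  choose O hO hOeq using exists_open_singleton_image ha gU x hf
  obtain ⟨l, hl⟩ := exists_lift_of_openCover i
    (W.left.openCoverOfIsOpenCover O (top_unique fun w _ => TopologicalSpace.Opens.mem_iSup.2 ⟨w, hO w⟩))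
    ((yon S).map π ≫ g) fun w => by
      let u := gU.left w
      have : IsReduced (O w).toScheme := isReduced_of_isOpenImmersion (O w).ι
      obtain ⟨l, hl⟩ := exists_factor_residueField ((O w).ι ≫ gU.left) u fun o => hOeq w _ o.2
      let q := FieldPt.ofPt a u
      obtain ⟨c, hc⟩ := exists_lift_fieldPt hZ hX i q (by
        rw [mk_eq_ofPt, FieldPt.toHom_ofPt, ofPt_comp]
        have e : U.left.fromSpecResidueField u (IsLocalRing.closedPoint (U.left.residueField u)) = u :=
          Scheme.fromSpecResidueField_apply _ _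
        exact (congrArg (Points.ofPt a) e).trans (hf w) ▸ hx)
      let lO : Over.mk ((O w).ι ≫ W.hom) ⟶ q.pt := CategoryTheory.Over.homMk l (by
        change l ≫ U.left.fromSpecResidueField u ≫ U.hom = (O w).ι ≫ W.hom
        rw [reassoc_of% hl, CategoryTheory.Over.w])
      refine ⟨(yon S).map lO ≫ c, ?_⟩
      rw [Category.assoc, hc, FieldPt.toHom_ofPt, ← Functor.map_comp_assoc, ← hw, ← Functor.map_comp_assoc]
      congr 2
      exact Over.OverMorphism.ext hl
  have : Epi ((yon S).map π) := epi_of_etale_surjective ((repWith_yon_map_iff _ π).2 ‹Etale π.left›)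
    ((repWith_yon_map_iff _ π).2 ‹Surjective π.left›)
  have sq := IsPullback.of_hasPullback i g
  have : Epi (pullback.snd i g) := epi_of_epi_fac (f := sq.lift l ((yon S).map π) hl) (h := (yon S).map π)
    (sq.lift_snd _ _ _)
  have := isIso_of_mono_of_epi (pullback.snd i g)
  exact ⟨inv (pullback.snd i g) ≫ pullback.fst i g, by
    rw [Category.assoc, pullback.condition, IsIso.inv_hom_id_assoc]⟩

/-- A map from a reduced space with image one point of a locally Noetherian space factors through the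
monomorphism with that image. -/
theorem exists_lift_of_reduced {Y Z X : Sp S} (hZ : IsAlgSpace Z) (hX : IsAlgSpace X) (hN : IsLocNoethSp X)
    (i : Z ⟶ X) [Mono i] {x : Points X} (hx : x ∈ Set.range (Points.map i)) (f : Y ⟶ X)
    (hY : EtaleLocally (fun U => IsReduced U) Y) (hf : ∀ y, Points.map f y = x) : ∃ l, l ≫ i = f := by
  obtain ⟨W, c, hc, hc', hW⟩ := hY
  have : IsReduced W.left := hW
  obtain ⟨l, hl⟩ := exists_lift_of_reduced_scheme hZ hX hN i hx (c ≫ f) fun w => by
    rw [← Points.map_ofPt]; exact hf _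
  have : Epi c := epi_of_etale_surjective hc hc'
  have sq := IsPullback.of_hasPullback i f
  have : Epi (pullback.snd i f) := epi_of_epi_fac (f := sq.lift l c hl) (h := c) (sq.lift_snd _ _ _)
  have := isIso_of_mono_of_epi (pullback.snd i f)
  exact ⟨inv (pullback.snd i f) ≫ pullback.fst i f, by
    rw [Category.assoc, pullback.condition, IsIso.inv_hom_id_assoc]⟩

end Groth.Agent.AlgSpDec
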