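import Groth.Agent.AlgSpDec.EtaleQuot
import Groth.Agent.AlgSpDec.MonoPoint
import Groth.Agent.AlgSpPts.FppfTarget
import Mathlib.CategoryTheory.Sites.Subsheaf

/-!
# The residual space at a point
-/

set_option backward.isDefEq.respectTransparency false
set_option backward.isDefEq.respectTransparency.types false

universe u

open CategoryTheory Limits Opposite AlgebraicGeometry AlgSp Groth.Agent.AlgSpLib Groth.Agent.AlgSpPts

namespace Groth.Agent.AlgSpDec

variable {S : Scheme.{u}}

theorem isField_stalk_of_discrete (W : Scheme.{u}) [IsReduced W] [DiscreteTopology ↥W] (w : W) :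
    IsField ↥(W.presheaf.stalk w) := by
  have : Subsingleton (PrimeSpectrum ↥(W.presheaf.stalk w)) := ⟨fun P Q => by
    refine (W.fromSpecStalk w).isEmbedding.injective ?_
    have h : ∀ R, W.fromSpecStalk w R = w := fun R => by
      have h' : W.fromSpecStalk w R ∈ Set.range (W.fromSpecStalk w) := ⟨R, rfl⟩
      rw [Scheme.range_fromSpecStalk] at h'
      exact (h' : W.fromSpecStalk w R ⤳ w).eq
    rw [h P, h Q]⟩
  exact (PrimeSpectrum.subsingleton_iff_isField_of_isReduced).1 this

/-- A preimmersion with open image into a reduced discrete scheme is an open immersion. -/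
theorem isOpenImmersion_of_discrete {A W : Scheme.{u}} (f : A ⟶ W) [IsPreimmersion f] [IsReduced W]
    [DiscreteTopology ↥W] : IsOpenImmersion f := by
  have : ∀ x, IsIso (f.stalkMap x) := fun x => by
    rw [ConcreteCategory.isIso_iff_bijective]
    refine ⟨?_, f.stalkMap_surjective x⟩
    letI := (isField_stalk_of_discrete W (f x)).toField
    exact (f.stalkMap x).hom.injective
  exact IsOpenImmersion.of_isIso_stalkMap f ⟨f.isEmbedding, isOpen_discrete _⟩

/-- An etale morphism to the spectrum of a field has discrete reduced source. -/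
theorem discrete_of_etale_field {k : Type u} [Field k] {W : Scheme.{u}} (s : W ⟶ Spec (CommRingCat.of k))
    [Etale s] : DiscreteTopology ↥W ∧ IsReduced W := by
  refine ⟨?_, isReduced_of_etaleMor s⟩
  have h1 := s.isDiscrete_preimage_singleton (IsLocalRing.closedPoint k)
  rw [show s ⁻¹' {IsLocalRing.closedPoint k} = Set.univ from
    Set.eq_univ_of_forall fun x => Subsingleton.elim (α := PrimeSpectrum k) _ _] at h1
  exact isDiscrete_univ_iff.1 h1

/-- Every point has a residual space: a mono with a flat finitely presented cover by the spectrum of a field. -/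
theorem exists_residual {X : Sp S} (hX : IsAlgSpace X) (x : Points X) :
    ∃ (Z : Sp S) (i : Z ⟶ X) (k : Type u) (_ : Field k) (str : Spec (CommRingCat.of k) ⟶ S)
      (p : (yon S).obj (Over.mk str) ⟶ Z), IsAlgSpace Z ∧ Mono i ∧ Set.range (Points.map i) = {x} ∧
      RepWith @Etale p ∧ RepWith @Surjective p := by
  obtain ⟨U, a, ha, has⟩ := hX.atlas
  obtain ⟨v, rfl⟩ := surjective_ofPt has x
  let k := U.left.residueField v
  let T : Over S := Over.mk (U.left.fromSpecResidueField v ≫ U.hom)
  let ι : T ⟶ U := CategoryTheory.Over.homMk (U.left.fromSpecResidueField v) rfl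
  let p₀ : (yon S).obj T ⟶ X := (yon S).map ι ≫ a
  -- the self product of the field over `X` is etale over the field
  let t₀ := ha.rep.fst' a
  let s₀ := ha.rep.snd a
  have sq₀ : IsPullback ((yon S).map t₀) ((yon S).map s₀) a a := ha.rep.isPullback' a
  have : Etale s₀.left := ha.property_snd a
  let R₁ := pullback s₀ ι
  have sq₁ : IsPullback (pullback.fst s₀ ι).left (pullback.snd s₀ ι).left s₀.left ι.left :=
    (IsPullback.of_hasPullback s₀ ι).map (Over.forget S)
  have : Etale (pullback.snd s₀ ι).left := MorphismProperty.of_isPullback sq₁.flip.flip ‹_›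
  obtain ⟨hd, hred⟩ := discrete_of_etale_field (k := k) (pullback.snd s₀ ι).left
  let q : R₁ ⟶ U := pullback.fst s₀ ι ≫ t₀
  have sq₂ : IsPullback (pullback.fst q ι).left (pullback.snd q ι).left q.left ι.left :=
    (IsPullback.of_hasPullback q ι).map (Over.forget S)
  have : IsPreimmersion ι.left := inferInstanceAs (IsPreimmersion (U.left.fromSpecResidueField v))
  have : IsPreimmersion (pullback.fst q ι).left := MorphismProperty.of_isPullback sq₂.flip ‹_›
  have := isOpenImmersion_of_discrete (pullback.fst q ι).left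
  let s₂ : pullback q ι ⟶ T := pullback.fst q ι ≫ pullback.snd s₀ ι
  have hs₂ : Etale s₂.left := inferInstanceAs (Etale ((pullback.fst q ι).left ≫ (pullback.snd s₀ ι).left))
  have sqR₁ : IsPullback ((yon S).map q) ((yon S).map (pullback.snd s₀ ι)) a p₀ := by
    rw [show q = pullback.fst s₀ ι ≫ t₀ from rfl, Functor.map_comp]
    exact ((IsPullback.of_hasPullback s₀ ι).map (yon S)).paste_horiz sq₀
  have sqR : IsPullback ((yon S).map (pullback.snd q ι)) ((yon S).map s₂) p₀ p₀ := by
    rw [show s₂ = pullback.fst q ι ≫ pullback.snd s₀ ι from rfl, Functor.map_comp]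
    exact (((IsPullback.of_hasPullback q ι).map (yon S)).flip).paste_vert sqR₁
  -- the image
  let i := Sheaf.imageι p₀
  let p : (yon S).obj T ⟶ Sheaf.image p₀ := Sheaf.toImage p₀
  have hpi : p ≫ i = p₀ := Sheaf.toImage_ι p₀
  have : Sheaf.IsLocallySurjective p := (Sheaf.isLocallySurjective_iff_epi _).2 (inferInstanceAs (Epi (Sheaf.toImage p₀)))
  have sqp : IsPullback ((yon S).map (pullback.snd q ι)) ((yon S).map s₂) p p := by
    refine ⟨⟨(cancel_mono i).1 (by rw [Category.assoc, Category.assoc, hpi, sqR.w])⟩,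
      ⟨PullbackCone.IsLimit.mk _ (fun c => sqR.lift c.fst c.snd (by
        have h := congrArg (· ≫ i) c.condition
        simpa only [Category.assoc, hpi] using h))
        (fun c => sqR.lift_fst _ _ _) (fun c => sqR.lift_snd _ _ _)
        (fun c m h₁ h₂ => sqR.hom_ext (by rw [h₁, sqR.lift_fst]) (by rw [h₂, sqR.lift_snd]))⟩⟩
  have hrep : Representable p := fun A g => by
    obtain ⟨W, sndW, fstW, sqW⟩ := representable_from_yon' hX p₀ (g ≫ i)
    refine ⟨W, sndW, fstW, ⟨⟨(cancel_mono i).1 (by rw [Category.assoc, Category.assoc, hpi, sqW.w])⟩,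
      ⟨PullbackCone.IsLimit.mk _ (fun c => sqW.lift c.fst c.snd (by
        have h := congrArg (· ≫ i) c.condition
        simpa only [Category.assoc, hpi] using h))
        (fun c => sqW.lift_fst _ _ _) (fun c => sqW.lift_snd _ _ _)
        (fun c m h₁ h₂ => sqW.hom_ext (by rw [h₁, sqW.lift_fst]) (by rw [h₂, sqW.lift_snd]))⟩⟩⟩
  have : MorphismProperty.IsLocalAtTarget (@Etale : MorphismProperty Scheme.{u}) Scheme.fppfPrecoverage :=
    isLocalAtTarget_fppf _
  have hpe : RepWith @Etale p := repWith_of_locallySurjective hrep p sqp @Etale ((repWith_yon_map_iff _ _).2 hs₂)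
  have : MorphismProperty.IsLocalAtTarget (@Surjective : MorphismProperty Scheme.{u}) Scheme.fppfPrecoverage :=
    isLocalAtTarget_fppf _
  have hss : Surjective s₂.left := by
    obtain ⟨σ, hσ⟩ := (yon S).map_surjective (sqR.lift (𝟙 _) (𝟙 _) rfl)
    refine ⟨fun y => ⟨σ.left y, ?_⟩⟩
    have h : σ ≫ s₂ = 𝟙 _ := (yon S).map_injective (by rw [Functor.map_comp, hσ, sqR.lift_snd, CategoryTheory.Functor.map_id])
    rw [← Scheme.Hom.comp_apply, ← Over.comp_left, h]
    rfl
  have hps : RepWith @Surjective p :=
    repWith_of_locallySurjective hrep p sqp @Surjective ((repWith_yon_map_iff _ _).2 hss)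
  refine ⟨_, i, k, inferInstance, T.hom, p, isAlgSpace_of_etale_surjective (IsAlgSpace.yon_obj T) hpe hps,
    inferInstanceAs (Mono (Sheaf.imageι p₀)), ?_, hpe, hps⟩
  have hsubT : Subsingleton ↥T.left := inferInstanceAs (Subsingleton (PrimeSpectrum k))
  ext y
  constructor
  · rintro ⟨z, rfl⟩
    obtain ⟨t, rfl⟩ := surjective_ofPt hps z
    show Points.map i (Points.ofPt p t) = Points.ofPt a v
    rw [Points.map_ofPt, hpi, Subsingleton.elim t (IsLocalRing.closedPoint k)]
    show Points.ofPt ((yon S).map ι ≫ a) _ = _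
    rw [Groth.Agent.AlgSpLib.ofPt_comp]
    exact congrArg _ (Scheme.fromSpecResidueField_apply _ _)
  · rintro rfl
    refine ⟨Points.ofPt p (IsLocalRing.closedPoint k), ?_⟩
    rw [Points.map_ofPt, hpi]
    show Points.ofPt ((yon S).map ι ≫ a) _ = _
    rw [Groth.Agent.AlgSpLib.ofPt_comp]
    exact congrArg _ (Scheme.fromSpecResidueField_apply _ _)

end Groth.Agent.AlgSpDec
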