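import Groth.Agent.AlgSpDec.SchDenseFacts

/-!
# The scheme theoretic closure of a retrocompact open commutes with flat base change
-/

set_option backward.isDefEq.respectTransparency false
set_option backward.isDefEq.respectTransparency.types false

universe u

open CategoryTheory AlgebraicGeometry Opposite TopologicalSpace Groth.Agent.SchDenseLib TensorProduct

namespace Groth.Agent.AlgSpDec.SchDenseFacts

variable {X Y : Scheme.{u}}

theorem mem_map_of_flat {A B : Type u} [CommRing A] [CommRing B] [Algebra A B] [Module.Flat A B]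
    (T : Finset A) (I : Ideal A) (hI : ∀ a : A, (∀ g ∈ T, ∃ n : ℕ, g ^ n * a = 0) → a ∈ I)
    (hI' : ∀ a ∈ I, ∀ g ∈ T, ∃ n : ℕ, g ^ n * a = 0) (b : B)
    (hb : ∀ g ∈ T, ∃ n : ℕ, (algebraMap A B g) ^ n * b = 0) : b ∈ I.map (algebraMap A B) := by
  classical
  have h1 : (1 : A ⧸ I) ⊗ₜ[A] b = 0 := by
    refine eq_zero_of_finite (A := A ⧸ I) (B := (A ⧸ I) ⊗[A] B) (T.image (Ideal.Quotient.mk I)) ?_ _ ?_
    · intro a ha
      obtain ⟨a, rfl⟩ := Ideal.Quotient.mk_surjective a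
      refine Ideal.Quotient.eq_zero_iff_mem.2 (hI a fun g hg => ?_)
      obtain ⟨n, hn⟩ := ha _ (Finset.mem_image_of_mem _ hg)
      rw [← map_pow, ← map_mul, Ideal.Quotient.eq_zero_iff_mem] at hn
      obtain ⟨m, hm⟩ := hI' _ hn g hg
      exact ⟨m + n, by rw [pow_add, mul_assoc, hm]⟩
    · intro g hg
      obtain ⟨g, hgT, rfl⟩ := Finset.mem_image.1 hg
      obtain ⟨n, hn⟩ := hb g hgT
      refine ⟨n, ?_⟩
      rw [← map_pow, ← map_pow, Algebra.TensorProduct.algebraMap_apply, Algebra.algebraMap_self, RingHom.id_apply,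
        Algebra.TensorProduct.tmul_mul_tmul, mul_one, one_mul, ← Ideal.Quotient.algebraMap_eq,
        Algebra.algebraMap_eq_smul_one, TensorProduct.smul_tmul, Algebra.smul_def, map_pow, hn, TensorProduct.tmul_zero]
  have h2 := congrArg (TensorProduct.quotTensorEquivQuotSMul B I) h1
  rw [map_zero, ← map_one (Ideal.Quotient.mk I), TensorProduct.quotTensorEquivQuotSMul_mk_tmul, one_smul,
    Submodule.Quotient.mk_eq_zero, Ideal.smul_top_eq_map] at h2
  exact h2

/-- The scheme theoretic closure of a retrocompact open commutes with flat base change. -/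
theorem comap_ker_opens (f : Y ⟶ X) [Flat f] (U : X.Opens) [QuasiCompact U.ι] [QuasiCompact (f ⁻¹ᵁ U).ι] :
    U.ι.ker.comap f = (f ⁻¹ᵁ U).ι.ker := by
  refine le_antisymm ?_ ?_
  · rw [← Scheme.IdealSheafData.le_map_iff_comap_le, Scheme.IdealSheafData.map_ker,
      show (f ⁻¹ᵁ U).ι ≫ f = (f ∣_ U) ≫ U.ι from (morphismRestrict_ι f U).symm]
    exact Scheme.Hom.le_ker_comp _ _
  set K := U.ι.ker.comap f
  let 𝒲 := {W' : Y.affineOpens // ∃ W : X.Opens, IsAffineOpen W ∧ W'.1 ≤ f ⁻¹ᵁ W}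
  refine Scheme.IdealSheafData.le_of_iSup_eq_top (fun W' : 𝒲 => W'.1) ?_ ?_
  · refine top_unique fun y _ => ?_
    obtain ⟨W, hW, hyW, -⟩ := exists_isAffineOpen_mem_and_subset (U := (⊤ : X.Opens)) (x := f y) trivial
    obtain ⟨W', hW', hyW', hle⟩ := exists_isAffineOpen_mem_and_subset (U := f ⁻¹ᵁ W) (x := y) hyW
    exact Opens.mem_iSup.2 ⟨⟨⟨W', hW'⟩, W, hW, hle⟩, hyW'⟩
  rintro ⟨⟨W', hW'⟩, W, hW, hle⟩
  change W' ≤ f ⁻¹ᵁ W at hle
  intro b hb
  rw [Scheme.Hom.ker_apply, RingHom.mem_ker] at hb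
  have hb' : Y.presheaf.map (homOfLE (inf_le_left : W' ⊓ f ⁻¹ᵁ U ≤ W')).op b = 0 := by
    rw [Scheme.Opens.ι_app] at hb
    refine map_eq_zero_of_le b (Scheme.Hom.image_preimage_le _ _) ?_ hb
    rw [Scheme.Hom.image_preimage_eq_opensRange_inf, Scheme.Opens.opensRange_ι, inf_comm]
  let := (f.appLE W W' hle).hom.toAlgebra
  have : Module.Flat Γ(X, W) Γ(Y, W') := f.flat_appLE hW hW' hle
  obtain ⟨T, hTU, hT⟩ := exists_finset hW (isCompact_inf_of_quasiCompact U W hW)
  have e : U.ι ''ᵁ (U.ι ⁻¹ᵁ W) = W ⊓ U := by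
    rw [Scheme.Hom.image_preimage_eq_opensRange_inf, Scheme.Opens.opensRange_ι, inf_comm]
  have hmem := mem_map_of_flat T (U.ι.ker.ideal ⟨W, hW⟩) (fun a ha => ?_) (fun a ha g hg => ?_) b
    (fun g hg => ?_)
  · refine Ideal.map_le_iff_le_comap.2 (fun a ha => ?_) hmem
    rw [Ideal.mem_comap]
    have h1 : a ∈ RingHom.ker ((K.subschemeι ≫ f).app W).hom := by
      refine Scheme.Hom.ideal_ker_le _ ⟨W, hW⟩ ?_
      exact Scheme.IdealSheafData.le_map_comap U.ι.ker f ⟨W, hW⟩ ha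
    rw [← K.ker_subschemeι, Scheme.Hom.ker_apply, RingHom.mem_ker]
    rw [RingHom.mem_ker, Scheme.Hom.comp_app] at h1
    have h2 := congrArg (fun k => k.hom (f.app W a)) (K.subschemeι.naturality (homOfLE hle).op)
    simp only [CommRingCat.comp_apply, CommRingCat.hom_comp, RingHom.comp_apply] at h1 h2
    exact h2.trans ((congrArg _ h1).trans (map_zero _))
  · rw [Scheme.Hom.ker_apply, RingHom.mem_ker, Scheme.Opens.ι_app]
    refine map_eq_zero_of_le a inf_le_left e.le (eq_zero_of_germ _ fun x hx => ?_)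
    rw [X.presheaf.germ_res_apply]
    obtain ⟨g, hg, hxg⟩ := hT x hx
    obtain ⟨n, hn⟩ := ha g hg
    have := congrArg (X.presheaf.germ W x hx.1).hom hn
    rw [map_mul, map_pow, map_zero] at this
    exact (((X.mem_basicOpen g x _).1 hxg).pow n).mul_right_eq_zero.1 this
  · rw [Scheme.Hom.ker_apply, RingHom.mem_ker, Scheme.Opens.ι_app] at ha
    exact (basicOpen_map_eq_zero_iff hW g a).1
      (map_eq_zero_of_le a (Scheme.Hom.image_preimage_le _ _)
        ((le_inf (X.basicOpen_le g) (hTU g hg)).trans e.ge) ha)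
  · refine (basicOpen_map_eq_zero_iff hW' _ b).1 (map_eq_zero_of_le b inf_le_left ?_ hb')
    refine le_inf (Y.basicOpen_le _) ?_
    rw [RingHom.algebraMap_toAlgebra, Scheme.basicOpen_appLE]
    exact inf_le_right.trans ((Opens.map f.base).map (homOfLE (hTU g hg))).le

end Groth.Agent.AlgSpDec.SchDenseFacts
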