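import Groth.Agent.AlgSpDec.OnePoint
import Groth.Agent.AlgSpDec.GpdIdent
import Groth.Agent.AlgSpPts.Descent
import Mathlib.CategoryTheory.Monoidal.Cartesian.Grp

/-!
Sections of decent algebraic spaces over fields are closed immersions; decent groupoids over fields are separated.
-/

set_option backward.isDefEq.respectTransparency false
set_option backward.isDefEq.respectTransparency.types false

universe u

open CategoryTheory CategoryTheory.Limits AlgebraicGeometry AlgSp Groth.Agent.AlgSpLib Groth.Agent.AlgSpPts

namespace Groth.Agent.AlgSpDec.SepOverField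

variable {S : Scheme.{u}}

/-- A section of a morphism from a decent algebraic space to the spectrum of a field is a closed immersion. -/
theorem repWith_section {X : Sp S} (hA : IsAlgSpace X) (hX : IsDecent X) {k : Type u} [Field k]
    (σ : Spec (CommRingCat.of k) ⟶ S) (p : (yon S).obj (Over.mk σ) ⟶ X)
    (q : X ⟶ (yon S).obj (Over.mk σ)) (h : p ≫ q = 𝟙 _) : RepWith @IsClosedImmersion p := by
  let qp : FieldPt X := ⟨k, σ, (J S).uliftYonedaEquiv p⟩
  have hqp : qp.toHom = p := Equiv.symm_apply_apply _ _
  have hp : RepWith @QuasiCompact p := hqp ▸ repWith_quasiCompact_toHom hA hX qp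
  haveI hm : Mono p := mono_of_mono_fac h
  have : IsLocallyArtinian (Over.mk σ).left := isLocallyArtinian_field
  obtain ⟨U, a, ha, ha'⟩ := hA.atlas
  have := isLocallySurjective_of_etale_surjective ha ha'
  have : MorphismProperty.IsLocalAtTarget @IsClosedImmersion Scheme.fppfPrecoverage := by
    have := EtFound.fpqc_isClosedImmersion.{u}
    exact isLocalAtTarget_fppf _
  refine repWith_of_locallySurjective hp.rep a (hp.rep.isPullback a) _ ((repWith_yon_map_iff _ _).2 ?_)
  let pT : hp.rep.pullback a ⟶ Over.mk σ := hp.rep.fst' a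
  let pU : hp.rep.pullback a ⟶ U := hp.rep.snd a
  obtain ⟨b, hb⟩ := (yon S).map_surjective (a ≫ q)
  have hbT : pU ≫ b = pT := (yon S).map_injective (by
    rw [(yon S).map_comp, hb, ← Category.assoc, ← (hp.rep.isPullback' a).w, Category.assoc, h,
      Category.comp_id])
  have : Etale pT.left := ha.property _ _ _ (hp.rep.isPullback' a).flip
  have : QuasiCompact pU.left := hp.property_snd a
  have : Mono ((yon S).map pU) := PullbackCone.mono_snd_of_is_pullback_of_mono (hp.rep.isPullback a).isLimit
  have : Mono pU := (yon S).mono_of_mono_map this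
  have : Mono pU.left := inferInstanceAs (Mono ((Over.forget S).map pU))
  have hfin : IsFinite pU.left := by
    refine (IsZariskiLocalAtTarget.iff_of_iSup_eq_top (P := @IsFinite)
      (fun i : U.left.affineOpens => i.1) (iSup_affineOpens_eq_top _)).2 fun U' => ?_
    have : IsAffine U'.1.toScheme := U'.2
    let W := pU.left ⁻¹ᵁ U'.1
    refine MorphismProperty.of_postcomp (W := @IsFinite) (W' := @IsSeparated) (pU.left ∣_ U'.1)
      (U'.1.ι ≫ b.left) inferInstance ?_
    rw [morphismRestrict_ι_assoc, ← Over.comp_left, hbT]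
    have : CompactSpace ↥W.toScheme := isCompact_iff_compactSpace.1
      (QuasiCompact.isCompact_preimage (f := pU.left) _ U'.1.isOpen U'.2.isCompact)
    have : QuasiCompact (W.ι ≫ pT.left) := by
      refine (quasiCompact_iff _).2 fun A _ hA' => ?_
      have : Finite ↥W.toScheme := by
        have : IsLocallyArtinian (Over.mk σ).left := isLocallyArtinian_field
        have hd := (W.ι ≫ pT.left).isDiscrete_preimage (s := Set.univ) (isDiscrete_univ_iff.2 inferInstance)
        rw [Set.preimage_univ, isDiscrete_univ_iff] at hd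
        exact finite_of_compact_of_discrete
      exact (Set.toFinite _).isCompact
    exact IsFinite.of_locallyQuasiFinite _
  exact (IsClosedImmersion.iff_isFinite_and_mono pU.left).2 ⟨hfin, inferInstance⟩

theorem isSeparatedSp_of_groupoid {B : Sp S} (G : GroupoidSp B)
    (hU : IsSeparatedSp G.U) (he : RepWith @IsClosedImmersion G.e) : IsSeparatedSp G.R := by
  have hd : RepWith @IsClosedImmersion (pullback.diagonal G.t) := by
    let δ : pullback G.t G.t ⟶ G.R :=
      GpdIdent.comp G (pullback.fst G.t G.t ≫ G.i) (pullback.snd G.t G.t)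
        (by rw [Category.assoc, G.i_s, pullback.condition])
    refine repWith_of_isPullback (fst := G.s) (snd := pullback.diagonal G.t) (f := G.e) (g := δ) ?_ he
    have w : G.s ≫ G.e = pullback.diagonal G.t ≫ δ := by
      rw [GpdIdent.pre_comp]
      have e₁ : pullback.diagonal G.t ≫ pullback.fst G.t G.t ≫ G.i = 𝟙 G.R ≫ G.i := by
        rw [← Category.assoc, pullback.diagonal_fst]
      exact (((GpdIdent.comp_congr G _ _ e₁ (pullback.diagonal_snd G.t)).trans
        (GpdIdent.inv_comp_self G (𝟙 G.R))).trans (Category.id_comp _)).symm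
    refine ⟨⟨w⟩, ⟨PullbackCone.IsLimit.mk _ (fun c => c.snd ≫ pullback.fst G.t G.t) ?_ ?_ ?_⟩⟩
    all_goals
      intro c
      have hst : (c.snd ≫ pullback.fst G.t G.t) ≫ G.t = (c.snd ≫ pullback.snd G.t G.t) ≫ G.t := by
        rw [Category.assoc, Category.assoc, pullback.condition]
      have hh : ((c.snd ≫ pullback.fst G.t G.t) ≫ G.i) ≫ G.s = (c.snd ≫ pullback.snd G.t G.t) ≫ G.t := by
        rw [Category.assoc _ G.i, G.i_s, hst]
      have hc : GpdIdent.comp G ((c.snd ≫ pullback.fst G.t G.t) ≫ G.i) (c.snd ≫ pullback.snd G.t G.t) hh =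
          c.fst ≫ G.e := by
        rw [c.condition, GpdIdent.pre_comp]
        exact GpdIdent.comp_congr G _ _ (Category.assoc _ _ _) rfl
      have hs₁ : c.fst = (c.snd ≫ pullback.fst G.t G.t) ≫ G.s := by
        have := congrArg (· ≫ G.t) hc
        simp only [GpdIdent.comp_t'] at this
        rw [Category.assoc _ G.i, G.i_t, Category.assoc c.fst, G.e_t, Category.comp_id] at this
        exact this.symm
      have heq : c.snd ≫ pullback.snd G.t G.t = c.snd ≫ pullback.fst G.t G.t := by
        rw [← GpdIdent.comp_inv_comp' G (c.snd ≫ pullback.fst G.t G.t) (c.snd ≫ pullback.snd G.t G.t) hst hh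
          (by rw [GpdIdent.comp_t', Category.assoc _ G.i, G.i_t])]
        apply GpdIdent.comp_id
        rw [hc, hs₁, Category.assoc]
    · exact hs₁.symm
    · apply pullback.hom_ext
      · rw [Category.assoc, pullback.diagonal_fst, Category.comp_id]
      · rw [Category.assoc, pullback.diagonal_snd, Category.comp_id, heq]
    · intro m _ hm
      rw [← hm, Category.assoc, pullback.diagonal_fst, Category.comp_id]
  refine (repWith_diag_iff _ G.R).2 ?_
  have hU' := (repWith_diag_iff _ G.U).1 hU
  show (RepWith (S := S) @IsClosedImmersion).diagonal ((isTerminalYon S).from G.R)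
  rw [show (isTerminalYon S).from G.R = G.t ≫ (isTerminalYon S).from G.U from (isTerminalYon S).hom_ext _ _]
  exact MorphismProperty.comp_mem (RepWith (S := S) @IsClosedImmersion).diagonal G.t _ hd hU'

end Groth.Agent.AlgSpDec.SepOverField

namespace Groth.Agent.AlgSpDec.SepOverField

open scoped MonoidalCategory MonObj

variable {S : Scheme.{u}}

theorem isSeparatedSp_of_iso {F G : Sp S} (e : F ≅ G) (h : IsSeparatedSp F) : IsSeparatedSp G := by
  have hd : Limits.diag G = e.inv ≫ Limits.diag F ≫ (prod.mapIso e e).hom := by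
    apply Limits.prod.hom_ext <;> simp
  unfold IsSeparatedSp at h ⊢
  rw [hd]
  exact repWith_comp (repWith_of_isIso _ _) (repWith_comp h (repWith_of_isIso _ _))

theorem isSeparatedSp_yon_field {k : Type u} [Field k] (σ : Spec (CommRingCat.of k) ⟶ S) :
    IsSeparatedSp ((yon S).obj (Over.mk σ)) := by
  refine (repWith_diag_yon_iff @IsClosedImmersion (Over.mk σ)).2 ?_
  have : IsSeparated σ := IsSeparated.of_comp σ (terminal.from S)
  exact IsSeparated.isClosedImmersion_diagonal (f := σ)

theorem isSeparatedSp_groupoid_field {B : Sp S} (G : GroupoidSp B) (hR : IsAlgSpace G.R)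
    (hd : IsDecent G.R) {k : Type u} [Field k] (σ : Spec (CommRingCat.of k) ⟶ S)
    (eU : G.U ≅ (yon S).obj (Over.mk σ)) : IsSeparatedSp G.R := by
  refine isSeparatedSp_of_groupoid G (isSeparatedSp_of_iso eU.symm (isSeparatedSp_yon_field σ)) ?_
  have h := repWith_section hR hd σ (eU.inv ≫ G.e) (G.s ≫ eU.hom) (by
    rw [Category.assoc, ← Category.assoc G.e, G.e_s, Category.id_comp, eU.inv_hom_id])
  have h' := repWith_comp (repWith_of_isIso @IsClosedImmersion eU.hom) h
  rwa [← Category.assoc, eU.hom_inv_id, Category.id_comp] at h'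

open CartesianMonoidalCategory in
theorem isSeparatedSp_of_grpObj {T : Sp S} (hT : IsTerminal T) (G : Over T) [GrpObj G]
    (he : RepWith @IsClosedImmersion (η[G]).left) : IsSeparatedSp G.left := by
  have hfs : (CartesianMonoidalCategory.fst G G).left = pullback.fst G.hom G.hom := rfl
  have hsn : (CartesianMonoidalCategory.snd G G).left = pullback.snd G.hom G.hom := rfl
  let δ : G ⊗ G ⟶ G := (CartesianMonoidalCategory.fst G G)⁻¹ * CartesianMonoidalCategory.snd G G
  let D : G ⟶ G ⊗ G := CartesianMonoidalCategory.lift (𝟙 G) (𝟙 G)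
  have hD : D ≫ δ = toUnit G ≫ η[G] := by
    simp only [δ, D, MonObj.comp_mul, GrpObj.comp_inv, CartesianMonoidalCategory.lift_fst,
      CartesianMonoidalCategory.lift_snd, inv_mul_cancel, MonObj.one_eq_one, MonObj.comp_one]
  have sq : IsPullback (toUnit G).left D.left (η[G]).left δ.left := by
    refine ⟨⟨?_⟩, ⟨PullbackCone.IsLimit.mk _ (fun c => c.snd ≫ (CartesianMonoidalCategory.fst G G).left)
      (fun c => hT.hom_ext _ _) ?_ ?_⟩⟩
    · rw [← Over.comp_left, ← Over.comp_left, hD]
    · intro c
      let Z : Over T := Over.mk (c.snd ≫ (G ⊗ G).hom)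
      let z : Z ⟶ G ⊗ G := Over.homMk c.snd rfl
      let q : Z ⟶ 𝟙_ (Over T) := Over.homMk c.fst (hT.hom_ext _ _)
      have hz : z ≫ δ = 1 := by
        have : z ≫ δ = q ≫ η[G] := Over.OverMorphism.ext c.condition.symm
        rw [this, MonObj.one_eq_one, MonObj.comp_one]
      simp only [δ, MonObj.comp_mul, GrpObj.comp_inv] at hz
      have h2 : z ≫ CartesianMonoidalCategory.fst G G ≫ D = z := by
        apply CartesianMonoidalCategory.hom_ext
        · simp [D]
        · simpa [D] using inv_mul_eq_one.1 hz
      exact (Category.assoc _ _ _).trans (congrArg CommaMorphism.left h2)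
    · intro c m _ hm
      rw [← hm, Category.assoc]
      have : D.left ≫ (CartesianMonoidalCategory.fst G G).left = 𝟙 _ :=
        congrArg CommaMorphism.left (CartesianMonoidalCategory.lift_fst (𝟙 G) (𝟙 G))
      rw [this, Category.comp_id]
  have hd : D.left = pullback.diagonal G.hom := by
    apply pullback.hom_ext
    · rw [pullback.diagonal_fst, ← hfs]
      exact congrArg CommaMorphism.left (CartesianMonoidalCategory.lift_fst (𝟙 G) (𝟙 G))
    · rw [pullback.diagonal_snd, ← hsn]
      exact congrArg CommaMorphism.left (CartesianMonoidalCategory.lift_snd (𝟙 G) (𝟙 G))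
  refine (repWith_diag_iff _ G.left).2 ?_
  have h0 : RepWith @IsClosedImmersion (pullback.diagonal G.hom) := hd ▸ repWith_of_isPullback sq he
  show (RepWith (S := S) @IsClosedImmersion).diagonal ((isTerminalYon S).from G.left)
  have : IsIso (hT.from ((yon S).obj (Over.mk (𝟙 S)))) :=
    isIso_of_isTerminal (isTerminalYon S) hT _
  rw [show (isTerminalYon S).from G.left = G.hom ≫ inv (hT.from ((yon S).obj (Over.mk (𝟙 S)))) from
    (isTerminalYon S).hom_ext _ _]
  exact MorphismProperty.comp_mem (RepWith (S := S) @IsClosedImmersion).diagonal G.hom _ h0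
    (MorphismProperty.of_isIso (RepWith (S := S) @IsClosedImmersion).diagonal _)

end Groth.Agent.AlgSpDec.SepOverField
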