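import Mathlib
import Groth.Agent.FibFlat.Local
import Groth.Agent.FlatLocus.Basic
import Groth.Agent.FlatModel.Slice

/-!
Dividing a finitely presented flat algebra over an arbitrary ring by an element which is regular on
the fibre at a prime keeps flatness near that prime.
-/

set_option autoImplicit false
universe u

open AlgebraicGeometry CategoryTheory TensorProduct Polynomial IsLocalRing

namespace Groth.Agent.AlgSpDec.Slice

/-- Torsion-free modules over a ring all of whose nonzero elements are a unit times a power of one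
element are flat. -/
theorem flat_of_uniformizer {B C : Type u} [CommRing B] [CommRing C] [Algebra B C] (X : B)
    (hB : ∀ b : B, b = 0 ∨ ∃ (n : ℕ) (v : Bˣ), b = v * X ^ n)
    (hX : ∀ c : C, algebraMap B C X * c = 0 → c = 0) : Module.Flat B C := by
  classical
  rw [Module.Flat.iff_lTensor_injective']
  intro I
  rw [injective_iff_map_eq_zero]
  intro y hy
  by_cases hI : ∃ n, X ^ n ∈ I
  · let n := Nat.find hI
    let g : I := ⟨X ^ n, Nat.find_spec hI⟩
    have hgen : ∀ b : I, ∃ c : B, b = c • g := by
      rintro ⟨b, hb⟩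
      rcases hB b with rfl | ⟨m, v, rfl⟩
      · exact ⟨0, Subtype.ext (by simp)⟩
      · have hm : X ^ m ∈ I := by simpa using Ideal.mul_mem_left I (↑v⁻¹ : B) hb
        refine ⟨v * X ^ (m - n), Subtype.ext ?_⟩
        show _ = (v * X ^ (m - n)) * X ^ n
        rw [mul_assoc, ← pow_add, Nat.sub_add_cancel (Nat.find_le hm)]
    obtain ⟨c, rfl⟩ : ∃ c : C, y = c ⊗ₜ g := by
      clear hy
      induction y using TensorProduct.induction_on with
      | zero => exact ⟨0, by simp⟩
      | tmul c b =>
        obtain ⟨d, rfl⟩ := hgen b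
        exact ⟨d • c, by rw [TensorProduct.tmul_smul, TensorProduct.smul_tmul']⟩
      | add a b ha hb =>
        obtain ⟨c, rfl⟩ := ha; obtain ⟨d, rfl⟩ := hb
        exact ⟨c + d, (TensorProduct.add_tmul _ _ _).symm⟩
    have h := congrArg (TensorProduct.rid B C) hy
    rw [LinearMap.lTensor_tmul, TensorProduct.rid_tmul, map_zero] at h
    have hc : c = 0 := by
      have h' : (algebraMap B C X) ^ n * c = 0 := by
        rw [← map_pow, ← Algebra.smul_def]; exact h
      clear h hy
      generalize n = k at h'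
      induction k with
      | zero => simpa using h'
      | succ j ih => rw [pow_succ', mul_assoc] at h'; exact ih (hX _ h')
    rw [hc, TensorProduct.zero_tmul]
  · have h0 : ∀ b : I, b = 0 := by
      rintro ⟨b, hb⟩
      rcases hB b with rfl | ⟨m, v, rfl⟩
      · rfl
      · exact (hI ⟨m, by simpa using Ideal.mul_mem_left I (↑v⁻¹ : B) hb⟩).elim
    clear hy
    induction y using TensorProduct.induction_on with
    | zero => rfl
    | tmul c b => rw [h0 b, TensorProduct.tmul_zero]
    | add a b ha hb => rw [ha, hb, add_zero]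

/-- `FFl` from the uniformizer criterion. -/
theorem ffl_of_uniformizer {A₀ B C : Type u} [CommRing A₀] [IsLocalRing A₀] [CommRing B] [CommRing C]
    (ψ : A₀ →+* B) (φ : B →+* C) (X : B)
    (hB : ∀ b : B, b ∈ (maximalIdeal A₀).map ψ ∨ ∃ (n : ℕ) (v : B) (_ : IsUnit (Ideal.Quotient.mk
      ((maximalIdeal A₀).map ψ) v)), b - v * X ^ n ∈ (maximalIdeal A₀).map ψ)
    (hX : ∀ c : C, φ X * c ∈ ((maximalIdeal A₀).map ψ).map φ → c ∈ ((maximalIdeal A₀).map ψ).map φ) :
    FibFlat.FFl ψ φ := by
  let I := (maximalIdeal A₀).map ψ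
  let J := I.map φ
  letI := (Ideal.quotientMap J φ Ideal.le_comap_map : B ⧸ I →+* C ⧸ J).toAlgebra
  have : Module.Flat (B ⧸ I) (C ⧸ J) := by
    refine flat_of_uniformizer (Ideal.Quotient.mk I X) (fun b => ?_) fun c hc => ?_
    · obtain ⟨b, rfl⟩ := Ideal.Quotient.mk_surjective b
      rcases hB b with h | ⟨n, v, hv, h⟩
      · exact Or.inl (Ideal.Quotient.eq_zero_iff_mem.2 h)
      · exact Or.inr ⟨n, hv.unit, by rw [IsUnit.unit_spec, ← map_pow, ← map_mul]; exact Ideal.Quotient.eq.2 h⟩
    · obtain ⟨c, rfl⟩ := Ideal.Quotient.mk_surjective c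
      rw [RingHom.algebraMap_toAlgebra, Ideal.quotientMap_mk, ← map_mul, Ideal.Quotient.eq_zero_iff_mem] at hc
      exact Ideal.Quotient.eq_zero_iff_mem.2 (hX c hc)
  exact this

variable {O A : Type u} [CommRing O] [CommRing A] [Algebra O A]

set_option backward.isDefEq.respectTransparency false in
/-- The fibre of `A` at a prime is flat over the fibre of the affine line. -/
theorem ff_aeval (f : A) (p : Ideal O) [p.IsPrime] (Q : Ideal A) [hQ : Q.IsPrime] [Q.LiesOver p]
    (hf : f ∈ Q)
    (hreg : ∀ t, f * t ∈ FlatModel.sat p ⊥ Q.primeCompl → t ∈ FlatModel.sat p ⊥ Q.primeCompl) :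
    FibFlat.FF (Spec.map (CommRingCat.ofHom (Polynomial.aeval (R := O) f).toRingHom))
      (Spec.map (CommRingCat.ofHom (algebraMap O O[X]))) (⟨Q, hQ⟩ : PrimeSpectrum A) := by
  classical
  let φ : O[X] →+* A := (Polynomial.aeval (R := O) f).toRingHom
  let q : Ideal O[X] := Q.comap φ
  have hcO : φ.comp (algebraMap O O[X]) = algebraMap O A := (Polynomial.aeval (R := O) f).comp_algebraMap
  have hqp : p = q.comap (algebraMap O O[X]) := by
    rw [show q.comap (algebraMap O O[X]) = Q.comap (φ.comp (algebraMap O O[X])) from Ideal.comap_comap _ _, hcO]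
    exact Q.over_def p
  let ψ₀ := Localization.localRingHom p q (algebraMap O O[X]) hqp
  let φ₀ := Localization.localRingHom q Q φ rfl
  let B := Localization.AtPrime q
  let C := Localization.AtPrime Q
  have hI : (maximalIdeal (Localization.AtPrime p)).map ψ₀ =
      (p.map (algebraMap O O[X])).map (algebraMap O[X] B) := by
    rw [← IsLocalization.AtPrime.map_eq_maximalIdeal p (Localization.AtPrime p), Ideal.map_map, Ideal.map_map]
    congr 1
    ext r
    exact Localization.localRingHom_to_map p q _ hqp r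
  have hJ : ((maximalIdeal (Localization.AtPrime p)).map ψ₀).map φ₀ =
      (p.map (algebraMap O A)).map (algebraMap A C) := by
    rw [hI, Ideal.map_map, Ideal.map_map, Ideal.map_map, ← hcO]
    congr 1
    ext r
    exact Localization.localRingHom_to_map q Q φ rfl _
  have hFFl : FibFlat.FFl ψ₀ φ₀ := by
    refine ffl_of_uniformizer ψ₀ φ₀ (algebraMap O[X] B X) (fun b => ?_) (fun c hc => ?_)
    · obtain ⟨a, v, rfl⟩ := IsLocalization.exists_mk'_eq q.primeCompl b
      by_cases ha : ∀ i, a.coeff i ∈ p
      · left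
        rw [hI, IsLocalization.mk'_eq_mul_mk'_one]
        refine Ideal.mul_mem_right _ _ (Ideal.mem_map_of_mem _ ?_)
        rw [Polynomial.algebraMap_eq, Ideal.mem_map_C_iff]
        exact ha
      · right
        push Not at ha
        let n := Nat.find ha
        let r : O[X] := ∑ i ∈ Finset.range n, monomial i (a.coeff i)
        have hr : r ∈ p.map (algebraMap O O[X]) := by
          rw [Polynomial.algebraMap_eq, Ideal.mem_map_C_iff]
          intro i
          simp only [r, finsetSum_coeff, coeff_monomial, Finset.sum_ite_eq', Finset.mem_range]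
          split_ifs with h
          · exact not_not.1 (Nat.find_min ha h)
          · exact zero_mem _
        obtain ⟨g, hg⟩ : X ^ n ∣ a - r := by
          rw [X_pow_dvd_iff]
          intro i hi
          simp [r, finsetSum_coeff, coeff_monomial, hi]
        have hg0 : g.coeff 0 = a.coeff n :=
          calc g.coeff 0 = (X ^ n * g).coeff n := by simpa using (coeff_X_pow_mul g n 0).symm
            _ = (a - r).coeff n := by rw [hg]
            _ = a.coeff n := by simp [r, finsetSum_coeff, coeff_monomial]
        have hgq : g ∉ q := fun h => Nat.find_spec ha (show a.coeff n ∈ p by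
          rw [← hg0, Q.over_def p]
          show algebraMap O A (g.coeff 0) ∈ Q
          have h1 : φ g = f * φ g.divX + algebraMap O A (g.coeff 0) := by
            show aeval f g = f * aeval f g.divX + _
            conv_lhs => rw [← X_mul_divX_add g]
            rw [map_add, map_mul, aeval_X, aeval_C]
          have h2 : φ g ∈ Q := h
          rw [h1] at h2
          exact (Ideal.add_mem_iff_right _ (Ideal.mul_mem_right _ _ hf)).1 h2)
        refine ⟨n, IsLocalization.mk' B g v,
          ((IsLocalization.AtPrime.isUnit_mk'_iff B q g v).2 hgq).map _, ?_⟩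
        rw [hI, ← map_pow, mul_comm, IsLocalization.mul_mk'_eq_mk'_of_mul, ← hg,
          IsLocalization.mk'_eq_mul_mk'_one, IsLocalization.mk'_eq_mul_mk'_one (a - r), ← sub_mul, ← map_sub,
          sub_sub_cancel]
        exact Ideal.mul_mem_right _ _ (Ideal.mem_map_of_mem _ hr)
    · obtain ⟨t, v, rfl⟩ := IsLocalization.exists_mk'_eq Q.primeCompl c
      have hmap : φ₀ (algebraMap O[X] B X) = algebraMap A C f :=
        (Localization.localRingHom_to_map q Q φ rfl X).trans
          (congrArg (algebraMap A C) (Polynomial.aeval_X f))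
      rw [hmap, hJ, IsLocalization.mul_mk'_eq_mk'_of_mul, IsLocalization.mk'_mem_map_algebraMap_iff] at hc
      obtain ⟨w, hw, hwc⟩ := hc
      obtain ⟨w', hw', hwt⟩ := hreg t ⟨w, hw, Ideal.mem_sup_right hwc⟩
      rw [bot_sup_eq] at hwt
      rw [hJ, IsLocalization.mk'_mem_map_algebraMap_iff]
      exact ⟨w', hw', hwt⟩
  refine (FibFlat.ff_iff _ _ _ (⟨q, inferInstance⟩ : PrimeSpectrum O[X]) (⟨p, ‹_›⟩ : PrimeSpectrum O)
    rfl (PrimeSpectrum.ext hqp.symm)).2 ?_
  let eA := (Spec.stalkIso (CommRingCat.of O) (⟨p, ‹_›⟩ : PrimeSpectrum O)).commRingCatIsoToRingEquiv.symm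
  let eB := (Spec.stalkIso (CommRingCat.of O[X]) (⟨q, inferInstance⟩ : PrimeSpectrum O[X])).commRingCatIsoToRingEquiv.symm
  let eC := (Spec.stalkIso (CommRingCat.of A) (⟨Q, hQ⟩ : PrimeSpectrum A)).commRingCatIsoToRingEquiv.symm
  have : IsLocalHom eA.toRingHom := ⟨fun r hr => (MulEquiv.isUnit_map eA).1 hr⟩
  refine (FibFlat.ffl_congr eA.toRingHom eB.toRingHom eC.toRingHom eA.surjective eB.surjective eC.surjective
    ?_ ?_ ?_ ?_).1 hFFl
  · refine IsLocalization.ringHom_ext p.primeCompl ?_
    rw [RingHom.comp_assoc, RingHom.comp_assoc,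
      show ψ₀.comp (algebraMap O (Localization.AtPrime p)) = (algebraMap O[X] B).comp (algebraMap O O[X]) from
        RingHom.ext fun r => Localization.localRingHom_to_map p q _ hqp r]
    have h := FibFlat.tS_natural (CommRingCat.ofHom (algebraMap O O[X]))
      (⟨q, inferInstance⟩ : PrimeSpectrum O[X]) (⟨p, ‹_›⟩ : PrimeSpectrum O) (PrimeSpectrum.ext hqp.symm)
    rw [FibFlat.tS_eq, FibFlat.tS_eq] at h
    exact h
  · refine IsLocalization.ringHom_ext q.primeCompl ?_
    rw [RingHom.comp_assoc, RingHom.comp_assoc,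
      show φ₀.comp (algebraMap O[X] B) = (algebraMap A C).comp φ from
        RingHom.ext fun r => Localization.localRingHom_to_map q Q φ rfl r]
    have h := FibFlat.tS_natural (CommRingCat.ofHom φ)
      (⟨Q, hQ⟩ : PrimeSpectrum A) (⟨q, inferInstance⟩ : PrimeSpectrum O[X]) rfl
    rw [FibFlat.tS_eq, FibFlat.tS_eq] at h
    exact h
  · rw [(RingHom.injective_iff_ker_eq_bot eB.toRingHom).1 eB.injective]; exact bot_le
  · rw [(RingHom.injective_iff_ker_eq_bot eC.toRingHom).1 eC.injective]; exact bot_le

/-- Dividing by an element regular on the fibre at a prime keeps flatness near that prime. -/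
theorem exists_flat_quotient [Algebra.FinitePresentation O A] [Module.Flat O A] (f : A) (p : Ideal O)
    [p.IsPrime] (Q : Ideal A) [hQ : Q.IsPrime] [Q.LiesOver p] (hf : f ∈ Q)
    (hreg : ∀ t, f * t ∈ FlatModel.sat p ⊥ Q.primeCompl → t ∈ FlatModel.sat p ⊥ Q.primeCompl) :
    ∃ h ∉ Q, ∀ (A' : Type u) [CommRing A'] [Algebra A A'] [Algebra O A'] [IsScalarTower O A A']
      [IsLocalization.Away h A'], Module.Flat O (A' ⧸ Ideal.span {algebraMap A A' f}) := by
  classical
  obtain ⟨W, hW, hQW, hWflat⟩ := FibFlat.affine_main (R := O) (Polynomial.aeval f)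
    (⟨Q, hQ⟩ : PrimeSpectrum A) (ff_aeval f p Q hf hreg)
  obtain ⟨U, ⟨h, rfl⟩, hQh, hhW⟩ := PrimeSpectrum.isTopologicalBasis_basic_opens.exists_subset_of_mem_open hQW hW
  refine ⟨h, hQh, fun A' _ _ _ _ _ => ?_⟩
  let φ : O[X] →+* A := (Polynomial.aeval (R := O) f).toRingHom
  letI : Algebra O[X] A' := ((algebraMap A A').comp φ).toAlgebra
  have : IsScalarTower O O[X] A' := IsScalarTower.of_algebraMap_eq fun r => by
    show algebraMap O A' r = algebraMap A A' (φ (algebraMap O O[X] r))
    rw [show φ (algebraMap O O[X] r) = algebraMap O A r from (Polynomial.aeval f).commutes r]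
    exact IsScalarTower.algebraMap_apply O A A' r
  have : Module.Flat O[X] A' := by
    let j := Spec.map (CommRingCat.ofHom (algebraMap A A'))
    have : IsOpenImmersion j := IsOpenImmersion.of_isLocalization h
    have hflat : Flat (j ≫ Spec.map (CommRingCat.ofHom φ)) := by
      refine Flat.of_stalkMap _ fun z => (FibFlat.flat_stalk_open_comp j _ z).2 (hWflat _ (hhW ?_)).2
      have hz : j z ∈ Set.range (PrimeSpectrum.comap (algebraMap A A')) := ⟨z, rfl⟩
      rwa [PrimeSpectrum.localization_away_comap_range A' h] at hz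
    rw [← Spec.map_comp, HasRingHomProperty.Spec_iff (P := @Flat)] at hflat
    exact hflat
  let I : Ideal O[X] := Ideal.span {X}
  have : Module.Flat (O[X] ⧸ I) ((O[X] ⧸ I) ⊗[O[X]] A') := inferInstance
  have : Module.Flat O (O[X] ⧸ I) :=
    Module.Flat.of_linearEquiv (AlgEquiv.toLinearEquiv
      ((Ideal.quotientEquivAlgOfEq O (show I = Ideal.span {X - C (0 : O)} by simp [I])).trans
        (Polynomial.quotientSpanXSubCAlgEquiv (0 : O))))
  have : Module.Flat O ((O[X] ⧸ I) ⊗[O[X]] A') := Module.Flat.trans O (O[X] ⧸ I) _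
  have hIf : I • (⊤ : Submodule O[X] A') = (Ideal.span {algebraMap A A' f}).restrictScalars O[X] := by
    rw [Ideal.smul_top_eq_map, Ideal.map_span, Set.image_singleton]
    congr 3
    show algebraMap A A' (φ X) = _
    simp [φ]
  let e := (TensorProduct.quotTensorEquivQuotSMul A' I).trans
    ((Submodule.quotEquivOfEq _ _ hIf).trans (Submodule.Quotient.restrictScalarsEquiv O[X] _))
  exact Module.Flat.of_linearEquiv (e.restrictScalars O).symm

end Groth.Agent.AlgSpDec.Slice
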