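import Mathlib
import Groth.Agent.AlgSpDec.SliceFlat
import Groth.Agent.GenFree.Basic

/-!
Slicing: an algebra `T` flat and finitely presented over `O`, and of finite type over `O'`, whose primes
are told apart by the images of `O` and `O'`, can be cut by finitely many elements of `O'` down to a
flat algebra which is quasi-finite at a point over a given maximal ideal of `O`.
-/

set_option autoImplicit false
universe u

open TensorProduct IsLocalRing

set_option backward.isDefEq.respectTransparency false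
set_option backward.isDefEq.respectTransparency.types false

namespace Groth.Agent.AlgSpDec.Slice

open Polynomial in
/-- In a domain of finite type over a field, `x ^ n - 1` are not all units for transcendental `x`. -/
theorem exists_not_isUnit_pow_sub_one (k D : Type u) [Field k] [CommRing D] [IsDomain D] [Algebra k D]
    [Algebra.FiniteType k D] (x : D) (hx : ¬ IsAlgebraic k x) :
    ∃ n, 0 < n ∧ ¬ IsUnit (x ^ n - 1) := by
  classical
  let φ : k[X] →ₐ[k] D := aeval x
  have hφ : Function.Injective φ := transcendental_iff_injective.1 hx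
  letI : Algebra k[X] D := φ.toRingHom.toAlgebra
  have : IsScalarTower k k[X] D := IsScalarTower.of_algebraMap_eq fun r => (φ.commutes r).symm
  have : Algebra.FiniteType k[X] D := Algebra.FiniteType.of_restrictScalars_finiteType k k[X] D
  obtain ⟨h, hh, ι, ψ, hψ, hrange⟩ := GenFree.exists_gfree (R := k[X]) (M := D) D
  obtain ⟨ℓ, hℓ, hℓp⟩ := Nat.exists_infinite_primes (h.natDegree + ringChar k + 2)
  refine ⟨ℓ, hℓp.pos, fun hunit => ?_⟩
  let K := AlgebraicClosure k
  have hℓk : (ℓ : K) ≠ 0 := by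
    rw [← map_natCast (algebraMap k K), map_ne_zero_iff _ (algebraMap k K).injective, Ne, ringChar.spec]
    intro hd
    rcases (Nat.dvd_prime hℓp).1 hd with h1 | h1
    · exact CharP.ringChar_ne_one h1
    · omega
  have hsep : ((X : K[X]) ^ ℓ - C 1).Separable := separable_X_pow_sub_C (1 : K) hℓk one_ne_zero
  obtain ⟨ζ, hζ, hζh⟩ : ∃ ζ : K, ζ ^ ℓ = 1 ∧ aeval ζ h ≠ 0 := by
    by_contra hall
    push Not at hall
    have hne : h.map (algebraMap k K) ≠ 0 := (Polynomial.map_ne_zero_iff (algebraMap k K).injective).2 hh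
    have hsub : ((X : K[X]) ^ ℓ - C 1).roots.toFinset ⊆ (h.map (algebraMap k K)).roots.toFinset := by
      intro z hz
      rw [Multiset.mem_toFinset, mem_roots'] at hz
      rw [Multiset.mem_toFinset, mem_roots hne, IsRoot.def, eval_map_algebraMap]
      refine hall z ?_
      simpa [IsRoot.def, sub_eq_zero] using hz.2
    have h1 := Finset.card_le_card hsub
    rw [Multiset.toFinset_card_of_nodup (nodup_roots hsep),
      IsAlgClosed.card_roots_eq_natDegree, natDegree_X_pow_sub_C] at h1
    have h2 := h1.trans ((Multiset.toFinset_card_le _).trans ((card_roots' _).trans natDegree_map_le))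
    omega
  let M : Ideal k[X] := RingHom.ker (aeval ζ : k[X] →ₐ[k] K).toRingHom
  have : M.IsPrime := RingHom.ker_isPrime _
  have hhM : h ∉ M := hζh
  have hmem : ∀ d ∈ M.map (algebraMap k[X] D), ∃ (N : ℕ) (e : ι →₀ k[X]),
      (∀ i, e i ∈ M) ∧ h ^ N • d = ψ e := by
    intro d hd
    induction hd using Submodule.span_induction with
    | mem y hy =>
      obtain ⟨μ, hμ, rfl⟩ := hy
      obtain ⟨N, e, he⟩ := hrange 1
      refine ⟨N, μ • e, fun i => ?_, ?_⟩
      · exact M.mul_mem_right _ hμ
      · rw [map_smul, he, Algebra.algebraMap_eq_smul_one, smul_comm]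
    | zero => exact ⟨0, 0, fun _ => M.zero_mem, by simp⟩
    | add a b _ _ ha hb =>
      obtain ⟨N, e, he, hae⟩ := ha; obtain ⟨N', e', he', hbe⟩ := hb
      refine ⟨N + N', h ^ N' • e + h ^ N • e', fun i => ?_, ?_⟩
      · exact M.add_mem (M.mul_mem_left _ (he i)) (M.mul_mem_left _ (he' i))
      · rw [map_add, map_smul, map_smul, ← hae, ← hbe, smul_smul, smul_smul, ← pow_add, ← pow_add, smul_add,
          add_comm N' N]
    | smul c a _ ha =>
      obtain ⟨N, e, he, hae⟩ := ha
      have hlin : ∀ i, ∃ (N' : ℕ) (e' : ι →₀ k[X]), h ^ N' • (c * ψ (Finsupp.single i (e i))) = ψ e' ∧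
          ∀ j, e' j ∈ M := by
        intro i
        obtain ⟨N', e', he'⟩ := hrange (c * ψ (Finsupp.single i 1))
        refine ⟨N', e i • e', ?_, fun j => M.mul_mem_right _ (he i)⟩
        rw [map_smul, he', ← Finsupp.smul_single_one i (e i), map_smul, mul_smul_comm, smul_comm]
      choose N' e' he' hM' using hlin
      let NN := e.support.sup N'
      refine ⟨NN + N, ∑ i ∈ e.support, h ^ (NN - N' i) • e' i, fun j => ?_, ?_⟩
      · rw [Finsupp.finsetSum_apply]
        exact M.sum_mem fun i _ => M.mul_mem_left _ (hM' i j)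
      · rw [map_sum]
        conv_lhs => rw [pow_add, mul_smul, smul_eq_mul, ← mul_smul_comm, hae, ← Finsupp.sum_single e,
          Finsupp.sum, map_sum, Finset.mul_sum, Finset.smul_sum]
        refine Finset.sum_congr rfl fun i hi => ?_
        rw [map_smul, ← he', smul_smul, ← pow_add, Nat.sub_add_cancel (Finset.le_sup hi)]
  obtain ⟨i, -⟩ : ∃ i : ι, True := by
    by_contra hι
    have : IsEmpty ι := ⟨fun i => hι ⟨i, trivial⟩⟩
    obtain ⟨N, e, he⟩ := hrange 1
    rw [show e = 0 from Subsingleton.elim _ _, map_zero, ← Algebra.algebraMap_eq_smul_one] at he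
    exact pow_ne_zero N hh (hφ (show φ (h ^ N) = φ 0 by rw [map_zero]; exact he.symm))
  have htop : M.map (algebraMap k[X] D) = ⊤ := by
    refine Ideal.eq_top_of_isUnit_mem _ (Ideal.mem_map_of_mem _ (show X ^ ℓ - 1 ∈ M by simp [M, hζ])) ?_
    show IsUnit (φ (X ^ ℓ - 1))
    simpa [φ] using hunit
  obtain ⟨N, e, he, hNe⟩ := hmem (ψ (Finsupp.single i 1)) (htop ▸ Submodule.mem_top)
  rw [← map_smul] at hNe
  have h3 := he i
  rw [← hψ hNe] at h3
  exact hhM (‹M.IsPrime›.mem_of_pow_mem N (by simpa using h3))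

/-- A power-multiple of every element is integral when the generators are algebraic. -/
theorem exists_pow_smul_isIntegral {D K : Type u} [CommRing D] [Field K] [Algebra D K] (y : D)
    (s : Set K) (hs : ∀ z ∈ s, IsIntegral D (y • z)) (z : K) (hz : z ∈ Algebra.adjoin D s) :
    ∃ N : ℕ, IsIntegral D (y ^ N • z) := by
  induction hz using Algebra.adjoin_induction with
  | mem w hw => exact ⟨1, by simpa using hs w hw⟩
  | algebraMap r => exact ⟨0, by simpa using isIntegral_algebraMap⟩
  | add a b _ _ ha hb =>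
    obtain ⟨N, ha⟩ := ha; obtain ⟨N', hb⟩ := hb
    refine ⟨N + N', ?_⟩
    rw [smul_add]
    refine IsIntegral.add ?_ ?_
    · rw [add_comm, pow_add, mul_smul]; exact ha.smul _
    · rw [pow_add, mul_smul]; exact hb.smul _
  | mul a b _ _ ha hb =>
    obtain ⟨N, ha⟩ := ha; obtain ⟨N', hb⟩ := hb
    refine ⟨N + N', ?_⟩
    rw [pow_add, ← smul_mul_smul_comm]
    exact ha.mul hb

/-- In a field of finite type over a domain every nonzero scalar divides a power of a fixed one. -/
theorem exists_dvd_pow {D K : Type u} [CommRing D] [IsDomain D] [Field K] [Algebra D K]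
    (hinj : Function.Injective (algebraMap D K)) [Algebra.FiniteType D K] :
    ∃ y : D, y ≠ 0 ∧ ∀ x : D, x ≠ 0 → ∃ n : ℕ, x ∣ y ^ n := by
  classical
  have : FaithfulSMul D K := (faithfulSMul_iff_algebraMap_injective D K).2 hinj
  let F := FractionRing D
  letI : Algebra F K := FractionRing.liftAlgebra D K
  have : Algebra.FiniteType F K := Algebra.FiniteType.of_restrictScalars_finiteType D F K
  have : Module.Finite F K := finite_of_finite_type_of_isJacobsonRing F K
  have : Algebra.IsAlgebraic D K :=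
    (IsFractionRing.comap_isAlgebraic_iff (A := D) (K := F) (C := K)).2 inferInstance
  obtain ⟨s, hs⟩ := (‹Algebra.FiniteType D K›).out
  obtain ⟨y, hy, hys⟩ := Algebra.IsAlgebraic.exists_integral_multiples (A := K) D s
  refine ⟨y, hy, fun x hx => ?_⟩
  obtain ⟨N, hN⟩ := exists_pow_smul_isIntegral y (s : Set K) (fun z hz => hys z hz)
    (algebraMap D K x)⁻¹ (hs ▸ Algebra.mem_top)
  obtain ⟨P, hP, hPz⟩ := hN
  let d := P.natDegree
  refine ⟨N * d, ?_⟩
  have hx' : algebraMap D K x ≠ 0 := (map_ne_zero_iff _ hinj).2 hx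
  have key : algebraMap D K (y ^ (N * d)) = algebraMap D K
      (-(∑ i ∈ Finset.range d, P.coeff i * y ^ (N * i) * x ^ (d - i))) := by
    rw [← Polynomial.aeval_def, Polynomial.aeval_eq_sum_range, Finset.sum_range_succ, hP.coeff_natDegree,
      one_smul] at hPz
    have h2 := congrArg (fun z => z * (algebraMap D K x) ^ d) hPz
    simp only [zero_mul, add_mul, Finset.sum_mul] at h2
    rw [map_neg, map_sum, eq_neg_iff_add_eq_zero, ← h2, add_comm]
    congr 1
    · refine Finset.sum_congr rfl fun i hi => ?_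
      have hid : i ≤ d := (Finset.mem_range.1 hi).le
      rw [map_mul, map_mul, map_pow, map_pow, Algebra.smul_def, Algebra.smul_def, mul_pow, map_pow, inv_pow,
        ← pow_mul, show (algebraMap D K x) ^ d = (algebraMap D K x) ^ i * (algebraMap D K x) ^ (d - i) by
          rw [← pow_add, Nat.add_sub_cancel' hid]]
      field_simp
    · rw [map_pow, Algebra.smul_def, mul_pow, map_pow, inv_pow, ← pow_mul, mul_assoc,
        inv_mul_cancel₀ (pow_ne_zero _ hx'), mul_one]
  rw [hinj key, dvd_neg]
  refine Finset.dvd_sum fun i hi => Dvd.dvd.mul_left ?_ _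
  exact dvd_pow_self x (Nat.sub_ne_zero_of_lt (Finset.mem_range.1 hi))

/-- Two comparable primes over the same maximal ideal of `O` and the same prime of `O'` are equal. -/
theorem eq_of_le_of_comap_eq {O O' A : Type u} [CommRing O] [CommRing O'] [CommRing A]
    [Algebra O A] [Algebra O' A] [Algebra.FiniteType O A] [Algebra.FiniteType O' A]
    (hinj : ∀ P P' : Ideal A, P.IsPrime → P'.IsPrime →
      (∀ c ∈ Subring.closure (Set.range (algebraMap O A) ∪ Set.range (algebraMap O' A)), c ∈ P ↔ c ∈ P') →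
      P = P')
    (p : Ideal O) [p.IsMaximal] (P m : Ideal A) [hP : P.IsPrime] [hm : m.IsMaximal] (hPm : P ≤ m)
    [hPp : P.LiesOver p] [hmp : m.LiesOver p]
    (hq : P.comap (algebraMap O' A) = m.comap (algebraMap O' A)) : P = m := by
  classical
  let q := m.comap (algebraMap O' A)
  have : q.IsPrime := inferInstanceAs (m.comap (algebraMap O' A)).IsPrime
  have : m.LiesOver q := ⟨rfl⟩
  have : P.LiesOver q := ⟨hq.symm⟩
  letI := Ideal.Quotient.field m
  have hqinj : Function.Injective (algebraMap (O' ⧸ q) (A ⧸ m)) :=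
    FaithfulSMul.algebraMap_injective _ _
  have : Algebra.FiniteType (O' ⧸ q) (A ⧸ m) := Algebra.FiniteType.of_restrictScalars_finiteType O' _ _
  obtain ⟨y, hy, hdiv⟩ := exists_dvd_pow hqinj
  obtain ⟨f, rfl⟩ := Ideal.Quotient.mk_surjective y
  have hfq : f ∉ q := fun h => hy (Ideal.Quotient.eq_zero_iff_mem.2 h)
  letI := Ideal.Quotient.field p
  let fP : A ⧸ P := Ideal.Quotient.mk P (algebraMap O' A f)
  have hfP : fP ≠ 0 := fun h => hfq (hPm (Ideal.Quotient.eq_zero_iff_mem.1 h))
  let D := Localization.Away fP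
  have : IsDomain D := IsLocalization.isDomain_localization
    (powers_le_nonZeroDivisors_of_noZeroDivisors hfP)
  have : Algebra.FiniteType (O ⧸ p) (A ⧸ P) := Algebra.FiniteType.of_restrictScalars_finiteType O _ _
  have : Algebra.FiniteType (O ⧸ p) D :=
    Algebra.FiniteType.trans (S := A ⧸ P) inferInstance (IsLocalization.finiteType_of_monoid_fg (Submonoid.powers fP) D)
  let π : A →+* D := (algebraMap (A ⧸ P) D).comp (Ideal.Quotient.mk P)
  have hπ0 : ∀ a, π a = 0 → a ∈ P := fun a h => Ideal.Quotient.eq_zero_iff_mem.1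
    ((map_eq_zero_iff _ (IsLocalization.injective D (powers_le_nonZeroDivisors_of_noZeroDivisors hfP))).1 h)
  have hπf : IsUnit (π (algebraMap O' A f)) := IsLocalization.map_units D (⟨fP, Submonoid.mem_powers _⟩ : Submonoid.powers fP)
  have hπq : ∀ z ∈ q, π (algebraMap O' A z) = 0 := fun z hz => by
    show algebraMap (A ⧸ P) D (Ideal.Quotient.mk P _) = 0
    rw [Ideal.Quotient.eq_zero_iff_mem.2 (show algebraMap O' A z ∈ P from hq.ge hz), map_zero]
  have hunit : ∀ z ∉ q, IsUnit (π (algebraMap O' A z)) := by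
    intro z hz
    obtain ⟨n, c, hc⟩ := hdiv (Ideal.Quotient.mk q z) (fun h => hz (Ideal.Quotient.eq_zero_iff_mem.1 h))
    obtain ⟨c, rfl⟩ := Ideal.Quotient.mk_surjective c
    rw [← map_pow, ← map_mul] at hc
    have h1 := hπq _ (Ideal.Quotient.eq.1 hc)
    rw [map_sub, map_sub, map_mul, map_mul, map_pow, map_pow, sub_eq_zero] at h1
    exact isUnit_of_mul_isUnit_left (h1 ▸ hπf.pow n)
  have halg : ∀ z, IsIntegral (O ⧸ p) (π (algebraMap O' A z)) := by
    intro z
    by_cases hz : z ∈ q
    · rw [hπq z hz]; exact isIntegral_zero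
    by_contra hint
    obtain ⟨n, hn, hnu⟩ := exists_not_isUnit_pow_sub_one (O ⧸ p) D (π (algebraMap O' A z))
      (fun h => hint h.isIntegral)
    by_cases hzn : z ^ n - 1 ∈ q
    · have h1 := hπq _ hzn
      rw [map_sub, map_sub, map_pow, map_pow, map_one, map_one] at h1
      exact hint (IsIntegral.of_pow hn (by rw [sub_eq_zero.1 h1]; exact isIntegral_one))
    · refine hnu ?_
      have := hunit _ hzn
      rwa [map_sub, map_sub, map_pow, map_pow, map_one, map_one] at this
  have hC : ∀ c ∈ Subring.closure (Set.range (algebraMap O A) ∪ Set.range (algebraMap O' A)),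
      IsIntegral (O ⧸ p) (π c) := by
    intro c hc
    induction hc using Subring.closure_induction with
    | mem w hw =>
      rcases hw with ⟨r, rfl⟩ | ⟨z, rfl⟩
      · rw [show π (algebraMap O A r) = algebraMap (O ⧸ p) D (Ideal.Quotient.mk p r) by
          show algebraMap (A ⧸ P) D (algebraMap O (A ⧸ P) r) = _
          rw [← IsScalarTower.algebraMap_apply, IsScalarTower.algebraMap_apply O (O ⧸ p) D]; rfl]
        exact isIntegral_algebraMap
      · exact halg z
    | zero => simpa using isIntegral_zero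
    | one => simpa using isIntegral_one
    | add a b _ _ ha hb => rw [map_add]; exact ha.add hb
    | neg a _ ha => rw [map_neg]; exact ha.neg
    | mul a b _ _ ha hb => rw [map_mul]; exact ha.mul hb
  refine hinj P m hP inferInstance fun c hc => ⟨fun h => hPm h, fun h => ?_⟩
  by_contra hcP
  have hne : π c ≠ 0 := fun h0 => hcP (hπ0 c h0)
  have hI := hC c hc
  have h0 := minpoly.coeff_zero_ne_zero hI hne
  let fm := IsLocalization.Away.lift (S := D) (g := Ideal.Quotient.factor hPm) fP
    (isUnit_iff_ne_zero.2 (fun h => hfq (show algebraMap O' A f ∈ m from Ideal.Quotient.eq_zero_iff_mem.1 h)))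
  have hfm : ∀ a, fm (π a) = Ideal.Quotient.mk m a := fun a => by
    show fm (algebraMap (A ⧸ P) D (Ideal.Quotient.mk P a)) = _
    rw [IsLocalization.Away.lift_eq]; rfl
  have hk : fm.comp (algebraMap (O ⧸ p) D) = algebraMap (O ⧸ p) (A ⧸ m) := by
    refine Ideal.Quotient.ringHom_ext (RingHom.ext fun r => ?_)
    rw [RingHom.comp_apply, RingHom.comp_apply, RingHom.comp_apply, ← Ideal.Quotient.algebraMap_eq,
      ← IsScalarTower.algebraMap_apply, ← IsScalarTower.algebraMap_apply,
      IsScalarTower.algebraMap_apply O (A ⧸ P) D, IsLocalization.Away.lift_eq]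
    rfl
  have := congrArg fm (minpoly.aeval (O ⧸ p) (π c))
  rw [Polynomial.aeval_def, Polynomial.hom_eval₂, hk, hfm, Ideal.Quotient.eq_zero_iff_mem.2 h, map_zero,
    Polynomial.eval₂_at_zero] at this
  exact h0 ((map_eq_zero_iff _ (algebraMap (O ⧸ p) (A ⧸ m)).injective).1 this)

/-- Scalar tower of quotients. -/
theorem isScalarTower_quotient {O T S : Type u} [CommRing O] [CommRing T] [CommRing S] [Algebra O T] [Algebra T S]
    [Algebra O S] [IsScalarTower O T S] (I : Ideal T) :
    IsScalarTower O (T ⧸ I) (S ⧸ I.map (algebraMap T S)) := by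
  refine IsScalarTower.of_algebraMap_eq' (RingHom.ext fun r => ?_)
  rw [RingHom.comp_apply]
  show Ideal.Quotient.mk _ (algebraMap O S r) = Ideal.Quotient.mk _ (algebraMap T S (algebraMap O T r))
  rw [← IsScalarTower.algebraMap_apply]

/-- Transporting flatness of a cut to a localisation of the ambient ring. -/
theorem flat_of_cut {O Tg S T' : Type u} [CommRing O] [CommRing Tg] [CommRing S] [CommRing T']
    [Algebra O Tg] [Algebra Tg S] [Algebra O S] [IsScalarTower O Tg S] [Algebra O T']
    (IJ : Ideal Tg) (f x : Tg) [IsLocalization.Away x S] (h : Tg ⧸ IJ)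
    (hx : Associated (Ideal.Quotient.mk IJ x) h)
    (hh : ∀ (A' : Type u) [CommRing A'] [Algebra (Tg ⧸ IJ) A'] [Algebra O A'] [IsScalarTower O (Tg ⧸ IJ) A']
      [IsLocalization.Away h A'], Module.Flat O (A' ⧸ Ideal.span {algebraMap (Tg ⧸ IJ) A' (Ideal.Quotient.mk IJ f)}))
    (e : S ≃ₐ[O] T') (J' : Ideal T')
    (hJ' : J' = ((IJ.map (algebraMap Tg S)) ⊔ Ideal.span {algebraMap Tg S f}).map (e : S →+* T')) :
    Module.Flat O (T' ⧸ J') := by
  have := isScalarTower_quotient (O := O) (S := S) IJ
  have h1 : IsLocalization.Away (Ideal.Quotient.mk IJ x) (S ⧸ IJ.map (algebraMap Tg S)) := by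
    have h1 : IsLocalization (Algebra.algebraMapSubmonoid (Tg ⧸ IJ) (Submonoid.powers x)) (S ⧸ IJ.map (algebraMap Tg S)) :=
      inferInstance
    rwa [show Algebra.algebraMapSubmonoid (Tg ⧸ IJ) (Submonoid.powers x) =
      Submonoid.powers (Ideal.Quotient.mk IJ x) from Submonoid.map_powers _ _] at h1
  have : IsLocalization.Away h (S ⧸ IJ.map (algebraMap Tg S)) := IsLocalization.Away.of_associated hx
  have h2 := hh (S ⧸ IJ.map (algebraMap Tg S))
  have hI : Ideal.span {algebraMap (Tg ⧸ IJ) (S ⧸ IJ.map (algebraMap Tg S)) (Ideal.Quotient.mk IJ f)} =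
      (Ideal.span {algebraMap Tg S f}).map (Ideal.Quotient.mkₐ O (IJ.map (algebraMap Tg S))) := by
    rw [Ideal.map_span, Set.image_singleton]
    rfl
  exact Module.Flat.of_linearEquiv (((Ideal.quotientEquivAlgOfEq O hI).trans
    (DoubleQuot.quotQuotEquivQuotSupₐ O _ _)).trans (Ideal.quotientEquivAlg _ _ e hJ')).symm.toLinearEquiv

/-- In a fibre with a non-closed point some element of `O'` cuts out a smaller flat piece. -/
theorem exists_cut {O O' A : Type u} [CommRing O] [CommRing O'] [CommRing A] [Algebra O A] [Algebra O' A]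
    [Algebra.FinitePresentation O A] [Module.Flat O A] [Algebra.FiniteType O' A]
    (hinjA : ∀ P P' : Ideal A, P.IsPrime → P'.IsPrime →
      (∀ c ∈ Subring.closure (Set.range (algebraMap O A) ∪ Set.range (algebraMap O' A)), c ∈ P ↔ c ∈ P') → P = P')
    (p : Ideal O) [p.IsMaximal]
    (hbig : ∃ P m : Ideal A, P.IsPrime ∧ m.IsPrime ∧ P.LiesOver p ∧ m.LiesOver p ∧ P < m) :
    ∃ (f : O') (m : Ideal A), m.IsPrime ∧ m.LiesOver p ∧ algebraMap O' A f ∈ m ∧
      algebraMap O' A f ∉ p.map (algebraMap O A) ∧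
      ∃ h ∉ m, ∀ (A' : Type u) [CommRing A'] [Algebra A A'] [Algebra O A'] [IsScalarTower O A A']
        [IsLocalization.Away h A'], Module.Flat O (A' ⧸ Ideal.span {algebraMap A A' (algebraMap O' A f)}) := by
  classical
  let pA := p.map (algebraMap O A)
  let Ab := A ⧸ pA
  letI := Ideal.Quotient.field p
  have : Algebra.FiniteType O Ab := Algebra.FiniteType.trans (S := A) inferInstance inferInstance
  have : Algebra.FiniteType (O ⧸ p) Ab := Algebra.FiniteType.of_restrictScalars_finiteType O _ _
  have : IsNoetherianRing Ab := Algebra.FiniteType.isNoetherianRing (O ⧸ p) Ab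
  have : IsJacobsonRing Ab := isJacobsonRing_of_finiteType (A := O ⧸ p)
  have : Algebra.FiniteType O' Ab := Algebra.FiniteType.trans (S := A) inferInstance inferInstance
  have hinjb : ∀ P P' : Ideal Ab, P.IsPrime → P'.IsPrime →
      (∀ c ∈ Subring.closure (Set.range (algebraMap O Ab) ∪ Set.range (algebraMap O' Ab)), c ∈ P ↔ c ∈ P') →
      P = P' := by
    intro P P' hP hP' h
    refine Ideal.comap_injective_of_surjective (Ideal.Quotient.mk pA) Ideal.Quotient.mk_surjective ?_
    refine hinjA _ _ inferInstance inferInstance fun c hc => h (Ideal.Quotient.mk pA c) ?_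
    induction hc using Subring.closure_induction with
    | mem w hw =>
      refine Subring.subset_closure ?_
      rcases hw with ⟨r, rfl⟩ | ⟨z, rfl⟩
      · exact Or.inl ⟨r, rfl⟩
      · exact Or.inr ⟨z, rfl⟩
    | zero => simp
    | one => simp
    | add a b _ _ ha hb => rw [map_add]; exact add_mem ha hb
    | neg a _ ha => rw [map_neg]; exact neg_mem ha
    | mul a b _ _ ha hb => rw [map_mul]; exact mul_mem ha hb
  -- a closed point of the fibre which is not associated
  obtain ⟨P, m₀, hP, hm₀, hPp, hm₀p, hlt⟩ := hbig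
  have hsur : Function.Surjective (Ideal.Quotient.mk pA) := Ideal.Quotient.mk_surjective
  have hkerle : ∀ Q : Ideal A, Q.LiesOver p → RingHom.ker (Ideal.Quotient.mk pA) ≤ Q := fun Q hQ => by
    rw [Ideal.mk_ker]; exact Ideal.map_le_iff_le_comap.2 (Q.over_def p).le
  let Pb := P.map (Ideal.Quotient.mk pA)
  have hPb : Pb.IsPrime := Ideal.map_isPrime_of_surjective hsur (hkerle P hPp)
  have hPbmax : ¬ Pb.IsMaximal := fun h => by
    have hc : ∀ Q : Ideal A, Q.LiesOver p → (Q.map (Ideal.Quotient.mk pA)).comap (Ideal.Quotient.mk pA) = Q :=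
      fun Q hQ => by rw [Ideal.comap_map_of_surjective' _ hsur, sup_eq_left]; exact hkerle Q hQ
    have h1 : Pb < m₀.map (Ideal.Quotient.mk pA) := lt_of_le_of_ne (Ideal.map_mono hlt.le) fun e => hlt.ne (by
      rw [← hc P hPp, ← hc m₀ hm₀p]; exact congrArg _ e)
    exact (Ideal.map_isPrime_of_surjective hsur (hkerle m₀ hm₀p)).ne_top (h.1.2 _ h1)
  let 𝓜 : Set (Ideal Ab) := {m | Pb ≤ m ∧ m.IsMaximal}
  have hinf : 𝓜.Infinite := by
    intro hfin
    have hjac : Pb.jacobson = Pb := IsJacobsonRing.out' Pb hPb.isRadical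
    have hle : hfin.toFinset.inf id ≤ Pb := by
      refine le_trans ?_ hjac.le
      exact le_sInf fun m hm => Finset.inf_le (f := id) (hfin.mem_toFinset.2 hm)
    obtain ⟨m, hm, hmP⟩ := (Ideal.IsPrime.inf_le' hPb).1 hle
    have hm' := hfin.mem_toFinset.1 hm
    exact hPbmax (le_antisymm hm'.1 hmP ▸ hm'.2)
  obtain ⟨mb, ⟨hPmb, hmbmax⟩, hmbA⟩ := (hinf.sdiff (associatedPrimes.finite Ab Ab)).nonempty
  have hover : ∀ Q : Ideal Ab, Q.IsPrime → Q.LiesOver p := fun Q hQ => ⟨by
    refine Ideal.IsMaximal.eq_of_le ‹_› (Ideal.IsPrime.under O Q).ne_top fun r hr => ?_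
    show algebraMap O Ab r ∈ Q
    rw [IsScalarTower.algebraMap_apply O A Ab, Ideal.Quotient.algebraMap_eq,
      Ideal.Quotient.eq_zero_iff_mem.2 (Ideal.mem_map_of_mem _ hr)]
    exact Q.zero_mem⟩
  have hmbp := hover mb hmbmax.isPrime
  obtain ⟨f, hf, hfA⟩ : ∃ f ∈ mb.comap (algebraMap O' Ab), ∀ P ∈ associatedPrimes Ab Ab, P ≤ mb →
      algebraMap O' Ab f ∉ P := by
    by_contra hall
    push Not at hall
    let fs := (associatedPrimes.finite Ab Ab).toFinset.filter (· ≤ mb)
    have hsub : ((mb.comap (algebraMap O' Ab) : Ideal O') : Set O') ⊆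
        ⋃ P ∈ (↑fs : Set (Ideal Ab)), ((P.comap (algebraMap O' Ab) : Ideal O') : Set O') := by
      intro x hx
      obtain ⟨P, hP, hle, hxP⟩ := hall x hx
      exact Set.mem_iUnion₂.2 ⟨P, Finset.mem_filter.2 ⟨(Set.Finite.mem_toFinset _).2 hP, hle⟩, hxP⟩
    obtain ⟨P, hP, hle⟩ := (Ideal.subset_union_prime ⊥ ⊥ fun P hP _ _ => by
      have := ((Set.Finite.mem_toFinset _).1 (Finset.mem_filter.1 hP).1).isPrime
      exact Ideal.IsPrime.comap _).1 hsub
    obtain ⟨hP, hPle⟩ := Finset.mem_filter.1 hP
    rw [Set.Finite.mem_toFinset] at hP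
    have := hP.isPrime
    have := hover P hP.isPrime
    exact hmbA (eq_of_le_of_comap_eq hinjb p P mb hPle (le_antisymm (Ideal.comap_mono hPle) hle) ▸ hP)
  let m : Ideal A := mb.comap (Ideal.Quotient.mk pA)
  have hmp : m.LiesOver p := ⟨hmbp.over.trans rfl⟩
  have hfm : algebraMap O' A f ∈ m := hf
  have hreg : ∀ t, algebraMap O' A f * t ∈ FlatModel.sat p ⊥ m.primeCompl → t ∈ FlatModel.sat p ⊥ m.primeCompl := by
    rintro t ⟨w, hw, hwt⟩
    rw [bot_sup_eq] at hwt
    let B := Localization.AtPrime mb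
    have h0 : algebraMap O' Ab f * (Ideal.Quotient.mk pA (w * t)) = 0 := by
      show Ideal.Quotient.mk pA (algebraMap O' A f) * _ = 0
      rw [← map_mul, Ideal.Quotient.eq_zero_iff_mem]
      rwa [mul_left_comm]
    have hz : algebraMap Ab B (Ideal.Quotient.mk pA (w * t)) = 0 := by
      by_contra hne
      have hmem : algebraMap Ab B (algebraMap O' Ab f) ∈ ⋃ P ∈ associatedPrimes B B, (P : Set B) := by
        rw [biUnion_associatedPrimes_eq_zero_divisors]
        exact ⟨_, hne, by rw [smul_eq_mul, ← map_mul, h0, map_zero]⟩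
      obtain ⟨P', hP', hfP'⟩ := Set.mem_iUnion₂.1 hmem
      have h1 := Module.associatedPrimes.comap_mem_associatedPrimes_of_mem_associatedPrimes_of_isLocalizedModule_of_fg
        mb.primeCompl (Algebra.linearMap Ab B) P' hP' (IsNoetherian.noetherian _)
      refine hfA _ h1 ?_ hfP'
      refine le_trans (Ideal.comap_mono (IsLocalRing.le_maximalIdeal hP'.isPrime.ne_top)) ?_
      exact (Localization.AtPrime.comap_maximalIdeal (I := mb)).le
    obtain ⟨⟨c, hc⟩, hcz⟩ := (IsLocalization.map_eq_zero_iff mb.primeCompl B _).1 hz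
    obtain ⟨c, rfl⟩ := hsur c
    refine ⟨c * w, m.primeCompl.mul_mem hc hw, ?_⟩
    rw [bot_sup_eq, mul_assoc, ← Ideal.Quotient.eq_zero_iff_mem]
    simpa using hcz
  obtain ⟨h, hhm, hh⟩ := exists_flat_quotient (algebraMap O' A f) p m hfm hreg
  refine ⟨f, m, inferInstance, hmp, hfm, fun hmem => ?_,
    exists_flat_quotient (algebraMap O' A f) p m hfm hreg⟩
  obtain ⟨w, hw, hw1⟩ := hreg 1 ⟨1, one_mem _, by rw [bot_sup_eq, one_mul, mul_one]; exact hmem⟩
  rw [bot_sup_eq, mul_one] at hw1
  exact hw (Ideal.map_le_iff_le_comap.2 hmp.over.le hw1)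

/-- A fibre of dimension zero gives quasi-finiteness. -/
theorem quasiFiniteAt_of_forall_not_lt {O A : Type u} [CommRing O] [CommRing A] [Algebra O A]
    [Algebra.FiniteType O A] (p : Ideal O) [p.IsMaximal]
    (hbig : ¬ ∃ P m : Ideal A, P.IsPrime ∧ m.IsPrime ∧ P.LiesOver p ∧ m.LiesOver p ∧ P < m)
    (Q : Ideal A) [hQ : Q.IsPrime] [hQp : Q.LiesOver p] : Algebra.QuasiFiniteAt O Q := by
  classical
  letI := Ideal.Quotient.field p
  let pA := p.map (algebraMap O A)
  have : Algebra.FiniteType O (A ⧸ pA) := Algebra.FiniteType.trans (S := A) inferInstance inferInstance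
  have : Algebra.FiniteType (O ⧸ p) (A ⧸ pA) := Algebra.FiniteType.of_restrictScalars_finiteType O _ _
  have : IsNoetherianRing (A ⧸ pA) := Algebra.FiniteType.isNoetherianRing (O ⧸ p) (A ⧸ pA)
  have hdim : Ring.KrullDimLE 0 (A ⧸ pA) := Ring.KrullDimLE.mk₀ fun P hP => by
    obtain ⟨M, hM, hle⟩ := Ideal.exists_le_maximal P hP.ne_top
    rcases hle.lt_or_eq with hlt | rfl
    · refine (hbig ⟨P.comap (Ideal.Quotient.mk pA), M.comap (Ideal.Quotient.mk pA), inferInstance,
        inferInstance, ?_, ?_, ?_⟩).elim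
      · refine ⟨Ideal.IsMaximal.eq_of_le ‹_› (Ideal.IsPrime.under O _).ne_top fun r hr => ?_⟩
        show Ideal.Quotient.mk pA (algebraMap O A r) ∈ P
        rw [Ideal.Quotient.eq_zero_iff_mem.2 (Ideal.mem_map_of_mem _ hr)]; exact P.zero_mem
      · refine ⟨Ideal.IsMaximal.eq_of_le ‹_› (Ideal.IsPrime.under O _).ne_top fun r hr => ?_⟩
        show Ideal.Quotient.mk pA (algebraMap O A r) ∈ M
        rw [Ideal.Quotient.eq_zero_iff_mem.2 (Ideal.mem_map_of_mem _ hr)]; exact M.zero_mem
      · refine lt_of_le_of_ne (Ideal.comap_mono hle) fun e => hlt.ne ?_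
        exact Ideal.comap_injective_of_surjective _ Ideal.Quotient.mk_surjective e
    · exact hM
  have : IsArtinianRing (A ⧸ pA) := IsNoetherianRing.isArtinianRing_of_krullDimLE_zero
  let x : PrimeSpectrum A := ⟨Q, hQ⟩
  refine Algebra.QuasiFiniteAt.of_isOpen_singleton_fiber x ?_
  let S₁ : Set (PrimeSpectrum A) := PrimeSpectrum.comap (algebraMap O A) ⁻¹' {PrimeSpectrum.comap (algebraMap O A) x}
  let c := PrimeSpectrum.comap (Ideal.Quotient.mk pA)
  have hsub : S₁ ⊆ Set.range c := by
    intro y hy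
    show y ∈ Set.range (PrimeSpectrum.comap (Ideal.Quotient.mk pA))
    rw [range_comap_of_surjective _ _ Ideal.Quotient.mk_surjective, Ideal.mk_ker,
      PrimeSpectrum.mem_zeroLocus, SetLike.coe_subset_coe, Ideal.map_le_iff_le_comap]
    have h1 : y.asIdeal.comap (algebraMap O A) = Q.comap (algebraMap O A) :=
      congrArg PrimeSpectrum.asIdeal hy
    rw [h1]
    exact hQp.over.le
  have hcemb := (PrimeSpectrum.isClosedEmbedding_comap_of_surjective (A ⧸ pA) (Ideal.Quotient.mk pA) Ideal.Quotient.mk_surjective).isEmbedding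
  have : DiscreteTopology S₁ := DiscreteTopology.of_subset (s := Set.range c)
    (hcemb.toHomeomorph.discreteTopology) hsub
  exact isOpen_discrete _

variable (O : Type u) {O' T : Type u} [CommRing O] [CommRing O'] [CommRing T] [Algebra O T] [Algebra O' T]

/-- The kernel of `T` to the fibre at `p` of the piece cut out by `J` where `g` is invertible. -/
def fibreKer (p : Ideal O) (g : T) (J : Ideal O') : Ideal T :=
  ((J.map (algebraMap O' (Localization.Away g))) ⊔ p.map (algebraMap O (Localization.Away g))).comap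
    (algebraMap T (Localization.Away g))

/-- A flat piece through a point over `p`. -/
def Piece (p : Ideal O) (g : T) (J : Ideal O') : Prop :=
  J.FG ∧ Module.Flat O (Localization.Away g ⧸ J.map (algebraMap O' (Localization.Away g))) ∧
    ∃ Q : Ideal (Localization.Away g ⧸ J.map (algebraMap O' (Localization.Away g))), Q.IsPrime ∧ Q.LiesOver p

variable {O}

theorem le_fibreKer (p : Ideal O) (g : T) (J : Ideal O') : p.map (algebraMap O T) ≤ fibreKer O p g J := by
  rw [fibreKer, ← Ideal.map_le_iff_le_comap, Ideal.map_map, ← IsScalarTower.algebraMap_eq]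
  exact le_sup_right

variable [Algebra.FinitePresentation O T] [Algebra.FiniteType O' T]
  (hinj : ∀ P P' : Ideal T, P.IsPrime → P'.IsPrime →
    (∀ c ∈ Subring.closure (Set.range (algebraMap O T) ∪ Set.range (algebraMap O' T)), c ∈ P ↔ c ∈ P') → P = P')

include hinj in
/-- A piece whose fibre has a non-closed point can be cut further. -/
theorem exists_piece_gt (p : Ideal O) [p.IsMaximal] (g : T) (J : Ideal O') (hG : Piece O p g J)
    (hbig : ∃ P m : Ideal (Localization.Away g ⧸ J.map (algebraMap O' (Localization.Away g))),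
      P.IsPrime ∧ m.IsPrime ∧ P.LiesOver p ∧ m.LiesOver p ∧ P < m) :
    ∃ (g' : T) (J' : Ideal O'), Piece O p g' J' ∧ fibreKer O p g J < fibreKer O p g' J' := by
  classical
  obtain ⟨hJ, hflat, -⟩ := hG
  let Tg := Localization.Away g
  let IJ := J.map (algebraMap O' Tg)
  let A := Tg ⧸ IJ
  have hfpTg : Algebra.FinitePresentation O Tg :=
    have : Algebra.FinitePresentation T Tg := IsLocalization.Away.finitePresentation g
    Algebra.FinitePresentation.trans O T Tg
  have hfp : Algebra.FinitePresentation O A := Algebra.FinitePresentation.quotient (hJ.map _)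
  have : Algebra.FiniteType O' Tg :=
    Algebra.FiniteType.trans (S := T) inferInstance (IsLocalization.finiteType_of_monoid_fg (Submonoid.powers g) Tg)
  have : Algebra.FiniteType O' A := Algebra.FiniteType.trans (S := Tg) inferInstance inferInstance
  have hinjA : ∀ P P' : Ideal A, P.IsPrime → P'.IsPrime →
      (∀ c ∈ Subring.closure (Set.range (algebraMap O A) ∪ Set.range (algebraMap O' A)), c ∈ P ↔ c ∈ P') →
      P = P' := by
    intro P P' hP hP' h
    refine Ideal.comap_injective_of_surjective (Ideal.Quotient.mk IJ) Ideal.Quotient.mk_surjective ?_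
    refine (congrArg PrimeSpectrum.asIdeal ((PrimeSpectrum.localization_comap_isEmbedding Tg (Submonoid.powers g)).injective
      (a₁ := ⟨P.comap (Ideal.Quotient.mk IJ), inferInstance⟩) (a₂ := ⟨P'.comap (Ideal.Quotient.mk IJ), inferInstance⟩)
      (PrimeSpectrum.ext ?_)) :)
    refine hinj _ _ inferInstance inferInstance fun c hc => h (Ideal.Quotient.mk IJ (algebraMap T Tg c)) ?_
    let π := (Ideal.Quotient.mk IJ).comp (algebraMap T Tg)
    show π c ∈ _
    induction hc using Subring.closure_induction with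
    | mem w hw =>
      refine Subring.subset_closure ?_
      rcases hw with ⟨r, rfl⟩ | ⟨z, rfl⟩
      · exact Or.inl ⟨r, rfl⟩
      · exact Or.inr ⟨z, rfl⟩
    | zero => simp
    | one => simp
    | add a b _ _ ha hb => rw [map_add]; exact add_mem ha hb
    | neg a _ ha => rw [map_neg]; exact neg_mem ha
    | mul a b _ _ ha hb => rw [map_mul]; exact mul_mem ha hb
  obtain ⟨f, m, hmP, hmp, hfm, hfp, h, hhm, hh⟩ := exists_cut hinjA p hbig
  -- the new piece
  obtain ⟨hT, rfl⟩ := Ideal.Quotient.mk_surjective h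
  obtain ⟨a, u, rfl⟩ := IsLocalization.exists_mk'_eq (Submonoid.powers g) hT
  let T2 := Localization.Away (algebraMap T Tg a)
  have : IsLocalization.Away (g * a) T2 := IsLocalization.Away.mul' Tg T2 g a
  have hassoc : Associated (Ideal.Quotient.mk IJ (algebraMap T Tg a))
      (Ideal.Quotient.mk IJ (IsLocalization.mk' Tg a u)) := by
    rw [show algebraMap T Tg a = IsLocalization.mk' Tg a u * algebraMap T Tg u from
      (IsLocalization.mk'_spec Tg a u).symm, map_mul]
    exact associated_mul_unit_left _ _ ((IsLocalization.map_units Tg u).map _)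
  let J' := J ⊔ Ideal.span {f}
  let T' := Localization.Away (g * a)
  let e : T2 ≃ₐ[T] T' := IsLocalization.algEquiv (Submonoid.powers (g * a)) T2 T'
  have hT' : J'.map (algebraMap O' T') =
      ((IJ.map (algebraMap Tg T2)) ⊔ Ideal.span {algebraMap O' T2 f}).map
        ((e.restrictScalars O : T2 ≃ₐ[O] T') : T2 →+* T') := by
    have hc : (((e.restrictScalars O : T2 ≃ₐ[O] T') : T2 →+* T')).comp (algebraMap O' T2) = algebraMap O' T' := by
      ext r
      show e (algebraMap O' T2 r) = _
      rw [IsScalarTower.algebraMap_apply O' T T2, e.commutes, ← IsScalarTower.algebraMap_apply]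
    rw [← hc, ← Ideal.map_map]
    congr 1
    rw [Ideal.map_sup, Ideal.map_span, Set.image_singleton, Ideal.map_map, ← IsScalarTower.algebraMap_eq]
  have hflatT : Module.Flat O (T' ⧸ J'.map (algebraMap O' T')) :=
    flat_of_cut IJ (algebraMap O' Tg f) (algebraMap T Tg a) _ hassoc (fun A' _ _ _ _ _ => hh A')
      (e.restrictScalars O) _ (by rw [hT', ← IsScalarTower.algebraMap_apply])
  let mT : Ideal Tg := m.comap (Ideal.Quotient.mk IJ)
  have haT : algebraMap T Tg a ∉ mT := fun h => hhm (by
    have h1 : Ideal.Quotient.mk IJ (algebraMap T Tg a) ∈ m := h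
    obtain ⟨v, hv⟩ := hassoc
    rw [← hv]
    exact m.mul_mem_right _ h1)
  have hmT : mT.IsPrime := Ideal.IsPrime.comap _
  let Q2 : Ideal T2 := mT.map (algebraMap Tg T2)
  have hdis : Disjoint (↑(Submonoid.powers (algebraMap T Tg a)) : Set Tg) ↑mT :=
    Set.disjoint_left.2 fun x ⟨n, hn⟩ hx => haT (hmT.mem_of_pow_mem n (by rw [← hn] at hx; exact hx))
  have hQ2 : Q2.IsPrime := IsLocalization.isPrime_of_isPrime_disjoint _ T2 mT inferInstance hdis
  have hQ2c : Q2.comap (algebraMap Tg T2) = mT :=
    IsLocalization.under_map_of_isPrime_disjoint (Submonoid.powers (algebraMap T Tg a)) T2 inferInstance hdis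
  let Q' : Ideal T' := Q2.comap (e.symm : T' →+* T2)
  have hQ'mem : ∀ x, e x ∈ Q' ↔ x ∈ Q2 := fun x => by
    show e.symm (e x) ∈ Q2 ↔ _
    rw [e.symm_apply_apply]
  have hJQ : J'.map (algebraMap O' T') ≤ Q' := by
    rw [Ideal.map_le_iff_le_comap]
    have key : J' ≤ Q2.comap (algebraMap O' T2) := by
      rw [IsScalarTower.algebraMap_eq O' Tg T2, ← Ideal.comap_comap, hQ2c]
      refine sup_le (fun r hr => ?_) ((Ideal.span_singleton_le_iff_mem _).2 hfm)
      show Ideal.Quotient.mk IJ (algebraMap O' Tg r) ∈ m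
      rw [Ideal.Quotient.eq_zero_iff_mem.2 (Ideal.mem_map_of_mem _ hr)]
      exact m.zero_mem
    intro r hr
    show algebraMap O' T' r ∈ Q'
    rw [IsScalarTower.algebraMap_apply O' T T', ← e.commutes, hQ'mem, ← IsScalarTower.algebraMap_apply]
    exact key hr
  refine ⟨g * a, J', ⟨Submodule.FG.sup hJ ⟨{f}, by simp⟩, hflatT, Q'.map (Ideal.Quotient.mk _),
    Ideal.map_isPrime_of_surjective Ideal.Quotient.mk_surjective (Ideal.mk_ker.le.trans hJQ), ⟨?_⟩⟩, ?_⟩
  · refine (Ideal.IsMaximal.eq_of_le ‹_› ?_ fun r hr => ?_)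
    · exact (Ideal.IsPrime.under O _ (hP := Ideal.map_isPrime_of_surjective Ideal.Quotient.mk_surjective
        (Ideal.mk_ker.le.trans hJQ))).ne_top
    · show algebraMap O (T' ⧸ J'.map (algebraMap O' T')) r ∈ Q'.map (Ideal.Quotient.mk (J'.map (algebraMap O' T')))
      rw [IsScalarTower.algebraMap_apply O T' (T' ⧸ J'.map (algebraMap O' T')), Ideal.Quotient.algebraMap_eq]
      refine Ideal.mem_map_of_mem _ ?_
      rw [IsScalarTower.algebraMap_apply O T T', ← e.commutes, hQ'mem, ← IsScalarTower.algebraMap_apply,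
        IsScalarTower.algebraMap_apply O Tg T2, ← Ideal.mem_comap, hQ2c]
      exact (hmp.over.le hr : algebraMap O A r ∈ m)
  · rw [lt_iff_le_not_ge]
    constructor
    · let ι : Tg →+* T' := (e : T2 →+* T').comp (algebraMap Tg T2)
      have hιT : ι.comp (algebraMap T Tg) = algebraMap T T' := RingHom.ext fun x => by
        show e (algebraMap Tg T2 (algebraMap T Tg x)) = _
        rw [← IsScalarTower.algebraMap_apply, e.commutes]
      have hιO : ι.comp (algebraMap O Tg) = algebraMap O T' := by
        rw [IsScalarTower.algebraMap_eq O T Tg, ← RingHom.comp_assoc, hιT, ← IsScalarTower.algebraMap_eq]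
      have hιO' : ι.comp (algebraMap O' Tg) = algebraMap O' T' := by
        rw [IsScalarTower.algebraMap_eq O' T Tg, ← RingHom.comp_assoc, hιT, ← IsScalarTower.algebraMap_eq]
      intro x hx
      rw [fibreKer, Ideal.mem_comap] at hx ⊢
      have h1 := Ideal.mem_map_of_mem ι hx
      rw [← RingHom.comp_apply, hιT, Ideal.map_sup, Ideal.map_map, Ideal.map_map, hιO, hιO'] at h1
      exact (sup_le_sup_right (Ideal.map_mono (f := algebraMap O' T') (le_sup_left : J ≤ J')) (p.map (algebraMap O T'))) h1
    · intro hle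
      have h1 : algebraMap O' T f ∈ fibreKer O p (g * a) J' := by
        rw [fibreKer, Ideal.mem_comap]
        rw [← IsScalarTower.algebraMap_apply]
        exact Ideal.mem_sup_left (Ideal.mem_map_of_mem _ (Ideal.mem_sup_right (Ideal.mem_span_singleton_self f)))
      have h2 := hle h1
      rw [fibreKer, Ideal.mem_comap] at h2
      rw [← IsScalarTower.algebraMap_apply] at h2
      have h4 := Ideal.mem_map_of_mem (Ideal.Quotient.mk IJ) h2
      rw [Ideal.map_sup, Ideal.map_quotient_self, bot_sup_eq, Ideal.map_map] at h4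
      exact hfp h4

variable [Module.Flat O T]

include hinj in
/-- Slicing down to a flat piece quasi-finite at a point over `p`. -/
theorem exists_slice (p : Ideal O) [p.IsMaximal] (Q₀ : Ideal T) [Q₀.IsPrime] [Q₀.LiesOver p] :
    ∃ (g : T) (J : Ideal O'), J.FG ∧
      Module.Flat O (Localization.Away g ⧸ J.map (algebraMap O' (Localization.Away g))) ∧
      ∃ (Q : Ideal (Localization.Away g ⧸ J.map (algebraMap O' (Localization.Away g)))) (_ : Q.IsPrime),
        Q.LiesOver p ∧ Algebra.QuasiFiniteAt O Q := by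
  classical
  letI := Ideal.Quotient.field p
  let pT := p.map (algebraMap O T)
  have : Algebra.FiniteType O (T ⧸ pT) := Algebra.FiniteType.trans (S := T) inferInstance inferInstance
  have : Algebra.FiniteType (O ⧸ p) (T ⧸ pT) := Algebra.FiniteType.of_restrictScalars_finiteType O _ _
  have : IsNoetherianRing (T ⧸ pT) := Algebra.FiniteType.isNoetherianRing (O ⧸ p) _
  let 𝓘 : Set (Ideal (T ⧸ pT)) :=
    {K | ∃ g J, Piece O p g (J : Ideal O') ∧ K = (fibreKer O p g J).map (Ideal.Quotient.mk pT)}
  have hne : 𝓘.Nonempty := by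
    refine ⟨_, 1, ⊥, ?_, rfl⟩
    let T1 := Localization.Away (1 : T)
    let e1 : T ≃ₐ[T] T1 := IsLocalization.atOne T T1
    let e2 : T ≃ₐ[O] T1 ⧸ (⊥ : Ideal O').map (algebraMap O' T1) :=
      (e1.restrictScalars O).trans ((AlgEquiv.quotientBot O T1).symm.trans
        (Ideal.quotientEquivAlgOfEq O Ideal.map_bot.symm))
    refine ⟨Submodule.fg_bot, Module.Flat.of_linearEquiv e2.symm.toLinearEquiv,
      Q₀.comap (e2.symm : (T1 ⧸ _) →+* T), inferInstance, ⟨?_⟩⟩
    ext r
    show r ∈ p ↔ e2.symm (algebraMap O _ r) ∈ Q₀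
    rw [e2.symm.commutes, Q₀.over_def p]; rfl
  obtain ⟨K, ⟨g, J, hG, rfl⟩, hmax⟩ := set_has_maximal_iff_noetherian.2 inferInstance 𝓘 hne
  by_cases hbig : ∃ P m : Ideal (Localization.Away g ⧸ J.map (algebraMap O' (Localization.Away g))),
      P.IsPrime ∧ m.IsPrime ∧ P.LiesOver p ∧ m.LiesOver p ∧ P < m
  · exfalso
    obtain ⟨g', J', hG', hlt⟩ := exists_piece_gt hinj p g J hG hbig
    refine hmax _ ⟨g', J', hG', rfl⟩ (lt_of_le_of_ne (Ideal.map_mono hlt.le) fun e => hlt.ne ?_)
    have hc := congrArg (Ideal.comap (Ideal.Quotient.mk pT)) e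
    rwa [Ideal.comap_map_of_surjective' _ Ideal.Quotient.mk_surjective,
      Ideal.comap_map_of_surjective' _ Ideal.Quotient.mk_surjective, Ideal.mk_ker,
      sup_eq_left.2 (le_fibreKer p g J), sup_eq_left.2 (le_fibreKer p g' J')] at hc
  · obtain ⟨hJ, hflat, Q, hQ, hQp⟩ := hG
    refine ⟨g, J, hJ, hflat, Q, hQ, hQp, ?_⟩
    let A := Localization.Away g ⧸ J.map (algebraMap O' (Localization.Away g))
    have : Algebra.FiniteType O A :=
      Algebra.FiniteType.trans (S := Localization.Away g)
        (Algebra.FiniteType.trans (S := T) inferInstance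
          (IsLocalization.finiteType_of_monoid_fg (Submonoid.powers g) _)) inferInstance
    exact quasiFiniteAt_of_forall_not_lt p hbig Q

end Groth.Agent.AlgSpDec.Slice
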