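import Groth.Agent.AlgSpDec.SliceScheme

/-!
# A slice meeting every orbit, and its quotient
-/

set_option backward.isDefEq.respectTransparency false
set_option backward.isDefEq.respectTransparency.types false

universe u

open CategoryTheory Limits Opposite AlgebraicGeometry AlgSp Groth.Agent.AlgSpLib Groth.Agent.AlgSpPts

namespace Groth.Agent.AlgSpDec.Slice

variable {S : Scheme.{u}} {Qs : Sp S} {U R : Over S} {q : (yon S).obj U ⟶ Qs} {t s : R ⟶ U}

/-- A kernel pair of a map from a scheme is an equivalence relation. -/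
theorem isEqvRel_of_kernelPair (sq : IsPullback ((yon S).map t) ((yon S).map s) q q) : IsEqvRel s t := by
  have key : ∀ (T : Over S) (a b : T ⟶ U), (∃ r : T ⟶ R, r ≫ t = a ∧ r ≫ s = b) ↔
      (yon S).map a ≫ q = (yon S).map b ≫ q := by
    intro T a b
    constructor
    · rintro ⟨r, rfl, rfl⟩
      rw [Functor.map_comp, Functor.map_comp, Category.assoc, Category.assoc, sq.w]
    · intro hab
      obtain ⟨r, hr⟩ := (yon S).map_surjective (sq.lift _ _ hab)
      exact ⟨r, (yon S).map_injective (by rw [Functor.map_comp, hr, sq.lift_fst]),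
        (yon S).map_injective (by rw [Functor.map_comp, hr, sq.lift_snd])⟩
  refine ⟨fun T r r' h1 h2 => (yon S).map_injective (sq.hom_ext ?_ ?_), fun T => ?_⟩
  · rw [← Functor.map_comp, ← Functor.map_comp, h1]
  · rw [← Functor.map_comp, ← Functor.map_comp, h2]
  · exact ⟨fun a => (key T a a).2 rfl, fun h => (key _ _ _).2 ((key _ _ _).1 h).symm,
      fun h h' => (key _ _ _).2 (((key _ _ _).1 h).trans ((key _ _ _).1 h'))⟩

/-- Two epimorphisms of sheaves with the same kernel pair have isomorphic targets, compatibly. -/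
theorem isIso_of_kernelPair_epi {X K A B : Sp S} {a : X ⟶ A} {b : X ⟶ B} [Epi a] [Epi b] {p₁ p₂ : K ⟶ X}
    (ha : IsPullback p₁ p₂ a a) (hb : IsPullback p₁ p₂ b b) (φ : A ⟶ B) (hφ : a ≫ φ = b) : IsIso φ := by
  let ra : RegularEpi a := (IsRegularEpiCategory.regularEpiOfEpi a).regularEpi.some
  let rb : RegularEpi b := (IsRegularEpiCategory.regularEpiOfEpi b).regularEpi.some
  have hka : IsKernelPair a p₁ p₂ := ha
  have hkb : IsKernelPair b p₁ p₂ := hb
  let ca := hka.toCoequalizer ra
  let cb := hkb.toCoequalizer rb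
  have : φ = (ca.coconePointUniqueUpToIso cb).hom :=
    Cofork.IsColimit.hom_ext ca (by
      rw [Cofork.π_ofπ, hφ]
      exact (ca.comp_coconePointUniqueUpToIso_hom cb WalkingParallelPair.one).symm)
  rw [this]
  infer_instance

/-- The inclusion of a saturated open of `Z` into a slice. -/
theorem exists_good_open (sq : IsPullback ((yon S).map t) ((yon S).map s) q q)
    [Flat s.left] [Flat t.left] [LocallyOfFinitePresentation s.left] [LocallyOfFinitePresentation t.left]
    (V : U.left.Opens) (hV : IsAffineOpen V) (u : U.left) (huV : u ∈ V)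
    (hu : IsClosed ({⟨u, huV⟩} : Set ↥V)) :
    ∃ (Z : Over S) (g : Z ⟶ U) (_ : LocallyOfFinitePresentation g.left),
      u ∈ Set.range (pullback.snd g t ≫ s).left ∧ Flat (pullback.snd g t ≫ s).left ∧
      LocallyQuasiFinite (pullback.snd g t ≫ s).left ∧ LocallyOfFinitePresentation (pullback.snd g t ≫ s).left := by
  obtain ⟨Z, g, hg, p, hpu, hh, hflat, hqf⟩ := exists_slice_at sq V hV u huV hu
  let h := (pullback.snd g t ≫ s).left
  have : LocallyOfFiniteType h := inferInstance
  let G : (pullback g t).left.Opens := ⟨{x | (h.stalkMap x).hom.Flat ∧ h.QuasiFiniteAt x},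
    (FlatLocus.isOpen_flat_locus h).inter (Scheme.Hom.isOpen_quasiFiniteAt h)⟩
  let f := (pullback.fst g t).left
  have hsqf : IsPullback f (pullback.snd g t).left g.left t.left :=
    (IsPullback.of_hasPullback g t).map (Over.forget S)
  have : Flat f := MorphismProperty.of_isPullback (P := @Flat) hsqf.flip ‹Flat t.left›
  have : LocallyOfFinitePresentation f :=
    MorphismProperty.of_isPullback (P := @LocallyOfFinitePresentation) hsqf.flip ‹LocallyOfFinitePresentation t.left›
  let Z₀ : Z.left.Opens := ⟨f '' G, f.isOpenMap _ G.2⟩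
  let g₀ := openOverι Z Z₀ ≫ g
  let κ : pullback g₀ t ⟶ pullback g t :=
    pullback.lift (pullback.fst g₀ t ≫ openOverι Z Z₀) (pullback.snd g₀ t) (by rw [Category.assoc]; exact pullback.condition)
  have hκsq : IsPullback κ (pullback.fst g₀ t) (pullback.fst g t) (openOverι Z Z₀) :=
    IsPullback.of_right (t := IsPullback.of_hasPullback g t |>.flip) (h₁₁ := κ) (v₁₁ := pullback.fst g₀ t)
      (by rw [pullback.lift_snd]; exact (IsPullback.of_hasPullback g₀ t).flip) (pullback.lift_fst _ _ _)
  have hκ : IsPullback κ.left (pullback.fst g₀ t).left f Z₀.ι := hκsq.map (Over.forget S)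
  have : IsOpenImmersion κ.left := MorphismProperty.of_isPullback (P := @IsOpenImmersion) hκ.flip inferInstance
  have heq : (pullback.snd g₀ t ≫ s).left = κ.left ≫ h := by
    show _ = (κ ≫ pullback.snd g t ≫ s).left
    rw [pullback.lift_snd_assoc]
  have hgood : ∀ w, (h.stalkMap (κ.left w)).hom.Flat ∧ h.QuasiFiniteAt (κ.left w) := by
    intro w
    have hw : f (κ.left w) ∈ Z₀ := by
      rw [← Scheme.Hom.comp_apply, hκ.w, Scheme.Hom.comp_apply]
      exact ((pullback.fst g₀ t).left w).2
    obtain ⟨x, hx, hxw⟩ := hw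
    exact good_invariant sq g hxw hx
  refine ⟨openOver Z Z₀, g₀, inferInstanceAs (LocallyOfFinitePresentation (Z₀.ι ≫ g.left)), ?_, ?_, ?_, ?_⟩
  · obtain ⟨w, hw1, -⟩ := Scheme.exists_preimage_of_isPullback hκ p ⟨f p, p, ⟨hflat, hqf⟩, rfl⟩ rfl
    refine ⟨w, ?_⟩
    rw [heq, Scheme.Hom.comp_apply, hw1]
    exact hpu
  · rw [heq]
    exact Flat.of_stalkMap _ fun w => (FibFlat.flat_stalk_open_comp κ.left h w).2 (hgood w).1
  · rw [heq]
    have hr : Set.range κ.left ⊆ Set.range h.quasiFiniteLocus.ι := by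
      rintro _ ⟨w, rfl⟩
      rw [Scheme.Opens.range_ι]
      exact (hgood w).2
    rw [← IsOpenImmersion.lift_fac h.quasiFiniteLocus.ι κ.left hr, Category.assoc]
    infer_instance
  · rw [heq]
    infer_instance

variable {ι : Type u} {Zi : ι → Over S}

/-- A source-local property of `Z ×_U R ⟶ U` may be checked on summands. -/
theorem hmap_sigma (P : MorphismProperty Scheme.{u}) [IsZariskiLocalAtSource P] (g : sigmaOver Zi ⟶ U)
    (gi : ∀ i, Zi i ⟶ U) (hgi : ∀ i, sigmaι Zi i ≫ g = gi i)
    (h : ∀ i, P (pullback.snd (gi i) t ≫ s).left) : P (pullback.snd g t ≫ s).left := by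
  obtain rfl : (fun i => sigmaι Zi i ≫ g) = gi := funext hgi
  refine (IsZariskiLocalAtSource.iff_of_openCover (P := P)
    ((sigmaOpenCover fun i => (Zi i).left).pullback₁ (pullback.fst g t).left)).2 fun i => ?_
  have hI : IsPullback (pullback.fst (pullback.fst g t).left (sigmaι Zi i).left)
      (pullback.snd (pullback.fst g t).left (sigmaι Zi i).left) (pullback.fst g t).left (sigmaι Zi i).left :=
    IsPullback.of_hasPullback _ _
  let κ : pullback (sigmaι Zi i ≫ g) t ⟶ pullback g t :=
    pullback.lift (pullback.fst _ _ ≫ sigmaι Zi i) (pullback.snd _ _) (by rw [Category.assoc]; exact pullback.condition)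
  have hκ : IsPullback κ (pullback.fst (sigmaι Zi i ≫ g) t) (pullback.fst g t) (sigmaι Zi i) :=
    IsPullback.of_right (t := IsPullback.of_hasPullback g t |>.flip) (h₁₁ := κ) (v₁₁ := pullback.fst (sigmaι Zi i ≫ g) t)
      (by rw [pullback.lift_snd]; exact (IsPullback.of_hasPullback (sigmaι Zi i ≫ g) t).flip) (pullback.lift_fst _ _ _)
  let e := hI.isoIsPullback _ _ (hκ.map (Over.forget S))
  show P (pullback.fst (pullback.fst g t).left (sigmaι Zi i).left ≫ (pullback.snd g t ≫ s).left)
  have he : pullback.fst (pullback.fst g t).left (sigmaι Zi i).left ≫ (pullback.snd g t ≫ s).left =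
      e.hom ≫ (pullback.snd (sigmaι Zi i ≫ g) t ≫ s).left := by
    rw [← IsPullback.isoIsPullback_hom_fst _ _ hI (hκ.map (Over.forget S)), Category.assoc]
    congr 1
    show (κ ≫ pullback.snd g t ≫ s).left = _
    rw [pullback.lift_snd_assoc]
  rw [he, MorphismProperty.cancel_left_of_respectsIso P]
  exact h i

/-- A slice meeting every orbit. -/
theorem exists_slice_cover (sq : IsPullback ((yon S).map t) ((yon S).map s) q q)
    [Flat s.left] [Flat t.left] [LocallyOfFinitePresentation s.left] [LocallyOfFinitePresentation t.left] :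
    ∃ (U' : Over S) (g : U' ⟶ U), LocallyOfFinitePresentation g.left ∧ Surjective (pullback.snd g t ≫ s).left ∧
      Flat (pullback.snd g t ≫ s).left ∧ LocallyQuasiFinite (pullback.snd g t ≫ s).left ∧
      LocallyOfFinitePresentation (pullback.snd g t ≫ s).left := by
  let ι := {u : U.left // ∃ (V : U.left.Opens) (huV : u ∈ V), IsAffineOpen V ∧ IsClosed ({⟨u, huV⟩} : Set ↥V)}
  have hex : ∀ i : ι, ∃ (Z : Over S) (g : Z ⟶ U) (_ : LocallyOfFinitePresentation g.left),
      i.1 ∈ Set.range (pullback.snd g t ≫ s).left ∧ Flat (pullback.snd g t ≫ s).left ∧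
      LocallyQuasiFinite (pullback.snd g t ≫ s).left ∧ LocallyOfFinitePresentation (pullback.snd g t ≫ s).left := by
    rintro ⟨u, V, huV, hV, hu⟩
    exact exists_good_open sq V hV u huV hu
  choose Z g hg hu hflat hqf hlfp using hex
  let g' : sigmaOver Z ⟶ U := CategoryTheory.Over.homMk (Sigma.desc fun i => (g i).left : (∐ fun i => (Z i).left) ⟶ U.left)
    (Sigma.hom_ext _ _ fun i => by
      show Sigma.ι (fun i => (Z i).left) i ≫ Sigma.desc (fun i => (g i).left) ≫ U.hom =
        Sigma.ι (fun i => (Z i).left) i ≫ Sigma.desc fun i => (Z i).hom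
      rw [Sigma.ι_desc_assoc, Sigma.ι_desc, CategoryTheory.Over.w])
  have hι : ∀ i, sigmaι Z i ≫ g' = g i := fun i => Over.OverMorphism.ext (Sigma.ι_desc _ _)
  have hflat' : Flat (pullback.snd g' t ≫ s).left := hmap_sigma @Flat g' g hι fun i => hflat i
  have hqf' : LocallyQuasiFinite (pullback.snd g' t ≫ s).left :=
    hmap_sigma @LocallyQuasiFinite g' g hι fun i => hqf i
  have hlfp' : LocallyOfFinitePresentation (pullback.snd g' t ≫ s).left :=
    hmap_sigma @LocallyOfFinitePresentation g' g hι fun i => hlfp i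
  refine ⟨sigmaOver Z, g', IsZariskiLocalAtSource.sigmaDesc (fun i => hg i), ⟨?_⟩, hflat', hqf', hlfp'⟩
  let h := (pullback.snd g' t ≫ s).left
  have hopen : IsOpen (Set.range h) := h.isOpenMap.isOpen_range
  intro x
  by_contra hx
  obtain ⟨V, hV, hxV, -⟩ := exists_isAffineOpen_mem_and_subset (U := (⊤ : U.left.Opens)) (x := x) trivial
  have : IsAffine ↑V := hV
  have hC : IsClosed ((Subtype.val : V → U.left) ⁻¹' (Set.range h)ᶜ) :=
    hopen.isClosed_compl.preimage continuous_subtype_val
  have : CompactSpace V := inferInstanceAs (CompactSpace (V : Scheme.{u}).carrier)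
  obtain ⟨y, hy, hyc⟩ := IsClosed.exists_closed_singleton (X := ↥(V : Scheme.{u})) hC ⟨⟨x, hxV⟩, hx⟩
  let i : ι := ⟨y.1, V, y.2, hV, hyc⟩
  obtain ⟨w, hw⟩ := hu i
  let κ : pullback (g i) t ⟶ pullback g' t :=
    pullback.lift (pullback.fst _ _ ≫ sigmaι Z i) (pullback.snd _ _) (by rw [Category.assoc, hι]; exact pullback.condition)
  exact hy ⟨κ.left w, by
    show (κ ≫ pullback.snd g' t ≫ s).left w = y.1
    rw [pullback.lift_snd_assoc]
    exact hw⟩

end Groth.Agent.AlgSpDec.Slice
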