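import Groth.Agent.AlgSpDec.SliceSquares

/-!
# Slicing a relation at a closed point of an affine open
-/

set_option backward.isDefEq.respectTransparency false
set_option backward.isDefEq.respectTransparency.types false

universe u

open CategoryTheory Limits Opposite AlgebraicGeometry AlgSp Groth.Agent.AlgSpLib Groth.Agent.AlgSpPts TensorProduct

namespace Groth.Agent.AlgSpDec.Slice

/-- The pushout of a quotient map. -/
theorem isPushout_quotient {O T : Type u} [CommRing O] [CommRing T] (ρ : O →+* T) (J : Ideal O) :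
    IsPushout (CommRingCat.ofHom (Ideal.Quotient.mk J)) (CommRingCat.ofHom ρ)
      (CommRingCat.ofHom (Ideal.quotientMap (J.map ρ) ρ Ideal.le_comap_map))
      (CommRingCat.ofHom (Ideal.Quotient.mk (J.map ρ))) := by
  refine IsPushout.of_isColimit' ⟨by ext x; rfl⟩ (PushoutCocone.isColimitAux' _ fun s => ?_)
  have hker : ∀ x ∈ J.map ρ, s.inr.hom x = 0 := by
    refine fun x hx => (Ideal.map_le_iff_le_comap (K := RingHom.ker s.inr.hom)).2 (fun j hj => ?_) hx
    show s.inr.hom (ρ j) = 0
    have h := congrArg (fun f => f.hom j) s.condition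
    simp only [CommRingCat.hom_comp, CommRingCat.hom_ofHom, RingHom.comp_apply,
      Ideal.Quotient.eq_zero_iff_mem.2 hj, map_zero] at h
    exact h.symm
  refine ⟨CommRingCat.ofHom (Ideal.Quotient.lift _ s.inr.hom hker), ?_, ?_, fun {m} _ h2 => ?_⟩
  · ext x
    exact (congrArg (fun f => f.hom x) s.condition).symm
  · ext x; rfl
  · refine CommRingCat.hom_ext (RingHom.ext fun x => ?_)
    obtain ⟨x, rfl⟩ := Ideal.Quotient.mk_surjective (x : T ⧸ J.map ρ)
    exact congrArg (fun f => f.hom x) h2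

/-- `exists_slice` for two ring maps. -/
theorem exists_slice_ringHom {O O' T : Type u} [CommRing O] [CommRing O'] [CommRing T]
    (ρ : O →+* T) (τ : O' →+* T) (hρfp : ρ.FinitePresentation) (hρ : ρ.Flat) (hτ : τ.FiniteType)
    (hinj : ∀ P P' : Ideal T, P.IsPrime → P'.IsPrime →
      (∀ c ∈ Subring.closure (Set.range ρ ∪ Set.range τ), c ∈ P ↔ c ∈ P') → P = P')
    (p : Ideal O) [p.IsMaximal] (Q₀ : PrimeSpectrum T) (hQ₀ : Q₀.asIdeal.comap ρ = p) :
    ∃ (g : T) (J : Ideal O') (A : Type u) (_ : CommRing A) (π : Localization.Away g →+* A)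
      (ι : O' ⧸ J →+* A),
      IsPushout (CommRingCat.ofHom (Ideal.Quotient.mk J))
        (CommRingCat.ofHom ((algebraMap T (Localization.Away g)).comp τ)) (CommRingCat.ofHom ι) (CommRingCat.ofHom π) ∧
      J.FG ∧ (π.comp ((algebraMap T (Localization.Away g)).comp ρ)).Flat ∧
      ∃ Q : PrimeSpectrum A, Q.asIdeal.comap (π.comp ((algebraMap T (Localization.Away g)).comp ρ)) = p ∧
        (π.comp ((algebraMap T (Localization.Away g)).comp ρ)).QuasiFiniteAt Q.asIdeal := by
  letI := ρ.toAlgebra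
  letI := τ.toAlgebra
  have : Algebra.FinitePresentation O T := hρfp
  have : Module.Flat O T := hρ
  have : Algebra.FiniteType O' T := hτ
  have : Q₀.asIdeal.LiesOver p := ⟨hQ₀.symm⟩
  obtain ⟨g, J, hJ, hflat, Q, hQ, hQp, hqf⟩ := exists_slice (O := O) (O' := O') hinj p Q₀.asIdeal
  let Tg := Localization.Away g
  let e : O' →+* Tg := (algebraMap T Tg).comp τ
  have he : algebraMap O' Tg = e := rfl
  have hρg : (Ideal.Quotient.mk (J.map (algebraMap O' Tg))).comp ((algebraMap T Tg).comp ρ) =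
      algebraMap O (Tg ⧸ J.map (algebraMap O' Tg)) := rfl
  refine ⟨g, J, Tg ⧸ J.map (algebraMap O' Tg), inferInstance, Ideal.Quotient.mk _,
    Ideal.quotientMap (J.map (algebraMap O' Tg)) (algebraMap O' Tg) Ideal.le_comap_map,
    isPushout_quotient (algebraMap O' Tg) J, hJ, ?_, ⟨Q, hQ⟩, ?_, ?_⟩
  · rw [hρg]; exact RingHom.flat_algebraMap_iff.2 hflat
  · rw [hρg]; exact hQp.over.symm
  · rw [hρg]
    unfold RingHom.QuasiFiniteAt
    convert hqf
    exact Algebra.algebra_ext _ _ fun r => rfl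

variable {S : Scheme.{u}} {Qs : Sp S} {U R : Over S} {q : (yon S).obj U ⟶ Qs} {t s : R ⟶ U}

/-- Slicing at a closed point of an affine open. -/
theorem exists_slice_at (sq : IsPullback ((yon S).map t) ((yon S).map s) q q)
    [Flat s.left] [LocallyOfFinitePresentation s.left] [LocallyOfFinitePresentation t.left]
    (V : U.left.Opens) (hV : IsAffineOpen V) (u : U.left) (huV : u ∈ V)
    (hu : IsClosed ({⟨u, huV⟩} : Set ↥V)) :
    ∃ (Z : Over S) (g : Z ⟶ U) (_ : LocallyOfFinitePresentation g.left) (p : ↥(pullback g t).left),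
      (pullback.snd g t ≫ s).left p = u ∧ LocallyOfFinitePresentation (pullback.snd g t ≫ s).left ∧
      ((pullback.snd g t ≫ s).left.stalkMap p).hom.Flat ∧ (pullback.snd g t ≫ s).left.QuasiFiniteAt p := by
  obtain ⟨e, he⟩ := (yon S).map_surjective (sq.lift (𝟙 _) (𝟙 _) rfl)
  have het : e ≫ t = 𝟙 U := (yon S).map_injective (by rw [Functor.map_comp, he, sq.lift_fst, CategoryTheory.Functor.map_id])
  have hes : e ≫ s = 𝟙 U := (yon S).map_injective (by rw [Functor.map_comp, he, sq.lift_snd, CategoryTheory.Functor.map_id])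
  let r₀ := e.left u
  have hrs : s.left r₀ = u := by
    show (e ≫ s).left u = u
    rw [hes]; rfl
  have hrt : t.left r₀ = u := by
    show (e ≫ t).left u = u
    rw [het]; rfl
  obtain ⟨N, hN, hrN, hNV⟩ := exists_isAffineOpen_mem_and_subset (U := s.left ⁻¹ᵁ V ⊓ t.left ⁻¹ᵁ V) (x := r₀)
    ⟨show s.left r₀ ∈ V by rw [hrs]; exact huV, show t.left r₀ ∈ V by rw [hrt]; exact huV⟩
  have hNs : N ≤ s.left ⁻¹ᵁ V := fun x hx => (hNV hx).1
  have hNt : N ≤ t.left ⁻¹ᵁ V := fun x hx => (hNV hx).2
  let O := Γ(U.left, V)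
  let T := Γ(R.left, N)
  let ρ : O →+* T := (s.left.appLE V N hNs).hom
  let τ : O →+* T := (t.left.appLE V N hNt).hom
  have hsq_s : Spec.map (s.left.appLE V N hNs) ≫ hV.fromSpec = hN.fromSpec ≫ s.left :=
    hV.SpecMap_appLE_fromSpec s.left hN hNs
  have hsq_t : Spec.map (t.left.appLE V N hNt) ≫ hV.fromSpec = hN.fromSpec ≫ t.left :=
    hV.SpecMap_appLE_fromSpec t.left hN hNt
  -- primes are told apart by the two maps
  let Φ : O ⊗[ℤ] O →+* T :=
    (Algebra.TensorProduct.lift ρ.toIntAlgHom τ.toIntAlgHom fun _ _ => Commute.all _ _).toRingHom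
  have hmono : Mono (Spec.map (CommRingCat.ofHom Φ)) := by
    refine ⟨fun {W} a b hab => ?_⟩
    have hl : CommRingCat.ofHom (Algebra.TensorProduct.includeLeftRingHom : O →+* O ⊗[ℤ] O) ≫
        CommRingCat.ofHom Φ = s.left.appLE V N hNs :=
      CommRingCat.hom_ext (RingHom.ext fun x => show Φ (x ⊗ₜ[ℤ] 1) = ρ x by simp [Φ])
    have hr : CommRingCat.ofHom ((Algebra.TensorProduct.includeRight : O →ₐ[ℤ] O ⊗[ℤ] O).toRingHom) ≫
        CommRingCat.ofHom Φ = t.left.appLE V N hNt :=
      CommRingCat.hom_ext (RingHom.ext fun x => show Φ (1 ⊗ₜ[ℤ] x) = τ x by simp [Φ])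
    have h1 : a ≫ hN.fromSpec ≫ s.left = b ≫ hN.fromSpec ≫ s.left := by
      rw [← hsq_s, ← hl, Spec.map_comp]
      simp only [Category.assoc]
      rw [reassoc_of% hab]
    have h2 : a ≫ hN.fromSpec ≫ t.left = b ≫ hN.fromSpec ≫ t.left := by
      rw [← hsq_t, ← hr, Spec.map_comp]
      simp only [Category.assoc]
      rw [reassoc_of% hab]
    let W' : Over S := Over.mk (a ≫ hN.fromSpec ≫ R.hom)
    have hb : b ≫ hN.fromSpec ≫ R.hom = a ≫ hN.fromSpec ≫ R.hom := by
      rw [← CategoryTheory.Over.w t, reassoc_of% h2]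
    let a' : W' ⟶ R := CategoryTheory.Over.homMk (a ≫ hN.fromSpec) (Category.assoc _ _ _)
    let b' : W' ⟶ R := CategoryTheory.Over.homMk (b ≫ hN.fromSpec) ((Category.assoc _ _ _).trans hb)
    have hab' : a' = b' := (yon S).map_injective (sq.hom_ext
      (by rw [← Functor.map_comp, ← Functor.map_comp]; congr 1
          exact Over.OverMorphism.ext ((Category.assoc _ _ _).trans (h2.trans (Category.assoc _ _ _).symm)))
      (by rw [← Functor.map_comp, ← Functor.map_comp]; congr 1
          exact Over.OverMorphism.ext ((Category.assoc _ _ _).trans (h1.trans (Category.assoc _ _ _).symm))))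
    exact (cancel_mono hN.fromSpec).1 (congrArg CommaMorphism.left hab')
  have hinj : ∀ P P' : Ideal T, P.IsPrime → P'.IsPrime →
      (∀ c ∈ Subring.closure (Set.range ρ ∪ Set.range τ), c ∈ P ↔ c ∈ P') → P = P' := by
    intro P P' hP hP' h
    have hΦ : ∀ z, Φ z ∈ Subring.closure (Set.range ρ ∪ Set.range τ) := by
      intro z
      induction z using TensorProduct.induction_on with
      | zero => simp
      | add a b ha hb => rw [map_add]; exact add_mem ha hb
      | tmul a b =>
        rw [show Φ (a ⊗ₜ b) = ρ a * τ b from Algebra.TensorProduct.lift_tmul _ _ _ a b]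
        exact mul_mem (Subring.subset_closure (Or.inl ⟨a, rfl⟩)) (Subring.subset_closure (Or.inr ⟨b, rfl⟩))
    exact congrArg PrimeSpectrum.asIdeal ((Spec.map (CommRingCat.ofHom Φ)).injective
      (a₁ := (⟨P, hP⟩ : PrimeSpectrum T)) (a₂ := (⟨P', hP'⟩ : PrimeSpectrum T))
      (PrimeSpectrum.ext (Ideal.ext fun z => h (Φ z) (hΦ z))))
  let x₀ := hN.primeIdealOf ⟨r₀, hrN⟩
  let u₀ := hV.primeIdealOf ⟨u, huV⟩
  have hu₀ : u₀.asIdeal.IsMaximal := by
    rw [← PrimeSpectrum.isClosed_singleton_iff_isMaximal]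
    have h1 : hV.primeIdealOf '' ({⟨u, huV⟩} : Set ↥V) = {u₀} := Set.image_singleton
    rw [← h1]
    exact hV.isoSpec.hom.homeomorph.isClosedMap _ hu
  have hx₀ : x₀.asIdeal.comap ρ = u₀.asIdeal := by
    refine congrArg PrimeSpectrum.asIdeal (hV.fromSpec.isOpenEmbedding.injective
      (a₁ := PrimeSpectrum.comap ρ x₀) (a₂ := u₀) ?_)
    show (Spec.map (s.left.appLE V N hNs) ≫ hV.fromSpec) x₀ = _
    rw [hsq_s, Scheme.Hom.comp_apply, hN.fromSpec_primeIdealOf, hV.fromSpec_primeIdealOf]
    exact hrs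
  obtain ⟨g₀, J, A, _, π, ι, hpush, hJ, hflat, Q, hQ, hqf⟩ := exists_slice_ringHom ρ τ
    (s.left.finitePresentation_appLE hV hN hNs) (Scheme.Hom.flat_appLE s.left hV hN hNs)
    (t.left.finiteType_appLE hV hN hNt) hinj u₀.asIdeal x₀ hx₀
  let Tg := Localization.Away g₀
  let jg : Spec (CommRingCat.of Tg) ⟶ Spec T := Spec.map (CommRingCat.ofHom (algebraMap T Tg))
  have : IsOpenImmersion jg := IsOpenImmersion.of_isLocalization g₀
  let j : Spec (CommRingCat.of Tg) ⟶ R.left := jg ≫ hN.fromSpec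
  let iJ : Spec (CommRingCat.of (O ⧸ J)) ⟶ Spec O := Spec.map (CommRingCat.ofHom (Ideal.Quotient.mk J))
  let Z : Over S := Over.mk (iJ ≫ hV.fromSpec ≫ U.hom)
  let g : Z ⟶ U := CategoryTheory.Over.homMk (iJ ≫ hV.fromSpec) (Category.assoc _ _ _)
  have hiJ : LocallyOfFinitePresentation iJ := by
    refine (HasRingHomProperty.Spec_iff (P := @LocallyOfFinitePresentation)).2 ?_
    exact RingHom.FinitePresentation.of_surjective _ Ideal.Quotient.mk_surjective
      (by rw [CommRingCat.hom_ofHom, Ideal.mk_ker]; exact hJ)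
  have hg : LocallyOfFinitePresentation g.left :=
    inferInstanceAs (LocallyOfFinitePresentation (iJ ≫ hV.fromSpec))
  have hA := (isPullback_SpecMap_of_isPushout _ _ _ _ hpush)
  have hjt : Spec.map (CommRingCat.ofHom ((algebraMap T Tg).comp τ)) ≫ hV.fromSpec = j ≫ t.left := by
    rw [show CommRingCat.ofHom ((algebraMap T Tg).comp τ) =
      t.left.appLE V N hNt ≫ CommRingCat.ofHom (algebraMap T Tg) from rfl, Spec.map_comp, Category.assoc, hsq_t,
      Category.assoc]
  let ιA := Spec.map (CommRingCat.ofHom ι)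
  let πA := Spec.map (CommRingCat.ofHom π)
  have outer : IsPullback ιA πA (iJ ≫ hV.fromSpec) (j ≫ t.left) := by
    rw [← hjt]
    refine ⟨⟨by rw [← Category.assoc, ← Category.assoc, hA.w]⟩, ⟨PullbackCone.IsLimit.mk _
      (fun c => hA.lift c.fst c.snd ((cancel_mono hV.fromSpec).1 (by simpa using c.condition)))
      (fun c => hA.lift_fst _ _ _) (fun c => hA.lift_snd _ _ _)
      (fun c m h1 h2 => hA.hom_ext (by rw [hA.lift_fst]; exact h1) (by rw [hA.lift_snd]; exact h2))⟩⟩
  have hP : IsPullback (pullback.fst g t).left (pullback.snd g t).left (iJ ≫ hV.fromSpec) t.left :=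
    (IsPullback.of_hasPullback g t).map (Over.forget S)
  let κ := hP.lift ιA (πA ≫ j) (by rw [Category.assoc]; exact outer.w)
  have hκ : IsPullback κ πA (pullback.snd g t).left j :=
    IsPullback.of_right (by rw [hP.lift_fst]; exact outer) (hP.lift_snd _ _ _) hP
  have : IsOpenImmersion κ := MorphismProperty.of_isPullback (P := @IsOpenImmersion) hκ.flip inferInstance
  have hh : LocallyOfFinitePresentation (pullback.snd g t ≫ s).left := by
    have : LocallyOfFinitePresentation (pullback.snd g t).left :=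
      MorphismProperty.of_isPullback (P := @LocallyOfFinitePresentation) hP hg
    rw [Over.comp_left]
    infer_instance
  let ψ : O →+* A := π.comp ((algebraMap T Tg).comp ρ)
  have hκh : κ ≫ (pullback.snd g t ≫ s).left = Spec.map (CommRingCat.ofHom ψ) ≫ hV.fromSpec := by
    rw [Over.comp_left, reassoc_of% (hP.lift_snd ιA (πA ≫ j) _),
      show CommRingCat.ofHom ψ = s.left.appLE V N hNs ≫ CommRingCat.ofHom (algebraMap T Tg) ≫ CommRingCat.ofHom π
        from rfl, Spec.map_comp, Spec.map_comp]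
    simp only [Category.assoc, j, jg, πA, hsq_s]
  refine ⟨Z, g, hg, κ Q, ?_, hh, ?_, ?_⟩
  · rw [← Scheme.Hom.comp_apply, hκh, Scheme.Hom.comp_apply,
      show Spec.map (CommRingCat.ofHom ψ) Q = u₀ from PrimeSpectrum.ext hQ]
    exact hV.fromSpec_primeIdealOf _
  · rw [← FibFlat.flat_stalk_open_comp κ]
    have : Flat (Spec.map (CommRingCat.ofHom ψ)) := (HasRingHomProperty.Spec_iff (P := @Flat)).2 hflat
    have : Flat (κ ≫ (pullback.snd g t ≫ s).left) := by rw [hκh]; infer_instance
    exact Flat.stalkMap _ _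
  · have h1 : (Spec.map (CommRingCat.ofHom ψ)).QuasiFiniteAt Q := by
      letI := ψ.toAlgebra
      have : Algebra.QuasiFiniteAt O Q.asIdeal := hqf
      let := Localization.AtPrime.algebraOfLiesOver (Q.asIdeal.under O) Q.asIdeal
      have h2 : Algebra.QuasiFinite (Localization.AtPrime (Q.asIdeal.under O)) (Localization.AtPrime Q.asIdeal) :=
        .of_restrictScalars O _ _
      rw [← RingHom.quasiFinite_algebraMap] at h2
      exact (RingHom.QuasiFinite.respectsIso.arrow_mk_iso_iff (Scheme.arrowStalkMapSpecIso (CommRingCat.ofHom ψ) Q)).2 h2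
    rw [← Scheme.Hom.quasiFiniteAt_comp_iff_of_isOpenImmersion (f := κ)]
    have h3 : (Spec.map (CommRingCat.ofHom ψ) ≫ hV.fromSpec).QuasiFiniteAt Q :=
      Scheme.Hom.quasiFiniteAt_comp_iff.2 h1
    exact (congrArg (fun φ : Spec (CommRingCat.of A) ⟶ U.left => φ.QuasiFiniteAt Q) hκh).mpr h3

end Groth.Agent.AlgSpDec.Slice
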