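import Groth.Agent.AlgSpDec.QuotRep
import Groth.Agent.AlgSpDec.SliceAlg
import Groth.Agent.S1392
import Groth.Agent.S9389

/-!
# The translation squares of a relation restricted along `g : Z ⟶ U`
-/

set_option backward.isDefEq.respectTransparency false
set_option backward.isDefEq.respectTransparency.types false

universe u

open CategoryTheory Limits Opposite AlgebraicGeometry AlgSp Groth.Agent.AlgSpLib Groth.Agent.AlgSpPts

namespace Groth.Agent.AlgSpDec.Slice

variable {S : Scheme.{u}}

/-- Flatness descends along a faithfully flat second factor. -/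
theorem flat_of_flat_comp' {A B C : Type u} [CommRing A] [CommRing B] [CommRing C] [Algebra A B] [Algebra B C]
    [Algebra A C] [IsScalarTower A B C] [Module.FaithfullyFlat B C] [Module.Flat A C] : Module.Flat A B :=
  S1392.descend (R := A) (A := B) (R' := A) (L := C) (M := B)
    (Module.Flat.of_linearEquiv ((TensorProduct.AlgebraTensorModule.rid B B C).restrictScalars A))

/-- A flat composite with a faithfully flat second factor. -/
theorem flat_of_flat_comp {A B C : CommRingCat.{u}} (f : A ⟶ B) (g : B ⟶ C) (hg : g.hom.FaithfullyFlat)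
    (h : (f ≫ g).hom.Flat) : f.hom.Flat := by
  letI := f.hom.toAlgebra
  letI := g.hom.toAlgebra
  letI := (g.hom.comp f.hom).toAlgebra
  have : IsScalarTower A B C := IsScalarTower.of_algebraMap_eq fun _ => rfl
  have : Module.FaithfullyFlat B C := hg
  have : Module.Flat A C := h
  exact flat_of_flat_comp' (A := A) (B := B) (C := C)

/-- Flatness and quasi-finiteness at a point are the same after a flat base change. -/
theorem good_iff {Q P R U : Scheme.{u}} {pr : Q ⟶ P} {r : Q ⟶ R} {h : P ⟶ U} {c : R ⟶ U}
    (sq : IsPullback pr r h c) [Flat c] [LocallyOfFinitePresentation h] (q : Q) (x : P) (hx : pr q = x) :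
    ((r.stalkMap q).hom.Flat ↔ (h.stalkMap x).hom.Flat) ∧
      (r.QuasiFiniteAt q ↔ h.QuasiFiniteAt x) := by
  subst hx
  refine ⟨⟨fun hr => ?_, fun hh => FibFlat.flat_stalk_of_isPullback sq q hh⟩,
    Set.ext_iff.1 (S9389.result h c pr r sq) q⟩
  have : Flat pr := MorphismProperty.of_isPullback (P := @Flat) sq.flip ‹Flat c›
  have hff : (pr.stalkMap q).hom.FaithfullyFlat := by
    have hf : (pr.stalkMap q).hom.Flat := Flat.stalkMap pr q
    algebraize [(pr.stalkMap q).hom]
    have : IsLocalHom (algebraMap (P.presheaf.stalk (pr q)) (Q.presheaf.stalk q)) :=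
      inferInstanceAs (IsLocalHom (pr.stalkMap q).hom)
    exact Module.FaithfullyFlat.of_flat_of_isLocalHom
  refine flat_of_flat_comp _ _ hff ?_
  rw [← Scheme.Hom.stalkMap_comp]
  have hc : ((r ≫ c).stalkMap q).hom.Flat := by
    rw [Scheme.Hom.stalkMap_comp, CommRingCat.hom_comp]
    exact RingHom.Flat.comp (Flat.stalkMap c _) hr
  exact (congrArg (fun φ : Q ⟶ U => (φ.stalkMap q).hom.Flat) sq.w).mpr hc

variable {Qs : Sp S} {U R : Over S} {q : (yon S).obj U ⟶ Qs} {t s : R ⟶ U}
  (sq : IsPullback ((yon S).map t) ((yon S).map s) q q) {Z : Over S} (g : Z ⟶ U)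

include sq in
/-- `Z ×_U R ⟶ U` is the base change of `q` along `Z ⟶ U/R`. -/
theorem isPullback_hmap :
    IsPullback ((yon S).map (pullback.fst g t)) ((yon S).map (pullback.snd g t ≫ s))
      ((yon S).map g ≫ q) q := by
  rw [Functor.map_comp]
  exact ((IsPullback.of_hasPullback g t).map (yon S)).paste_vert sq

include sq in
/-- The two translation squares. -/
theorem exists_translation : ∃ r : pullback (pullback.fst g t) (pullback.fst g t) ⟶ R,
    IsPullback (pullback.fst (pullback.fst g t) (pullback.fst g t)) r (pullback.snd g t ≫ s) t ∧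
    IsPullback (pullback.snd (pullback.fst g t) (pullback.fst g t)) r (pullback.snd g t ≫ s) s := by
  let f := pullback.fst g t
  let hm := pullback.snd g t ≫ s
  let p1 := pullback.fst f f
  let p2 := pullback.snd f f
  have hP : IsPullback ((yon S).map f) ((yon S).map hm) ((yon S).map g ≫ q) q := isPullback_hmap sq g
  have outer₁ : IsPullback ((yon S).map p1) ((yon S).map p2 ≫ (yon S).map hm) ((yon S).map hm ≫ q) q := by
    rw [← hP.w]
    exact ((IsPullback.of_hasPullback f f).map (yon S)).paste_vert hP
  have outer₂ : IsPullback ((yon S).map p2) ((yon S).map p1 ≫ (yon S).map hm) ((yon S).map hm ≫ q) q := by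
    rw [← hP.w]
    exact ((IsPullback.of_hasPullback f f).flip.map (yon S)).paste_vert hP
  let l := sq.lift ((yon S).map p1 ≫ (yon S).map hm) ((yon S).map p2 ≫ (yon S).map hm)
    (by rw [Category.assoc, outer₁.w, Category.assoc])
  obtain ⟨r, hr⟩ := (yon S).map_surjective l
  have hr1 : (yon S).map r ≫ (yon S).map t = (yon S).map p1 ≫ (yon S).map hm := by
    rw [hr]; exact sq.lift_fst _ _ _
  have hr2 : (yon S).map r ≫ (yon S).map s = (yon S).map p2 ≫ (yon S).map hm := by
    rw [hr]; exact sq.lift_snd _ _ _
  refine ⟨r, IsPullback.of_map (yon S) ((yon S).map_injective ?_) ?_,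
    IsPullback.of_map (yon S) ((yon S).map_injective ?_) ?_⟩
  · simp only [Functor.map_comp, Category.assoc] at hr1 ⊢
    exact hr1.symm
  · exact IsPullback.of_bot (by rw [hr2]; exact outer₁) (by rw [hr1]) sq
  · simp only [Functor.map_comp, Category.assoc] at hr2 ⊢
    exact hr2.symm
  · exact IsPullback.of_bot (by rw [hr1]; exact outer₂) (by rw [hr2]) sq.flip

include sq in
/-- Being flat and quasi-finite at a point of `Z ×_U R` only depends on the image in `Z`. -/
theorem good_invariant [Flat s.left] [Flat t.left] [LocallyOfFinitePresentation (pullback.snd g t ≫ s).left]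
    {x y : ↥(pullback g t).left} (hxy : (pullback.fst g t).left x = (pullback.fst g t).left y)
    (hx : ((pullback.snd g t ≫ s).left.stalkMap x).hom.Flat ∧ (pullback.snd g t ≫ s).left.QuasiFiniteAt x) :
    ((pullback.snd g t ≫ s).left.stalkMap y).hom.Flat ∧ (pullback.snd g t ≫ s).left.QuasiFiniteAt y := by
  obtain ⟨r, h1, h2⟩ := exists_translation sq g
  have hQ := (IsPullback.of_hasPullback (pullback.fst g t) (pullback.fst g t)).map (Over.forget S)
  obtain ⟨w, hw1, hw2⟩ := Scheme.exists_preimage_of_isPullback hQ x y hxy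
  have : Flat ((Over.forget S).map t) := ‹Flat t.left›
  have : Flat ((Over.forget S).map s) := ‹Flat s.left›
  have : LocallyOfFinitePresentation ((Over.forget S).map (pullback.snd g t ≫ s)) :=
    ‹LocallyOfFinitePresentation (pullback.snd g t ≫ s).left›
  obtain ⟨a1, a2⟩ := good_iff (h1.map (Over.forget S)) w x hw1
  obtain ⟨b1, b2⟩ := good_iff (h2.map (Over.forget S)) w y hw2
  exact ⟨b1.1 (a1.2 hx.1), b2.1 (a2.2 hx.2)⟩

end Groth.Agent.AlgSpDec.Slice
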