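import Groth.Agent.AlgSpDec.SmoothFormal
import Groth.Agent.AlgSpDec.Fibres
import Groth.Agent.AlgSpPts.OpenSub
import Groth.Agent.S1417
import Groth.Agent.S2060
import Groth.Agent.AlgStLib.Noetherian

/-!
# Infinitesimal criteria for smoothness of morphisms of algebraic spaces
-/

set_option autoImplicit false
set_option backward.isDefEq.respectTransparency false
set_option backward.isDefEq.respectTransparency.types false
set_option linter.style.haveILetI false

universe u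

open CategoryTheory CategoryTheory.Limits AlgebraicGeometry AlgSp Groth.Agent.AlgSpLib Groth.Agent.AlgSpPts

namespace Groth.Agent.AlgSpDec.SmoothCriteria

variable {S : Scheme.{u}}

section Squares

variable {B' B : Type u} [CommRing B'] [CommRing B] {π : B' →+* B} (hπ : Function.Surjective π)
  (hker : RingHom.ker π ^ 2 = ⊥) (s : Spec (CommRingCat.of B') ⟶ S)

/-- The closed immersion of spectra of a surjection, over `S`. -/
noncomputable abbrev incl (π : B' →+* B) :
    Over.mk (Spec.map (CommRingCat.ofHom π) ≫ s) ⟶ Over.mk s :=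
  Over.homMk (Spec.map (CommRingCat.ofHom π)) rfl

include hπ in
theorem exists_quot_iso :
    ∃ E : Over.mk (Spec.map (CommRingCat.ofHom (Ideal.Quotient.mk (RingHom.ker π))) ≫ s) ≅
      Over.mk (Spec.map (CommRingCat.ofHom π) ≫ s),
      E.hom ≫ incl s π = incl s (Ideal.Quotient.mk (RingHom.ker π)) := by
  let e := (RingHom.quotientKerEquivOfSurjective hπ).toCommRingCatIso
  have he : CommRingCat.ofHom (Ideal.Quotient.mk (RingHom.ker π)) ≫ e.hom = CommRingCat.ofHom π := by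
    ext x; exact RingHom.quotientKerEquivOfSurjective_apply_mk hπ x
  have h2 : Spec.map e.inv ≫ Spec.map (CommRingCat.ofHom π) =
      Spec.map (CommRingCat.ofHom (Ideal.Quotient.mk (RingHom.ker π))) := by
    rw [← Spec.map_comp, ← he, Category.assoc, Iso.hom_inv_id, Category.comp_id]
  haveI : IsIso (Spec.map e.inv) := inferInstance
  refine ⟨Over.isoMk (asIso (Spec.map e.inv)) ?_, Over.OverMorphism.ext h2⟩
  exact (Category.assoc _ _ _).symm.trans (congrArg (· ≫ s) h2)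

include hπ hker in
theorem lift_infinitesimal {F G : Sp S} {f : F ⟶ G} (hf : IsFormallySmoothMor f)
    (α : (yon S).obj (Over.mk (Spec.map (CommRingCat.ofHom π) ≫ s)) ⟶ F) (β : (yon S).obj (Over.mk s) ⟶ G)
    (w : α ≫ f = (yon S).map (incl s π) ≫ β) :
    ∃ γ : (yon S).obj (Over.mk s) ⟶ F, (yon S).map (incl s π) ≫ γ = α ∧ γ ≫ f = β := by
  obtain ⟨E, hE⟩ := exists_quot_iso hπ s
  let sq : InfSq f :=
    { A := B', I := RingHom.ker π, sq_zero := hker, str := s, top := (yon S).map E.hom ≫ α, bot := β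
      comm := by
        show ((yon S).map E.hom ≫ α) ≫ f = (yon S).map (incl s (Ideal.Quotient.mk (RingHom.ker π))) ≫ β
        rw [← hE, Category.assoc, w, Functor.map_comp, Category.assoc] }
  obtain ⟨γ, hγ₁, hγ₂⟩ := hf sq
  refine ⟨γ, ?_, hγ₂⟩
  have h1 : (yon S).map (incl s (Ideal.Quotient.mk (RingHom.ker π))) ≫ γ = (yon S).map E.hom ≫ α := hγ₁
  rw [← cancel_epi ((yon S).map E.hom), ← h1, ← Functor.map_comp_assoc, hE]

include hπ hker in
theorem eq_of_unramified {F G : Sp S} {f : F ⟶ G} (hf : IsFormallyUnramifiedMor f)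
    (γ γ' : (yon S).obj (Over.mk s) ⟶ F) (h₁ : (yon S).map (incl s π) ≫ γ = (yon S).map (incl s π) ≫ γ')
    (h₂ : γ ≫ f = γ' ≫ f) : γ = γ' := by
  obtain ⟨E, hE⟩ := exists_quot_iso hπ s
  let sq : InfSq f :=
    { A := B', I := RingHom.ker π, sq_zero := hker, str := s
      top := (yon S).map (incl s (Ideal.Quotient.mk (RingHom.ker π))) ≫ γ, bot := γ ≫ f
      comm := Category.assoc _ _ _ }
  refine hf sq γ γ' rfl rfl ?_ h₂.symm
  show (yon S).map (incl s (Ideal.Quotient.mk (RingHom.ker π))) ≫ γ' = (yon S).map (incl s (Ideal.Quotient.mk _)) ≫ γ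
  rw [← hE, Functor.map_comp, Category.assoc, Category.assoc, h₁]

end Squares

/-- Lifting problems for a chart morphism are lifting problems for the morphism of spaces. -/
theorem exists_lift_chart {X Y : Sp S} {f : X ⟶ Y} {U V : Over S} {a : (yon S).obj U ⟶ X} {b : (yon S).obj V ⟶ Y}
    {h : U ⟶ V} (ha : RepWith @Etale a) (hb : RepWith @Etale b) (w : a ≫ f = (yon S).map h ≫ b)
    {B' B : Type u} [CommRing B'] [CommRing B] {π : B' →+* B} (hπ : Function.Surjective π)
    (hker : RingHom.ker π ^ 2 = ⊥) (α : Spec (CommRingCat.of B) ⟶ U.left) (β : Spec (CommRingCat.of B') ⟶ V.left)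
    (hw : Spec.map (CommRingCat.ofHom π) ≫ β = α ≫ h.left)
    (H : ∀ (α' : (yon S).obj (Over.mk (Spec.map (CommRingCat.ofHom π) ≫ β ≫ V.hom)) ⟶ X),
      α' ≫ f = (yon S).map (incl (β ≫ V.hom) π) ≫ (yon S).map (Over.homMk β rfl : Over.mk (β ≫ V.hom) ⟶ V) ≫ b →
      (∀ p, Points.ofPt α' p = Points.ofPt a (α p)) →
      ∃ γ : (yon S).obj (Over.mk (β ≫ V.hom)) ⟶ X, (yon S).map (incl (β ≫ V.hom) π) ≫ γ = α' ∧
        γ ≫ f = (yon S).map (Over.homMk β rfl : Over.mk (β ≫ V.hom) ⟶ V) ≫ b) :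
    ∃ γ : Spec (CommRingCat.of B') ⟶ U.left, Spec.map (CommRingCat.ofHom π) ≫ γ = α ∧ γ ≫ h.left = β := by
  let s := β ≫ V.hom
  let α₁ : Over.mk (Spec.map (CommRingCat.ofHom π) ≫ s) ⟶ U := Over.homMk α (by
    show α ≫ U.hom = _
    rw [← Over.w h, ← Category.assoc, ← hw, Category.assoc]; rfl)
  let β₁ : Over.mk s ⟶ V := Over.homMk β rfl
  have hc : α₁ ≫ h = incl s π ≫ β₁ := Over.OverMorphism.ext hw.symm
  obtain ⟨γ, hγ₁, hγ₂⟩ := H ((yon S).map α₁ ≫ a) (by
    rw [Category.assoc, w, ← Functor.map_comp_assoc, hc, Functor.map_comp, Category.assoc]) fun p => ofPt_comp α₁ a p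
  obtain ⟨l, hl₁, hl₂⟩ := lift_infinitesimal hπ hker s ((isFormallyEtaleMor_iff a).1 ((formal_of_repWith a).2.1 ha)).1
    ((yon S).map α₁) γ hγ₁.symm
  obtain ⟨m, rfl⟩ := (yon S).map_surjective l
  refine ⟨m.left, congrArg CommaMorphism.left ((yon S).map_injective (((yon S).map_comp _ _).trans hl₁)), ?_⟩
  have key := eq_of_unramified hπ hker s ((isFormallyEtaleMor_iff b).1 ((formal_of_repWith b).2.1 hb)).2
    ((yon S).map (m ≫ h)) ((yon S).map β₁) (by
      rw [← Functor.map_comp, ← Functor.map_comp]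
      refine congrArg _ ((Category.assoc _ _ _).symm.trans ?_)
      exact (congrArg (· ≫ h) ((yon S).map_injective (((yon S).map_comp _ _).trans hl₁))).trans hc)
    (by rw [Functor.map_comp, Category.assoc, ← w, ← Category.assoc, hl₂, hγ₂])
  exact congrArg CommaMorphism.left ((yon S).map_injective key)

theorem sq_ker_of_small {B' B : Type u} [CommRing B'] [CommRing B] [IsLocalRing B'] [Nontrivial B] {π : B' →+* B}
    (h : ∃ t : B', RingHom.ker π = Ideal.span {t} ∧ ∀ a ∈ IsLocalRing.maximalIdeal B', a * t = 0) :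
    RingHom.ker π ^ 2 = ⊥ := by
  obtain ⟨t, ht, hm⟩ := h
  have htm : t ∈ IsLocalRing.maximalIdeal B' :=
    IsLocalRing.le_maximalIdeal (RingHom.ker_ne_top π) (ht.symm ▸ Ideal.mem_span_singleton_self t)
  rw [ht, pow_two, Ideal.span_singleton_mul_span_singleton, hm t htm, Ideal.span_singleton_zero]

theorem smooth_iff_small {X Y : Space S} (f : X.obj ⟶ Y.obj) (hY : IsLocNoethSp Y.obj)
    (hft : LocP @LocallyOfFiniteType f) :
    LocP @Smooth f ↔
      ∀ (B' B : Type u) [CommRing B'] [CommRing B] [IsLocalRing B'] [IsLocalRing B]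
        [IsArtinianRing B'] [IsArtinianRing B] (π : B' →+* B), Function.Surjective π →
        (∃ t : B', RingHom.ker π = Ideal.span {t} ∧ ∀ a ∈ IsLocalRing.maximalIdeal B', a * t = 0) →
        ∀ (s : Spec (CommRingCat.of B') ⟶ S)
          (α : (yon S).obj (Over.mk (Spec.map (CommRingCat.ofHom π) ≫ s)) ⟶ X.obj)
          (β : (yon S).obj (Over.mk s) ⟶ Y.obj),
          LocP @LocallyOfFiniteType β →
          α ≫ f = (yon S).map (incl s π) ≫ β →
          ∃ γ : (yon S).obj (Over.mk s) ⟶ X.obj, (yon S).map (incl s π) ≫ γ = α ∧ γ ≫ f = β := by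
  refine ⟨fun hf B' B _ _ _ _ _ _ π hπ ht s α β _ hw =>
    lift_infinitesimal hπ (sq_ker_of_small ht) s (SmoothFormal.isFormallySmoothMor f hf) α β hw,
    fun H U V a b h ha hb w => ?_⟩
  haveI : IsLocallyNoetherian V.left := isLocallyNoetherian_chart hb hY
  haveI : LocallyOfFiniteType h.left := hft a b h ha hb w
  refine (Groth.Agent.S1417.result h.left).2 fun B B' _ _ _ _ _ _ φ ε hφ hker hε α β hβ hw => ?_
  have ht : ∃ t : B', RingHom.ker φ = Ideal.span {t} ∧ ∀ c ∈ IsLocalRing.maximalIdeal B', c * t = 0 :=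
    ⟨ε, hker, fun c hc => by rw [mul_comm]; exact hε c hc⟩
  refine exists_lift_chart ha hb w hφ (sq_ker_of_small ht) α β hw fun α' hα' _ => ?_
  refine H B' B φ hφ ht _ α' _ ?_ hα'
  refine locP_of_repWith (repWith_comp ((repWith_yon_map_iff _ _).2 hβ) (repWith_mono ?_ _ hb))
  exact fun A C g (_ : Etale g) => inferInstanceAs (LocallyOfFiniteType g)

/-- Scheme level: lifting along small extensions at a point gives smoothness nearby. -/
theorem exists_smooth_nhd {U V : Scheme.{u}} (h : U ⟶ V) [IsLocallyNoetherian V] [LocallyOfFiniteType h] (u : ↥U)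
    (H : ∀ (B' B : Type u) [CommRing B'] [CommRing B] [IsLocalRing B'] [IsLocalRing B]
        [IsArtinianRing B'] [IsArtinianRing B] (π : B' →+* B), Function.Surjective π →
        (∃ t : B', RingHom.ker π = Ideal.span {t} ∧ ∀ a ∈ IsLocalRing.maximalIdeal B', a * t = 0) →
        ∀ (α : Spec (CommRingCat.of B) ⟶ U) (β : Spec (CommRingCat.of B') ⟶ V),
          α (IsLocalRing.closedPoint B) = u → Spec.map (CommRingCat.ofHom π) ≫ β = α ≫ h →
          ∃ γ : Spec (CommRingCat.of B') ⟶ U, Spec.map (CommRingCat.ofHom π) ≫ γ = α ∧ γ ≫ h = β) :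
    ∃ W : U.Opens, u ∈ W ∧ Smooth (W.ι ≫ h) := by
  obtain ⟨V₀, hV₀, huV, -⟩ := exists_isAffineOpen_mem_and_subset (U := (⊤ : V.Opens)) (x := h u) trivial
  obtain ⟨U₀, hU₀, huU, hUV⟩ := exists_isAffineOpen_mem_and_subset (U := h ⁻¹ᵁ V₀) (x := u) huV
  let φ := h.appLE V₀ U₀ hUV
  letI : Algebra Γ(V, V₀) Γ(U, U₀) := φ.hom.toAlgebra
  haveI : Algebra.FiniteType Γ(V, V₀) Γ(U, U₀) := h.finiteType_appLE hV₀ hU₀ hUV
  haveI : IsNoetherianRing Γ(V, V₀) := IsLocallyNoetherian.component_noetherian ⟨V₀, hV₀⟩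
  haveI := Groth.Agent.AlgStLib.locallyOfFinitePresentation_of_isLocallyNoetherian h ‹_›
  have hsm : Algebra.IsSmoothAt Γ(V, V₀) (hU₀.primeIdealOf ⟨u, huU⟩).asIdeal := by
    refine (Groth.Agent.S2060.result _).2 fun B' B _ _ _ _ _ _ _ _ π hπ ht g hg => ?_
    have hsq : Spec.map (CommRingCat.ofHom g.toRingHom) ≫ Spec.map φ =
        Spec.map (CommRingCat.ofHom π.toRingHom) ≫ Spec.map (CommRingCat.ofHom (algebraMap Γ(V, V₀) B')) := by
      rw [← Spec.map_comp, ← Spec.map_comp]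
      exact congrArg Spec.map (CommRingCat.hom_ext (g.comp_algebraMap.trans π.comp_algebraMap.symm))
    have hcl : Spec.map (CommRingCat.ofHom g.toRingHom) (IsLocalRing.closedPoint B) = hU₀.primeIdealOf ⟨u, huU⟩ :=
      PrimeSpectrum.ext hg
    obtain ⟨γ, hγ₁, hγ₂⟩ := H B' B π.toRingHom hπ ht
      (Spec.map (CommRingCat.ofHom g.toRingHom) ≫ hU₀.fromSpec)
      (Spec.map (CommRingCat.ofHom (algebraMap Γ(V, V₀) B')) ≫ hV₀.fromSpec)
      (((Scheme.Hom.comp_apply _ _ _).trans (congrArg hU₀.fromSpec hcl)).trans (hU₀.fromSpec_primeIdealOf ⟨u, huU⟩))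
      (by rw [Category.assoc, ← IsAffineOpen.SpecMap_appLE_fromSpec h hV₀ hU₀ hUV, reassoc_of% hsq])
    have hrange : Set.range γ ⊆ Set.range hU₀.fromSpec := by
      rintro _ ⟨p, rfl⟩
      have hsp : p ⤳ Spec.map (CommRingCat.ofHom π.toRingHom) (IsLocalRing.closedPoint B) := by
        haveI : Nontrivial B := inferInstance
        haveI : IsLocalHom π.toRingHom := IsLocalHom.of_surjective _ hπ
        rw [show Spec.map (CommRingCat.ofHom π.toRingHom) (IsLocalRing.closedPoint B) = IsLocalRing.closedPoint B'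
          from IsLocalRing.comap_closedPoint _]
        exact IsLocalRing.specializes_closedPoint p
      refine (hsp.map γ.continuous).mem_open hU₀.fromSpec.isOpenEmbedding.isOpen_range ?_
      exact ⟨_, (Scheme.Hom.comp_apply _ _ _).symm.trans ((congrArg (fun m => m.base (IsLocalRing.closedPoint B)) hγ₁).symm.trans
        (Scheme.Hom.comp_apply _ _ _))⟩
    obtain ⟨m, hm⟩ := Spec.map_surjective (IsOpenImmersion.lift hU₀.fromSpec γ hrange)
    have hm' : Spec.map m ≫ hU₀.fromSpec = γ := by rw [hm, IsOpenImmersion.lift_fac]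
    have hc : φ ≫ m = CommRingCat.ofHom (algebraMap Γ(V, V₀) B') := by
      refine Spec.map_injective ?_
      rw [← cancel_mono hV₀.fromSpec, ← hγ₂, Spec.map_comp, Category.assoc,
        IsAffineOpen.SpecMap_appLE_fromSpec h hV₀ hU₀ hUV, reassoc_of% hm']
    refine ⟨⟨m.hom, fun c => DFunLike.congr_fun (congrArg CommRingCat.Hom.hom hc) c⟩, ?_⟩
    refine AlgHom.coe_ringHom_injective ?_
    have h3 : m ≫ CommRingCat.ofHom π.toRingHom = CommRingCat.ofHom g.toRingHom := by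
      refine Spec.map_injective ?_
      rw [← cancel_mono hU₀.fromSpec, Spec.map_comp, Category.assoc, hm', hγ₁]
    exact congrArg CommRingCat.Hom.hom h3
  have hu : u ∈ h.smoothLocus :=
    Scheme.Hom.mem_smoothLocus.2 ((formallySmooth_stalkMap_iff V₀ hV₀ U₀ hU₀ hUV huU).2 hsm)
  refine ⟨h.smoothLocus, hu, ?_⟩
  rw [← Scheme.Hom.smoothLocus_eq_top_iff, ← Scheme.Hom.preimage_smoothLocus_eq]
  exact TopologicalSpace.Opens.ext (Set.eq_univ_of_forall fun x => x.2)

/-- A morphism smooth at a point lifts local square-zero problems at the point. -/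
theorem exists_lift_of_smoothAt {X Y : Space S} (f : X.obj ⟶ Y.obj) {x : Points X.obj}
    (hx : HasAtMor (fun U _ h u => ∃ W : U.Opens, u ∈ W ∧ Smooth (W.ι ≫ h)) f x)
    {B' B : Type u} [CommRing B'] [CommRing B] [IsLocalRing B] {π : B' →+* B} (hπ : Function.Surjective π)
    (hker : RingHom.ker π ^ 2 = ⊥) (s : Spec (CommRingCat.of B') ⟶ S)
    (α : (yon S).obj (Over.mk (Spec.map (CommRingCat.ofHom π) ≫ s)) ⟶ X.obj) (β : (yon S).obj (Over.mk s) ⟶ Y.obj)
    (hα : Points.ofPt α (IsLocalRing.closedPoint B) = x) (w : α ≫ f = (yon S).map (incl s π) ≫ β) :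
    ∃ γ : (yon S).obj (Over.mk s) ⟶ X.obj, (yon S).map (incl s π) ≫ γ = α ∧ γ ≫ f = β := by
  obtain ⟨U, V, a, b, h, u, ha, hb, hw, hu, W, huW, hWs⟩ := hx
  let ι : Over.mk (W.ι ≫ U.hom) ⟶ U := Over.homMk W.ι rfl
  have hι : RepWith @Etale ((yon S).map ι ≫ a) :=
    repWith_comp ((repWith_yon_map_iff _ ι).2 (inferInstanceAs (Etale W.ι))) ha
  have hop : IsOpen (Set.range (Points.ofPt ((yon S).map ι ≫ a))) := (isOpenMap_ofPt hι).isOpen_range
  obtain ⟨X', j, hX', hj, hjr⟩ := exists_open_subspace X.property hop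
  obtain ⟨Q, p, q, sqQ, hq⟩ : ∃ (Q : Over S) (p : (yon S).obj Q ⟶ X') (q : Q ⟶ Over.mk (W.ι ≫ U.hom)),
      IsPullback p ((yon S).map q) j ((yon S).map ι ≫ a) ∧ IsOpenImmersion q.left :=
    ⟨_, _, _, hj.rep.isPullback _, hj.property_snd _⟩
  have hp : RepWith @Etale p := repWith_of_isPullback sqQ.flip hι
  have hps : RepWith @Surjective p := (repWith_surjective_iff hp.rep).2 fun z => by
    obtain ⟨t, ht⟩ : Points.map j z ∈ Set.range (Points.ofPt ((yon S).map ι ≫ a)) := hjr ▸ ⟨z, rfl⟩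
    obtain ⟨v, hv₁, hv₂⟩ := exists_lift sqQ ht.symm
    exact ⟨Points.ofScheme Q v, (Points.ofPt_eq_map_ofScheme p v).symm.trans hv₁⟩
  have hsm : LocP @Smooth (j ≫ f) := by
    refine locP_of_chart hp hps hb (h := q ≫ ι ≫ h) ?_ ?_
    · rw [reassoc_of% sqQ.w, hw, Functor.map_comp, Functor.map_comp, Category.assoc, Category.assoc]
    · show Smooth (q.left ≫ W.ι ≫ h.left)
      infer_instance
  obtain ⟨α', hα'⟩ : ∃ α' : (yon S).obj (Over.mk (Spec.map (CommRingCat.ofHom π) ≫ s)) ⟶ X', α' ≫ j = α := by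
    obtain ⟨T', n, n', sqn, hn⟩ : ∃ (T' : Over S) (n : (yon S).obj T' ⟶ X')
        (n' : T' ⟶ Over.mk (Spec.map (CommRingCat.ofHom π) ≫ s)),
        IsPullback n ((yon S).map n') j α ∧ IsOpenImmersion n'.left :=
      ⟨_, _, _, hj.rep.isPullback _, hj.property_snd _⟩
    have hcl : IsLocalRing.closedPoint B ∈ Set.range n'.left := by
      obtain ⟨z, hz⟩ : x ∈ Set.range (Points.map j) :=
        hjr.symm ▸ ⟨(⟨u, huW⟩ : ↥(W : Scheme.{u})), (ofPt_comp ι a _).trans hu⟩
      obtain ⟨v, -, hv⟩ := exists_lift sqn (hz.trans hα.symm)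
      exact ⟨v, hv⟩
    have hsurj : Set.univ ⊆ Set.range n'.left := fun p _ =>
      (IsLocalRing.specializes_closedPoint (R := B) p).mem_open n'.left.isOpenEmbedding.isOpen_range hcl
    haveI : IsIso n'.left := (isIso_iff_isOpenImmersion_and_epi_base n'.left).2 ⟨hn, by
      rw [TopCat.epi_iff_surjective]; exact fun p => hsurj (Set.mem_univ p)⟩
    haveI : IsIso ((Over.forget S).map n') := ‹IsIso n'.left›
    haveI : IsIso n' := isIso_of_reflects_iso n' (Over.forget S)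
    exact ⟨inv ((yon S).map n') ≫ n, by rw [Category.assoc, sqn.w, IsIso.inv_hom_id_assoc]⟩
  obtain ⟨γ, hγ₁, hγ₂⟩ := lift_infinitesimal hπ hker s
    (SmoothFormal.isFormallySmoothMor (X := ⟨X', hX'⟩) (j ≫ f) hsm) α' β (by rw [← Category.assoc, hα', w])
  exact ⟨γ ≫ j, by rw [← Category.assoc, hγ₁, hα'], by rw [Category.assoc, hγ₂]⟩

theorem smoothAt_iff {X Y : Space S} (f : X.obj ⟶ Y.obj) (hY : IsLocNoethSp Y.obj)
    (hft : LocP @LocallyOfFiniteType f) (x : Points X.obj) :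
    (HasAtMor (fun U _ h u => ∃ W : U.Opens, u ∈ W ∧ Smooth (W.ι ≫ h)) f x ↔
      ∀ (B' B : Type u) [CommRing B'] [CommRing B] [IsLocalRing B'] [IsLocalRing B] (π : B' →+* B),
        Function.Surjective π → RingHom.ker π ^ 2 = ⊥ →
        ∀ (s : Spec (CommRingCat.of B') ⟶ S)
          (α : (yon S).obj (Over.mk (Spec.map (CommRingCat.ofHom π) ≫ s)) ⟶ X.obj)
          (β : (yon S).obj (Over.mk s) ⟶ Y.obj),
          Points.ofPt α (IsLocalRing.closedPoint B) = x →
          α ≫ f = (yon S).map (incl s π) ≫ β →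
          ∃ γ : (yon S).obj (Over.mk s) ⟶ X.obj, (yon S).map (incl s π) ≫ γ = α ∧ γ ≫ f = β) ∧
    (HasAtMor (fun U _ h u => ∃ W : U.Opens, u ∈ W ∧ Smooth (W.ι ≫ h)) f x ↔
      ∀ (B' B : Type u) [CommRing B'] [CommRing B] [IsLocalRing B'] [IsLocalRing B]
        [IsArtinianRing B'] [IsArtinianRing B] (π : B' →+* B), Function.Surjective π →
        (∃ t : B', RingHom.ker π = Ideal.span {t} ∧ ∀ a ∈ IsLocalRing.maximalIdeal B', a * t = 0) →
        ∀ (s : Spec (CommRingCat.of B') ⟶ S)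
          (α : (yon S).obj (Over.mk (Spec.map (CommRingCat.ofHom π) ≫ s)) ⟶ X.obj)
          (β : (yon S).obj (Over.mk s) ⟶ Y.obj),
          Points.ofPt α (IsLocalRing.closedPoint B) = x →
          α ≫ f = (yon S).map (incl s π) ≫ β →
          ∃ γ : (yon S).obj (Over.mk s) ⟶ X.obj, (yon S).map (incl s π) ≫ γ = α ∧ γ ≫ f = β) := by
  have h12 : ∀ {B' B : Type u} [CommRing B'] [CommRing B] [IsLocalRing B] (π : B' →+* B),
      Function.Surjective π → RingHom.ker π ^ 2 = ⊥ →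
      HasAtMor (fun U _ h u => ∃ W : U.Opens, u ∈ W ∧ Smooth (W.ι ≫ h)) f x →
      ∀ (s : Spec (CommRingCat.of B') ⟶ S)
        (α : (yon S).obj (Over.mk (Spec.map (CommRingCat.ofHom π) ≫ s)) ⟶ X.obj)
        (β : (yon S).obj (Over.mk s) ⟶ Y.obj),
        Points.ofPt α (IsLocalRing.closedPoint B) = x → α ≫ f = (yon S).map (incl s π) ≫ β →
        ∃ γ : (yon S).obj (Over.mk s) ⟶ X.obj, (yon S).map (incl s π) ≫ γ = α ∧ γ ≫ f = β :=
    fun π hπ hk hx s α β hα w => exists_lift_of_smoothAt f hx hπ hk s α β hα w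
  obtain ⟨U, V, a, b, h, ha, ha', hb, -, w⟩ := exists_chart X.property Y.property f
  obtain ⟨u, hu⟩ := surjective_ofPt ha' x
  haveI : IsLocallyNoetherian V.left := isLocallyNoetherian_chart hb hY
  haveI : LocallyOfFiniteType h.left := hft a b h ha hb w
  have h31 : (∀ (B' B : Type u) [CommRing B'] [CommRing B] [IsLocalRing B'] [IsLocalRing B]
        [IsArtinianRing B'] [IsArtinianRing B] (π : B' →+* B), Function.Surjective π →
        (∃ t : B', RingHom.ker π = Ideal.span {t} ∧ ∀ a ∈ IsLocalRing.maximalIdeal B', a * t = 0) →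
        ∀ (s : Spec (CommRingCat.of B') ⟶ S)
          (α : (yon S).obj (Over.mk (Spec.map (CommRingCat.ofHom π) ≫ s)) ⟶ X.obj)
          (β : (yon S).obj (Over.mk s) ⟶ Y.obj),
          Points.ofPt α (IsLocalRing.closedPoint B) = x →
          α ≫ f = (yon S).map (incl s π) ≫ β →
          ∃ γ : (yon S).obj (Over.mk s) ⟶ X.obj, (yon S).map (incl s π) ≫ γ = α ∧ γ ≫ f = β) →
      HasAtMor (fun U _ h u => ∃ W : U.Opens, u ∈ W ∧ Smooth (W.ι ≫ h)) f x := fun H => by
    refine ⟨U, V, a, b, h, u, ha, hb, w, hu, exists_smooth_nhd h.left u fun B' B _ _ _ _ _ _ π hπ ht α β hαu hw => ?_⟩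
    exact exists_lift_chart ha hb w hπ (sq_ker_of_small ht) α β hw fun α' hα' hpt =>
      H B' B π hπ ht _ α' _ (by rw [hpt, hαu, hu]) hα'
  refine ⟨⟨fun hx B' B _ _ _ _ π hπ hk => h12 π hπ hk hx, fun H => h31 fun B' B _ _ _ _ _ _ π hπ ht =>
    H B' B π hπ (sq_ker_of_small ht)⟩, ⟨fun hx B' B _ _ _ _ _ _ π hπ ht => h12 π hπ (sq_ker_of_small ht) hx, h31⟩⟩

end Groth.Agent.AlgSpDec.SmoothCriteria
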