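import Groth.Agent.AlgSpDec.TorsorLift
import Groth.Agent.AlgSpDec.LqfQuot
import Groth.Agent.AlgSpDec.LqfSplitZ
import Groth.Agent.AlgSpDec.MonoRep
import Groth.Agent.AlgSpLib.InfLocal
import Groth.Agent.AlgSpLib.InfCharts
import Groth.Agent.S1488
import Mathlib.RingTheory.Smooth.Basic

/-!
# Smooth morphisms of algebraic spaces are formally smooth
-/

set_option autoImplicit false
set_option backward.isDefEq.respectTransparency false
set_option backward.isDefEq.respectTransparency.types false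

universe u

open CategoryTheory CategoryTheory.Limits AlgebraicGeometry AlgSp Groth.Agent.AlgSpLib Groth.Agent.AlgSpPts TensorProduct

namespace Groth.Agent.AlgSpDec.SmoothFormal

variable {S : Scheme.{u}} {A : Type u} [CommRing A] (str : Spec (CommRingCat.of A) ⟶ S)

/-- The spectrum of an algebra over `S`. -/
noncomputable abbrev pt (C : Type u) [CommRing C] [Algebra A C] : Over S :=
  Over.mk (Spec.map (CommRingCat.ofHom (algebraMap A C)) ≫ str)

/-- The structure map to the affine base. -/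
noncomputable abbrev toBase (C : Type u) [CommRing C] [Algebra A C] : pt str C ⟶ Over.mk str :=
  Over.homMk (Spec.map (CommRingCat.ofHom (algebraMap A C))) rfl

variable {C C' : Type u} [CommRing C] [Algebra A C] [CommRing C'] [Algebra A C']

/-- The map of spectra of a map of algebras. -/
noncomputable def mor (q : C →ₐ[A] C') : pt str C' ⟶ pt str C :=
  Over.homMk (Spec.map (CommRingCat.ofHom q.toRingHom)) (by
    show Spec.map _ ≫ Spec.map _ ≫ str = Spec.map _ ≫ str
    rw [← Category.assoc, ← Spec.map_comp, ← CommRingCat.ofHom_comp]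
    exact congrArg (fun r => Spec.map (CommRingCat.ofHom r) ≫ str) q.comp_algebraMap)

theorem mor_comp {C'' : Type u} [CommRing C''] [Algebra A C''] (q : C →ₐ[A] C') (q' : C' →ₐ[A] C'') :
    mor str (q'.comp q) = mor str q' ≫ mor str q :=
  Over.OverMorphism.ext (Spec.map_comp (CommRingCat.ofHom q.toRingHom) (CommRingCat.ofHom q'.toRingHom))

theorem mor_id : mor str (AlgHom.id A C) = 𝟙 _ := Over.OverMorphism.ext (Spec.map_id _)

theorem mor_toBase (q : C →ₐ[A] C') : mor str q ≫ toBase str C = toBase str C' := by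
  refine Over.OverMorphism.ext ?_
  show Spec.map _ ≫ Spec.map _ = Spec.map _
  rw [← Spec.map_comp, ← CommRingCat.ofHom_comp]
  exact congrArg (fun r => Spec.map (CommRingCat.ofHom r)) q.comp_algebraMap

theorem mor_injective {q q' : C →ₐ[A] C'} (h : mor str q = mor str q') : q = q' :=
  AlgHom.coe_ringHom_injective (congrArg CommRingCat.Hom.hom (Spec.map_injective (congrArg CommaMorphism.left h)))

theorem exists_mor (m : pt str C' ⟶ pt str C) (hm : m ≫ toBase str C = toBase str C') :
    ∃ q : C →ₐ[A] C', mor str q = m := by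
  obtain ⟨r, hr⟩ := Spec.map_surjective (m.left : Spec (CommRingCat.of C') ⟶ Spec (CommRingCat.of C))
  have hc : CommRingCat.ofHom (algebraMap A C) ≫ r = CommRingCat.ofHom (algebraMap A C') := by
    refine Spec.map_injective ?_
    rw [Spec.map_comp, hr]
    exact congrArg CommaMorphism.left hm
  exact ⟨⟨r.hom, fun a => DFunLike.congr_fun (congrArg CommRingCat.Hom.hom hc) a⟩, Over.OverMorphism.ext hr⟩

variable {R : Type u} [CommRing R] [Algebra A R] {P : Sp S} (π : P ⟶ (yon S).obj (Over.mk str))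
  (a : (yon S).obj (pt str R) ⟶ P) (ha : IsFormallyEtaleMor a) (hπ : a ≫ π = (yon S).map (toBase str R))

/-- The equivalence relation of an etale chart. -/
def chartRel : TorsorLift.EtRel A R where
  rel {_} _ _ w w' := (yon S).map (mor str w) ≫ a = (yon S).map (mor str w') ≫ a
  symm := Eq.symm
  trans := Eq.trans
  map {_ _} _ _ _ _ q {w w'} h := by
    rw [mor_comp, mor_comp, Functor.map_comp_assoc, Functor.map_comp_assoc, h]
  lift {C C'} _ _ _ _ q hq hker w w₀ h := by
    let e : C' →ₐ[A] C ⧸ RingHom.ker q := (Ideal.quotientKerAlgEquivOfSurjective hq).symm.toAlgHom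
    have he : e.comp q = Ideal.Quotient.mkₐ A (RingHom.ker q) := AlgHom.ext fun c => by
      show (Ideal.quotientKerAlgEquivOfSurjective hq).symm (q c) = _
      rw [AlgEquiv.symm_apply_eq]
      rfl
    let E₁ : Over.mk (Spec.map (CommRingCat.ofHom (Ideal.Quotient.mk (RingHom.ker q))) ≫
        Spec.map (CommRingCat.ofHom (algebraMap A C)) ≫ str) ⟶ pt str C' :=
      Over.homMk (Spec.map (CommRingCat.ofHom e.toRingHom)) (by
        show Spec.map _ ≫ Spec.map _ ≫ str = Spec.map _ ≫ Spec.map _ ≫ str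
        rw [← Category.assoc, ← Category.assoc, ← Spec.map_comp, ← Spec.map_comp]
        exact congrArg (fun r => Spec.map (CommRingCat.ofHom r) ≫ str) (e.comp_algebraMap.trans rfl))
    have hE : E₁ ≫ mor str q = Over.homMk (V := pt str C)
        (Spec.map (CommRingCat.ofHom (Ideal.Quotient.mk (RingHom.ker q)))) rfl := Over.OverMorphism.ext (by
      show Spec.map _ ≫ Spec.map _ = Spec.map _
      rw [← Spec.map_comp]
      exact congrArg (fun r : C →ₐ[A] C ⧸ RingHom.ker q => Spec.map (CommRingCat.ofHom r.toRingHom)) he)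
    let sq : InfSq a :=
      { A := C, I := RingHom.ker q, sq_zero := hker, str := Spec.map (CommRingCat.ofHom (algebraMap A C)) ≫ str
        top := (yon S).map (E₁ ≫ mor str w₀)
        bot := (yon S).map (mor str w) ≫ a
        comm := by
          refine Eq.trans ?_ (congrArg (fun m => (yon S).map m ≫ (yon S).map (mor str w) ≫ a) hE)
          show (yon S).map (E₁ ≫ mor str w₀) ≫ a = _
          rw [Functor.map_comp_assoc, Functor.map_comp_assoc, ← h, mor_comp, Functor.map_comp_assoc] }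
    obtain ⟨l, ⟨hl₁, hl₂⟩, hl⟩ := ha sq
    obtain ⟨m, rfl⟩ := (yon S).map_surjective l
    have hm : m ≫ toBase str R = toBase str C := (yon S).map_injective (by
      rw [Functor.map_comp, ← hπ, ← Category.assoc]
      refine (congrArg (· ≫ π) hl₂).trans ?_
      rw [Category.assoc, hπ]
      exact ((yon S).map_comp _ _).symm.trans (congrArg _ (mor_toBase str w)))
    obtain ⟨w', rfl⟩ := exists_mor str m hm
    have hkey : ∀ v : R →ₐ[A] C, ((yon S).map sq.j ≫ (yon S).map (mor str v) = sq.top) ↔ q.comp v = w₀ := by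
      intro v
      have h0 : (yon S).map sq.j ≫ (yon S).map (mor str v) = (yon S).map (E₁ ≫ mor str (q.comp v)) := by
        refine ((yon S).map_comp _ _).symm.trans (congrArg _ ?_)
        refine (congrArg (fun x => x ≫ mor str v) hE.symm).trans ?_
        rw [Category.assoc, mor_comp]
      constructor
      · intro hv
        have h2 := congrArg CommaMorphism.left ((yon S).map_injective (h0.symm.trans hv))
        have h3 : e.comp (q.comp v) = e.comp w₀ := AlgHom.coe_ringHom_injective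
          (congrArg CommRingCat.Hom.hom (Spec.map_injective
            (((Spec.map_comp _ _).trans h2).trans (Spec.map_comp _ _).symm)))
        exact AlgHom.ext fun r => (Ideal.quotientKerAlgEquivOfSurjective hq).symm.injective (DFunLike.congr_fun h3 r)
      · rintro rfl
        exact h0
    refine ⟨w', ⟨(hkey w').1 hl₁, hl₂.symm⟩, fun v hv => ?_⟩
    exact mor_injective str ((yon S).map_injective (hl _ ⟨(hkey v).2 hv.1, hv.2.symm⟩))

/-- An affine scheme over the affine base is the spectrum of an algebra. -/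
theorem exists_affine_model {X : Over S} [IsAffine X.left] (h : X ⟶ Over.mk str) :
    ∃ (R : Type u) (_ : CommRing R) (_ : Algebra A R) (e : pt str R ≅ X), e.hom ≫ h = toBase str R := by
  let φ : CommRingCat.of A ⟶ Γ(X.left, ⊤) := Spec.preimage (X.left.isoSpec.inv ≫ h.left)
  letI : Algebra A Γ(X.left, ⊤) := φ.hom.toAlgebra
  have hφ : Spec.map φ = X.left.isoSpec.inv ≫ h.left := Spec.map_preimage _
  have hw : X.left.isoSpec.inv ≫ X.hom =
      Spec.map (CommRingCat.ofHom (algebraMap A Γ(X.left, ⊤))) ≫ str := by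
    show _ = Spec.map φ ≫ str
    rw [hφ, Category.assoc]
    exact congrArg _ (Over.w h).symm
  refine ⟨Γ(X.left, ⊤), inferInstance, inferInstance, Over.isoMk X.left.isoSpec.symm hw,
    Over.OverMorphism.ext ?_⟩
  exact hφ.symm

/-- A smooth space over an affine base with a section over the thickened part has an affine etale chart
to which the section lifts over a faithfully flat algebra. -/
theorem exists_chart_data (I : Ideal A) (hI : I ^ 2 = ⊥) {P : Sp S} (hP : IsAlgSpace P)
    (π : P ⟶ (yon S).obj (Over.mk str)) (hπ : LocP @Smooth π)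
    (s : (yon S).obj (Over.mk (Spec.map (CommRingCat.ofHom (Ideal.Quotient.mk I)) ≫ str)) ⟶ P)
    (hs : s ≫ π = (yon S).map (Over.homMk (V := Over.mk str) (Spec.map (CommRingCat.ofHom (Ideal.Quotient.mk I))) rfl)) :
    ∃ (R B : Type u) (_ : CommRing R) (_ : Algebra A R) (_ : CommRing B) (_ : Algebra A B)
      (_ : Algebra.Smooth A R) (_ : Module.FaithfullyFlat A B) (_ : Etale (toBase str B).left)
      (a : (yon S).obj (pt str R) ⟶ P) (u : R →ₐ[A] B),
      IsFormallyEtaleMor a ∧ a ≫ π = (yon S).map (toBase str R) ∧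
      ∀ (C : Type u) [CommRing C] [Algebra A C] (β : B →ₐ[A] C)
        (z₁ : pt str C ⟶ Over.mk (Spec.map (CommRingCat.ofHom (Ideal.Quotient.mk I)) ≫ str)),
        z₁ ≫ Over.homMk (V := Over.mk str) (Spec.map (CommRingCat.ofHom (Ideal.Quotient.mk I))) rfl = toBase str C →
        (yon S).map (mor str (β.comp u)) ≫ a = (yon S).map z₁ ≫ s := by
  obtain ⟨U₀, p₀, hp₀, hp₀'⟩ := hP.atlas
  obtain ⟨h₀, hh₀⟩ := (yon S).map_surjective (p₀ ≫ π)
  have hid : RepWith @Etale (𝟙 ((yon S).obj (Over.mk str))) := AlgSp.repWith_id _ _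
  haveI hsm : Smooth h₀.left := hπ p₀ (𝟙 _) h₀ hp₀ hid (by rw [Category.comp_id, hh₀])
  let sq₀ : InfSq π :=
    { A := A, I := I, sq_zero := hI, str := str, top := s, bot := 𝟙 _
      comm := by rw [Category.comp_id]; exact hs }
  obtain ⟨ι, W₀, φ₀, hφ₀, hcov, hx⟩ := exists_local_lift (b := π) hp₀ hp₀'
    (hh₀ ▸ (formal_of_repWith _).1 ((repWith_yon_map_iff _ h₀).2 hsm)) sq₀
  choose x hxres hxπ using hx
  have hloc : ∀ t : ↥(Over.mk str).left, ∃ (O W : Over S) (σ : O ⟶ U₀) (ψ : W ⟶ Over.mk str) (v : W ⟶ O)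
      (i : ι) (r : W ⟶ W₀ i), IsAffine O.left ∧ IsAffine W.left ∧ IsOpenImmersion σ.left ∧ Etale ψ.left ∧
        t ∈ Set.range ψ.left ∧ ψ = r ≫ φ₀ i ∧ (yon S).map (v ≫ σ) ≫ p₀ = (yon S).map r ≫ x i := by
    intro t
    obtain ⟨i, w, hw⟩ := hcov t
    obtain ⟨Q, q₁, q₂, sqQ, hq₂, hq₂'⟩ : ∃ (Q : Over S) (q₁ : Q ⟶ U₀) (q₂ : Q ⟶ W₀ i),
        IsPullback ((yon S).map q₁) ((yon S).map q₂) p₀ (x i) ∧ Etale q₂.left ∧ Surjective q₂.left :=
      ⟨_, _, _, hp₀.rep.isPullback' (x i), hp₀.property_snd _, hp₀'.property _ _ _ (hp₀.rep.isPullback (x i))⟩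
    obtain ⟨q, hq⟩ := q₂.left.surjective w
    obtain ⟨O, hO, hqO, -⟩ := exists_isAffineOpen_mem_and_subset (U := (⊤ : U₀.left.Opens)) (x := q₁.left q) trivial
    obtain ⟨W, hW, hqW, hWO⟩ := exists_isAffineOpen_mem_and_subset (U := q₁.left ⁻¹ᵁ O) (x := q) hqO
    let ε : Over.mk (W.ι ≫ Q.hom) ⟶ Q := Over.homMk W.ι rfl
    let v : Over.mk (W.ι ≫ Q.hom) ⟶ Over.mk (O.ι ≫ U₀.hom) := Over.homMk (q₁.left.resLE O W hWO) (by
      show q₁.left.resLE O W hWO ≫ O.ι ≫ U₀.hom = W.ι ≫ Q.hom
      rw [Scheme.Hom.resLE_comp_ι_assoc, Over.w q₁])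
    have hv : v ≫ (Over.homMk O.ι rfl : Over.mk (O.ι ≫ U₀.hom) ⟶ U₀) = ε ≫ q₁ :=
      Over.OverMorphism.ext (Scheme.Hom.resLE_comp_ι _ _)
    refine ⟨Over.mk (O.ι ≫ U₀.hom), _, Over.homMk O.ι rfl, ε ≫ q₂ ≫ φ₀ i, v, i, ε ≫ q₂, hO, hW,
      inferInstanceAs (IsOpenImmersion O.ι), ?_, ⟨⟨q, hqW⟩, ?_⟩, (Category.assoc _ _ _).symm, ?_⟩
    · have := hq₂; have := hφ₀ i
      show Etale (W.ι ≫ q₂.left ≫ (φ₀ i).left)
      infer_instance
    · show (φ₀ i).left (q₂.left q) = t
      rw [hq]; exact hw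
    · rw [hv, Functor.map_comp, Functor.map_comp, Category.assoc, Category.assoc, sqQ.w]
  choose O W σ ψ v idx r hO hW hσ hψ ht hψr hv using hloc
  haveI : CompactSpace ↥(Over.mk str).left := inferInstanceAs (CompactSpace ↥(Spec (CommRingCat.of A)))
  obtain ⟨F, hF⟩ := (isCompact_univ (X := ↥(Over.mk str).left)).elim_finite_subcover
    (fun t => Set.range (ψ t).left) (fun t => have := hψ t; (ψ t).left.isOpenMap.isOpen_range)
    (fun t _ => Set.mem_iUnion.2 ⟨t, ht t⟩)
  let Os : Over S := sigmaOver fun t : ↥F => O t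
  let Ws : Over S := sigmaOver fun t : ↥F => W t
  haveI : ∀ t : ↥F, IsAffine (O t.1).left := fun t => hO t
  haveI : ∀ t : ↥F, IsAffine (W t.1).left := fun t => hW t
  haveI : IsAffine Os.left := inferInstanceAs (IsAffine (∐ fun t : ↥F => (O t.1).left))
  haveI : IsAffine Ws.left := inferInstanceAs (IsAffine (∐ fun t : ↥F => (W t.1).left))
  obtain ⟨sσ, hsσ⟩ : ∃ f : Os ⟶ U₀, ∀ t : ↥F, sigmaι (fun t : ↥F => O t) t ≫ f = σ t :=
    ⟨Over.homMk (Sigma.desc fun t : ↥F => (σ t).left) (Sigma.hom_ext _ _ fun t => by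
      rw [← Category.assoc, Sigma.ι_desc, Over.w (σ t)]
      exact (Sigma.ι_desc (fun t : ↥F => (O t).hom) t).symm), fun t =>
        Over.OverMorphism.ext (Sigma.ι_desc (fun t : ↥F => (σ t).left) t)⟩
  obtain ⟨sψ, hsψ⟩ : ∃ f : Ws ⟶ Over.mk str, ∀ t : ↥F, sigmaι (fun t : ↥F => W t) t ≫ f = ψ t :=
    ⟨Over.homMk (Sigma.desc fun t : ↥F => (ψ t).left) (Sigma.hom_ext _ _ fun t => by
      rw [← Category.assoc, Sigma.ι_desc, Over.w (ψ t)]
      exact (Sigma.ι_desc (fun t : ↥F => (W t).hom) t).symm), fun t =>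
        Over.OverMorphism.ext (Sigma.ι_desc (fun t : ↥F => (ψ t).left) t)⟩
  obtain ⟨sv, hsv⟩ : ∃ f : Ws ⟶ Os, ∀ t : ↥F,
      sigmaι (fun t : ↥F => W t) t ≫ f = v t ≫ sigmaι (fun t : ↥F => O t) t :=
    ⟨Over.homMk (Sigma.desc fun t : ↥F => (v t ≫ sigmaι (fun t : ↥F => O t) t).left) (Sigma.hom_ext _ _ fun t => by
      rw [← Category.assoc, Sigma.ι_desc, Over.w]
      exact (Sigma.ι_desc (fun t : ↥F => (W t).hom) t).symm), fun t =>
        Over.OverMorphism.ext (Sigma.ι_desc (fun t : ↥F => (v t ≫ sigmaι (fun t : ↥F => O t) t).left) t)⟩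
  have hσe : Etale sσ.left := by
    rw [IsZariskiLocalAtSource.iff_of_openCover (P := @Etale) (sigmaOpenCover fun t : ↥F => (O t).left)]
    intro (t : ↥F)
    show Etale ((sigmaι (fun t : ↥F => O t) t).left ≫ sσ.left)
    rw [← Over.comp_left, hsσ]
    have := hσ t
    infer_instance
  have hψe : Etale sψ.left := by
    rw [IsZariskiLocalAtSource.iff_of_openCover (P := @Etale) (sigmaOpenCover fun t : ↥F => (W t).left)]
    intro (t : ↥F)
    show Etale ((sigmaι (fun t : ↥F => W t) t).left ≫ sψ.left)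
    rw [← Over.comp_left, hsψ]
    exact hψ t
  have hψs : Surjective sψ.left := ⟨fun y => by
    obtain ⟨t, htF, w, hw⟩ := Set.mem_iUnion₂.1 (hF (Set.mem_univ y))
    refine ⟨(sigmaι (fun t : ↥F => W t) ⟨t, htF⟩).left w, ?_⟩
    rw [← Scheme.Hom.comp_apply, ← Over.comp_left, hsψ]
    exact hw⟩
  have hvw : sv ≫ sσ ≫ h₀ = sψ := by
    refine (yon S).map_injective (hom_ext_sigma _ fun t => ?_)
    rw [← Functor.map_comp, ← Functor.map_comp, reassoc_of% (hsv t), reassoc_of% (hsσ t), hsψ, hψr,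
      ← Category.assoc, Functor.map_comp _ (v t ≫ σ t), hh₀, reassoc_of% (hv t), hxπ, Functor.map_comp]
    show (yon S).map (r t) ≫ (yon S).map (φ₀ (idx t)) ≫ 𝟙 _ = _
    rw [Category.comp_id]
  obtain ⟨R, iR, iRA, eR, heR⟩ := exists_affine_model str (sσ ≫ h₀)
  obtain ⟨B, iB, iBA, eB, heB⟩ := exists_affine_model str sψ
  obtain ⟨u, hu⟩ := exists_mor str (eB.hom ≫ sv ≫ eR.inv) (by
    rw [← heR, Category.assoc, Category.assoc, Iso.inv_hom_id_assoc, hvw, heB])
  have hRsm : Smooth (toBase str R).left := by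
    rw [← heR]
    have : IsIso eR.hom.left := inferInstanceAs (IsIso ((Over.forget S).map eR.hom))
    show Smooth (eR.hom.left ≫ sσ.left ≫ h₀.left)
    infer_instance
  have : IsIso eB.hom.left := inferInstanceAs (IsIso ((Over.forget S).map eB.hom))
  have hBet : Etale (toBase str B).left := by
    rw [← heB]; show Etale (eB.hom.left ≫ sψ.left); infer_instance
  have hBs : Surjective (toBase str B).left := by
    rw [← heB]; show Surjective (eB.hom.left ≫ sψ.left); infer_instance
  have hR : Algebra.Smooth A R := by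
    have : (algebraMap A R).Smooth :=
      (HasRingHomProperty.Spec_iff (P := @Smooth) (φ := CommRingCat.ofHom (algebraMap A R))).1 hRsm
    rwa [RingHom.smooth_algebraMap] at this
  have hB : Module.FaithfullyFlat A B := by
    have hfl : Flat (Spec.map (CommRingCat.ofHom (algebraMap A B))) := inferInstanceAs (Flat (toBase str B).left)
    have := (flat_and_surjective_SpecMap_iff (CommRingCat.ofHom (algebraMap A B))).1 ⟨hfl, hBs⟩
    rwa [CommRingCat.hom_ofHom, RingHom.faithfullyFlat_algebraMap_iff] at this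
  refine ⟨R, B, iR, iRA, iB, iBA, hR, hB, hBet, (yon S).map (eR.hom ≫ sσ) ≫ p₀, u, ?_, ?_, ?_⟩
  · refine (formal_of_repWith _).2.1 (repWith_comp ((repWith_yon_map_iff _ _).2 ?_) hp₀)
    have : IsIso eR.hom.left := inferInstanceAs (IsIso ((Over.forget S).map eR.hom))
    show Etale (eR.hom.left ≫ sσ.left)
    infer_instance
  · rw [Category.assoc, ← hh₀, ← Functor.map_comp, Category.assoc, heR]
  · intro C _ _ β z₁ hz₁
    let z : pt str C ⟶ Ws := mor str β ≫ eB.hom
    have hzψ : z ≫ sψ = toBase str C := by rw [Category.assoc, heB, mor_toBase]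
    have hmor : mor str (β.comp u) ≫ eR.hom ≫ sσ = z ≫ sv ≫ sσ := by
      rw [mor_comp, hu]; simp [z]
    rw [← Category.assoc, ← Functor.map_comp, hmor]
    refine hom_ext_of_openCover (Scheme.openCoverOfIsOpenCover (pt str C).left
      (fun t : ↥F => z.left ⁻¹ᵁ ((sigmaι (fun t : ↥F => W t) t).left.opensRange))
      (.mk (top_unique fun c _ => ?_))) _ _ fun (t : ↥F) => ?_
    · obtain ⟨t, w, hw⟩ := exists_sigmaι (fun t : ↥F => W t) (z.left c)
      exact TopologicalSpace.Opens.mem_iSup.2 ⟨t, w, hw⟩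
    let N : (pt str C).left.Opens := z.left ⁻¹ᵁ ((sigmaι (fun t : ↥F => W t) t).left.opensRange)
    let k : Over.mk (N.ι ≫ (pt str C).hom) ⟶ pt str C := Over.homMk N.ι rfl
    change (yon S).map k ≫ _ = (yon S).map k ≫ _
    obtain ⟨m, hm⟩ := exists_factor_openImm (sigmaι (fun t : ↥F => W t) t) (k ≫ z) fun p => p.2
    refine hom_ext_of_affines _ _ fun D pD => ?_
    let d : Over.mk (pD ≫ N.ι ≫ (pt str C).hom) ⟶ Over.mk (N.ι ≫ (pt str C).hom) := Over.homMk pD rfl
    change (yon S).map d ≫ (yon S).map k ≫ _ = (yon S).map d ≫ (yon S).map k ≫ _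
    have e1 : d ≫ k ≫ z ≫ sv ≫ sσ = (d ≫ m) ≫ v t ≫ σ t := by
      rw [← reassoc_of% hm, reassoc_of% (hsv t), hsσ, Category.assoc]
    have e2 : ((d ≫ m) ≫ r t) ≫ φ₀ (idx t) = (d ≫ k ≫ z₁) ≫ sq₀.j := by
      rw [Category.assoc, ← hψr, ← hsψ, Category.assoc, reassoc_of% hm, hzψ, Category.assoc, Category.assoc]
      exact congrArg (fun x => d ≫ k ≫ x) hz₁.symm
    rw [← Functor.map_comp_assoc, ← Functor.map_comp_assoc, ← Functor.map_comp_assoc, ← Functor.map_comp_assoc,
      Category.assoc d k, Category.assoc d k, e1, Functor.map_comp_assoc, hv, ← Functor.map_comp_assoc]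
    exact hxres (idx t) D _ _ _ e2

/-- A section over the thickened part of a smooth space over an affine scheme extends. -/
theorem exists_section (I : Ideal A) (hI : I ^ 2 = ⊥) {P : Sp S} (hP : IsAlgSpace P)
    (π : P ⟶ (yon S).obj (Over.mk str)) (hπ : LocP @Smooth π)
    (s : (yon S).obj (Over.mk (Spec.map (CommRingCat.ofHom (Ideal.Quotient.mk I)) ≫ str)) ⟶ P)
    (hs : s ≫ π = (yon S).map (Over.homMk (V := Over.mk str) (Spec.map (CommRingCat.ofHom (Ideal.Quotient.mk I))) rfl)) :
    ∃ g : (yon S).obj (Over.mk str) ⟶ P, g ≫ π = 𝟙 _ ∧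
      (yon S).map (Over.homMk (V := Over.mk str) (Spec.map (CommRingCat.ofHom (Ideal.Quotient.mk I))) rfl) ≫ g = s := by
  obtain ⟨R, B, iR, iRA, iB, iBA, hR, hB, hBet, a, u, ha, haπ, hres⟩ := exists_chart_data str I hI hP π hπ s hs
  haveI : Algebra.FinitePresentation A R := hR.finitePresentation
  let J := I.map (algebraMap A (B ⊗[A] B))
  let z₁ : pt str ((B ⊗[A] B) ⧸ J) ⟶ Over.mk (Spec.map (CommRingCat.ofHom (Ideal.Quotient.mk I)) ≫ str) :=
    Over.homMk (Spec.map (CommRingCat.ofHom (Ideal.quotientMap J (algebraMap A (B ⊗[A] B)) Ideal.le_comap_map))) (by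
      show Spec.map _ ≫ Spec.map _ ≫ str = Spec.map _ ≫ str
      rw [← Category.assoc, ← Spec.map_comp]
      rfl)
  have hz₁ : z₁ ≫ Over.homMk (V := Over.mk str) (Spec.map (CommRingCat.ofHom (Ideal.Quotient.mk I))) rfl =
      toBase str _ := Over.OverMorphism.ext (by
    show Spec.map _ ≫ Spec.map _ = Spec.map _
    rw [← Spec.map_comp]
    rfl)
  have hu : (chartRel str π a ha haπ).rel ((Ideal.Quotient.mkₐ A J).comp (Algebra.TensorProduct.includeRight.comp u))
      ((Ideal.Quotient.mkₐ A J).comp (Algebra.TensorProduct.includeLeft.comp u)) :=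
    (hres _ ((Ideal.Quotient.mkₐ A J).comp Algebra.TensorProduct.includeRight) z₁ hz₁).trans
      (hres _ ((Ideal.Quotient.mkₐ A J).comp Algebra.TensorProduct.includeLeft) z₁ hz₁).symm
  obtain ⟨u', hu', hrel⟩ := TorsorLift.exists_corrected (chartRel str π a ha haπ) I hI u hu
  have sq : IsPullback ((yon S).map (mor str (Algebra.TensorProduct.includeLeft : B →ₐ[A] B ⊗[A] B)))
      ((yon S).map (mor str (Algebra.TensorProduct.includeRight : B →ₐ[A] B ⊗[A] B)))
      ((yon S).map (toBase str B)) ((yon S).map (toBase str B)) := by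
    refine IsPullback.map (yon S) (IsPullback.of_map (Over.forget S) ?_ ?_)
    · rw [mor_toBase, mor_toBase]
    · exact isPullback_SpecMap_of_isPushout _ _ _ _ (CommRingCat.isPushout_tensorProduct A B B)
  haveI : Surjective (toBase str B).left :=
    ((flat_and_surjective_SpecMap_iff (CommRingCat.ofHom (algebraMap A B))).2
      ((RingHom.faithfullyFlat_algebraMap_iff).2 hB)).2
  haveI : Sheaf.IsLocallySurjective ((yon S).map (toBase str B)) :=
    isLocallySurjective_of_etale_surjective ((repWith_yon_map_iff _ _).2 hBet)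
      ((repWith_yon_map_iff _ _).2 ‹Surjective (toBase str B).left›)
  have hker : (yon S).map (mor str (Algebra.TensorProduct.includeLeft : B →ₐ[A] B ⊗[A] B)) ≫ (yon S).map (mor str u') ≫ a =
      (yon S).map (mor str (Algebra.TensorProduct.includeRight : B →ₐ[A] B ⊗[A] B)) ≫ (yon S).map (mor str u') ≫ a := by
    rw [← Functor.map_comp_assoc, ← Functor.map_comp_assoc, ← mor_comp, ← mor_comp]
    exact hrel.symm
  obtain ⟨g, hg⟩ := exists_desc_of_kernelPair sq _ hker
  haveI : Epi ((yon S).map (toBase str B)) := Sheaf.epi_of_isLocallySurjective _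
  have hgπ : g ≫ π = 𝟙 _ := by
    rw [← cancel_epi ((yon S).map (toBase str B)), ← Category.assoc, hg, Category.assoc, haπ, Category.comp_id,
      ← Functor.map_comp, mor_toBase]
  refine ⟨g, hgπ, ?_⟩
  let j : Over.mk (Spec.map (CommRingCat.ofHom (Ideal.Quotient.mk I)) ≫ str) ⟶ Over.mk str :=
    Over.homMk (Spec.map (CommRingCat.ofHom (Ideal.Quotient.mk I))) rfl
  have sqZ := (IsPullback.of_hasPullback (toBase str B) j).map (Over.forget S)
  haveI : Etale (pullback.snd (toBase str B) j).left :=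
    MorphismProperty.of_isPullback (P := @Etale) sqZ hBet
  haveI : Surjective (pullback.snd (toBase str B) j).left :=
    MorphismProperty.of_isPullback (P := @Surjective) sqZ ‹_›
  refine hom_ext_of_fppf (pullback.snd (toBase str B) j) (fppf_of_etale _) _ _ ?_
  refine hom_ext_of_affines _ _ fun D pD => ?_
  let d : Over.mk (pD ≫ (pullback (toBase str B) j).hom) ⟶ pullback (toBase str B) j := Over.homMk pD rfl
  change (yon S).map d ≫ _ = (yon S).map d ≫ _
  obtain ⟨ρ, hρ⟩ := Spec.map_surjective (d ≫ pullback.fst (toBase str B) j ≫ toBase str B).left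
  letI : Algebra A D := ρ.hom.toAlgebra
  have hD : pD ≫ (pullback (toBase str B) j).hom = Spec.map (CommRingCat.ofHom (algebraMap A D)) ≫ str := by
    show _ = Spec.map ρ ≫ str
    rw [hρ]
    exact (Over.w (d ≫ pullback.fst (toBase str B) j ≫ toBase str B)).symm
  let e : pt str D ⟶ Over.mk (pD ≫ (pullback (toBase str B) j).hom) :=
    Over.homMk (𝟙 _) (by show 𝟙 _ ≫ _ = _; rw [Category.id_comp]; exact hD)
  haveI : IsIso ((Over.forget S).map e) := inferInstanceAs (IsIso (𝟙 (Spec D)))
  haveI : IsIso e := isIso_of_reflects_iso e (Over.forget S)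
  rw [← cancel_epi ((yon S).map e)]
  obtain ⟨β, hβ⟩ := exists_mor str (e ≫ d ≫ pullback.fst (toBase str B) j) (Over.OverMorphism.ext (by
    show (𝟙 _ ≫ (d ≫ pullback.fst (toBase str B) j).left) ≫ (toBase str B).left = Spec.map ρ
    rw [Category.id_comp, hρ]; rfl))
  have hz : (e ≫ d ≫ pullback.snd (toBase str B) j) ≫ j = toBase str D := by
    simp only [Category.assoc, ← pullback.condition]
    rw [← reassoc_of% hβ, mor_toBase]
  have h0 : ∀ b ∈ I.map (algebraMap A B), β b = 0 := by
    obtain ⟨k, hk⟩ := Spec.map_surjective ((e ≫ d ≫ pullback.snd (toBase str B) j).left :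
      Spec D ⟶ Spec (CommRingCat.of (A ⧸ I)))
    have hAD : CommRingCat.ofHom (Ideal.Quotient.mk I) ≫ k = ρ := by
      refine Spec.map_injective ?_
      rw [Spec.map_comp, hk]
      exact congrArg CommaMorphism.left hz
    intro b hb
    suffices h : I.map (algebraMap A B) ≤ RingHom.ker β from h hb
    refine Ideal.map_le_iff_le_comap.2 fun x hx => ?_
    show β (algebraMap A B x) = 0
    rw [AlgHom.commutes]
    show ρ.hom x = 0
    rw [← hAD, CommRingCat.hom_comp, RingHom.comp_apply, CommRingCat.hom_ofHom, Ideal.Quotient.eq_zero_iff_mem.2 hx,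
      map_zero]
  have hβu : β.comp u' = β.comp u := AlgHom.ext fun r => by
    show β (u' r) = β (u r)
    rw [← sub_eq_zero, ← map_sub]
    exact h0 _ (hu' r)
  have key := hres D β _ hz
  rw [← hβu, mor_comp, Functor.map_comp_assoc, hβ] at key
  simp only [Functor.map_comp, Category.assoc] at key ⊢
  refine Eq.trans ?_ key
  rw [← hg, ← Functor.map_comp_assoc ((yon S)) (pullback.fst (toBase str B) j), pullback.condition,
    Functor.map_comp, Category.assoc]

theorem isFormallySmoothMor {X Y : Space S} (f : X.obj ⟶ Y.obj) (hf : LocP @Smooth f) :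
    IsFormallySmoothMor f := by
  intro sq
  have hP : IsAlgSpace (pullback f sq.bot) :=
    isAlgSpace_pullback X.property (IsAlgSpace.yon_obj _) Y.property f sq.bot
  have hπ : LocP @Smooth (pullback.snd f sq.bot) :=
    locP_of_isPullback (IsPullback.of_hasPullback f sq.bot) X.property Y.property (IsAlgSpace.yon_obj _) hf
  obtain ⟨g, hg₁, hg₂⟩ := exists_section sq.str sq.I sq.sq_zero hP (pullback.snd f sq.bot) hπ
    (pullback.lift sq.top ((yon S).map sq.j) sq.comm) (pullback.lift_snd _ _ _)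
  refine ⟨g ≫ pullback.fst f sq.bot, ?_, ?_⟩
  · rw [← Category.assoc]
    exact (congrArg (· ≫ pullback.fst f sq.bot) hg₂).trans (pullback.lift_fst _ _ _)
  · rw [Category.assoc, pullback.condition, ← Category.assoc, hg₁, Category.id_comp]

theorem isFormallySmoothHom_of_isFormallySmoothMor {U V : Over S} {h : U ⟶ V}
    (hh : IsFormallySmoothMor ((yon S).map h)) : MoreMor.IsFormallySmoothHom h.left := by
  intro C _ J hJ a b w
  obtain ⟨t, β, ht, hβ, hw⟩ := exists_infSq_yon h J hJ a b w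
  let sq : InfSq ((yon S).map h) :=
    { A := C, I := J, sq_zero := hJ, str := b ≫ V.hom, top := (yon S).map t, bot := (yon S).map β, comm := hw }
  obtain ⟨l, hl₁, hl₂⟩ := hh sq
  obtain ⟨m, rfl⟩ := (yon S).map_surjective l
  refine ⟨m.left, ?_, ?_⟩
  · rw [← ht]
    exact congrArg CommaMorphism.left ((yon S).map_injective (((yon S).map_comp _ _).trans hl₁))
  · rw [← hβ]
    exact congrArg CommaMorphism.left ((yon S).map_injective (((yon S).map_comp _ _).trans hl₂))

theorem isFormallySmoothHom_chart {X Y : Space S} {f : X.obj ⟶ Y.obj} (hf : IsFormallySmoothMor f) {U V : Over S}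
    {a : (yon S).obj U ⟶ X.obj} {b : (yon S).obj V ⟶ Y.obj} {h : U ⟶ V} (ha : RepWith @Etale a)
    (hb : RepWith @Etale b) (w : a ≫ f = (yon S).map h ≫ b) : MoreMor.IsFormallySmoothHom h.left :=
  isFormallySmoothHom_of_isFormallySmoothMor (isFormallySmoothMor_of_etale_square (IsAlgSpace.yon_obj U)
    (IsAlgSpace.yon_obj V) f hf a b (isEtaleMor_of_repWith ha) (isEtaleMor_of_repWith hb) _ w.symm)

theorem smooth_iff {X Y : Space S} (f : X.obj ⟶ Y.obj) :
    LocP @Smooth f ↔ LocP @LocallyOfFinitePresentation f ∧ IsFormallySmoothMor f := by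
  refine ⟨fun h => ⟨fun U V a b g ha hb w => ((Groth.Agent.S1488.result g.left).1 (h a b g ha hb w)).1,
    isFormallySmoothMor f h⟩, fun ⟨h1, h2⟩ U V a b g ha hb w => ?_⟩
  exact (Groth.Agent.S1488.result g.left).2 ⟨h1 a b g ha hb w, isFormallySmoothHom_chart h2 ha hb w⟩

end Groth.Agent.AlgSpDec.SmoothFormal
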