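import Groth.Agent.AlgSpDec.ElemNbhd
import Groth.Agent.AlgSpDec.AffineClassQuot
import Groth.Agent.AlgSpDec.EtaleBdd
import Groth.Agent.AlgSpDec.LimOpen
import Groth.Agent.DescLib.SepSurj

/-!
# Symmetric powers of an etale chart and the loci where it has many geometric lifts
-/

set_option backward.isDefEq.respectTransparency false
set_option backward.isDefEq.respectTransparency.types false

noncomputable section

universe u

open CategoryTheory Limits Opposite AlgebraicGeometry AlgSp Groth.Agent.AlgSpLib Groth.Agent.AlgSpPts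
  Groth.Agent.AlgSpDec.ElemNbhd

namespace Groth.Agent.AlgSpDec.SymPower

variable {S : Scheme.{u}} {X : Sp S} {U : Over S} {a : (yon S).obj U ⟶ X}

/-- Where two maps to a chart with the same composite differ is open and closed. -/
theorem exists_apart_clopen (ha : RepWith @Etale a) [IsSeparated (ha.rep.snd a).left] {P : Over S} (x y : P ⟶ U)
    (h : (yon S).map x ≫ a = (yon S).map y ≫ a) :
    ∃ O : P.left.Opens, IsClosed (O : Set P.left) ∧ ∀ (T : Over S) (g : T ⟶ P),
      ((∀ t, g.left t ∈ O) → Nonempty ↥T.left → g ≫ x ≠ g ≫ y) ∧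
        ((∀ t, g.left t ∉ O) → g ≫ x = g ≫ y) := by
  have sq := ha.rep.isPullback' a
  obtain ⟨e, het, hes⟩ := exists_rel_lift sq (𝟙 U) (𝟙 U) rfl
  obtain ⟨l, hlx, hly⟩ := exists_rel_lift sq x y h
  have : Etale (ha.rep.snd a).left := ha.property_snd a
  have he : e.left ≫ (ha.rep.snd a).left = 𝟙 U.left := by rw [← Over.comp_left, hes]; rfl
  have hcomp : IsClosedImmersion (e.left ≫ (ha.rep.snd a).left) := by rw [he]; infer_instance
  have hcl : IsClosedImmersion e.left := IsClosedImmersion.of_comp _ (ha.rep.snd a).left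
  have hetc : Etale (e.left ≫ (ha.rep.snd a).left) := by rw [he]; infer_instance
  have : Etale e.left := Etale.of_comp _ (ha.rep.snd a).left
  have : IsOpenImmersion e.left := IsOpenImmersion.of_flat_of_mono _
  refine ⟨⟨(l.left ⁻¹' Set.range e.left)ᶜ,
    (e.left.isClosedEmbedding.isClosed_range.preimage l.left.continuous).isOpen_compl⟩,
    (e.left.isOpenEmbedding.isOpen_range.preimage l.left.continuous).isClosed_compl, fun T g => ⟨?_, ?_⟩⟩
  · intro hO ⟨t⟩ hxy
    have hge : g ≫ l = (g ≫ x) ≫ e := (yon S).map_injective (sq.hom_ext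
      (by rw [← Functor.map_comp, ← Functor.map_comp, Category.assoc, hlx, Category.assoc, het, Category.comp_id])
      (by rw [← Functor.map_comp, ← Functor.map_comp, Category.assoc, hly, Category.assoc, hes, Category.comp_id,
        hxy]))
    refine hO t ⟨(g ≫ x).left t, ?_⟩
    rw [← Scheme.Hom.comp_apply, ← Scheme.Hom.comp_apply g.left, ← Over.comp_left, ← Over.comp_left, hge]
  · intro hO
    obtain ⟨k, hk⟩ := exists_factor_openImm e (g ≫ l) fun t => not_not.1 (hO t)
    calc g ≫ x = (g ≫ l) ≫ ha.rep.fst' a := by rw [Category.assoc, hlx]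
      _ = (g ≫ l) ≫ ha.rep.snd a := by rw [← hk, Category.assoc, het, Category.assoc, hes]
      _ = g ≫ y := by rw [Category.assoc, hly]

/-- Lifts to a chart agree on a point if they agree after an extension. -/
theorem eq_of_comp_eq (ha : RepWith @Etale a) [IsSeparated (ha.rep.snd a).left] {T T' : Over S}
    [Subsingleton ↥T.left] [Nonempty ↥T'.left] (e : T' ⟶ T) (x y : T ⟶ U)
    (h : (yon S).map x ≫ a = (yon S).map y ≫ a) (he : e ≫ x = e ≫ y) : x = y := by
  obtain ⟨O, -, hO⟩ := exists_apart_clopen ha x y h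
  have h1 : ∀ t : T.left, t ∉ O := fun t ht =>
    (hO T' e).1 (fun t' => by rw [Subsingleton.elim (e.left t') t]; exact ht) ‹_› he
  simpa using (hO T (𝟙 T)).2 h1

/-- The point of a scheme as a map from the spectrum of the residue field. -/
def ptOver {T : Over S} (t : ↥T.left) : Over.mk (T.left.fromSpecResidueField t ≫ T.hom) ⟶ T :=
  Over.homMk (T.left.fromSpecResidueField t) rfl

instance {T : Over S} (t : ↥T.left) : Subsingleton ↥(Over.mk (T.left.fromSpecResidueField t ≫ T.hom)).left :=
  inferInstanceAs (Subsingleton ↥(Spec (T.left.residueField t)))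

instance {T : Over S} (t : ↥T.left) : Nonempty ↥(Over.mk (T.left.fromSpecResidueField t ≫ T.hom)).left :=
  inferInstanceAs (Nonempty ↥(Spec (T.left.residueField t)))

theorem ptOver_apply {T : Over S} (t : ↥T.left) (z : ↥(Over.mk (T.left.fromSpecResidueField t ≫ T.hom)).left) :
    (ptOver t).left z = t :=
  Scheme.fromSpecResidueField_apply _ _

variable (a) in
/-- The points with at least `n` different geometric lifts to the chart. -/
def locus (n : ℕ) : Set (Points X) :=
  {x | ∃ (T : Over S) (v : Fin n → (T ⟶ U)) (g : (yon S).obj T ⟶ X) (t : ↥T.left),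
    Subsingleton ↥T.left ∧ (∀ i, (yon S).map (v i) ≫ a = g) ∧ Function.Injective v ∧ Points.ofPt g t = x}

theorem locus_antitone : Antitone (locus a) := antitone_nat_of_succ_le fun n => by
  rintro x ⟨T, v, g, t, hT, hv, hinj, rfl⟩
  exact ⟨T, fun i => v i.castSucc, g, t, hT, fun i => hv _,
    hinj.comp (Fin.castSucc_injective n), rfl⟩

theorem locus_one (has : RepWith @Surjective a) : locus a 1 = Set.univ := by
  refine Set.eq_univ_of_forall fun x => ?_
  obtain ⟨u, rfl⟩ := surjective_ofPt has x
  refine ⟨_, fun _ => ptOver u, (yon S).map (ptOver u) ≫ a, Classical.arbitrary _, inferInstance, fun _ => rfl,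
    fun i j _ => Subsingleton.elim _ _, ?_⟩
  rw [ofPt_comp, ptOver_apply]

/-- Tuples of pointwise different elements of a chart over the space. -/
structure Tuples (ha : RepWith @Etale a) (n : ℕ) where
  W : Over S
  pr : Fin (n + 1) → (W ⟶ U)
  etale : Etale (pr 0).left
  sep : IsSeparated (pr 0).left
  qc : QuasiCompact (ha.rep.snd a).left → QuasiCompact (pr 0).left
  w : ∀ i, (yon S).map (pr i) ≫ a = (yon S).map (pr 0) ≫ a
  distinct : ∀ (T : Over S) (g : T ⟶ W), Subsingleton ↥T.left → Nonempty ↥T.left →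
    Function.Injective fun i => g ≫ pr i
  ext : ∀ {T : Over S} (l l' : T ⟶ W), (∀ i, l ≫ pr i = l' ≫ pr i) → l = l'
  lift : ∀ (T : Over S) (v : Fin (n + 1) → (T ⟶ U)),
    (∀ i, (yon S).map (v i) ≫ a = (yon S).map (v 0) ≫ a) →
    (∀ t : ↥T.left, Function.Injective fun i => ptOver t ≫ v i) → ∃ l : T ⟶ W, ∀ i, l ≫ pr i = v i

/-- Iterated fibre products of a chart with itself, with quasi-compactness. -/
theorem exists_power_qc (ha : RepWith @Etale a) [IsSeparated (ha.rep.snd a).left] (n : ℕ) :
    ∃ (P : Over S) (pr : Fin (n + 1) → (P ⟶ U)), Etale (pr 0).left ∧ IsSeparated (pr 0).left ∧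
      (QuasiCompact (ha.rep.snd a).left → QuasiCompact (pr 0).left) ∧
      (∀ i, (yon S).map (pr i) ≫ a = (yon S).map (pr 0) ≫ a) ∧
      ∀ (T : Over S) (v : Fin (n + 1) → (T ⟶ U)),
        (∀ i, (yon S).map (v i) ≫ a = (yon S).map (v 0) ≫ a) → ∃! l : T ⟶ P, ∀ i, l ≫ pr i = v i := by
  induction n with
  | zero =>
    refine ⟨U, fun _ => 𝟙 U, inferInstanceAs (Etale (𝟙 U.left)), inferInstanceAs (IsSeparated (𝟙 U.left)),
      fun _ => inferInstanceAs (QuasiCompact (𝟙 U.left)),
      fun i => rfl, fun T v _ => ⟨v 0, fun i => by rw [Category.comp_id, Fin.fin_one_eq_zero i], fun l hl => ?_⟩⟩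
    simpa using hl 0
  | succ n ih =>
    obtain ⟨P, pr, hpe, hps, hpq, hw, huniv⟩ := ih
    let R := ha.rep.pullback a
    let P' : Over S := pullback (pr 0) (ha.rep.snd a)
    let q : P' ⟶ P := pullback.fst _ _
    let r : P' ⟶ R := pullback.snd _ _
    let pr' : Fin (n + 2) → (P' ⟶ U) := Fin.snoc (fun i => q ≫ pr i) (r ≫ ha.rep.fst' a)
    have hc : ∀ i : Fin (n + 1), pr' (Fin.castSucc i) = q ≫ pr i := fun i =>
      Fin.snoc_castSucc (α := fun _ => P' ⟶ U) _ _ _
    have hl : pr' (Fin.last (n + 1)) = r ≫ ha.rep.fst' a := Fin.snoc_last (α := fun _ => P' ⟶ U) _ _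
    have h0 : pr' 0 = q ≫ pr 0 := hc 0
    have sq := ha.rep.isPullback' a
    have hse : Etale (ha.rep.snd a).left := ha.property_snd a
    have hsqq : IsPullback r.left q.left (ha.rep.snd a).left (pr 0).left :=
      (IsPullback.of_hasPullback (pr 0) (ha.rep.snd a)).flip.map (Over.forget S)
    have : Etale q.left := MorphismProperty.of_isPullback (P := @Etale) hsqq hse
    have : IsSeparated q.left := MorphismProperty.of_isPullback (P := @IsSeparated) hsqq ‹_›
    refine ⟨P', pr', ?_, ?_, fun hq => ?_, ?_, ?_⟩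
    · rw [h0]; exact inferInstanceAs (Etale (q.left ≫ (pr 0).left))
    · rw [h0]; exact inferInstanceAs (IsSeparated (q.left ≫ (pr 0).left))
    · have : QuasiCompact q.left := MorphismProperty.of_isPullback (P := @QuasiCompact) hsqq hq
      have := hpq hq
      rw [h0]; exact inferInstanceAs (QuasiCompact (q.left ≫ (pr 0).left))
    · intro i
      refine Fin.lastCases ?_ (fun j => ?_) i
      · rw [hl, h0, Functor.map_comp, Category.assoc, sq.w, ← Functor.map_comp_assoc,
          show r ≫ ha.rep.snd a = q ≫ pr 0 from pullback.condition.symm]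
      · rw [hc, h0, Functor.map_comp, Functor.map_comp, Category.assoc, Category.assoc, hw]
    · intro T v hv
      obtain ⟨l, hl₁, hl₂⟩ := huniv T (fun i => v (Fin.castSucc i)) (fun i => (hv _).trans (hv _).symm)
      obtain ⟨rr, hr1, hr2⟩ := exists_rel_lift sq (v (Fin.last _)) (v 0) (hv _)
      refine ⟨pullback.lift l rr ((hl₁ 0).trans hr2.symm), fun i => ?_, fun l' hl' => ?_⟩
      · refine Fin.lastCases ?_ (fun j => ?_) i
        · rw [hl, ← Category.assoc, pullback.lift_snd, hr1]
        · rw [hc, ← Category.assoc, pullback.lift_fst, hl₁]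
      · apply pullback.hom_ext
        · rw [pullback.lift_fst]
          exact hl₂ _ fun i => by rw [Category.assoc]; show l' ≫ q ≫ pr i = _; rw [← hc]; exact hl' _
        · rw [pullback.lift_snd]
          refine (yon S).map_injective (sq.hom_ext ?_ ?_)
          · rw [← Functor.map_comp, ← Functor.map_comp, Category.assoc, hr1]
            refine congrArg (yon S).map ?_
            show l' ≫ r ≫ ha.rep.fst' a = _
            rw [← hl]; exact hl' _
          · rw [← Functor.map_comp, ← Functor.map_comp, Category.assoc, hr2]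
            refine congrArg (yon S).map ?_
            show l' ≫ r ≫ ha.rep.snd a = _
            rw [show r ≫ ha.rep.snd a = q ≫ pr 0 from pullback.condition.symm, ← h0]
            exact hl' _

theorem nonempty_tuples (ha : RepWith @Etale a) [IsSeparated (ha.rep.snd a).left] (n : ℕ) :
    Nonempty (Tuples ha n) := by
  obtain ⟨P, pr, hpe, hps, hpq, hw, huniv⟩ := exists_power_qc ha n
  have hPext : ∀ {T : Over S} {l l' : T ⟶ P}, (∀ i, l ≫ pr i = l' ≫ pr i) → l = l' := fun {T l l'} h =>
    (huniv T (fun i => l ≫ pr i) fun i => by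
      rw [Functor.map_comp, Functor.map_comp, Category.assoc, Category.assoc, hw]).unique (fun _ => rfl)
      fun i => (h i).symm
  have key := fun p : Fin (n + 1) × Fin (n + 1) =>
    exists_apart_clopen ha (pr p.1) (pr p.2) ((hw _).trans (hw _).symm)
  choose O hOc hO using key
  let W : P.left.Opens := ⨅ p : {p : Fin (n + 1) × Fin (n + 1) // p.1 ≠ p.2}, O p.1
  have hWmem : ∀ z, z ∈ W ↔ ∀ p : {p : Fin (n + 1) × Fin (n + 1) // p.1 ≠ p.2}, z ∈ O p.1 := fun z => by
    rw [← SetLike.mem_coe, TopologicalSpace.Opens.coe_iInf, Set.mem_iInter]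
    rfl
  have hWc : IsClosed (W : Set P.left) := by
    rw [TopologicalSpace.Opens.coe_iInf]
    exact isClosed_iInter fun p => hOc p.1
  haveI : IsClosedImmersion W.ι := .of_isPreimmersion _ (by rw [Scheme.Opens.range_ι]; exact hWc)
  let j : Over.mk (W.ι ≫ P.hom) ⟶ P := Over.homMk W.ι rfl
  haveI : IsOpenImmersion j.left := inferInstanceAs (IsOpenImmersion W.ι)
  haveI : Mono j := (Over.forget S).mono_of_mono_map (inferInstanceAs (Mono W.ι))
  haveI := hpe
  haveI := hps
  refine ⟨{ W := Over.mk (W.ι ≫ P.hom), pr := fun i => j ≫ pr i,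
            etale := inferInstanceAs (Etale (W.ι ≫ (pr 0).left)),
            sep := inferInstanceAs (IsSeparated (W.ι ≫ (pr 0).left)),
            qc := fun hq => by
              have := hpq hq
              exact inferInstanceAs (QuasiCompact (W.ι ≫ (pr 0).left)),
            w := fun i => by simp only [Functor.map_comp, Category.assoc, hw],
            distinct := fun T g hT hne i k hik => ?_,
            ext := fun l l' h => (cancel_mono j).1 (hPext fun i => by
              simpa only [Category.assoc] using h i),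
            lift := fun T v hv hinj => ?_ }⟩
  · by_contra hne'
    refine (hO (i, k) T (g ≫ j)).1 (fun t => ?_) hne (by simpa only [Category.assoc] using hik)
    exact (hWmem _).1 (g.left t).2 ⟨(i, k), hne'⟩
  · obtain ⟨l, hl, -⟩ := huniv T v hv
    obtain ⟨l', hl'⟩ := exists_factor_openImm j l fun t => by
      show _ ∈ Set.range W.ι
      rw [Scheme.Opens.range_ι]
      refine (hWmem _).2 fun p => ?_
      by_contra hp
      refine p.2 (hinj t ?_)
      have h2 := (hO p.1 _ (ptOver t ≫ l)).2 fun z => by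
        rw [Over.comp_left, Scheme.Hom.comp_apply, ptOver_apply]; exact hp
      simpa only [Category.assoc, hl] using h2
    exact ⟨l', fun i => by rw [reassoc_of% hl', hl]⟩

variable {ha : RepWith @Etale a} {n : ℕ}

/-- The structure map of the tuples. -/
abbrev Tuples.π (W : Tuples ha n) : (yon S).obj W.W ⟶ X := (yon S).map (W.pr 0) ≫ a

theorem Tuples.repWith_π (W : Tuples ha n) : RepWith @Etale W.π :=
  repWith_comp ((repWith_yon_map_iff _ _).2 W.etale) ha

theorem Tuples.range_π [IsSeparated (ha.rep.snd a).left] (W : Tuples ha n) :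
    Set.range (Points.ofPt W.π) = locus a (n + 1) := by
  refine Set.Subset.antisymm ?_ fun x => ?_
  · rintro _ ⟨z, rfl⟩
    refine ⟨_, fun i => ptOver z ≫ W.pr i, (yon S).map (ptOver z) ≫ W.π, Classical.arbitrary _, inferInstance,
      fun i => by rw [Functor.map_comp, Category.assoc, W.w], W.distinct _ _ inferInstance inferInstance, ?_⟩
    rw [ofPt_comp, ptOver_apply]
  · rintro ⟨T, v, g, t, hT, hv, hinj, rfl⟩
    obtain ⟨l, hl⟩ := W.lift T v (fun i => (hv i).trans (hv 0).symm) fun t' i k h =>
      hinj (eq_of_comp_eq ha (ptOver t') _ _ ((hv i).trans (hv k).symm) h)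
    refine ⟨l.left t, ?_⟩
    rw [← ofPt_comp]
    refine congrArg (fun h => Points.ofPt h t) ?_
    rw [← Functor.map_comp_assoc, hl, hv]

theorem isOpen_locus (ha : RepWith @Etale a) [IsSeparated (ha.rep.snd a).left] (n : ℕ) :
    IsOpen (locus a (n + 1)) := by
  obtain ⟨W⟩ := nonempty_tuples ha n
  rw [← W.range_π, ← Set.image_univ]
  exact isOpenMap_ofPt W.repWith_π _ isOpen_univ

/-- The number of different lifts of a point is bounded by the degree of the base change of the chart. -/
theorem le_of_mem_locus (hX : IsAlgSpace X) (ha : RepWith @Etale a) [IsSeparated (ha.rep.snd a).left] {T₀ : Over S}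
    (q : (yon S).obj T₀ ⟶ X) {d : ℕ}
    (hd : ∀ (L : Type u) [Field L] (z : Spec (.of L) ⟶ T₀.left), DegLE d (pullback.fst z (ha.rep.snd q).left))
    (t₀ : ↥T₀.left) {N : ℕ} (h : Points.ofPt q t₀ ∈ locus a N) : N ≤ d := by
  obtain ⟨T, v, g, t, hT, hv, hinj, he⟩ := h
  have hr : Representable g := representable_of_space hX g
  obtain ⟨w, -, -⟩ := exists_ofPt_of_eq (hr.isPullback' q) he
  let R := hr.pullback q
  let L := AlgebraicClosure (R.left.residueField w)
  let z₀ : Spec (.of L) ⟶ R.left :=
    Spec.map (CommRingCat.ofHom (algebraMap (R.left.residueField w) L)) ≫ R.left.fromSpecResidueField w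
  let T' : Over S := Over.mk (z₀ ≫ R.hom)
  let z : T' ⟶ R := Over.homMk z₀ rfl
  have : Subsingleton ↥T'.left := inferInstanceAs (Subsingleton (PrimeSpectrum L))
  have : Nonempty ↥T'.left := inferInstanceAs (Nonempty (PrimeSpectrum L))
  let e : T' ⟶ T := z ≫ hr.fst' q
  let f : T' ⟶ T₀ := z ≫ hr.snd q
  have hef : (yon S).map e ≫ g = (yon S).map f ≫ q := by
    simp only [e, f, Functor.map_comp, Category.assoc, (hr.isPullback' q).w]
  have hinj' : Function.Injective fun i => e ≫ v i := fun i k h =>
    hinj (eq_of_comp_eq ha e _ _ ((hv i).trans (hv k).symm) h)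
  have sqE := ha.rep.isPullback' q
  choose l hl₁ hl₂ using fun i => exists_lift_yon sqE (e ≫ v i) f (by
    rw [Functor.map_comp, Category.assoc, hv, hef])
  let Λ : Fin N → EtCount.Lifts (ha.rep.snd q).left f.left := fun i =>
    ⟨(l i).left, congrArg CommaMorphism.left (hl₂ i)⟩
  have hΛ : Function.Injective Λ := fun i k h => hinj' (by
    show e ≫ v i = e ≫ v k
    rw [← hl₁ i, ← hl₁ k, show l i = l k from Over.OverMorphism.ext (congrArg Subtype.val h)])
  have : Etale (ha.rep.snd q).left := ha.property_snd q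
  obtain ⟨hfin, -, hcard⟩ := (hd L f.left).space
  have h1 := EtCount.card_lifts_eq_card_pullback (ha.rep.snd q).left (K := L) f.left
  have h2 : ENat.card ↥(pullback (ha.rep.snd q).left f.left) ≤ d := by
    rw [ENat.card_congr (pullbackSymmetry (ha.rep.snd q).left f.left).schemeIsoToHomeo.toEquiv,
      ENat.card_eq_coe_natCard]
    exact_mod_cast hcard
  have h3 : (N : ℕ∞) ≤ d := by
    refine le_trans ?_ (h1.trans_le h2)
    have := ENat.card_le_card_of_injective hΛ
    simpa using this
  exact_mod_cast h3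

/-- The quotient of a scheme by a free action of a finite group, when finite sets lie in affine opens. -/
theorem exists_scheme_quotient {V : Over S} {G : Type u} [Group G] [Finite G]
    (ρ : G →* Aut V) (hfree : ∀ (g : G) (x : V.left), g ≠ 1 →
      V.left.fromSpecResidueField x ≫ (ρ g).hom.left ≠ V.left.fromSpecResidueField x)
    (haff : ∀ A : Set V.left, A.Finite → ∃ O : V.left.Opens, IsAffineOpen O ∧ A ⊆ O)
    (ha : RepWith @Etale a) {pU : V ⟶ U}
    (hinv : ∀ g, (yon S).map ((ρ g).hom ≫ pU) ≫ a = (yon S).map pU ≫ a) :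
    ∃ (M : Over S) (q : V ⟶ M) (m : (yon S).obj M ⟶ X), IsFinite q.left ∧ Etale q.left ∧ Surjective q.left ∧
      (yon S).map q ≫ m = (yon S).map pU ≫ a ∧ ∀ g, (ρ g).hom ≫ q = q := by
  let c := colimit.cocone (Discrete.functor fun _ : G => V)
  have hc : IsColimit c := colimit.isColimit _
  let s : c.pt ⟶ V := Cofan.IsColimit.desc hc fun _ => 𝟙 V
  let t : c.pt ⟶ V := Cofan.IsColimit.desc hc fun g => (ρ g).hom
  have hs : ∀ g, Cofan.inj c g ≫ s = 𝟙 V := fun g => Cofan.IsColimit.fac hc _ g
  have ht : ∀ g, Cofan.inj c g ≫ t = (ρ g).hom := fun g => Cofan.IsColimit.fac hc _ g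
  have H : IsEtaleEqvRel s t := FreeAction.isEtaleEqvRel hfree hc hs ht
  have hsf : IsFinite s.left := by
    obtain ⟨e, he⟩ := FreeAction.exists_iso hc
    have h1 : e.hom ≫ s.left = Sigma.desc fun _ : G => 𝟙 V.left := Sigma.hom_ext _ _ fun g => by
      rw [reassoc_of% he, Sigma.ι_desc, ← Over.comp_left, hs]; rfl
    have h2 : IsFinite (Sigma.desc fun _ : G => 𝟙 V.left) :=
      SGA1Q.isFinite_sigmaDesc _ fun _ => inferInstance
    rw [← h1] at h2
    exact (MorphismProperty.cancel_left_of_respectsIso @IsFinite e.hom s.left).1 h2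
  have hse : Etale s.left := H.etale_left
  obtain ⟨Gr, hU, hR, hgs, hgt, hpU, hpR⟩ := exists_groupoid_over (isPullback_quotMap H.toIsEqvRel)
  obtain ⟨GU, GR, pU', pR, gs, gt, ge, gi, gc, h1, h2, h3, h4, h5, h6, h7, h8, h9, h10, h11, h12, h13⟩ := Gr
  subst hU hR
  obtain rfl : gs = s.left := eq_of_heq hgs
  obtain rfl : gt = t.left := eq_of_heq hgt
  obtain rfl : pU' = V.hom := eq_of_heq hpU
  obtain rfl : pR = c.pt.hom := eq_of_heq hpR
  let Gr : Grpd.GroupoidScheme S :=
    ⟨_, _, V.hom, c.pt.hom, _, _, ge, gi, gc, h1, h2, h3, h4, h5, h6, h7, h8, h9, h10, h11, h12, h13⟩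
  have hfl : Mor2.IsFinLocFree Gr.s :=
    ⟨hsf, inferInstanceAs (Flat s.left), inferInstanceAs (LocallyOfFinitePresentation s.left)⟩
  obtain ⟨M, q, hq, hqs, hpb, -⟩ := FinLocFreeQuot.exists_quotient Gr hfl H.toIsEqvRel
    (fun Z _ ⟨z, hz⟩ => by
      obtain ⟨O, hO, hO'⟩ := haff (t.left '' (s.left ⁻¹' {z})) ((s.left.finite_preimage_singleton z).image _)
      exact ⟨z, hz, O, hO, fun r hr => hO' ⟨r, hr, rfl⟩⟩)
  let q' : V ⟶ M := q
  haveI : IsFinite q'.left := hq.1
  haveI : Flat q'.left := hq.2.1
  haveI : LocallyOfFinitePresentation q'.left := hq.2.2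
  haveI : Surjective q'.left := hqs
  have hpb' : IsPullback t.left s.left q'.left q'.left := hpb
  have sqy : IsPullback ((yon S).map t) ((yon S).map s) ((yon S).map q') ((yon S).map q') :=
    (IsPullback.of_map (Over.forget S) (f := t) (g := s) (h := q') (i := q')
      (Over.OverMorphism.ext hpb'.w) hpb').map (yon S)
  have hqe : Etale q'.left := MorphismProperty.of_isPullback_of_descendsAlong
    (Q := (@Surjective ⊓ @Flat ⊓ @QuasiCompact : MorphismProperty Scheme.{u})) hpb'
    ⟨⟨‹Surjective q'.left›, ‹Flat q'.left›⟩, inferInstance⟩ H.etale_right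
  have hls : Sheaf.IsLocallySurjective ((yon S).map q') :=
    isLocallySurjective_of_repWith ((repWith_yon_map_iff fppf q').2 (fppf_of q'.left))
  have hpair : (yon S).map t ≫ (yon S).map pU ≫ a = (yon S).map s ≫ (yon S).map pU ≫ a := by
    have sqR := ha.rep.isPullback' a
    choose r hr₁ hr₂ using fun g => exists_rel_lift sqR ((ρ g).hom ≫ pU) pU (hinv g)
    let rr : c.pt ⟶ ha.rep.pullback a := Cofan.IsColimit.desc hc r
    have e1 : rr ≫ ha.rep.fst' a = t ≫ pU := Cofan.IsColimit.hom_ext hc _ _ fun g => by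
      rw [← Category.assoc, Cofan.IsColimit.fac, hr₁, reassoc_of% ht g]
    have e2 : rr ≫ ha.rep.snd a = s ≫ pU := Cofan.IsColimit.hom_ext hc _ _ fun g => by
      rw [← Category.assoc, Cofan.IsColimit.fac, hr₂, reassoc_of% hs g]
    rw [← Functor.map_comp_assoc, ← Functor.map_comp_assoc, ← e1, ← e2, Functor.map_comp, Functor.map_comp,
      Category.assoc, Category.assoc, sqR.w]
  obtain ⟨m, hm⟩ := exists_desc_of_kernelPair sqy _ hpair
  refine ⟨M, q', m, ‹_›, hqe, hqs, hm, fun g => ?_⟩
  have hw : t ≫ q' = s ≫ q' := Over.OverMorphism.ext hpb'.w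
  rw [← ht g, Category.assoc, hw, reassoc_of% hs g]

/-- The symmetric power of the chart away from the diagonals. -/
theorem exists_symPower (hX : IsAlgSpace X) [IsAffine U.left] (ha : RepWith @Etale a)
    [IsSeparated (ha.rep.snd a).left] {n : ℕ} (W : Tuples ha n) :
    ∃ (M : Over S) (q : W.W ⟶ M) (m : (yon S).obj M ⟶ X), M.left.IsSeparated ∧ Surjective q.left ∧ Etale q.left ∧
      RepWith @Etale m ∧ (yon S).map q ≫ m = W.π ∧
      (QuasiCompact (ha.rep.snd a).left → CompactSpace ↥M.left) ∧
      ∀ (T : Over S) (l l' : T ⟶ W.W) (σ : Equiv.Perm (Fin (n + 1))),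
        (∀ i, l' ≫ W.pr i = l ≫ W.pr (σ i)) → l' ≫ q = l ≫ q := by
  let G := ULift.{u} (Equiv.Perm (Fin (n + 1)))
  choose act hact using fun g : G => W.lift W.W (fun i => W.pr (g.down.symm i))
    (fun i => (W.w _).trans (W.w _).symm)
    (fun t => (W.distinct _ (ptOver t) inferInstance inferInstance).comp g.down.symm.injective)
  have hact1 : ∀ g h : G, act (g * h) = act h ≫ act g := fun g h => W.ext _ _ fun i => by
    simp only [Category.assoc, hact]
    rfl
  have hactone : act 1 = 𝟙 W.W := W.ext _ _ fun i => by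
    rw [hact, Category.id_comp]; rfl
  let ρ : G →* Aut W.W :=
    { toFun := fun g => ⟨act g, act g⁻¹, by rw [← hact1, inv_mul_cancel, hactone],
        by rw [← hact1, mul_inv_cancel, hactone]⟩
      map_one' := Iso.ext hactone
      map_mul' := fun g h => Iso.ext (hact1 g h) }
  have hfree : ∀ (g : G) (z : W.W.left), g ≠ 1 →
      W.W.left.fromSpecResidueField z ≫ (ρ g).hom.left ≠ W.W.left.fromSpecResidueField z := by
    intro g z hg heq
    have e : ptOver z ≫ act g = ptOver z := Over.OverMorphism.ext heq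
    refine hg (ULift.ext _ _ (Equiv.ext fun i => ?_))
    have h2 : ptOver z ≫ W.pr (g.down.symm (g.down i)) = ptOver z ≫ W.pr (g.down i) := by
      rw [← hact g (g.down i), reassoc_of% e]
    have h3 := W.distinct _ (ptOver z) inferInstance inferInstance h2
    simp only [Equiv.symm_apply_apply] at h3
    exact h3.symm
  haveI := W.etale
  haveI := W.sep
  have haff : ∀ A : Set W.W.left, A.Finite → ∃ O : W.W.left.Opens, IsAffineOpen O ∧ A ⊆ O := fun A hA =>
    exists_affineOpen_of_finite (W.pr 0).left hA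
  obtain ⟨M, q, m, hqf, hqe, hqs, hqm, hqinv⟩ := exists_scheme_quotient ρ hfree haff ha (pU := W.pr 0)
    (fun g => by
      show (yon S).map (act g ≫ W.pr 0) ≫ a = _
      rw [hact, W.w])
  have hWsep : W.W.left.IsSeparated := by
    refine ⟨?_⟩
    rw [← terminal.comp_from (W.pr 0).left]
    infer_instance
  refine ⟨M, q, m, ⟨?_⟩, hqs, hqe,
    repWith_etale_of_precomp (representable_of_space hX m) q (by rw [hqm]; exact W.repWith_π), hqm,
    fun hq => ?_, fun T l l' σ h => ?_⟩
  · haveI := hWsep
    haveI : IsSeparated (q.left ≫ terminal.from M.left) := by rw [terminal.comp_from]; infer_instance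
    exact DescLib.isSeparated_of_comp_surjective q.left (terminal.from M.left)
  · haveI := W.qc hq
    haveI : CompactSpace ↥W.W.left := QuasiCompact.compactSpace_of_compactSpace (W.pr 0).left
    exact q.left.surjective.compactSpace q.left.continuous
  · have h' : l' = l ≫ act ⟨σ.symm⟩ := W.ext _ _ fun i => by
      rw [h, Category.assoc, hact]
      simp
    rw [h', Category.assoc]
    exact congrArg (l ≫ ·) (hqinv ⟨σ.symm⟩)

/-- Separatedness of the kernel pair of a separated chart. -/
theorem isSeparated_snd (ha : RepWith @Etale a) (hU : U.left.IsSeparated) :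
    IsSeparated (ha.rep.snd a).left := by
  haveI := hU
  haveI : IsSeparated U.hom := inferInstance
  haveI := mono_pullback_lift ha
  rw [← pullback.lift_snd (f := U.hom) (g := U.hom) (ha.rep.fst' a).left (ha.rep.snd a).left
    ((Over.w (ha.rep.fst' a)).trans (Over.w (ha.rep.snd a)).symm)]
  infer_instance

/-- Two points of the symmetric power with the same image in the space, where the chart has exactly `n + 1`
lifts, agree. -/
theorem eq_of_notMem_locus (hX : IsAlgSpace X) (ha : RepWith @Etale a) [IsSeparated (ha.rep.snd a).left]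
    {n : ℕ} (W : Tuples ha n) {M : Over S} (hM : M.left.IsSeparated) (q : W.W ⟶ M) [Etale q.left]
    [Surjective q.left] (m : (yon S).obj M ⟶ X) (hm : RepWith @Etale m) (hqm : (yon S).map q ≫ m = W.π)
    (hinv : ∀ (T : Over S) (l l' : T ⟶ W.W) (σ : Equiv.Perm (Fin (n + 1))),
        (∀ i, l' ≫ W.pr i = l ≫ W.pr (σ i)) → l' ≫ q = l ≫ q)
    {Z : Over S} (y y' : Z ⟶ M) (hy : (yon S).map y ≫ m = (yon S).map y' ≫ m)
    (hZ : ∀ z, Points.ofPt ((yon S).map y ≫ m) z ∉ locus a (n + 1 + 1)) : y = y' := by
  haveI := isSeparated_snd hm hM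
  obtain ⟨O, -, hO⟩ := exists_apart_clopen hm y y' hy
  have hOe : ∀ z : Z.left, z ∉ O := by
    intro z hz
    let L := AlgebraicClosure (Z.left.residueField z)
    let z₀ : Spec (.of L) ⟶ Z.left :=
      Spec.map (CommRingCat.ofHom (algebraMap (Z.left.residueField z) L)) ≫ Z.left.fromSpecResidueField z
    let T : Over S := Over.mk (z₀ ≫ Z.hom)
    let g : T ⟶ Z := Over.homMk z₀ rfl
    have hsub : Subsingleton ↥T.left := inferInstanceAs (Subsingleton (PrimeSpectrum L))
    have hne : Nonempty ↥T.left := inferInstanceAs (Nonempty (PrimeSpectrum L))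
    have hgz : ∀ t, g.left t = z := fun t => by
      show (Spec.map _ ≫ Z.left.fromSpecResidueField z) t = z
      rw [Scheme.Hom.comp_apply, Scheme.fromSpecResidueField_apply]
    refine (hO T g).1 (fun t => by rw [hgz]; exact hz) hne ?_
    have hlift : ∀ k : T ⟶ M, ∃ l : T ⟶ W.W, l ≫ q = k := fun k => by
      obtain ⟨w, hw⟩ := q.left.surjective (k.left (Classical.arbitrary _))
      obtain ⟨l', hl', -⟩ := Scheme.exists_fac_of_etale_of_isSepClosed q.left (Ω := L) k.left w
        (hw.trans (congrArg _ (Subsingleton.elim _ _)))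
      exact ⟨Over.homMk l' (by rw [← Over.w q, reassoc_of% hl']; exact Over.w k), Over.OverMorphism.ext hl'⟩
    obtain ⟨l, hl⟩ := hlift (g ≫ y)
    obtain ⟨l', hl'⟩ := hlift (g ≫ y')
    rw [← hl, ← hl']
    let G₀ : (yon S).obj T ⟶ X := (yon S).map g ≫ (yon S).map y ≫ m
    have hG : ∀ i, (yon S).map (l ≫ W.pr i) ≫ a = G₀ := fun i => by
      rw [Functor.map_comp, Category.assoc, W.w, show (yon S).map (W.pr 0) ≫ a = _ from hqm.symm,
        ← Functor.map_comp_assoc, hl, Functor.map_comp_assoc]
    have hG' : ∀ i, (yon S).map (l' ≫ W.pr i) ≫ a = G₀ := fun i => by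
      rw [Functor.map_comp, Category.assoc, W.w, show (yon S).map (W.pr 0) ≫ a = _ from hqm.symm,
        ← Functor.map_comp_assoc, hl', Functor.map_comp_assoc, ← hy]
    have hmem : ∀ i, ∃ k, l' ≫ W.pr i = l ≫ W.pr k := by
      intro i
      by_contra hcon
      push Not at hcon
      refine hZ z ⟨T, Fin.snoc (fun k => l ≫ W.pr k) (l' ≫ W.pr i), G₀, Classical.arbitrary _, hsub,
        fun k => ?_, ?_, ?_⟩
      · refine Fin.lastCases ?_ (fun k => ?_) k
        · rw [Fin.snoc_last]; exact hG' i
        · rw [Fin.snoc_castSucc]; exact hG k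
      · refine Fin.snoc_injective_iff.2 ⟨W.distinct T l hsub hne, ?_⟩
        rintro ⟨k, hk⟩
        exact hcon k hk.symm
      · show Points.ofPt ((yon S).map g ≫ (yon S).map y ≫ m) _ = _
        rw [ofPt_comp, hgz]
    choose σ hσ using hmem
    have hσi : Function.Bijective σ := Finite.injective_iff_bijective.1 fun i k h =>
      W.distinct T l' hsub hne (show l' ≫ W.pr i = l' ≫ W.pr k by rw [hσ i, hσ k, h])
    exact (hinv T l l' (Equiv.ofBijective σ hσi) hσ).symm
  simpa using (hO Z (𝟙 Z)).2 hOe

end Groth.Agent.AlgSpDec.SymPower
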