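import Groth.Agent.AlgSpDec.SymPower
import Groth.Agent.AlgSpDec.RedInduced
import Groth.Agent.AlgSpDec.LimImmersion
import Groth.Agent.AlgSpDec.LimDescent

/-!
# Stratifications of algebraic spaces by separated schemes
-/

set_option backward.isDefEq.respectTransparency false
set_option backward.isDefEq.respectTransparency.types false

noncomputable section

universe u

open CategoryTheory Limits Opposite AlgebraicGeometry AlgSp Groth.Agent.AlgSpLib Groth.Agent.AlgSpPts
  Groth.Agent.AlgSpDec.ElemNbhd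

namespace Groth.Agent.AlgSpDec.SymPower

variable {S : Scheme.{u}}

theorem mem_range_of_mem_range_comp {F G H : Sp S} (k : F ⟶ G) (j : G ⟶ H) [Mono j] {z : Points G}
    (h : Points.map j z ∈ Set.range (Points.map (k ≫ j))) : z ∈ Set.range (Points.map k) := by
  obtain ⟨w, hw⟩ := h
  exact ⟨w, injective_points_map_of_mono j ((Points.map_comp k j w).symm.trans hw)⟩

/-- The kernel pair of a quasi-compact chart of a quasi-separated space over a quasi-separated base is
quasi-compact. -/
theorem quasiCompact_snd [QuasiSeparatedSpace ↥S] {X : Sp S} (hqs : IsQuasiSeparatedSp X) {U : Over S}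
    {a : (yon S).obj U ⟶ X} (ha : RepWith @Etale a) [IsAffine U.left] :
    QuasiCompact (ha.rep.snd a).left := by
  haveI : QuasiCompact U.hom := inferInstance
  have sqU := IsPullback.of_hasPullback U.hom U.hom
  let P : Over S := Over.mk (pullback.fst U.hom U.hom ≫ U.hom)
  let p₁ : P ⟶ U := Over.homMk (pullback.fst U.hom U.hom) rfl
  let p₂ : P ⟶ U := Over.homMk (pullback.snd U.hom U.hom) pullback.condition.symm
  let e : U ⟶ Over.mk (𝟙 S) := Over.homMk U.hom (Category.comp_id _)
  have sqP : IsPullback p₁ p₂ e e :=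
    IsPullback.of_map (Over.forget S) (Over.OverMorphism.ext pullback.condition) sqU
  let R := ha.rep.pullback a
  let m : R ⟶ P := Over.homMk (pullback.lift (ha.rep.fst' a).left (ha.rep.snd a).left
      ((Over.w (ha.rep.fst' a)).trans (Over.w (ha.rep.snd a)).symm))
    (by show pullback.lift _ _ _ ≫ pullback.fst U.hom U.hom ≫ U.hom = R.hom; rw [pullback.lift_fst_assoc]; exact Over.w _)
  have sq := isPullback_diag (ha.rep.isPullback' a) ((yon S).map p₁) ((yon S).map p₂)
    (fun c d h1 h2 => (sqP.map (yon S)).hom_ext h1 h2) ((yon S).map m)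
    (by rw [← Functor.map_comp]; exact congrArg (yon S).map (Over.OverMorphism.ext (pullback.lift_fst _ _ _)))
    (by rw [← Functor.map_comp]; exact congrArg (yon S).map (Over.OverMorphism.ext (pullback.lift_snd _ _ _)))
  haveI : QuasiCompact m.left := hqs.property _ _ _ sq
  rw [← pullback.lift_snd (f := U.hom) (g := U.hom) (ha.rep.fst' a).left (ha.rep.snd a).left
    ((Over.w (ha.rep.fst' a)).trans (Over.w (ha.rep.snd a)).symm)]
  exact inferInstanceAs (QuasiCompact (m.left ≫ pullback.snd U.hom U.hom))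

variable (X : Space S) {U : Over S} (a : (yon S).obj U ⟶ X.obj)

/-- The part of the stratification belonging to the loci of a chart. -/
theorem exists_strata [IsAffine U.left] (ha : RepWith @Etale a) (has : RepWith @Surjective a)
    [IsSeparated (ha.rep.snd a).left] :
    ∃ (Uo : ℕ → Space S) (j : ∀ p, Uo p ⟶ X) (k : ∀ p, Uo (p + 1) ⟶ Uo p)
      (T : ℕ → Space S) (i : ∀ p, T p ⟶ Uo p),
      (∀ p, RepWith @IsOpenImmersion (j p).hom) ∧ (∀ p, k p ≫ j p = j (p + 1)) ∧ IsIso (j 1) ∧
      (∀ p, 1 ≤ p → Set.range (Points.map (j p).hom) = locus a p) ∧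
      (∀ p, IsRedInduced (Set.range (Points.map (k p).hom))ᶜ (i p).hom) ∧
      (∀ p, 1 ≤ p → ∃ (V : Over S) (f : (yon S).obj V ⟶ (Uo p).obj), V.left.IsSeparated ∧
        (QuasiCompact (ha.rep.snd a).left → CompactSpace ↥V.left) ∧
        RepWith @Etale f ∧ RepWith @Surjective f ∧
        ∀ (P : Sp S) (fst : P ⟶ (T p).obj) (snd : P ⟶ (yon S).obj V),
          IsPullback fst snd (i p).hom f → IsIso fst) := by
  choose Xo jo hXo hjo hro using fun p : ℕ => exists_open_subspace X.property (isOpen_locus ha (p - 1))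
  have hmono : ∀ p, Mono (jo p) := fun p => mono_of_openImm (hjo p)
  have hle : ∀ p, locus a (p + 1 - 1 + 1) ⊆ locus a (p - 1 + 1) := fun p => locus_antitone (by omega)
  choose ko hko using fun p => exists_factor_open_sp (hXo (p + 1)) (hjo p) (jo (p + 1))
    (fun z => by rw [hro p]; exact hle p ((hro (p + 1)).subset (Set.mem_range_self z)))
  have hkopen : ∀ p, IsOpen (Set.range (Points.map (ko p))) := fun p => by
    haveI := hmono p
    have : Set.range (Points.map (ko p)) = Points.map (jo p) ⁻¹' locus a (p + 1 - 1 + 1) := by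
      ext z
      constructor
      · rintro ⟨w, rfl⟩
        show Points.map (jo p) (Points.map (ko p) w) ∈ locus a (p + 1 - 1 + 1)
        rw [← Points.map_comp, hko, ← hro]
        exact Set.mem_range_self w
      · intro hz
        refine mem_range_of_mem_range_comp (ko p) (jo p) ?_
        rw [hko, hro]
        exact hz
    rw [this]
    exact (isOpen_locus ha _).preimage (Points.continuous_map _)
  choose T io hio using fun p => exists_reduced_induced (hXo p) (hkopen p).isClosed_compl
  let Uo : ℕ → Space S := fun p => ⟨Xo p, hXo p⟩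
  have hr : ∀ p, 1 ≤ p → Set.range (Points.map (jo p)) = locus a p := fun p hp => by
    rw [hro p]; congr 1; omega
  refine ⟨Uo, fun p => ObjectProperty.homMk (jo p), fun p => ObjectProperty.homMk (ko p), T,
    fun p => ObjectProperty.homMk (io p), hjo, fun p => ObjectProperty.hom_ext _ (hko p), ?_, hr, hio, ?_⟩
  · haveI : IsIso (jo 1) := isIso_of_openImm_surjective X.property (hjo 1) fun x =>
      (hr 1 le_rfl).symm.subset (by rw [locus_one has]; trivial)
    haveI : IsIso ((ObjectProperty.ι (IsAlgSpace (S := S))).map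
      (ObjectProperty.homMk (jo 1) : Uo 1 ⟶ X)) := ‹IsIso (jo 1)›
    exact isIso_of_reflects_iso _ (ObjectProperty.ι (IsAlgSpace (S := S)))
  · intro p hp
    obtain ⟨n, rfl⟩ : ∃ n, p = n + 1 := ⟨p - 1, by omega⟩
    obtain ⟨W⟩ := nonempty_tuples ha n
    obtain ⟨M, q, m, hM, hqs, hqe, hm, hqm, hMc, hinv⟩ := exists_symPower X.property ha W
    haveI := hmono (n + 1)
    have hmr : ∀ z, Points.ofPt m z ∈ locus a (n + 1) := fun z => by
      obtain ⟨w, rfl⟩ := q.left.surjective z
      rw [← ofPt_comp, hqm, ← W.range_π]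
      exact Set.mem_range_self w
    obtain ⟨b, hb⟩ := exists_factor_open (hjo (n + 1)) m (fun z => (hr (n + 1) hp).symm.subset (hmr z))
    have hbe : RepWith @Etale b := repWith_of_comp_mono b (jo (n + 1)) (by rw [hb]; exact hm)
    have hbs : RepWith @Surjective b := repWith_surjective_of_surjective hbe.rep fun x => by
      have hx : Points.map (jo (n + 1)) x ∈ Set.range (Points.ofPt W.π) := by
        rw [W.range_π, ← hr (n + 1) hp]; exact Set.mem_range_self x
      obtain ⟨w, hw⟩ := hx
      refine ⟨Points.ofScheme M (q.left w), injective_points_map_of_mono (jo (n + 1)) ?_⟩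
      rw [← Points.map_comp, hb, ← Points.ofPt_eq_map_ofScheme, ← ofPt_comp, hqm]
      exact hw
    refine ⟨M, b, hM, hMc, hbe, hbs, fun P fst snd sq => ?_⟩
    have hfe : RepWith @Etale fst := repWith_of_isPullback sq.flip hbe
    have hfs : RepWith @Surjective fst := repWith_of_isPullback sq.flip hbs
    have hw : fst ≫ io (n + 1) ≫ jo (n + 1) = snd ≫ b ≫ jo (n + 1) :=
      (Category.assoc _ _ _).symm.trans ((congrArg (· ≫ jo (n + 1)) sq.w).trans (Category.assoc _ _ _))
    haveI : Mono fst := mono_of_yon_injective fun Z y y' hyy' => by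
      refine sq.hom_ext hyy' ?_
      obtain ⟨z₀, hz₀⟩ := (yon S).map_surjective (y ≫ snd)
      obtain ⟨z₀', hz₀'⟩ := (yon S).map_surjective (y' ≫ snd)
      rw [← hz₀, ← hz₀']
      refine congrArg (yon S).map (eq_of_notMem_locus X.property ha W hM q m hm hqm hinv z₀ z₀' ?_ ?_)
      · rw [hz₀, hz₀', ← hb, Category.assoc, Category.assoc, show snd ≫ b ≫ jo (n + 1) = fst ≫ io (n + 1) ≫ jo (n + 1) from hw.symm]
        exact (Category.assoc _ _ _).symm.trans ((congrArg (· ≫ io (n + 1) ≫ jo (n + 1)) hyy').trans (Category.assoc _ _ _))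
      · intro z hz
        have e : Points.ofPt ((yon S).map z₀ ≫ m) z =
            Points.map (jo (n + 1)) (Points.map (io (n + 1)) (Points.ofPt (y ≫ fst) z)) := by
          rw [Points.map_ofPt, Points.map_ofPt, hz₀, ← hb]
          simp only [Category.assoc]
          exact congrArg (fun h => Points.ofPt h z) (congrArg (y ≫ ·) hw.symm)
        rw [e, ← hr (n + 1 + 1) (by omega), ← hko (n + 1)] at hz
        have hc : Points.map (io (n + 1)) (Points.ofPt (y ≫ fst) z) ∈ (Set.range (Points.map (ko (n + 1))))ᶜ :=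
          (hio (n + 1)).2.1.subset (Set.mem_range_self _)
        exact hc (mem_range_of_mem_range_comp _ _ hz)
    haveI := isLocallySurjective_of_etale_surjective hfe hfs
    exact isIso_of_mono_of_locallySurjective fst

/-- A point with a quasi-compact representative has boundedly many lifts. -/
theorem exists_notMem_locus [IsAffine U.left] (ha : RepWith @Etale a) [IsSeparated (ha.rep.snd a).left]
    (q : FieldPt X.obj) (hq : RepWith @QuasiCompact q.toHom) : ∃ N, Points.mk q ∉ locus a N := by
  have sqE := ha.rep.isPullback' q.toHom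
  haveI : QuasiCompact (ha.rep.fst' q.toHom).left := hq.property _ _ _ sqE.flip
  haveI : CompactSpace ↥(ha.rep.pullback q.toHom).left :=
    QuasiCompact.compactSpace_of_compactSpace (ha.rep.fst' q.toHom).left
  haveI : Etale (ha.rep.snd q.toHom).left := ha.property_snd _
  obtain ⟨d, hd⟩ := exists_degLE_of_etale (ha.rep.snd q.toHom).left
  refine ⟨d + 1, fun h => ?_⟩
  rw [← Points.ofPt_toHom q (IsLocalRing.closedPoint q.K)] at h
  have := le_of_mem_locus X.property ha q.toHom hd _ h
  omega

/-- A quasi-compact space is stratified by separated schemes around points with quasi-compact representatives. -/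
theorem exists_filtration_of_isQuasiCompactSp (hX : IsQuasiCompactSp X.obj) :
    ∃ (Uo : ℕ → Space S) (j : ∀ p, Uo p ⟶ X) (k : ∀ p, Uo (p + 1) ⟶ Uo p)
      (T : ℕ → Space S) (i : ∀ p, T p ⟶ Uo p),
      (∀ p, RepWith @IsOpenImmersion (j p).hom) ∧ (∀ p, k p ≫ j p = j (p + 1)) ∧ IsIso (j 1) ∧
      (∀ p, IsRedInduced (Set.range (Points.map (k p).hom))ᶜ (i p).hom) ∧
      (∀ p, 1 ≤ p → ∃ (V : Over S) (f : (yon S).obj V ⟶ (Uo p).obj), V.left.IsSeparated ∧
        RepWith @Etale f ∧ RepWith @Surjective f ∧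
        ∀ (P : Sp S) (fst : P ⟶ (T p).obj) (snd : P ⟶ (yon S).obj V),
          IsPullback fst snd (i p).hom f → IsIso fst) ∧
      (∀ x : Points X.obj, (∃ q : FieldPt X.obj, Points.mk q = x ∧ RepWith @QuasiCompact q.toHom) →
        ∃ p, 1 ≤ p ∧ x ∈ Set.range (Points.map ((i p) ≫ (j p)).hom)) := by
  obtain ⟨U, a, hU, ha, has⟩ := exists_affine_atlas hX
  haveI := hU
  haveI := isSeparated_snd ha (inferInstance : U.left.IsSeparated)
  obtain ⟨Uo, j, k, T, i, hj, hk, h1, hr, hT, hV⟩ := exists_strata X a ha has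
  refine ⟨Uo, j, k, T, i, hj, hk, h1, hT, fun p hp => ?_, ?_⟩
  · obtain ⟨V, f, h⟩ := hV p hp
    exact ⟨V, f, h.1, h.2.2⟩
  rintro x ⟨q, rfl, hq⟩
  classical
  have hex := exists_notMem_locus X a ha q hq
  obtain ⟨p, hp⟩ : ∃ p, Nat.find hex = p + 1 :=
    ⟨Nat.find hex - 1, by
      have : Nat.find hex ≠ 0 := fun h0 => Nat.find_spec hex (by
        rw [h0]; exact locus_antitone (Nat.zero_le 1) (by rw [locus_one has]; trivial))
      omega⟩
  have hp1 : 1 ≤ p := by
    by_contra h0
    have := Nat.find_spec hex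
    rw [hp, show p = 0 by omega, locus_one has] at this
    exact this trivial
  refine ⟨p, hp1, ?_⟩
  have hin : Points.mk q ∈ locus a p := not_not.1 (Nat.find_min hex (by omega))
  have hout : Points.mk q ∉ locus a (p + 1) := hp ▸ Nat.find_spec hex
  rw [← hr p hp1] at hin
  obtain ⟨z, hz⟩ := hin
  have : z ∈ Set.range (Points.map (i p).hom) := by
    rw [(hT p).2.1]
    rintro ⟨w, rfl⟩
    refine hout ?_
    rw [← hr (p + 1) (by omega), ← hz, ← Points.map_comp, ← ObjectProperty.FullSubcategory.comp_hom, hk]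
    exact Set.mem_range_self w
  obtain ⟨t, rfl⟩ := this
  exact ⟨t, (Points.map_comp _ _ t).trans hz⟩

/-- A quasi-compact quasi-separated space has a finite filtration by quasi-compact separated schemes. -/
theorem exists_finite_filtration [QuasiSeparatedSpace ↥S] (hqc : IsQuasiCompactSp X.obj)
    (hqs : IsQuasiSeparatedSp X.obj) :
    ∃ (n : ℕ) (Uo : ℕ → Space S) (j : ∀ p, Uo p ⟶ X) (k : ∀ p, Uo (p + 1) ⟶ Uo p)
      (T : ℕ → Space S) (i : ∀ p, T p ⟶ Uo p),
      (∀ p, RepWith @IsOpenImmersion (j p).hom) ∧ (∀ p, k p ≫ j p = j (p + 1)) ∧ IsIso (j 1) ∧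
      IsEmpty (Points (Uo (n + 1)).obj) ∧
      (∀ p, IsRedInduced (Set.range (Points.map (k p).hom))ᶜ (i p).hom) ∧
      (∀ p, 1 ≤ p → ∃ (V : Over S) (f : (yon S).obj V ⟶ (Uo p).obj), V.left.IsSeparated ∧ CompactSpace ↥V.left ∧
        RepWith @Etale f ∧ RepWith @Surjective f ∧
        ∀ (P : Sp S) (fst : P ⟶ (T p).obj) (snd : P ⟶ (yon S).obj V),
          IsPullback fst snd (i p).hom f → IsIso fst) := by
  obtain ⟨U, a, hU, ha, has⟩ := exists_affine_atlas hqc
  haveI := hU
  haveI := isSeparated_snd ha (inferInstance : U.left.IsSeparated)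
  have hq := quasiCompact_snd hqs ha
  haveI := hq
  haveI : CompactSpace ↥(ha.rep.pullback a).left :=
    QuasiCompact.compactSpace_of_compactSpace (ha.rep.snd a).left
  haveI : Etale (ha.rep.snd a).left := ha.property_snd _
  obtain ⟨d, hd⟩ := exists_degLE_of_etale (ha.rep.snd a).left
  obtain ⟨Uo, j, k, T, i, hj, hk, h1, hr, hT, hV⟩ := exists_strata X a ha has
  refine ⟨d, Uo, j, k, T, i, hj, hk, h1, ⟨fun z => ?_⟩, hT, fun p hp => ?_⟩
  · have hz : Points.map (j (d + 1)).hom z ∈ locus a (d + 1) := hr (d + 1) (by omega) ▸ Set.mem_range_self z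
    obtain ⟨u, hu⟩ := surjective_ofPt has (Points.map (j (d + 1)).hom z)
    have := le_of_mem_locus X.property ha a hd u (hu.symm ▸ hz)
    omega
  · obtain ⟨V, f, hVs, hVc, h⟩ := hV p hp
    exact ⟨V, f, hVs, hVc hq, h⟩

end Groth.Agent.AlgSpDec.SymPower
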