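import Groth.Agent.AlgSpDec.SliceScheme
import Mathlib.AlgebraicGeometry.Morphisms.ClosedImmersion
import Mathlib.AlgebraicGeometry.Morphisms.Affine
import Mathlib.AlgebraicGeometry.Morphisms.FiniteType
import Mathlib.AlgebraicGeometry.Morphisms.FinitePresentation
import Mathlib.AlgebraicGeometry.Morphisms.QuasiFinite
import Mathlib.AlgebraicGeometry.Morphisms.UnderlyingMap
import Mathlib.RingTheory.Finiteness.Nilpotent

/-!
# Closed immersions and finite type detected on a bijective closed subscheme
-/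

set_option backward.isDefEq.respectTransparency false

universe u

open CategoryTheory CategoryTheory.Limits AlgebraicGeometry TopologicalSpace

namespace Groth.Agent.AlgSpDec.ThickClosedImm

theorem spec_map_surjective {R S : CommRingCat.{u}} (φ : R ⟶ S) [IsClosedImmersion (Spec.map φ)] :
    Function.Surjective φ.hom := by
  have h := ((HasAffineProperty.iff_of_isAffine (P := @IsClosedImmersion)).mp ‹IsClosedImmersion (Spec.map φ)›).2
  intro s
  obtain ⟨r, hr⟩ := h ((Scheme.ΓSpecIso S).inv s)
  refine ⟨(Scheme.ΓSpecIso R).hom r, ?_⟩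
  have := ConcreteCategory.congr_hom (Scheme.ΓSpecIso_naturality φ) r
  simp only [CommRingCat.comp_apply, hr] at this
  exact this.symm.trans (ConcreteCategory.congr_hom (Scheme.ΓSpecIso S).inv_hom_id s)

theorem map_le_nilradical {A C : Type u} [CommRing A] [CommRing C] (φ : A →+* C) {I : Ideal A}
    (hI : I ≤ nilradical A) : I.map φ ≤ nilradical C :=
  Ideal.map_le_iff_le_comap.2 fun _ hx => mem_nilradical.2 ((mem_nilradical.1 (hI hx)).map φ)

theorem surjective_of_finiteType {A C : Type u} [CommRing A] [CommRing C] (φ : A →+* C) (hft : φ.FiniteType)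
    {I : Ideal A} (hI : I ≤ nilradical A) (h : ∀ x, ∃ a, x - φ a ∈ I.map φ) : Function.Surjective φ := by
  have hint : φ.IsIntegral := fun x => by
    obtain ⟨a, ha⟩ := h x
    obtain ⟨n, hn⟩ := mem_nilradical.1 (map_le_nilradical φ hI ha)
    refine ⟨(Polynomial.X - Polynomial.C a) ^ n, (Polynomial.monic_X_sub_C a).pow n, ?_⟩
    simp [Polynomial.eval₂_pow, hn]
  have hfin : φ.Finite := RingHom.IsIntegral.to_finite hint hft
  letI := φ.toAlgebra
  have : Module.Finite A C := hfin
  have hJ : I ≤ Ideal.jacobson ⊥ := hI.trans ((nilradical_le_jacobson A).trans Ideal.jacobson_bot.ge)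
  have hle : (⊤ : Submodule A C) ≤ Submodule.span A {1} ⊔ I • ⊤ := fun x _ => by
    obtain ⟨a, ha⟩ := h x
    rw [Submodule.mem_sup]
    refine ⟨φ a, Submodule.mem_span_singleton.2 ⟨a, by rw [Algebra.smul_def, mul_one]; rfl⟩, x - φ a, ?_,
      add_sub_cancel _ _⟩
    rw [Ideal.smul_top_eq_map]
    exact ha
  have := Submodule.le_of_le_smul_of_le_jacobson_bot Module.Finite.fg_top hJ hle
  intro x
  obtain ⟨a, ha⟩ := Submodule.mem_span_singleton.1 (this (Submodule.mem_top (x := x)))
  exact ⟨a, by rw [← ha, Algebra.smul_def, mul_one]; rfl⟩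

theorem finiteType_of_quotient {A C : Type u} [CommRing A] [CommRing C] (φ : A →+* C) {I : Ideal A}
    (hI : I ≤ nilradical A) (hfg : I.FG) (h : ((Ideal.Quotient.mk (I.map φ)).comp φ).FiniteType) :
    φ.FiniteType := by
  classical
  letI := φ.toAlgebra
  have hQ : Algebra.FiniteType A (C ⧸ I.map φ) := by
    rw [← RingHom.finiteType_algebraMap]
    exact h
  obtain ⟨s, hs⟩ := hQ.out
  let L : Finset C := s.image (Function.surjInv Ideal.Quotient.mk_surjective)
  refine ⟨⟨L, ?_⟩⟩
  let B := Algebra.adjoin A (L : Set C)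
  have hmap : B.map (Ideal.Quotient.mkₐ A (I.map φ)) = ⊤ := by
    rw [← top_le_iff, ← hs, Algebra.adjoin_le_iff]
    intro q hq
    exact ⟨_, Algebra.subset_adjoin (Finset.mem_coe.2 (Finset.mem_image_of_mem _ hq)),
      Function.surjInv_eq Ideal.Quotient.mk_surjective q⟩
  have hle : (⊤ : Submodule A C) ≤ Subalgebra.toSubmodule B ⊔ I • ⊤ := fun x _ => by
    obtain ⟨b, hb, hbx⟩ : Ideal.Quotient.mk (I.map φ) x ∈ B.map (Ideal.Quotient.mkₐ A (I.map φ)) := by
      rw [hmap]; trivial
    rw [Submodule.mem_sup]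
    refine ⟨b, hb, x - b, ?_, add_sub_cancel _ _⟩
    rw [Ideal.smul_top_eq_map]
    exact (Ideal.Quotient.mk_eq_mk_iff_sub_mem _ _).1 hbx.symm
  obtain ⟨n, hn⟩ := (Ideal.FG.isNilpotent_iff_le_nilradical hfg).2 hI
  have key : ∀ k : ℕ, (⊤ : Submodule A C) ≤ Subalgebra.toSubmodule B ⊔ I ^ k • ⊤ := by
    intro k
    induction k with
    | zero => rw [pow_zero, Ideal.one_eq_top, Submodule.top_smul]; exact le_sup_right
    | succ k ih =>
      refine hle.trans (sup_le le_sup_left ?_)
      calc I • (⊤ : Submodule A C) ≤ I • (Subalgebra.toSubmodule B ⊔ I ^ k • ⊤) := Submodule.smul_mono le_rfl ih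
        _ = I • Subalgebra.toSubmodule B ⊔ I ^ (k + 1) • ⊤ := by
          rw [Submodule.smul_sup, ← Submodule.smul_assoc, Ideal.smul_eq_mul, ← pow_succ']
        _ ≤ _ := sup_le_sup_right Submodule.smul_le_right _
  refine Algebra.eq_top_iff.2 fun x => ?_
  have := key n (Submodule.mem_top (x := x))
  rwa [hn, Ideal.zero_eq_bot, Submodule.bot_smul, sup_bot_eq] at this

/-- Over an affine base a bijective closed subscheme is cut out by a nil ideal. -/
theorem exists_iso_quotient {A : CommRingCat.{u}} {V' : Scheme.{u}} (g : V' ⟶ Spec A) [IsClosedImmersion g]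
    [Surjective g] : ∃ (I : Ideal A) (e : V' ≅ Spec (CommRingCat.of (A ⧸ I))), I ≤ nilradical A ∧
      g = e.hom ≫ Spec.map (CommRingCat.ofHom (Ideal.Quotient.mk I)) ∧
      (LocallyOfFinitePresentation g → I.FG) := by
  obtain ⟨I, e, he⟩ := IsClosedImmersion.Spec_iff.1 ‹IsClosedImmersion g›
  refine ⟨I, e, fun x hx => ?_, he, fun hp => ?_⟩
  · rw [nilradical_eq_sInf, Submodule.mem_sInf]
    intro P hP
    have : Ideal.IsPrime P := hP
    obtain ⟨v, hv⟩ := g.surjective ⟨P, this⟩
    have h2 : (PrimeSpectrum.comap (Ideal.Quotient.mk I)) (e.hom v) = ⟨P, this⟩ := by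
      rw [← hv, he]; rfl
    rw [← show _ = P from congrArg PrimeSpectrum.asIdeal h2]
    let q : PrimeSpectrum (A ⧸ I) := e.hom v
    show Ideal.Quotient.mk I x ∈ q.asIdeal
    rw [Ideal.Quotient.eq_zero_iff_mem.2 hx]
    exact zero_mem _
  · rw [he] at hp
    have h2 : LocallyOfFinitePresentation (Spec.map (CommRingCat.ofHom (Ideal.Quotient.mk I))) :=
      (MorphismProperty.cancel_left_of_respectsIso @LocallyOfFinitePresentation e.hom _).1 hp
    rw [HasRingHomProperty.Spec_iff (P := @LocallyOfFinitePresentation)] at h2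
    have h3 : Algebra.FinitePresentation A (A ⧸ I) := h2
    have := Algebra.FinitePresentation.ker_fG_of_surjective (Ideal.Quotient.mkₐ A I) Ideal.Quotient.mk_surjective
    exact (Ideal.Quotient.mkₐ_ker A I) ▸ this

/-- The pullback of a quotient along an affine map. -/
theorem exists_iso_baseChange {A C : CommRingCat.{u}} (φ : A ⟶ C) {I : Ideal A} {U' V' : Scheme.{u}}
    {g' : U' ⟶ Spec C} {h' : U' ⟶ V'} {g : V' ⟶ Spec A} (sq : IsPullback g' h' (Spec.map φ) g)
    (e : V' ≅ Spec (CommRingCat.of (A ⧸ I))) (he : g = e.hom ≫ Spec.map (CommRingCat.ofHom (Ideal.Quotient.mk I))) :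
    ∃ E : Spec (CommRingCat.of (C ⧸ I.map φ.hom)) ≅ U', E.hom ≫ h' ≫ e.hom =
      Spec.map (CommRingCat.ofHom (Ideal.quotientMap (I.map φ.hom) φ.hom Ideal.le_comap_map)) := by
  have h1 := isPullback_SpecMap_of_isPushout _ _ _ _ (Slice.isPushout_quotient φ.hom I)
  have h2 : IsPullback g' (h' ≫ e.hom) (Spec.map φ) (Spec.map (CommRingCat.ofHom (Ideal.Quotient.mk I))) :=
    IsPullback.of_iso sq (Iso.refl _) (Iso.refl _) e (Iso.refl _) (by simp) (by simp) (by simp) (by simp [he])
  exact ⟨IsPullback.isoIsPullback _ _ h1.flip h2, IsPullback.isoIsPullback_hom_snd _ _ _ _⟩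

/-- A morphism of finite type is a closed immersion if it is one over a bijective closed subscheme. -/
theorem isClosedImmersion_of_baseChange {U V U' V' : Scheme.{u}} {g' : U' ⟶ U} {h' : U' ⟶ V'} {h : U ⟶ V}
    {g : V' ⟶ V} (sq : IsPullback g' h' h g) [IsClosedImmersion g] [Surjective g] [LocallyOfFiniteType h]
    [IsClosedImmersion h'] : IsClosedImmersion h := by
  have hg' : IsClosedImmersion g' := MorphismProperty.of_isPullback sq.flip ‹_›
  have hg's : Surjective g' := MorphismProperty.of_isPullback sq.flip ‹_›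
  have hsurj : Function.Surjective g' := g'.surjective
  have e : (h : U → V) ∘ g' = g ∘ h' := funext fun x => by
    show h (g' x) = g (h' x)
    rw [← Scheme.Hom.comp_apply, sq.w, Scheme.Hom.comp_apply]
  have hemb : Topology.IsClosedEmbedding ((h : U → V) ∘ g') := by
    rw [e]; exact g.isClosedEmbedding.comp h'.isClosedEmbedding
  have hhomeo : IsHomeomorph g' := isHomeomorph_iff_isEmbedding_surjective.2 ⟨g'.isEmbedding, hsurj⟩
  have hcl : Topology.IsClosedEmbedding h := by
    have : (h : U → V) = (h ∘ g') ∘ hhomeo.homeomorph.symm := funext fun x => by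
      show h x = h (g' _)
      exact congrArg h (hhomeo.homeomorph.apply_symm_apply x).symm
    rw [this]
    exact hemb.comp hhomeo.homeomorph.symm.isClosedEmbedding
  have haff : IsAffineHom h := isAffineHom_of_isInducing h hcl.isInducing hcl.isClosed_range
  refine (IsZariskiLocalAtTarget.iff_of_openCover V.affineCover).2 fun i => ?_
  let j := V.affineCover.f i
  let h₀ : pullback h j ⟶ V.affineCover.X i := pullback.snd h j
  let gj : pullback g j ⟶ V.affineCover.X i := pullback.snd g j
  let U₁ := pullback h₀ gj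
  have sq₁ : IsPullback (pullback.fst h₀ gj) (pullback.snd h₀ gj) h₀ gj := IsPullback.of_hasPullback _ _
  have : IsClosedImmersion gj := inferInstance
  have : Surjective gj := inferInstance
  have : LocallyOfFiniteType h₀ := inferInstance
  have hci : IsClosedImmersion (pullback.snd h₀ gj) := by
    -- it is a base change of `h'`
    have big : IsPullback (pullback.fst h₀ gj ≫ pullback.fst h j) (pullback.snd h₀ gj) h (gj ≫ j) :=
      sq₁.paste_horiz (IsPullback.of_hasPullback h j)
    rw [show gj ≫ j = pullback.fst g j ≫ g from pullback.condition.symm] at big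
    let l : U₁ ⟶ U' := sq.lift _ (pullback.snd h₀ gj ≫ pullback.fst g j) (by rw [Category.assoc]; exact big.w)
    have sl : IsPullback l (pullback.snd h₀ gj) h' (pullback.fst g j) := by
      refine IsPullback.of_right ?_ (sq.lift_snd _ _ _) sq
      rw [IsPullback.lift_fst]
      exact big
    exact MorphismProperty.of_isPullback sl ‹IsClosedImmersion h'›
  have : IsAffine (pullback h j) := isAffine_of_isAffineHom h₀
  obtain ⟨A, ⟨eA⟩⟩ : ∃ A, Nonempty (V.affineCover.X i ≅ Spec A) := ⟨_, ⟨Scheme.isoSpec _⟩⟩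
  obtain ⟨C, ⟨eC⟩⟩ : ∃ C, Nonempty (pullback h j ≅ Spec C) := ⟨_, ⟨Scheme.isoSpec _⟩⟩
  obtain ⟨φ, hφ⟩ := Spec.map_surjective (eC.inv ≫ h₀ ≫ eA.hom)
  have sq₂ : IsPullback (pullback.fst h₀ gj ≫ eC.hom) (pullback.snd h₀ gj) (Spec.map φ) (gj ≫ eA.hom) :=
    IsPullback.of_iso sq₁ (Iso.refl _) eC (Iso.refl _) eA (by simp) (by simp) (by simp [hφ]) (by simp)
  have : LocallyOfFiniteType (Spec.map φ) := by rw [hφ]; infer_instance
  obtain ⟨I, e', hI, he', -⟩ := exists_iso_quotient (gj ≫ eA.hom)
  obtain ⟨E, hE⟩ := exists_iso_baseChange φ sq₂ e' he'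
  have hcq : IsClosedImmersion (Spec.map (CommRingCat.ofHom
      (Ideal.quotientMap (I.map φ.hom) φ.hom Ideal.le_comap_map))) := by
    rw [← hE]; infer_instance
  have hcq := spec_map_surjective (CommRingCat.ofHom (Ideal.quotientMap (I.map φ.hom) φ.hom Ideal.le_comap_map))
  have hs : Function.Surjective φ.hom := surjective_of_finiteType φ.hom
    (HasRingHomProperty.Spec_iff.1 ‹LocallyOfFiniteType (Spec.map φ)›) hI fun x => by
      obtain ⟨a, ha⟩ := hcq (Ideal.Quotient.mk _ x)
      obtain ⟨a, rfl⟩ := Ideal.Quotient.mk_surjective a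
      exact ⟨a, (Ideal.Quotient.mk_eq_mk_iff_sub_mem _ _).1 ha.symm⟩
  have := IsClosedImmersion.spec_of_surjective φ hs
  rw [hφ, MorphismProperty.cancel_left_of_respectsIso @IsClosedImmersion,
    MorphismProperty.cancel_right_of_respectsIso @IsClosedImmersion] at this
  exact this

/-- Finite type is detected on a bijective closed subscheme of finite presentation. -/
theorem locallyOfFiniteType_of_baseChange {U V U' V' : Scheme.{u}} {g' : U' ⟶ U} {h' : U' ⟶ V'} {h : U ⟶ V}
    {g : V' ⟶ V} (sq : IsPullback g' h' h g) [IsClosedImmersion g] [Surjective g]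
    [LocallyOfFinitePresentation g] [LocallyOfFiniteType h'] : LocallyOfFiniteType h := by
  wlog hV : ∃ A, V = Spec A generalizing U V U' V'
  · refine (IsZariskiLocalAtTarget.iff_of_openCover V.affineCover).2 fun i => ?_
    let j := V.affineCover.f i
    let h₀ := pullback.snd h j
    let gj := pullback.snd g j
    have big : IsPullback (pullback.fst h₀ gj ≫ pullback.fst h j) (pullback.snd h₀ gj) h (gj ≫ j) :=
      (IsPullback.of_hasPullback h₀ gj).paste_horiz (IsPullback.of_hasPullback h j)
    rw [show gj ≫ j = pullback.fst g j ≫ g from pullback.condition.symm] at big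
    let l := sq.lift _ (pullback.snd h₀ gj ≫ pullback.fst g j) (by rw [Category.assoc]; exact big.w)
    have sl : IsPullback l (pullback.snd h₀ gj) h' (pullback.fst g j) := by
      refine IsPullback.of_right ?_ (sq.lift_snd _ _ _) sq
      rw [IsPullback.lift_fst]
      exact big
    have hl : LocallyOfFiniteType (pullback.snd h₀ gj) := MorphismProperty.of_isPullback sl ‹_›
    exact this (IsPullback.of_hasPullback h₀ gj) ⟨_, rfl⟩
  obtain ⟨A, rfl⟩ := hV
  wlog hU : ∃ C, U = Spec C generalizing U U'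
  · refine (IsZariskiLocalAtSource.iff_of_openCover U.affineCover).2 fun i => ?_
    let j := U.affineCover.f i
    have hl : LocallyOfFiniteType (pullback.snd j g' ≫ h') := inferInstance
    exact this ((IsPullback.of_hasPullback j g').paste_vert sq) ⟨_, rfl⟩
  obtain ⟨C, rfl⟩ := hU
  obtain ⟨φ, rfl⟩ := Spec.map_surjective h
  obtain ⟨I, e, hI, he, hfg⟩ := exists_iso_quotient g
  obtain ⟨E, hE⟩ := exists_iso_baseChange φ sq e he
  have h3 : LocallyOfFiniteType (Spec.map (CommRingCat.ofHom
      (Ideal.quotientMap (I.map φ.hom) φ.hom Ideal.le_comap_map))) := by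
    rw [← hE]; infer_instance
  rw [HasRingHomProperty.Spec_iff (P := @LocallyOfFiniteType)] at h3 ⊢
  exact finiteType_of_quotient φ.hom hI (hfg ‹_›)
    (h3.comp (RingHom.FiniteType.of_surjective _ Ideal.Quotient.mk_surjective))

/-- Quasi-finiteness is detected on a bijective closed subscheme. -/
theorem locallyQuasiFinite_of_baseChange {U V U' V' : Scheme.{u}} {g' : U' ⟶ U} {h' : U' ⟶ V'} {h : U ⟶ V}
    {g : V' ⟶ V} (sq : IsPullback g' h' h g) [IsClosedImmersion g] [Surjective g] [LocallyOfFiniteType h]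
    [LocallyQuasiFinite h'] : LocallyQuasiFinite h := by
  have hg' : IsClosedImmersion g' := MorphismProperty.of_isPullback sq.flip ‹_›
  have hg's : Surjective g' := MorphismProperty.of_isPullback sq.flip ‹_›
  rw [locallyQuasiFinite_iff_isDiscrete_preimage_singleton]
  intro y
  obtain ⟨y', rfl⟩ := g.surjective y
  have e : h ⁻¹' {g y'} = g' '' (h' ⁻¹' {y'}) := by
    ext x
    constructor
    · intro hx
      obtain ⟨x', rfl⟩ := g'.surjective x
      refine ⟨x', g.isClosedEmbedding.injective ?_, rfl⟩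
      rw [← Scheme.Hom.comp_apply, ← sq.w, Scheme.Hom.comp_apply]
      exact hx
    · rintro ⟨x', hx', rfl⟩
      show h (g' x') = g y'
      rw [← Scheme.Hom.comp_apply, sq.w, Scheme.Hom.comp_apply]
      exact congrArg g hx'
  rw [e]
  exact (h'.isDiscrete_preimage_singleton y').image g'.isEmbedding.isInducing

end Groth.Agent.AlgSpDec.ThickClosedImm
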