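import Groth.Agent.AlgSpLib.LocP
import Groth.Agent.AlgSpLib.EtLocalInst
import Groth.Agent.S9911

/-!
Morphisms of algebraic spaces to the spectrum of a field are flat and universally open, and both
properties pass to base changes.
-/

set_option backward.isDefEq.respectTransparency false
set_option backward.isDefEq.respectTransparency.types false

universe u

open CategoryTheory CategoryTheory.Limits AlgebraicGeometry AlgSp Groth.Agent.AlgSpLib

namespace Groth.Agent.AlgSpDec.ToFieldFlat

variable {S : Scheme.{u}} {k : Type u} [Field k] {σ : Spec (CommRingCat.of k) ⟶ S}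

theorem flat_of_etale_over_field {U V : Scheme.{u}} (h : U ⟶ V) (g : V ⟶ Spec (CommRingCat.of k))
    [Etale g] : Flat h := by
  haveI : Flat (h ≫ g) := inferInstance
  let γ : U ⟶ pullback (h ≫ g) g := pullback.lift (𝟙 U) h (Category.id_comp _)
  haveI hγ : Etale γ := by
    refine MorphismProperty.of_postcomp (W := @Etale) (W' := @Etale) γ (pullback.fst (h ≫ g) g) ?_ ?_
    · exact inferInstanceAs (Etale (pullback.fst (h ≫ g) g))
    · rw [pullback.lift_fst]; exact inferInstanceAs (Etale (𝟙 U))
  haveI : Smooth γ := inferInstance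
  have e : γ ≫ pullback.snd (h ≫ g) g = h := pullback.lift_snd _ _ _
  rw [← e]
  infer_instance

theorem locP_flat {X : Sp S} (p : X ⟶ (yon S).obj (Over.mk σ)) : LocP @Flat p := by
  intro U V a b h ha hb w
  obtain ⟨q, rfl⟩ := (yon S).map_surjective b
  haveI : Etale q.left := (repWith_yon_map_iff @Etale q).1 hb
  exact flat_of_etale_over_field h.left q.left

theorem univOpen {X : Sp S} (hX : IsAlgSpace X) (p : X ⟶ (yon S).obj (Over.mk σ)) :
    IsUnivOpenMor p :=
  Groth.Agent.S9911.result (⟨X, hX⟩ : Space S) σ (ObjectProperty.homMk p)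

theorem univOpen_of_isPullback {X Y Y' X' : Sp S} {f : X ⟶ Y} {g : Y' ⟶ Y} {fst : X' ⟶ X}
    {snd : X' ⟶ Y'} (sq : IsPullback fst snd f g) (hf : IsUnivOpenMor f) : IsUnivOpenMor snd :=
  fun _ _ hZ g' fst' snd' sq' => hf hZ (g' ≫ g) (fst' ≫ fst) snd' (sq'.paste_horiz sq)

/-- If `X ⟶ Spec k` has a cartesian square with itself, the projection is flat and universally open. -/
theorem flat_univOpen_of_isPullback {X P : Sp S} (hX : IsAlgSpace X)
    (p : X ⟶ (yon S).obj (Over.mk σ)) {fst snd : P ⟶ X} (sq : IsPullback fst snd p p) :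
    LocP @Flat fst ∧ IsUnivOpenMor fst :=
  ⟨locP_of_isPullback sq.flip hX (IsAlgSpace.yon_obj _) hX (locP_flat p),
    univOpen_of_isPullback sq.flip (univOpen hX p)⟩

end Groth.Agent.AlgSpDec.ToFieldFlat
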