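import Mathlib.Algebra.MvPolynomial.PDeriv
import Mathlib.RingTheory.TensorProduct.Maps
import Mathlib.RingTheory.Flat.FaithfullyFlat.Algebra
import Mathlib.RingTheory.Ideal.Quotient.Operations
import Mathlib.RingTheory.FinitePresentation
import Mathlib.LinearAlgebra.TensorProduct.Pi

/-!
# Gluing infinitesimal lifts along a faithfully flat covering

An etale equivalence relation on the points of an algebra of finite presentation: lifts of a point along
a square-zero thickening form a torsor under a module which commutes with flat base change, so a cocycle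
of lifts over a faithfully flat algebra is a coboundary.
-/

set_option autoImplicit false
set_option backward.isDefEq.respectTransparency false
set_option backward.isDefEq.respectTransparency.types false

universe u

open TensorProduct

namespace Groth.Agent.AlgSpDec.TorsorLift

variable {A R : Type u} [CommRing A] [CommRing R] [Algebra A R]

theorem mul_eq_zero_of_sq {C : Type u} [CommRing C] {J : Ideal C} (hJ : J ^ 2 = ⊥) {a b : C} (ha : a ∈ J)
    (hb : b ∈ J) : a * b = 0 := by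
  have h := Ideal.mul_mem_mul ha hb
  rwa [← pow_two, hJ, Ideal.mem_bot] at h

/-- Taylor expansion of order one. -/
theorem aeval_add {C : Type u} [CommRing C] [Algebra A C] {J : Ideal C} (hJ : J ^ 2 = ⊥) {n : ℕ} (z v : Fin n → C)
    (hv : ∀ i, v i ∈ J) (p : MvPolynomial (Fin n) A) :
    MvPolynomial.aeval (z + v) p =
      MvPolynomial.aeval z p + ∑ i, MvPolynomial.aeval z (MvPolynomial.pderiv i p) * v i := by
  classical
  induction p using MvPolynomial.induction_on with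
  | C a => simp
  | add p q hp hq =>
    rw [map_add, hp, hq]
    simp only [map_add, add_mul, Finset.sum_add_distrib]
    ring
  | mul_X p i hp =>
    have hS : ∑ j, MvPolynomial.aeval z (MvPolynomial.pderiv j p) * v j ∈ J :=
      J.sum_mem fun j _ => J.mul_mem_left _ (hv j)
    have h0 := mul_eq_zero_of_sq hJ hS (hv i)
    rw [map_mul, MvPolynomial.aeval_X, hp, Pi.add_apply]
    simp only [MvPolynomial.pderiv_mul, MvPolynomial.pderiv_X, map_add, map_mul, MvPolynomial.aeval_X, add_mul,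
      Finset.sum_add_distrib, Pi.single_apply, apply_ite (MvPolynomial.aeval z), map_one, map_zero, mul_ite, mul_one,
      mul_zero, ite_mul, zero_mul, Finset.sum_ite_eq', Finset.sum_ite_eq, Finset.mem_univ, if_true]
    have h1 : ∑ j, MvPolynomial.aeval z (MvPolynomial.pderiv j p) * z i * v j =
        (∑ j, MvPolynomial.aeval z (MvPolynomial.pderiv j p) * v j) * z i := by
      rw [Finset.sum_mul]
      exact Finset.sum_congr rfl fun j _ => by ring
    rw [h1]
    linear_combination h0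

/-- A finite presentation. -/
structure Pres (A R : Type u) [CommRing A] [CommRing R] [Algebra A R] where
  n : ℕ
  r : ℕ
  x : Fin n → R
  g : Fin r → MvPolynomial (Fin n) A
  surj : Function.Surjective (MvPolynomial.aeval (R := A) x)
  ker : RingHom.ker (MvPolynomial.aeval (R := A) x) = Ideal.span (Set.range g)

theorem exists_pres [Algebra.FinitePresentation A R] : Nonempty (Pres A R) := by
  obtain ⟨n, f, hf, hfg⟩ := Algebra.FinitePresentation.out (R := A) (A := R)
  obtain ⟨r, g, hg⟩ := Submodule.fg_iff_exists_fin_generating_family.1 hfg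
  have he : MvPolynomial.aeval (R := A) (fun i => f (MvPolynomial.X i)) = f :=
    MvPolynomial.algHom_ext fun i => by simp
  exact ⟨⟨n, r, fun i => f (MvPolynomial.X i), g, by rw [he]; exact hf, by rw [he]; exact hg.symm⟩⟩

variable (P : Pres A R)

section Near

variable {C : Type u} [CommRing C] [Algebra A C]

/-- The linearised equations at a point. -/
noncomputable def lin (y : R →ₐ[A] C) : (Fin P.n → C) →ₗ[C] (Fin P.r → C) where
  toFun v k := ∑ i, MvPolynomial.aeval (y ∘ P.x) (MvPolynomial.pderiv i (P.g k)) * v i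
  map_add' v w := funext fun k => by simp only [Pi.add_apply, mul_add, Finset.sum_add_distrib]
  map_smul' c v := funext fun k => by
    simp only [Pi.smul_apply, smul_eq_mul, RingHom.id_apply, Finset.mul_sum]
    exact Finset.sum_congr rfl fun i _ => by ring

/-- The displacements of a point inside a square-zero ideal. -/
noncomputable def near (y : R →ₐ[A] C) (J : Ideal C) : Submodule C (Fin P.n → C) :=
  Submodule.pi Set.univ (fun _ => J) ⊓ LinearMap.ker (lin P y)

theorem mem_near {y : R →ₐ[A] C} {J : Ideal C} {v : Fin P.n → C} :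
    v ∈ near P y J ↔ (∀ i, v i ∈ J) ∧ lin P y v = 0 := by
  simp [near, Submodule.mem_pi]

theorem aeval_comp (y : R →ₐ[A] C) (p : MvPolynomial (Fin P.n) A) :
    MvPolynomial.aeval (y ∘ P.x) p = y (MvPolynomial.aeval P.x p) :=
  DFunLike.congr_fun (MvPolynomial.comp_aeval (σ := Fin P.n) (R := A) P.x y).symm p

theorem hom_ext {y y' : R →ₐ[A] C} (h : ∀ i, y (P.x i) = y' (P.x i)) : y = y' :=
  AlgHom.ext fun a => by
    obtain ⟨p, rfl⟩ := P.surj a
    rw [← aeval_comp, ← aeval_comp, show (y ∘ P.x) = y' ∘ P.x from funext h]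

theorem exists_point {y : R →ₐ[A] C} {J : Ideal C} (hJ : J ^ 2 = ⊥) {v : Fin P.n → C} (hv : v ∈ near P y J) :
    ∃ w : R →ₐ[A] C, ∀ i, w (P.x i) = y (P.x i) + v i := by
  obtain ⟨hvJ, hlin⟩ := (mem_near P).1 hv
  let φ : MvPolynomial (Fin P.n) A →ₐ[A] C := MvPolynomial.aeval (y ∘ P.x + v)
  have hle : RingHom.ker (MvPolynomial.aeval (R := A) P.x) ≤ RingHom.ker φ := by
    rw [P.ker, Ideal.span_le]
    rintro _ ⟨k, rfl⟩
    show φ (P.g k) = 0
    have hk : MvPolynomial.aeval P.x (P.g k) = 0 := by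
      have : P.g k ∈ RingHom.ker (MvPolynomial.aeval (R := A) P.x) := P.ker ▸ Ideal.subset_span ⟨k, rfl⟩
      exact this
    rw [aeval_add hJ _ _ hvJ, aeval_comp, hk, map_zero, zero_add]
    exact congrFun hlin k
  refine ⟨(Ideal.Quotient.liftₐ _ φ hle).comp (Ideal.quotientKerAlgEquivOfSurjective P.surj).symm.toAlgHom, fun i => ?_⟩
  have : (Ideal.quotientKerAlgEquivOfSurjective P.surj).symm (P.x i) =
      Ideal.Quotient.mk _ (MvPolynomial.X i) := by
    rw [AlgEquiv.symm_apply_eq]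
    exact (MvPolynomial.aeval_X P.x i).symm
  show Ideal.Quotient.liftₐ _ φ hle ((Ideal.quotientKerAlgEquivOfSurjective P.surj).symm (P.x i)) = _
  rw [this]
  exact MvPolynomial.aeval_X _ i

theorem sub_mem_of_forall {y w : R →ₐ[A] C} {J : Ideal C} (h : ∀ i, w (P.x i) - y (P.x i) ∈ J) (a : R) :
    w a - y a ∈ J := by
  obtain ⟨p, rfl⟩ := P.surj a
  induction p using MvPolynomial.induction_on with
  | C a => simp
  | add p q hp hq =>
    rw [map_add, map_add, map_add, add_sub_add_comm]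
    exact J.add_mem hp hq
  | mul_X p i hp =>
    rw [map_mul, map_mul, map_mul, MvPolynomial.aeval_X,
      show ∀ a b c d : C, a * c - b * d = (a - b) * c + b * (c - d) from fun _ _ _ _ => by ring]
    exact J.add_mem (J.mul_mem_right _ hp) (J.mul_mem_left _ (h i))

theorem disp_mem {y w : R →ₐ[A] C} {J : Ideal C} (hJ : J ^ 2 = ⊥) (h : ∀ a, w a - y a ∈ J) :
    (fun i => w (P.x i) - y (P.x i)) ∈ near P y J := by
  refine (mem_near P).2 ⟨fun i => h _, funext fun k => ?_⟩
  have hk : MvPolynomial.aeval P.x (P.g k) = 0 := by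
    have : P.g k ∈ RingHom.ker (MvPolynomial.aeval (R := A) P.x) := P.ker ▸ Ideal.subset_span ⟨k, rfl⟩
    exact this
  have h1 := aeval_add (A := A) hJ (y ∘ P.x) (fun i => w (P.x i) - y (P.x i)) (fun i => h _) (P.g k)
  rw [show (y ∘ P.x + fun i => w (P.x i) - y (P.x i)) = w ∘ P.x from funext fun i => by simp,
    aeval_comp, aeval_comp, hk, map_zero, map_zero, zero_add] at h1
  exact h1.symm

theorem lin_comp {C' : Type u} [CommRing C'] [Algebra A C'] (q : C →ₐ[A] C') (y : R →ₐ[A] C) (v : Fin P.n → C) :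
    lin P (q.comp y) (q ∘ v) = q ∘ lin P y v :=
  funext fun k => by
    simp only [lin, LinearMap.coe_mk, AddHom.coe_mk, Function.comp_apply, map_sum, map_mul]
    refine Finset.sum_congr rfl fun i _ => ?_
    congr 1
    exact (DFunLike.congr_fun (MvPolynomial.comp_aeval (σ := Fin P.n) (R := A) (y ∘ P.x) q) _).symm

theorem comp_mem_near {C' : Type u} [CommRing C'] [Algebra A C'] (q : C →ₐ[A] C') {y : R →ₐ[A] C} {J : Ideal C}
    {J' : Ideal C'} (hq : J ≤ J'.comap q.toRingHom) {v : Fin P.n → C} (hv : v ∈ near P y J) :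
    q ∘ v ∈ near P (q.comp y) J' := by
  obtain ⟨hvJ, hlin⟩ := (mem_near P).1 hv
  refine (mem_near P).2 ⟨fun i => hq (hvJ i), ?_⟩
  rw [lin_comp, hlin]
  exact funext fun _ => map_zero q

end Near

/-- An etale equivalence relation on points with values in `A`-algebras. -/
structure EtRel (A R : Type u) [CommRing A] [CommRing R] [Algebra A R] where
  rel : ∀ {C : Type u} [CommRing C] [Algebra A C], (R →ₐ[A] C) → (R →ₐ[A] C) → Prop
  symm : ∀ {C : Type u} [CommRing C] [Algebra A C] {w w' : R →ₐ[A] C}, rel w w' → rel w' w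
  trans : ∀ {C : Type u} [CommRing C] [Algebra A C] {w w' w'' : R →ₐ[A] C}, rel w w' → rel w' w'' → rel w w''
  map : ∀ {C C' : Type u} [CommRing C] [Algebra A C] [CommRing C'] [Algebra A C'] (q : C →ₐ[A] C')
    {w w' : R →ₐ[A] C}, rel w w' → rel (q.comp w) (q.comp w')
  lift : ∀ {C C' : Type u} [CommRing C] [Algebra A C] [CommRing C'] [Algebra A C'] (π : C →ₐ[A] C'),
    Function.Surjective π → (RingHom.ker π) ^ 2 = ⊥ → ∀ (w : R →ₐ[A] C) (w₀ : R →ₐ[A] C'),
    rel (π.comp w) w₀ → ∃! w', π.comp w' = w₀ ∧ rel w w'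

variable (E : EtRel A R)

section Transport

variable {C : Type u} [CommRing C] [Algebra A C]

/-- Two base points related modulo a square-zero ideal. -/
structure Base (E : EtRel A R) (C : Type u) [CommRing C] [Algebra A C] where
  y₁ : R →ₐ[A] C
  y₂ : R →ₐ[A] C
  J : Ideal C
  sq : J ^ 2 = ⊥
  rel : E.rel ((Ideal.Quotient.mkₐ A J).comp y₂) ((Ideal.Quotient.mkₐ A J).comp y₁)

variable {E} {P} (b : Base E C)

theorem mk_comp_eq_iff {J : Ideal C} {w y : R →ₐ[A] C} :
    (Ideal.Quotient.mkₐ A J).comp w = (Ideal.Quotient.mkₐ A J).comp y ↔ ∀ a, w a - y a ∈ J :=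
  ⟨fun h a => Ideal.Quotient.eq.1 (DFunLike.congr_fun h a), fun h => AlgHom.ext fun a => Ideal.Quotient.eq.2 (h a)⟩

theorem existsUnique_transport {w : R →ₐ[A] C} (hw : ∀ a, w a - b.y₂ a ∈ b.J) :
    ∃! w', (∀ a, w' a - b.y₁ a ∈ b.J) ∧ E.rel w w' := by
  have h0 : E.rel ((Ideal.Quotient.mkₐ A b.J).comp w) ((Ideal.Quotient.mkₐ A b.J).comp b.y₁) := by
    rw [mk_comp_eq_iff.2 hw]; exact b.rel
  have h := E.lift (Ideal.Quotient.mkₐ A b.J) (Ideal.Quotient.mkₐ_surjective A _)
    (by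
      rw [show RingHom.ker (Ideal.Quotient.mkₐ A b.J) = b.J from Ideal.Quotient.mkₐ_ker A b.J]
      exact b.sq) w _ h0
  simpa only [mk_comp_eq_iff] using h

/-- `v'` is the displacement at the first point related to the displacement `v` at the second one. -/
def IsTransp (P : Pres A R) (b : Base E C) (v v' : Fin P.n → C) : Prop :=
  ∃ w w' : R →ₐ[A] C, (∀ i, w (P.x i) = b.y₂ (P.x i) + v i) ∧ (∀ i, w' (P.x i) = b.y₁ (P.x i) + v' i) ∧ E.rel w w'

theorem exists_transp {v : Fin P.n → C} (hv : v ∈ near P b.y₂ b.J) :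
    ∃ v', v' ∈ near P b.y₁ b.J ∧ IsTransp P b v v' := by
  obtain ⟨w, hw⟩ := exists_point P b.sq hv
  obtain ⟨w', ⟨hw', hr⟩, -⟩ := existsUnique_transport b (w := w) (sub_mem_of_forall P fun i => by
    rw [hw, add_sub_cancel_left]; exact ((mem_near P).1 hv).1 i)
  exact ⟨_, disp_mem P b.sq hw', w, w', hw, fun i => by simp, hr⟩

theorem IsTransp.unique {v v₁ v₂ : Fin P.n → C} (hv : ∀ i, v i ∈ b.J) (h₁J : ∀ i, v₁ i ∈ b.J) (h₂J : ∀ i, v₂ i ∈ b.J)
    (h₁ : IsTransp P b v v₁) (h₂ : IsTransp P b v v₂) : v₁ = v₂ := by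
  obtain ⟨w, w₁, hw, hw₁, hr₁⟩ := h₁
  obtain ⟨w', w₂, hw', hw₂, hr₂⟩ := h₂
  obtain rfl : w' = w := hom_ext P fun i => by rw [hw, hw']
  have := (existsUnique_transport b (sub_mem_of_forall P fun i => by rw [hw, add_sub_cancel_left]; exact hv i)).unique
    ⟨sub_mem_of_forall P fun i => by rw [hw₁, add_sub_cancel_left]; exact h₁J i, hr₁⟩
    ⟨sub_mem_of_forall P fun i => by rw [hw₂, add_sub_cancel_left]; exact h₂J i, hr₂⟩
  exact funext fun i => add_left_cancel ((hw₁ i).symm.trans ((DFunLike.congr_fun this _).trans (hw₂ i)))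

/-- The transported displacement. -/
noncomputable def ψ (v : near P b.y₂ b.J) : near P b.y₁ b.J :=
  ⟨(exists_transp b v.2).choose, (exists_transp b v.2).choose_spec.1⟩

theorem ψ_spec (v : near P b.y₂ b.J) : IsTransp P b v (ψ b v) := (exists_transp b v.2).choose_spec.2

theorem ψ_eq (v : near P b.y₂ b.J) {v' : Fin P.n → C} (hv' : ∀ i, v' i ∈ b.J) (h : IsTransp P b v v') :
    (ψ b v : Fin P.n → C) = v' :=
  IsTransp.unique b ((mem_near P).1 v.2).1 ((mem_near P).1 (ψ b v).2).1 hv' (ψ_spec b v) h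

/-- Triples congruent modulo the ideal. -/
def triples (A : Type u) [CommRing A] [Algebra A C] (J : Ideal C) : Subalgebra A (C × C × C) where
  carrier := {t | t.2.1 - t.1 ∈ J ∧ t.2.2 - t.1 ∈ J}
  add_mem' {s t} hs ht := ⟨by simpa [add_sub_add_comm] using J.add_mem hs.1 ht.1,
    by simpa [add_sub_add_comm] using J.add_mem hs.2 ht.2⟩
  mul_mem' {s t} hs ht := by
    refine ⟨?_, ?_⟩
    · have h := J.add_mem (J.mul_mem_right t.2.1 hs.1) (J.mul_mem_left s.1 ht.1)
      convert h using 1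
      simp; ring
    · have h := J.add_mem (J.mul_mem_right t.2.2 hs.2) (J.mul_mem_left s.1 ht.2)
      convert h using 1
      simp; ring
  algebraMap_mem' a := ⟨by simp, by simp⟩

/-- The transport is affine. -/
theorem ψ_affine (v v' : near P b.y₂ b.J) (l m : C) :
    (ψ b (l • v + m • v') : Fin P.n → C) - ψ (P := P) b 0 =
      l • ((ψ b v : Fin P.n → C) - ψ (P := P) b 0) + m • ((ψ b v' : Fin P.n → C) - ψ (P := P) b 0) := by
  let D := triples (C := C) A b.J
  let π : D →ₐ[A] C ⧸ b.J := (Ideal.Quotient.mkₐ A b.J).comp ((AlgHom.fst A C (C × C)).comp D.val)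
  have hmem : ∀ (w₀ w₁ w₂ y : R →ₐ[A] C), (∀ a, w₀ a - y a ∈ b.J) → (∀ a, w₁ a - y a ∈ b.J) →
      (∀ a, w₂ a - y a ∈ b.J) → ∀ a, (w₀.prod (w₁.prod w₂)) a ∈ D := fun w₀ w₁ w₂ y h₀ h₁ h₂ a =>
    ⟨by simpa using b.J.sub_mem (h₁ a) (h₀ a), by simpa using b.J.sub_mem (h₂ a) (h₀ a)⟩
  have near_pt : ∀ {y : R →ₐ[A] C} {v : Fin P.n → C} {w : R →ₐ[A] C}, (∀ i, v i ∈ b.J) →
      (∀ i, w (P.x i) = y (P.x i) + v i) → ∀ a, w a - y a ∈ b.J := fun hv hw =>
    sub_mem_of_forall P fun i => by rw [hw, add_sub_cancel_left]; exact hv i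
  obtain ⟨w₀, w₀', hw₀, hw₀', hr₀⟩ := ψ_spec b (0 : near P b.y₂ b.J)
  obtain ⟨w₁, w₁', hw₁, hw₁', hr₁⟩ := ψ_spec b v
  obtain ⟨w₂, w₂', hw₂, hw₂', hr₂⟩ := ψ_spec b v'
  have n₀ := near_pt ((mem_near P).1 (0 : near P b.y₂ b.J).2).1 hw₀
  have n₁ := near_pt ((mem_near P).1 v.2).1 hw₁
  have n₂ := near_pt ((mem_near P).1 v'.2).1 hw₂
  let W : R →ₐ[A] D := (w₀.prod (w₁.prod w₂)).codRestrict D (hmem _ _ _ _ n₀ n₁ n₂)
  obtain ⟨W', ⟨hW'₁, hW'₂⟩, -⟩ := E.lift π
    (fun z => by
      obtain ⟨c, rfl⟩ := Ideal.Quotient.mk_surjective z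
      exact ⟨⟨(c, c, c), by simp, by simp⟩, rfl⟩)
    (by
      rw [eq_bot_iff, pow_two, Ideal.mul_le]
      intro s hs t ht
      have key : ∀ z : D, z ∈ RingHom.ker π → z.1.1 ∈ b.J ∧ z.1.2.1 ∈ b.J ∧ z.1.2.2 ∈ b.J := fun z hz => by
        have h1 : z.1.1 ∈ b.J := Ideal.Quotient.eq_zero_iff_mem.1 hz
        exact ⟨h1, by simpa using b.J.add_mem z.2.1 h1, by simpa using b.J.add_mem z.2.2 h1⟩
      rw [Ideal.mem_bot]
      obtain ⟨a1, a2, a3⟩ := key s hs
      obtain ⟨c1, c2, c3⟩ := key t ht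
      exact Subtype.ext (Prod.ext (mul_eq_zero_of_sq b.sq a1 c1)
        (Prod.ext (mul_eq_zero_of_sq b.sq a2 c2) (mul_eq_zero_of_sq b.sq a3 c3))))
    W ((Ideal.Quotient.mkₐ A b.J).comp b.y₁)
    (by
      rw [show π.comp W = (Ideal.Quotient.mkₐ A b.J).comp b.y₂ from mk_comp_eq_iff.2 n₀]
      exact b.rel)
  let p₀ : D →ₐ[A] C := (AlgHom.fst A C (C × C)).comp D.val
  let p₁ : D →ₐ[A] C := ((AlgHom.fst A C C).comp (AlgHom.snd A C (C × C))).comp D.val
  let p₂ : D →ₐ[A] C := ((AlgHom.snd A C C).comp (AlgHom.snd A C (C × C))).comp D.val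
  have hW'0 : ∀ a, p₀ (W' a) - b.y₁ a ∈ b.J := fun a => Ideal.Quotient.eq.1 (DFunLike.congr_fun hW'₁ a)
  have hW'1 : ∀ a, p₁ (W' a) - b.y₁ a ∈ b.J := fun a => by
    convert b.J.add_mem (W' a).2.1 (hW'0 a) using 1
    show (W' a).1.2.1 - b.y₁ a = (W' a).1.2.1 - (W' a).1.1 + ((W' a).1.1 - b.y₁ a)
    ring
  have hW'2 : ∀ a, p₂ (W' a) - b.y₁ a ∈ b.J := fun a => by
    convert b.J.add_mem (W' a).2.2 (hW'0 a) using 1
    show (W' a).1.2.2 - b.y₁ a = (W' a).1.2.2 - (W' a).1.1 + ((W' a).1.1 - b.y₁ a)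
    ring
  have e₀ : p₀.comp W' = w₀' := (existsUnique_transport b n₀).unique
    ⟨hW'0, E.map p₀ hW'₂⟩ ⟨near_pt ((mem_near P).1 (ψ b (0 : near P b.y₂ b.J)).2).1 hw₀', hr₀⟩
  have e₁ : p₁.comp W' = w₁' := (existsUnique_transport b n₁).unique
    ⟨hW'1, E.map p₁ hW'₂⟩ ⟨near_pt ((mem_near P).1 (ψ b v).2).1 hw₁', hr₁⟩
  have e₂ : p₂.comp W' = w₂' := (existsUnique_transport b n₂).unique
    ⟨hW'2, E.map p₂ hW'₂⟩ ⟨near_pt ((mem_near P).1 (ψ b v').2).1 hw₂', hr₂⟩
  let χ : D →ₐ[A] C :=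
    { toFun := fun t => t.1.1 + l * (t.1.2.1 - t.1.1) + m * (t.1.2.2 - t.1.1)
      map_one' := by simp
      map_mul' := fun s t => by
        have h11 := mul_eq_zero_of_sq b.sq s.2.1 t.2.1
        have h22 := mul_eq_zero_of_sq b.sq s.2.2 t.2.2
        have h12 := mul_eq_zero_of_sq b.sq s.2.1 t.2.2
        have h21 := mul_eq_zero_of_sq b.sq s.2.2 t.2.1
        simp only [MulMemClass.coe_mul, Prod.fst_mul, Prod.snd_mul]
        linear_combination (l - l * l) * h11 + (m - m * m) * h22 - l * m * h12 - l * m * h21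
      map_zero' := by simp
      map_add' := fun s t => by
        simp only [AddMemClass.coe_add, Prod.fst_add, Prod.snd_add]; ring
      commutes' := fun a => by simp }
  have hχ : IsTransp P b ↑(l • v + m • v')
      ((ψ (P := P) b 0 : Fin P.n → C) + (l • ((ψ b v : Fin P.n → C) - ψ (P := P) b 0) + m • ((ψ b v' : Fin P.n → C) - ψ (P := P) b 0))) := by
    refine ⟨χ.comp W, χ.comp W', fun i => ?_, fun i => ?_, E.map χ hW'₂⟩
    · show w₀ (P.x i) + l * (w₁ (P.x i) - w₀ (P.x i)) + m * (w₂ (P.x i) - w₀ (P.x i)) = _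
      rw [hw₀, hw₁, hw₂]
      simp [smul_eq_mul]
      ring
    · show p₀.comp W' (P.x i) + l * (p₁.comp W' (P.x i) - p₀.comp W' (P.x i)) +
        m * (p₂.comp W' (P.x i) - p₀.comp W' (P.x i)) = _
      rw [e₀, e₁, e₂, hw₀', hw₁', hw₂']
      simp [smul_eq_mul]
      ring
  rw [ψ_eq b _ ?_ hχ, add_sub_cancel_left]
  have hsub : ∀ w : near P b.y₂ b.J, (ψ b w : Fin P.n → C) - ψ (P := P) b 0 ∈ near P b.y₁ b.J := fun w =>
    Submodule.sub_mem _ (ψ b w).2 (ψ (P := P) b 0).2
  exact ((mem_near P).1 (Submodule.add_mem _ (ψ (P := P) b 0).2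
    (Submodule.add_mem _ (Submodule.smul_mem _ l (hsub v)) (Submodule.smul_mem _ m (hsub v'))))).1

/-- The linear part of the transport. -/
noncomputable def φ : near P b.y₂ b.J →ₗ[C] Fin P.n → C where
  toFun v := (ψ b v : Fin P.n → C) - ψ (P := P) b 0
  map_add' v v' := by simpa using ψ_affine b v v' 1 1
  map_smul' l v := by simpa using ψ_affine b v v l 0

theorem ψ_map {C' : Type u} [CommRing C'] [Algebra A C'] (b' : Base E C') (q : C →ₐ[A] C')
    (h₁ : q.comp b.y₁ = b'.y₁) (h₂ : q.comp b.y₂ = b'.y₂) (hq : b.J ≤ b'.J.comap q.toRingHom)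
    (v : near P b.y₂ b.J) (v' : near P b'.y₂ b'.J) (hv : q ∘ (v : Fin P.n → C) = v') :
    q ∘ (ψ b v : Fin P.n → C) = ψ b' v' := by
  obtain ⟨w, w', hw, hw', hr⟩ := ψ_spec b v
  refine (ψ_eq b' v' (fun i => hq (((mem_near P).1 (ψ b v).2).1 i)) ⟨q.comp w, q.comp w', fun i => ?_, fun i => ?_, E.map q hr⟩).symm
  · rw [AlgHom.comp_apply, hw, map_add, ← congrFun hv i, ← DFunLike.congr_fun h₂ (P.x i)]; rfl
  · rw [AlgHom.comp_apply, hw', map_add, ← DFunLike.congr_fun h₁ (P.x i)]; rfl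

end Transport

section Descent

variable {B : Type u} [CommRing B] [Algebra A B]

theorem map_sq {A' : Type u} [CommRing A'] [Algebra A A'] {I : Ideal A} (hI : I ^ 2 = ⊥) :
    (I.map (algebraMap A A')) ^ 2 = ⊥ := by rw [← Ideal.map_pow, hI, Ideal.map_bot]

theorem map_le_comap {C C' : Type u} [CommRing C] [Algebra A C] [CommRing C'] [Algebra A C'] (I : Ideal A)
    (q : C →ₐ[A] C') : I.map (algebraMap A C) ≤ (I.map (algebraMap A C')).comap q.toRingHom :=
  Ideal.map_le_iff_le_comap.2 fun a ha => by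
    rw [Ideal.mem_comap, Ideal.mem_comap]
    exact (q.commutes a).symm ▸ Ideal.mem_map_of_mem _ ha

/-- An element of the extended ideal of a tensor product comes from the extended ideal tensored. -/
theorem mem_range_rTensor (I : Ideal A) {x : B ⊗[A] B} (hx : x ∈ I.map (algebraMap A (B ⊗[A] B))) :
    x ∈ LinearMap.range (((I.map (algebraMap A B)).restrictScalars A).subtype.rTensor B) := by
  rw [Ideal.map, Ideal.span] at hx
  induction hx using Submodule.span_induction with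
  | mem y hy =>
    obtain ⟨a, ha, rfl⟩ := hy
    exact ⟨⟨algebraMap A B a, Ideal.mem_map_of_mem _ ha⟩ ⊗ₜ 1, by
      simp [Algebra.TensorProduct.algebraMap_apply]⟩
  | zero => exact zero_mem _
  | add y z _ _ hy hz => exact add_mem hy hz
  | smul c y hy' hy =>
    obtain ⟨z, rfl⟩ := hy
    clear hy'
    induction c using TensorProduct.induction_on with
    | zero => simp
    | add p q hp hq => rw [add_smul]; exact add_mem hp hq
    | tmul s t =>
      induction z using TensorProduct.induction_on with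
      | zero => simp
      | add p q hp hq => rw [map_add, smul_add]; exact add_mem hp hq
      | tmul j t' =>
        exact ⟨⟨s * j.1, Ideal.mul_mem_left _ _ j.2⟩ ⊗ₜ (t * t'), by simp [smul_eq_mul]⟩

/-- Elements near a base-changed point come from elements near the point. -/
theorem exists_sum_near [Module.Flat A B] (I : Ideal A) (y : R →ₐ[A] B) {c : Fin P.n → B ⊗[A] B}
    (hc : c ∈ near P (Algebra.TensorProduct.includeLeft.comp y) (I.map (algebraMap A (B ⊗[A] B)))) :
    ∃ z : (near P y (I.map (algebraMap A B))).restrictScalars A ⊗[A] B,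
      ∀ i, ((LinearMap.proj i).comp ((near P y (I.map (algebraMap A B))).restrictScalars A).subtype).rTensor B z =
        c i := by
  classical
  obtain ⟨hcJ, hlin⟩ := (mem_near P).1 hc
  let K := (I.map (algebraMap A B)).restrictScalars A
  choose z hz using fun i => mem_range_rTensor I (hcJ i)
  let M := Fin P.n → K
  let L : M →ₗ[A] (Fin P.r → B) :=
    ((lin P y).restrictScalars A).comp (LinearMap.pi fun i => K.subtype.comp (LinearMap.proj i))
  let Z : M ⊗[A] B := ∑ i, (LinearMap.single A (fun _ : Fin P.n => K) i).rTensor B (z i)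
  have hZ : ∀ i, (K.subtype.comp (LinearMap.proj i)).rTensor B Z = c i := fun i => by
    simp only [Z, map_sum]
    rw [Finset.sum_eq_single i, ← LinearMap.comp_apply, ← LinearMap.rTensor_comp, show (K.subtype.comp (LinearMap.proj i)).comp
      (LinearMap.single A (fun _ : Fin P.n => K) i) = K.subtype from LinearMap.ext fun k => by simp]
    · exact hz i
    · intro j _ hj
      rw [← LinearMap.comp_apply, ← LinearMap.rTensor_comp, show (K.subtype.comp (LinearMap.proj i)).comp (LinearMap.single A (fun _ : Fin P.n => K) j) = 0 from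
        LinearMap.ext fun k => by simp [Pi.single_eq_of_ne hj.symm]]
      simp
    · simp
  have hker : L.rTensor B Z = 0 := by
    have key : ∀ (k : Fin P.r) (w : M ⊗[A] B), (LinearMap.proj k : (Fin P.r → B) →ₗ[A] B).rTensor B (L.rTensor B w) =
        lin P (Algebra.TensorProduct.includeLeft.comp y)
          (fun i => (K.subtype.comp (LinearMap.proj i)).rTensor B w) k := by
      intro k w
      induction w using TensorProduct.induction_on with
      | zero => simp; exact (congrFun (map_zero (lin P _)) k).symm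
      | add p q hp hq =>
        rw [map_add, map_add, hp, hq]
        simp only [map_add]
        exact (congrFun (map_add (lin P _) _ _) k).symm
      | tmul v t =>
        simp only [LinearMap.rTensor_tmul]
        have h := congrFun (lin_comp P (Algebra.TensorProduct.includeLeft : B →ₐ[A] B ⊗[A] B) y
          (fun i => (v i : B))) k
        have h' : lin P (Algebra.TensorProduct.includeLeft.comp y) (fun i => (v i : B) ⊗ₜ[A] t) k =
            ((1 : B) ⊗ₜ[A] t) * lin P (Algebra.TensorProduct.includeLeft.comp y) (fun i => (v i : B) ⊗ₜ[A] (1 : B)) k := by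
          rw [← smul_eq_mul, ← Pi.smul_apply, ← map_smul]
          refine congrFun (congrArg _ (funext fun i => ?_)) k
          simp
        simp only [Function.comp_def, Algebra.TensorProduct.includeLeft_apply] at h
        show lin P y (fun i => (v i : B)) k ⊗ₜ[A] t =
          lin P (Algebra.TensorProduct.includeLeft.comp y) (fun i => (v i : B) ⊗ₜ[A] t) k
        rw [h', h, Algebra.TensorProduct.tmul_mul_tmul, one_mul, mul_one]
    refine (TensorProduct.piLeft (R := A) (N := B) (M := fun _ : Fin P.r => B)).injective (funext fun k => ?_)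
    rw [map_zero]
    have h2 := key k Z
    simp only [hZ, hlin] at h2
    refine Eq.trans ?_ h2
    generalize L.rTensor B Z = w
    induction w using TensorProduct.induction_on with
    | zero => simp
    | add p q hp hq => rw [map_add, Pi.add_apply, map_add, hp, hq]
    | tmul v t => simp
  obtain ⟨w, hw⟩ := (Module.Flat.rTensor_exact (M := B) (N := ↥(LinearMap.ker L)) (N' := M) (N'' := Fin P.r → B) (f := (LinearMap.ker L).subtype) (g := L) (LinearMap.exact_subtype_ker_map L) Z).1 hker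
  let incl : LinearMap.ker L →ₗ[A] (near P y (I.map (algebraMap A B))).restrictScalars A :=
    LinearMap.codRestrict _ ((LinearMap.pi fun i => K.subtype.comp (LinearMap.proj i)).comp (LinearMap.ker L).subtype)
      fun v => (mem_near P).2 ⟨fun i => (v.1 i).2, v.2⟩
  refine ⟨incl.rTensor B w, fun i => ?_⟩
  rw [← hZ i, ← hw, ← LinearMap.comp_apply, ← LinearMap.comp_apply, ← LinearMap.rTensor_comp,
    ← LinearMap.rTensor_comp]
  rfl

section

variable {E}

theorem mem_range_of_rTensor [Module.FaithfullyFlat A B] {M N : Type u} [AddCommGroup M] [Module A M]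
    [AddCommGroup N] [Module A N] (d : M →ₗ[A] N) (x : N) {z : M ⊗[A] B} (h : d.rTensor B z = x ⊗ₜ (1 : B)) :
    x ∈ LinearMap.range d := by
  have hl : d.lTensor B (TensorProduct.comm A M B z) = (1 : B) ⊗ₜ x := by
    rw [← TensorProduct.comm_tmul A, ← h]
    clear h
    induction z using TensorProduct.induction_on with
    | zero => simp
    | tmul a b => simp
    | add a b ha hb => simp only [map_add, ha, hb]
  rw [← Submodule.Quotient.mk_eq_zero]
  apply Module.FaithfullyFlat.tensorProduct_mk_injective (A := A) (B := B) (N ⧸ LinearMap.range d)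
  have := congrArg ((LinearMap.range d).mkQ.lTensor B) hl
  rw [← LinearMap.comp_apply, ← LinearMap.lTensor_comp, LinearMap.range_mkQ_comp, LinearMap.lTensor_zero,
    LinearMap.zero_apply] at this
  simpa using this.symm

/-- Lifts which agree on the double overlap modulo the thickening can be corrected to descend. -/
theorem exists_corrected [Algebra.FinitePresentation A R] [Module.FaithfullyFlat A B] (E : EtRel A R) (I : Ideal A)
    (hI : I ^ 2 = ⊥) (u : R →ₐ[A] B)
    (hu : E.rel ((Ideal.Quotient.mkₐ A (I.map (algebraMap A (B ⊗[A] B)))).comp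
        (Algebra.TensorProduct.includeRight.comp u))
      ((Ideal.Quotient.mkₐ A (I.map (algebraMap A (B ⊗[A] B)))).comp (Algebra.TensorProduct.includeLeft.comp u))) :
    ∃ u' : R →ₐ[A] B, (∀ a, u' a - u a ∈ I.map (algebraMap A B)) ∧
      E.rel (C := B ⊗[A] B) (Algebra.TensorProduct.includeRight.comp u') (Algebra.TensorProduct.includeLeft.comp u') := by
  classical
  obtain ⟨P⟩ := exists_pres (A := A) (R := R)
  let p₁ : B →ₐ[A] B ⊗[A] B := Algebra.TensorProduct.includeLeft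
  let p₂ : B →ₐ[A] B ⊗[A] B := Algebra.TensorProduct.includeRight
  let J := I.map (algebraMap A (B ⊗[A] B))
  let J₃ := I.map (algebraMap A ((B ⊗[A] B) ⊗[A] B))
  let b₂ : Base E (B ⊗[A] B) := ⟨p₁.comp u, p₂.comp u, J, map_sq hI, hu⟩
  let q₁₂ : B ⊗[A] B →ₐ[A] (B ⊗[A] B) ⊗[A] B := Algebra.TensorProduct.includeLeft
  let q₁₃ : B ⊗[A] B →ₐ[A] (B ⊗[A] B) ⊗[A] B := Algebra.TensorProduct.map p₁ (AlgHom.id A B)
  let q₂₃ : B ⊗[A] B →ₐ[A] (B ⊗[A] B) ⊗[A] B := Algebra.TensorProduct.map p₂ (AlgHom.id A B)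
  have h₁₃ : ∀ x, q₁₃ (p₁ x) = q₁₂ (p₁ x) := fun x => by simp [q₁₃, q₁₂, p₁]
  have h₂₃ : ∀ x, q₂₃ (p₁ x) = q₁₂ (p₂ x) := fun x => by simp [q₂₃, q₁₂, p₁, p₂]
  have h₃₃ : ∀ x, q₂₃ (p₂ x) = q₁₃ (p₂ x) := fun x => by
    simp [q₂₃, q₁₃, p₁, p₂, Algebra.TensorProduct.one_def]
  let b₃ : Base E ((B ⊗[A] B) ⊗[A] B) := ⟨q₁₂.comp b₂.y₁, q₁₂.comp b₂.y₂, J₃, map_sq hI, by
    let π := Ideal.quotientMapₐ J₃ q₁₂ (map_le_comap I q₁₂)
    have he : ∀ y : R →ₐ[A] B ⊗[A] B, π.comp ((Ideal.Quotient.mkₐ A J).comp y) =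
        (Ideal.Quotient.mkₐ A J₃).comp (q₁₂.comp y) := fun y => AlgHom.ext fun a => rfl
    rw [← he, ← he]
    exact E.map (C := (B ⊗[A] B) ⧸ J) (C' := ((B ⊗[A] B) ⊗[A] B) ⧸ J₃) π hu⟩
  let c₀ : Fin P.n → B ⊗[A] B := (ψ b₂ (0 : near P b₂.y₂ b₂.J) : Fin P.n → B ⊗[A] B)
  have hc₀ : c₀ ∈ near P (p₁.comp u) J := (ψ b₂ (0 : near P b₂.y₂ b₂.J)).2
  obtain ⟨z, hz⟩ := exists_sum_near P I u hc₀
  let Z₀ := (near P u (I.map (algebraMap A B))).restrictScalars A
  have hp₂ : ∀ v : Z₀, p₂ ∘ (v : Fin P.n → B) ∈ near P b₂.y₂ b₂.J := fun v =>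
    comp_mem_near P p₂ (map_le_comap I p₂) v.2
  let ι₂ : Z₀ →ₗ[A] near P b₂.y₂ b₂.J :=
    { toFun := fun v => ⟨_, hp₂ v⟩
      map_add' := fun v w => Subtype.ext (funext fun i => map_add p₂ _ _)
      map_smul' := fun l v => Subtype.ext (funext fun i => map_smul p₂ l _) }
  let d : Z₀ →ₗ[A] (Fin P.n → B ⊗[A] B) :=
    (LinearMap.pi fun i => p₁.toLinearMap.comp (LinearMap.proj i)).comp Z₀.subtype -
      ((φ (P := P) b₂).restrictScalars A).comp ι₂
  let G : Z₀ ⊗[A] B → Fin P.n → B ⊗[A] B := fun w i => ((LinearMap.proj i).comp Z₀.subtype).rTensor B w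
  have hG : ∀ (v : Z₀) (t : B), G (v ⊗ₜ t) = ((1 : B) ⊗ₜ[A] t) • (p₁ ∘ (v : Fin P.n → B)) := fun v t =>
    funext fun i => by simp [G, p₁]
  have hGmem : ∀ w, G w ∈ near P (p₁.comp u) J := fun w => by
    induction w using TensorProduct.induction_on with
    | zero => convert Submodule.zero_mem (near P (p₁.comp u) J) using 1; exact funext fun i => by simp [G]
    | tmul v t => rw [hG]; exact Submodule.smul_mem _ _ (comp_mem_near P p₁ (map_le_comap I p₁) v.2)
    | add a b ha hb => convert Submodule.add_mem _ ha hb using 1; exact funext fun i => by simp [G]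
  have hq₂₃ : ∀ w, q₂₃ ∘ G w ∈ near P b₃.y₂ b₃.J := fun w => by
    have h := comp_mem_near P q₂₃ (map_le_comap I q₂₃) (J' := J₃) (hGmem w)
    rwa [show q₂₃.comp (p₁.comp u) = b₃.y₂ from AlgHom.ext fun a => h₂₃ (u a)] at h
  have key : ∀ (w : Z₀ ⊗[A] B) (i : Fin P.n),
      (LinearMap.proj i : (Fin P.n → B ⊗[A] B) →ₗ[A] _).rTensor B (d.rTensor B w) =
        q₁₃ (G w i) - φ b₃ ⟨q₂₃ ∘ G w, hq₂₃ w⟩ i := by
    intro w
    induction w using TensorProduct.induction_on with
    | zero =>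
      intro i
      rw [show (⟨q₂₃ ∘ G 0, hq₂₃ 0⟩ : near P b₃.y₂ b₃.J) = 0 from Subtype.ext (funext fun j => by simp [G]),
        map_zero]
      simp [G]
    | add a b ha hb =>
      intro i
      rw [show (⟨q₂₃ ∘ G (a + b), hq₂₃ _⟩ : near P b₃.y₂ b₃.J) = ⟨q₂₃ ∘ G a, hq₂₃ a⟩ + ⟨q₂₃ ∘ G b, hq₂₃ b⟩ from
        Subtype.ext (funext fun j => by simp [G]), map_add, map_add, map_add, ha, hb]
      simp only [G, map_add, Pi.add_apply]
      ring
    | tmul v t =>
      intro i
      have hm : q₁₂ ∘ (p₂ ∘ (v : Fin P.n → B)) ∈ near P b₃.y₂ b₃.J :=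
        comp_mem_near P q₁₂ (map_le_comap I q₁₂) (hp₂ v)
      let β : (B ⊗[A] B) ⊗[A] B := 1 ⊗ₜ t
      have he : (⟨q₂₃ ∘ G (v ⊗ₜ t), hq₂₃ _⟩ : near P b₃.y₂ b₃.J) = β • ⟨_, hm⟩ :=
        Subtype.ext (funext fun j => by
          simp [hG, β, q₂₃, q₁₂, p₁, p₂, Algebra.TensorProduct.one_def])
      rw [he, map_smul]
      have hn : (φ b₃ ⟨_, hm⟩ : Fin P.n → (B ⊗[A] B) ⊗[A] B) = q₁₂ ∘ φ b₂ (ι₂ v) := by
        have e1 := ψ_map b₂ b₃ q₁₂ rfl rfl (map_le_comap I q₁₂) (ι₂ v) (⟨_, hm⟩ : near P b₃.y₂ b₃.J) rfl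
        have e0 := ψ_map b₂ b₃ q₁₂ rfl rfl (map_le_comap I q₁₂) (0 : near P b₂.y₂ b₂.J) (0 : near P b₃.y₂ b₃.J)
          (funext fun j => map_zero q₁₂)
        show (ψ b₃ (⟨_, hm⟩ : near P b₃.y₂ b₃.J) : Fin P.n → (B ⊗[A] B) ⊗[A] B) - ψ b₃ (0 : near P b₃.y₂ b₃.J) = _
        rw [← e1, ← e0]
        exact funext fun j => (map_sub q₁₂ _ _).symm
      rw [hn, hG]
      show ((d v) i) ⊗ₜ[A] t = q₁₃ (((1 : B) ⊗ₜ[A] t) * p₁ ((v : Fin P.n → B) i)) - β * q₁₂ (φ b₂ (ι₂ v) i)
      rw [show d v i = p₁ ((v : Fin P.n → B) i) - φ b₂ (ι₂ v) i from rfl, TensorProduct.sub_tmul]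
      simp [β, q₁₃, q₁₂, p₁]
  have hGz : G z = c₀ := funext hz
  have hc : d.rTensor B z = c₀ ⊗ₜ (1 : B) := by
    refine (TensorProduct.piLeft (R := A) (N := B) (M := fun _ : Fin P.n => B ⊗[A] B)).injective (funext fun i => ?_)
    have hpi : ∀ w : (Fin P.n → B ⊗[A] B) ⊗[A] B,
        TensorProduct.piLeft (R := A) (N := B) (M := fun _ : Fin P.n => B ⊗[A] B) w i =
          (LinearMap.proj i : (Fin P.n → B ⊗[A] B) →ₗ[A] _).rTensor B w := fun w => by
      induction w using TensorProduct.induction_on with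
      | zero => simp
      | add p q hp hq => rw [map_add, Pi.add_apply, map_add, hp, hq]
      | tmul v t => simp
    rw [hpi, hpi, key]
    show q₁₃ (G z i) - φ b₃ ⟨q₂₃ ∘ G z, hq₂₃ z⟩ i = q₁₂ (c₀ i)
    obtain ⟨w, w', hw, hw', hr⟩ := ψ_spec b₂ (0 : near P b₂.y₂ b₂.J)
    obtain rfl : w = p₂.comp u := hom_ext P fun j => by rw [hw]; simp [b₂]
    have hψ : (ψ b₃ ⟨q₂₃ ∘ G z, hq₂₃ z⟩ : Fin P.n → (B ⊗[A] B) ⊗[A] B) = q₁₃ ∘ c₀ :=
      ψ_eq b₃ _ (fun j => map_le_comap I q₁₃ (((mem_near P).1 hc₀).1 j))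
        ⟨q₂₃.comp w', q₁₃.comp w', fun j => by
            rw [AlgHom.comp_apply, hw', map_add]
            show _ = _ + q₂₃ (G z j)
            rw [hGz]
            exact congrArg (· + _) (h₂₃ (u (P.x j))),
          fun j => by
            rw [AlgHom.comp_apply, hw', map_add]
            exact congrArg (· + _) (h₁₃ (u (P.x j))), by
          refine E.trans (E.symm (E.map q₂₃ hr)) ?_
          rw [show q₂₃.comp (p₂.comp u) = q₁₃.comp (p₂.comp u) from AlgHom.ext fun a => h₃₃ (u a)]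
          exact E.map q₁₃ hr⟩
    have h0 : (ψ b₃ (0 : near P b₃.y₂ b₃.J) : Fin P.n → (B ⊗[A] B) ⊗[A] B) = q₁₂ ∘ c₀ :=
      (ψ_map b₂ b₃ q₁₂ rfl rfl (map_le_comap I q₁₂) (0 : near P b₂.y₂ b₂.J) (0 : near P b₃.y₂ b₃.J)
        (funext fun j => map_zero q₁₂)).symm
    show q₁₃ (G z i) - ((ψ b₃ ⟨q₂₃ ∘ G z, hq₂₃ z⟩ : Fin P.n → (B ⊗[A] B) ⊗[A] B) - ψ b₃ (0 : near P b₃.y₂ b₃.J)) i = q₁₂ (c₀ i)
    rw [hψ, h0, hGz]
    simp
  obtain ⟨v, hv⟩ := mem_range_of_rTensor d c₀ hc
  obtain ⟨u', hu'⟩ := exists_point P (map_sq hI) (show (v : Fin P.n → B) ∈ near P u (I.map (algebraMap A B)) from v.2)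
  refine ⟨u', sub_mem_of_forall P fun i => by rw [hu', add_sub_cancel_left]; exact ((mem_near P).1 v.2).1 i, ?_⟩
  obtain ⟨w, w', hw, hw', hr⟩ := ψ_spec b₂ (ι₂ v)
  have e₂ : w = p₂.comp u' := hom_ext P fun i => by
    refine (hw i).trans (Eq.trans ?_ (congrArg p₂ (hu' i)).symm)
    rw [map_add]; rfl
  have e₁ : w' = p₁.comp u' := hom_ext P fun i => by
    refine (hw' i).trans (Eq.trans ?_ (congrArg p₁ (hu' i)).symm)
    rw [map_add]
    have h : p₁ ((v : Fin P.n → B) i) - ((ψ b₂ (ι₂ v) : Fin P.n → B ⊗[A] B) i - c₀ i) = c₀ i := congrFun hv i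
    refine congrArg (p₁ (u (P.x i)) + ·) ?_
    linear_combination -h
  rw [e₁, e₂] at hr
  exact hr

end

end Descent

end Groth.Agent.AlgSpDec.TorsorLift
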