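import Groth.Prelude.Def_AlgSt5
import Groth.Agent.SchTorsor.Props
import Groth.Agent.S3935
import Mathlib.GroupTheory.GroupAction.Quotient
import Mathlib.AlgebraicGeometry.Sites.Fpqc

/-!
# The groupoid of rational points of a quotient stack over a finite field
-/

set_option autoImplicit false
set_option linter.style.haveILetI false
set_option backward.isDefEq.respectTransparency false
set_option backward.isDefEq.respectTransparency.types false

universe u

open CategoryTheory MonoidalCategory CartesianMonoidalCategory MonObj GrpObj AlgebraicGeometry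
open scoped Hom

namespace Groth.Agent.AlgSpDec.TorsorMass

variable {S : Scheme.{u}} {G X : Over S} [GrpObj G] (aX : AlgGrp.Action G X)

/-- Global points of `G` act on global points of `X`. -/
@[implicit_reducible] noncomputable def pointAction : MulAction (𝟙_ (Over S) ⟶ G) (𝟙_ (Over S) ⟶ X) where
  smul g x := lift g x ≫ aX.act
  one_smul x := SchTorsor.one_act_pt aX x
  mul_smul g h x := SchTorsor.act_assoc aX g h x

/-- The fibre of the quotient stack over the base. -/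
abbrev Fib : Type (u + 1) :=
  (AlgSt.QuotSt Scheme.fppfPrecoverage G aX).p.Fiber (𝟙_ (Over S))

theorem leftMul_mul_act {T : Over S} (x : 𝟙_ (Over S) ⟶ X) (h : T ⟶ G) (q : T ⟶ G ⊗ 𝟙_ (Over S)) :
    lift h q ≫ (AlgSt.leftMul G (𝟙_ (Over S))).act ≫ (G ◁ x) ≫ aX.act = lift h (q ≫ (G ◁ x) ≫ aX.act) ≫ aX.act := by
  have h1 : lift h q ≫ (AlgSt.leftMul G (𝟙_ (Over S))).act = lift (h * (q ≫ fst _ _)) (q ≫ snd _ _) := by
    apply CartesianMonoidalCategory.hom_ext
    · simp [AlgSt.leftMul, comp_mul]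
    · simp [AlgSt.leftMul]
  rw [reassoc_of% h1, lift_whiskerLeft_assoc, SchTorsor.act_assoc]
  congr 2
  conv_rhs => rw [show q = lift (q ≫ fst _ _) (q ≫ snd _ _) by ext <;> simp, lift_whiskerLeft_assoc]

/-- The trivial torsor at a point, as an object. -/
noncomputable abbrev ptObj (x : 𝟙_ (Over S) ⟶ X) : AlgSt.QuotObj Scheme.fppfPrecoverage G aX where
  base := 𝟙_ (Over S)
  P := G ⊗ 𝟙_ (Over S)
  act := AlgSt.leftMul G (𝟙_ (Over S))
  π := snd G (𝟙_ (Over S))
  cart := AlgSt.isPullback_leftMul (𝟙_ (Over S))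
  loc := by
    refine ⟨Presieve.singleton (𝟙 _), Scheme.fppfPrecoverage.mem_coverings_of_isIso (𝟙 _), ?_⟩
    rintro S' f ⟨⟩
    refine ⟨(lift (toUnit (𝟙_ (Over S)) ≫ η[G]) (𝟙 _)).left, ?_⟩
    have h : lift (toUnit (𝟙_ (Over S)) ≫ η[G]) (𝟙 _) ≫ snd G (𝟙_ (Over S)) = 𝟙 _ := lift_snd _ _
    exact congrArg CommaMorphism.left h
  φ := (G ◁ x) ≫ aX.act
  eqv := by
    have h := leftMul_mul_act aX x (fst G (G ⊗ 𝟙_ (Over S))) (snd _ _)
    rw [lift_fst_snd, Category.id_comp] at h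
    rw [h]
    congr 1

/-- The trivial torsor at a point. -/
noncomputable abbrev pt (x : 𝟙_ (Over S) ⟶ X) : Fib aX := ⟨ptObj aX x, rfl⟩

/-- The unit section of the trivial torsor. -/
noncomputable def unitSec : 𝟙_ (Over S) ⟶ G ⊗ 𝟙_ (Over S) := lift 1 (𝟙 _)

/-- The translation of trivial torsors. -/
noncomputable def transl (g : 𝟙_ (Over S) ⟶ G) : G ⊗ 𝟙_ (Over S) ⟶ G ⊗ 𝟙_ (Over S) :=
  lift (fst _ _ * (toUnit _ ≫ g)) (snd _ _)

theorem leftMul_apply {T : Over S} (h : T ⟶ G) (q : T ⟶ G ⊗ 𝟙_ (Over S)) :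
    lift h q ≫ (AlgSt.leftMul G (𝟙_ (Over S))).act = lift (h * (q ≫ fst _ _)) (q ≫ snd _ _) := by
  apply CartesianMonoidalCategory.hom_ext
  · simp [AlgSt.leftMul, comp_mul]
  · simp [AlgSt.leftMul]

theorem top_eq {x y : 𝟙_ (Over S) ⟶ X} (φ : pt aX x ⟶ pt aX y) :
    φ.1.top = transl (unitSec ≫ φ.1.top ≫ fst _ _) := by
  have he : (AlgSt.leftMul G (𝟙_ (Over S))).act ≫ φ.1.top =
      (G ◁ φ.1.top) ≫ (AlgSt.leftMul G (𝟙_ (Over S))).act := φ.1.eqv
  have h := congrArg (lift (fst G (𝟙_ (Over S))) (snd _ _ ≫ unitSec (G := G)) ≫ ·) he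
  simp only [] at h
  rw [← Category.assoc, leftMul_apply, lift_whiskerLeft_assoc, leftMul_apply] at h
  have h1 : lift (fst G (𝟙_ (Over S)) * ((snd G (𝟙_ (Over S)) ≫ unitSec (G := G)) ≫ fst _ _))
      ((snd G (𝟙_ (Over S)) ≫ unitSec (G := G)) ≫ snd _ _) = 𝟙 _ := by
    apply CartesianMonoidalCategory.hom_ext <;> simp [unitSec, MonObj.comp_one]
  rw [h1, Category.id_comp] at h
  refine h.trans ?_
  apply CartesianMonoidalCategory.hom_ext
  · simp [transl, toUnit_unique (snd G (𝟙_ (Over S))) (toUnit _)]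
  · exact toUnit_unique _ _

theorem eqv_transl (g : 𝟙_ (Over S) ⟶ G) : (AlgSt.leftMul G (𝟙_ (Over S))).act ≫ transl g =
    (G ◁ transl g) ≫ (AlgSt.leftMul G (𝟙_ (Over S))).act := by
  apply CartesianMonoidalCategory.hom_ext
  · simp [transl, AlgSt.leftMul, comp_mul, _root_.mul_assoc]
  · exact toUnit_unique _ _

theorem transl_mul (g h : 𝟙_ (Over S) ⟶ G) : transl g ≫ transl h = transl (g * h) := by
  apply CartesianMonoidalCategory.hom_ext <;> simp [transl, comp_mul, comp_toUnit_assoc, _root_.mul_assoc]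

theorem transl_one : transl (1 : 𝟙_ (Over S) ⟶ G) = 𝟙 (G ⊗ 𝟙_ (Over S)) := by
  apply CartesianMonoidalCategory.hom_ext <;> simp [transl, MonObj.comp_one]

theorem isIso_transl (g : 𝟙_ (Over S) ⟶ G) : IsIso (transl g) :=
  ⟨⟨transl g⁻¹, by rw [transl_mul, mul_inv_cancel, transl_one], by rw [transl_mul, inv_mul_cancel, transl_one]⟩⟩

theorem isHomLift_unit {A B : AlgSt.QuotObj Scheme.fppfPrecoverage G aX} (hA : A.base = 𝟙_ (Over S))
    (hB : B.base = 𝟙_ (Over S)) (f : A ⟶ B) :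
    (AlgSt.QuotSt Scheme.fppfPrecoverage G aX).p.IsHomLift (𝟙 (𝟙_ (Over S))) f :=
  IsHomLift.of_fac _ _ _ hA hB (toUnit_unique _ _)

/-- The morphism of trivial torsors given by a group element. -/
noncomputable def ptHom {x y : 𝟙_ (Over S) ⟶ X} (g : 𝟙_ (Over S) ⟶ G) (hg : lift g y ≫ aX.act = x) :
    ptObj aX x ⟶ ptObj aX y where
  base := 𝟙 _
  top := transl g
  eqv := eqv_transl g
  cart := by
    haveI := isIso_transl g
    exact IsPullback.of_horiz_isIso ⟨toUnit_unique _ _⟩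
  wφ := by
    have hx : snd G (𝟙_ (Over S)) ≫ x = lift (toUnit _ ≫ g) (snd G _ ≫ y) ≫ aX.act := by
      rw [← hg, ← Category.assoc, comp_lift, toUnit_unique (snd G (𝟙_ (Over S))) (toUnit _)]
    show transl g ≫ (G ◁ y) ≫ aX.act = (G ◁ x) ≫ aX.act
    rw [transl, lift_whiskerLeft_assoc, SchTorsor.act_assoc, ← hx]
    congr 1

/-- Morphisms of trivial torsors. -/
noncomputable def homEquiv (x y : 𝟙_ (Over S) ⟶ X) :
    (pt aX x ⟶ pt aX y) ≃ {g : 𝟙_ (Over S) ⟶ G // lift g y ≫ aX.act = x} where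
  toFun φ := ⟨unitSec ≫ φ.1.top ≫ fst _ _, by
    have h : unitSec ≫ φ.1.top ≫ (G ◁ y) ≫ aX.act = unitSec ≫ (G ◁ x) ≫ aX.act := congrArg (unitSec ≫ ·) φ.1.wφ
    have e : unitSec ≫ φ.1.top = lift (unitSec ≫ φ.1.top ≫ fst _ _) (𝟙 _) :=
      CartesianMonoidalCategory.hom_ext _ _ (by simp) (toUnit_unique _ _)
    rw [reassoc_of% e, lift_whiskerLeft_assoc, Category.id_comp, unitSec, lift_whiskerLeft_assoc,
      Category.id_comp] at h
    exact h.trans (SchTorsor.one_act_pt aX x)⟩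
  invFun g := ⟨ptHom aX g.1 g.2, isHomLift_unit aX rfl rfl _⟩
  left_inv φ := by
    apply Subtype.ext
    exact AlgSt.QuotObj.hom_ext (toUnit_unique _ _) (top_eq aX φ).symm
  right_inv g := by
    apply Subtype.ext
    show unitSec ≫ transl g.1 ≫ fst _ _ = g.1
    simp [unitSec, transl, comp_mul]

theorem exists_iso_pt (ξ : Fib aX) (hs : ∀ (P : Over S) (a : AlgGrp.Action G P),
    NonAbH1.IsTorsorFor Scheme.fpqcPrecoverage a → Nonempty (𝟙_ (Over S) ⟶ P)) :
    ∃ x, Nonempty (pt aX x ≅ ξ) := by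
  obtain ⟨⟨B, P, a, π, cart, loc, φ, eqv⟩, hB⟩ := ξ
  change B = 𝟙_ (Over S) at hB
  subst hB
  obtain rfl : π = toUnit P := toUnit_unique _ _
  have hp : NonAbH1.IsPseudoTorsorSch a := by
    let e := cart.isoPullback ≪≫ (AlgSt.isPullback_fst_snd P P).isoPullback.symm
    have : e.hom = lift a.act (snd G P) := by
      apply CartesianMonoidalCategory.hom_ext <;> simp [e]
    exact (show IsIso (lift a.act (snd G P)) from this ▸ inferInstance)
  have ha : NonAbH1.IsTorsorFor Scheme.fpqcPrecoverage a := by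
    refine ⟨hp, ?_⟩
    obtain ⟨R, hR, hsec⟩ := loc
    refine ⟨R, Scheme.fppfPrecoverage_le_fpqcPrecoverage _ hR, fun S' f hf => ?_⟩
    obtain ⟨s, hs⟩ := hsec f hf
    exact ⟨s, hs⟩
  obtain ⟨σ⟩ := hs P a ha
  refine ⟨σ ≫ φ, ?_⟩
  haveI := SchTorsor.isIso_of_section hp σ
  let top : G ⊗ 𝟙_ (Over S) ⟶ P := (G ◁ σ) ≫ a.act
  haveI : IsIso top := by
    have e : top = lift ((G ◁ σ) ≫ a.act) (snd G (𝟙_ (Over S))) ≫ fst _ _ := (lift_fst _ _).symm
    haveI : IsIso (fst P (𝟙_ (Over S))) := inferInstanceAs (IsIso (ρ_ P).hom)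
    rw [e]
    infer_instance
  have heqv : (AlgSt.leftMul G (𝟙_ (Over S))).act ≫ top = (G ◁ top) ≫ a.act := by
    have h1 : ∀ {T : Over S} (h : T ⟶ G) (q : T ⟶ G ⊗ 𝟙_ (Over S)),
        lift h q ≫ (AlgSt.leftMul G (𝟙_ (Over S))).act ≫ top = lift h (q ≫ top) ≫ a.act := by
      intro T h q
      rw [← Category.assoc, leftMul_apply, lift_whiskerLeft_assoc, SchTorsor.act_assoc]
      congr 2
      show _ = q ≫ (G ◁ σ) ≫ a.act
      conv_rhs => rw [show q = lift (q ≫ fst _ _) (q ≫ snd _ _) by ext <;> simp, lift_whiskerLeft_assoc]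
    have h2 := h1 (fst G (G ⊗ 𝟙_ (Over S))) (snd _ _)
    rw [lift_fst_snd, Category.id_comp] at h2
    rw [h2]
    congr 1
  let f : ptObj aX (σ ≫ φ) ⟶
      ({ base := 𝟙_ (Over S), P := P, act := a, π := toUnit P, cart := cart, loc := loc, φ := φ, eqv := eqv } :
        AlgSt.QuotObj Scheme.fppfPrecoverage G aX) :=
    { base := 𝟙 _
      top := top
      eqv := heqv
      cart := IsPullback.of_horiz_isIso ⟨toUnit_unique _ _⟩
      wφ := by
        show top ≫ φ = (G ◁ (σ ≫ φ)) ≫ aX.act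
        rw [Category.assoc, eqv, MonoidalCategory.whiskerLeft_comp, Category.assoc] }
  let finv : ({ base := 𝟙_ (Over S), P := P, act := a, π := toUnit P, cart := cart, loc := loc, φ := φ, eqv := eqv } :
        AlgSt.QuotObj Scheme.fppfPrecoverage G aX) ⟶ ptObj aX (σ ≫ φ) :=
    { base := 𝟙 _
      top := inv top
      eqv := by
        show a.act ≫ inv top = (G ◁ inv top) ≫ (AlgSt.leftMul G (𝟙_ (Over S))).act
        rw [← cancel_mono top, Category.assoc, Category.assoc, IsIso.inv_hom_id, Category.comp_id, heqv,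
          ← MonoidalCategory.whiskerLeft_comp_assoc, IsIso.inv_hom_id, MonoidalCategory.whiskerLeft_id,
          Category.id_comp]
      cart := IsPullback.of_horiz_isIso ⟨toUnit_unique _ _⟩
      wφ := by rw [IsIso.inv_comp_eq]; exact f.wφ.symm }
  exact ⟨{ hom := ⟨f, isHomLift_unit aX rfl rfl _⟩
           inv := ⟨finv, isHomLift_unit aX rfl rfl _⟩
           hom_inv_id := Subtype.ext (AlgSt.QuotObj.hom_ext (Category.id_comp _) (IsIso.hom_inv_id top))
           inv_hom_id := Subtype.ext (AlgSt.QuotObj.hom_ext (Category.id_comp _) (IsIso.inv_hom_id top)) }⟩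

theorem isIso_hom {x y : 𝟙_ (Over S) ⟶ X} (φ : pt aX x ⟶ pt aX y) : IsIso φ := by
  let g := homEquiv aX x y φ
  let ψ := (homEquiv aX y x).symm ⟨g.1⁻¹,
    (congrArg (fun z => lift g.1⁻¹ z ≫ aX.act) g.2).symm.trans
      ((SchTorsor.act_assoc aX g.1⁻¹ g.1 y).symm.trans (by rw [inv_mul_cancel, SchTorsor.one_act_pt]))⟩
  have hg : φ.1.top = transl g.1 := top_eq aX φ
  have hψ : ψ.1.top = transl g.1⁻¹ := rfl
  refine ⟨⟨ψ, ?_, ?_⟩⟩ <;> refine Subtype.ext (AlgSt.QuotObj.hom_ext (toUnit_unique _ _) ?_)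
  · show φ.1.top ≫ ψ.1.top = 𝟙 _
    rw [hg, hψ]
    exact (transl_mul _ _).trans ((congrArg transl (mul_inv_cancel g.1)).trans transl_one)
  · show ψ.1.top ≫ φ.1.top = 𝟙 _
    rw [hg, hψ]
    exact (transl_mul _ _).trans ((congrArg transl (inv_mul_cancel g.1)).trans transl_one)

/-- The mass of the groupoid of rational points is the number of points over the order of the group. -/
theorem mass [Finite (𝟙_ (Over S) ⟶ G)] [Finite (𝟙_ (Over S) ⟶ X)] (hs : ∀ (P : Over S) (a : AlgGrp.Action G P),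
    NonAbH1.IsTorsorFor Scheme.fpqcPrecoverage a → Nonempty (𝟙_ (Over S) ⟶ P)) :
    Finite (Quotient (isIsomorphicSetoid (Fib aX))) ∧ (∀ ξ : Fib aX, Finite (Aut ξ)) ∧
      ∑ᶠ c : Quotient (isIsomorphicSetoid (Fib aX)), ((Nat.card (Aut c.out) : ℚ))⁻¹ =
        (Nat.card (𝟙_ (Over S) ⟶ X) : ℚ) / (Nat.card (𝟙_ (Over S) ⟶ G) : ℚ) := by
  classical
  letI := pointAction aX
  let autEquiv : ∀ x, Aut (pt aX x) ≃ MulAction.stabilizer (𝟙_ (Over S) ⟶ G) x := fun x =>
    ({ toFun := fun e => e.hom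
       invFun := fun φ => haveI := isIso_hom aX φ; asIso φ
       left_inv := fun e => Iso.ext rfl
       right_inv := fun φ => rfl } : Aut (pt aX x) ≃ (pt aX x ⟶ pt aX x)).trans (homEquiv aX x x)
  have haut : ∀ (x : 𝟙_ (Over S) ⟶ X) (ξ : Fib aX), (pt aX x ≅ ξ) →
      Finite (Aut ξ) ∧ Nat.card (Aut ξ) = Nat.card (MulAction.stabilizer (𝟙_ (Over S) ⟶ G) x) := fun x ξ e =>
    ⟨Finite.of_equiv _ ((autEquiv x).symm.trans e.conjAut.toEquiv),
      Nat.card_congr (e.conjAut.toEquiv.symm.trans (autEquiv x))⟩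
  let cl : (𝟙_ (Over S) ⟶ X) → Quotient (isIsomorphicSetoid (Fib aX)) := fun x => Quotient.mk _ (pt aX x)
  have hrel : ∀ x y, cl x = cl y ↔ MulAction.orbitRel (𝟙_ (Over S) ⟶ G) _ x y := fun x y => by
    refine ⟨fun h => ?_, ?_⟩
    · obtain ⟨e⟩ := Quotient.exact h
      exact ⟨_, (homEquiv aX x y e.hom).2⟩
    · rintro ⟨g, hg⟩
      haveI := isIso_hom aX ((homEquiv aX x y).symm ⟨g, hg⟩)
      exact Quotient.sound ⟨asIso ((homEquiv aX x y).symm ⟨g, hg⟩)⟩
  let E : MulAction.orbitRel.Quotient (𝟙_ (Over S) ⟶ G) (𝟙_ (Over S) ⟶ X) ≃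
      Quotient (isIsomorphicSetoid (Fib aX)) :=
    Equiv.ofBijective (Quotient.lift cl fun x y h => (hrel x y).2 h) ⟨fun a b => by
      induction a using Quotient.ind with | _ a =>
      induction b using Quotient.ind with | _ b =>
      exact fun h => Quotient.sound ((hrel a b).1 h), fun c => by
      induction c using Quotient.ind with | _ ξ =>
      obtain ⟨x, ⟨e⟩⟩ := exists_iso_pt aX ξ hs
      exact ⟨Quotient.mk _ x, Quotient.sound ⟨e⟩⟩⟩
  refine ⟨Finite.of_equiv _ E, fun ξ => ?_, ?_⟩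
  · obtain ⟨x, ⟨e⟩⟩ := exists_iso_pt aX ξ hs
    exact (haut x ξ e).1
  · letI := Fintype.ofFinite (MulAction.orbitRel.Quotient (𝟙_ (Over S) ⟶ G) (𝟙_ (Over S) ⟶ X))
    letI := Fintype.ofFinite (𝟙_ (Over S) ⟶ G)
    letI := Fintype.ofFinite (𝟙_ (Over S) ⟶ X)
    rw [← finsum_comp_equiv E, finsum_eq_sum_of_fintype]
    have h0 : (Nat.card (𝟙_ (Over S) ⟶ G) : ℚ) ≠ 0 := Nat.cast_ne_zero.2 Nat.card_pos.ne'
    rw [eq_div_iff h0, Finset.sum_mul,
      Nat.card_congr (MulAction.selfEquivSigmaOrbits (𝟙_ (Over S) ⟶ G) (𝟙_ (Over S) ⟶ X)), Nat.card_sigma,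
      Nat.cast_sum]
    refine Finset.sum_congr rfl fun w _ => ?_
    obtain ⟨e⟩ : Nonempty (pt aX w.out ≅ (E w).out) := by
      refine Quotient.exact (s := isIsomorphicSetoid (Fib aX)) ?_
      rw [Quotient.out_eq]
      show cl w.out = E w
      conv_rhs => rw [← Quotient.out_eq w]
      rfl
    rw [(haut _ _ e).2]
    have h1 := (Nat.card_congr (MulAction.orbitProdStabilizerEquivGroup (𝟙_ (Over S) ⟶ G) w.out))
    rw [Nat.card_prod] at h1
    have h2 : (Nat.card (MulAction.stabilizer (𝟙_ (Over S) ⟶ G) w.out) : ℚ) ≠ 0 :=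
      Nat.cast_ne_zero.2 Nat.card_pos.ne'
    rw [← h1, Nat.cast_mul]
    field_simp

section Field

variable {F : Type u} [Field F] [Finite F]

/-- A scheme of finite type over a finite field has finitely many rational points. -/
theorem finite_points (X : Over (Spec (CommRingCat.of F))) [LocallyOfFiniteType X.hom] [QuasiCompact X.hom] :
    Finite (𝟙_ (Over (Spec (CommRingCat.of F))) ⟶ X) := by
  classical
  haveI : CompactSpace ↥X.left := QuasiCompact.compactSpace_of_compactSpace X.hom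
  let T : Over (Spec (CommRingCat.of F)) := 𝟙_ _
  let pt₀ : ↥T.left := (⟨⊥, Ideal.isPrime_bot⟩ : PrimeSpectrum F)
  haveI : Subsingleton ↥T.left := inferInstanceAs (Subsingleton (PrimeSpectrum F))
  haveI : IsAffine T.left := inferInstanceAs (IsAffine (Spec (CommRingCat.of F)))
  let 𝒰 := X.left.affineCover.finiteSubcover
  haveI : ∀ i, IsAffine (𝒰.X i) := fun i => inferInstanceAs (IsAffine (Spec _))
  haveI : Finite Γ(T.left, ⊤) := Finite.of_equiv F (Scheme.ΓSpecIso (CommRingCat.of F)).commRingCatIsoToRingEquiv.toEquiv.symm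
  let g : ∀ i, 𝒰.X i ⟶ Spec (CommRingCat.of F) := fun i => 𝒰.f i ≫ X.hom
  have hfin : ∀ i, Finite {k : T.left ⟶ 𝒰.X i // k ≫ g i = T.hom} := by
    intro i
    haveI : LocallyOfFiniteType (g i) := inferInstance
    have hft : (g i).appTop.hom.FiniteType :=
      (HasRingHomProperty.iff_of_isAffine (P := @LocallyOfFiniteType)).1 inferInstance
    algebraize [(g i).appTop.hom]
    obtain ⟨s, hs⟩ := ‹Algebra.FiniteType Γ(Spec (CommRingCat.of F), ⊤) Γ(𝒰.X i, ⊤)›.out
    refine Finite.of_injective (fun k => fun a : s => k.1.appTop a.1) fun k k' h => Subtype.ext ?_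
    refine ext_of_isAffine (CommRingCat.hom_ext (RingHom.ext fun z => ?_))
    induction (show z ∈ Algebra.adjoin Γ(Spec (CommRingCat.of F), ⊤) (s : Set Γ(𝒰.X i, ⊤)) from hs ▸ Algebra.mem_top)
      using Algebra.adjoin_induction with
    | mem z hz => exact congrFun h ⟨z, hz⟩
    | algebraMap a =>
      exact (congrArg (fun e : T.left ⟶ Spec (CommRingCat.of F) => e.appTop a) (k.2.trans k'.2.symm) :)
    | add a b _ _ ha hb => rw [map_add, map_add, ha, hb]
    | mul a b _ _ ha hb => rw [map_mul, map_mul, ha, hb]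
  have hlift : ∀ x : T ⟶ X, ∃ (i : 𝒰.I₀) (k : {k : T.left ⟶ 𝒰.X i // k ≫ g i = T.hom}), k.1 ≫ 𝒰.f i = x.left := fun x => by
    obtain ⟨v, hv⟩ := 𝒰.covers (x.left pt₀)
    refine ⟨𝒰.idx (x.left pt₀), ⟨IsOpenImmersion.lift (𝒰.f _) x.left ?_, ?_⟩, IsOpenImmersion.lift_fac _ _ _⟩
    · rintro _ ⟨t, rfl⟩
      exact ⟨v, by rw [hv, Subsingleton.elim t pt₀]⟩
    · rw [IsOpenImmersion.lift_fac_assoc]; exact Over.w x
  choose i k hk using hlift
  refine Finite.of_injective (fun x => (⟨i x, k x⟩ : Σ i, {k : T.left ⟶ 𝒰.X i // k ≫ g i = T.hom})) fun x y h => ?_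
  have hh := congrArg (fun p : Σ i, {k : T.left ⟶ 𝒰.X i // k ≫ g i = T.hom} => p.2.1 ≫ 𝒰.f p.1) h
  simp only [hk] at hh
  exact Over.OverMorphism.ext hh

/-- Torsors under smooth connected affine groups over finite fields have points. -/
theorem torsor_point (G : Over (Spec (CommRingCat.of F))) [GrpObj G] [Smooth G.hom] [IsAffineHom G.hom]
    [ConnectedSpace ↥G.left] (P : Over (Spec (CommRingCat.of F))) (a : AlgGrp.Action G P)
    (ha : NonAbH1.IsTorsorFor Scheme.fpqcPrecoverage a) : Nonempty (𝟙_ (Over (Spec (CommRingCat.of F))) ⟶ P) := by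
  haveI : IsAffine G.left := isAffine_of_isAffineHom G.hom
  haveI := SchTorsor.surjective_hom ha
  haveI : Nonempty ↥P.left := ⟨(P.hom.surjective (⟨⊥, Ideal.isPrime_bot⟩ : PrimeSpectrum F)).choose⟩
  haveI : LocallyOfFiniteType P.hom := SchTorsor.torsor_property @LocallyOfFiniteType ha inferInstance
  exact Groth.Agent.S3935.result F G P a ha.1

theorem mass_finite_field (X G : Over (Spec (CommRingCat.of F))) [GrpObj G] (aX : AlgGrp.Action G X)
    [LocallyOfFiniteType X.hom] [QuasiCompact X.hom] [Smooth G.hom] [IsAffineHom G.hom] [ConnectedSpace ↥G.left] :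
    Finite (Quotient (isIsomorphicSetoid (Fib aX))) ∧ (∀ ξ : Fib aX, Finite (Aut ξ)) ∧
      ∑ᶠ c : Quotient (isIsomorphicSetoid (Fib aX)), ((Nat.card (Aut c.out) : ℚ))⁻¹ =
        (Nat.card (𝟙_ (Over (Spec (CommRingCat.of F))) ⟶ X) : ℚ) /
          (Nat.card (𝟙_ (Over (Spec (CommRingCat.of F))) ⟶ G) : ℚ) :=
  haveI := finite_points G
  haveI := finite_points X
  mass aX fun P a ha => torsor_point G P a ha

end Field

end Groth.Agent.AlgSpDec.TorsorMass
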