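import Groth.Agent.AlgSpDec.PointLocusInst
import Groth.Agent.AlgSpDec.FiniteNbhd
import Groth.Agent.AlgSpDec.LimDescentIso
import Groth.Agent.AlgSpLib.FlatAt
import Groth.Agent.AlgSpLib.OpenMor
import Groth.Agent.AlgSpLib.LargestOpen
import Groth.Agent.S9938
import Groth.Agent.S10262

/-!
# Open loci on the base for properties of a morphism over that base
-/

set_option autoImplicit false
set_option linter.style.haveILetI false
set_option backward.isDefEq.respectTransparency false
set_option backward.isDefEq.respectTransparency.types false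

universe u

open CategoryTheory CategoryTheory.Limits AlgebraicGeometry AlgSp Groth.Agent.AlgSpLib Groth.Agent.AlgSpPts
open Groth.Agent.MorLib.UnrLocus (Loc)
open Groth.Agent.AlgSpDec.PointLocus

namespace Groth.Agent.AlgSpDec.TripleLoci

open Groth.Agent.AlgSpDec

variable {S : Scheme.{u}} {X Y Z : AlgSp.Space S}

/-- A condition equivalent to avoiding a closed set is represented by an open subspace. -/
theorem exists_open_of_avoid (C : Set (Points Z.obj)) (hC : IsClosed C)
    (P : ∀ (Z' : AlgSp.Space S), (Z' ⟶ Z) → Prop)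
    (h : ∀ (Z' : AlgSp.Space S) (g : Z' ⟶ Z), P Z' g ↔ ∀ z, Points.map g.hom z ∉ C) :
    ∃ (W : AlgSp.Space S) (w : W ⟶ Z), RepWith @IsOpenImmersion w.hom ∧
      ∀ (Z' : AlgSp.Space S) (g : Z' ⟶ Z), (∃ k : Z' ⟶ W, k ≫ w = g) ↔ P Z' g := by
  obtain ⟨W, w, hW, hw, hr⟩ := exists_open_subspace Z.property hC.isOpen_compl
  refine ⟨⟨W, hW⟩, ObjectProperty.homMk w, hw, fun Z' g => ?_⟩
  rw [h]
  constructor
  · rintro ⟨k, hk⟩ z
    have : Points.map w (Points.map k.hom z) ∈ Set.range (Points.map w) := ⟨_, rfl⟩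
    rw [hr, ← Points.map_comp] at this
    rw [show k.hom ≫ w = g.hom from congrArg InducedCategory.Hom.hom hk] at this
    exact this
  · intro H
    obtain ⟨k, hk⟩ := exists_lift_openImmersion Z'.property hW Z.property hw g.hom (by
      rintro _ ⟨z, rfl⟩; rw [hr]; exact H z)
    exact ⟨ObjectProperty.homMk k, ObjectProperty.hom_ext _ hk⟩

/-- The two base change squares exist. -/
theorem exists_bc (f : X ⟶ Y) (q : Y ⟶ Z) {Z' : AlgSp.Space S} (g : Z' ⟶ Z) :
    ∃ (Y' : AlgSp.Space S) (gY : Y' ⟶ Y) (q' : Y' ⟶ Z') (X' : AlgSp.Space S) (gX : X' ⟶ X) (f' : X' ⟶ Y'),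
      IsPullback gY.hom q'.hom q.hom g.hom ∧ IsPullback gX.hom f'.hom f.hom gY.hom := by
  let Y' : AlgSp.Space S := ⟨pullback q.hom g.hom, isAlgSpace_pullback Y.property Z'.property Z.property _ _⟩
  let X' : AlgSp.Space S := ⟨pullback f.hom (pullback.fst q.hom g.hom),
    isAlgSpace_pullback X.property Y'.property Y.property _ _⟩
  exact ⟨Y', ObjectProperty.homMk (pullback.fst _ _), ObjectProperty.homMk (pullback.snd _ _), X',
    ObjectProperty.homMk (pullback.fst _ _), ObjectProperty.homMk (pullback.snd _ _),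
    IsPullback.of_hasPullback _ _, IsPullback.of_hasPullback _ _⟩

variable {f : X ⟶ Y} {p : X ⟶ Z} {q : Y ⟶ Z}

theorem hom_eq (hc : f ≫ q = p) : f.hom ≫ q.hom = p.hom := congrArg InducedCategory.Hom.hom hc

theorem paste (hc : f ≫ q = p) {Z' Y' X' : Sp S} {g : Z' ⟶ Z.obj} {gY : Y' ⟶ Y.obj} {q' : Y' ⟶ Z'}
    {gX : X' ⟶ X.obj} {f' : X' ⟶ Y'} (sY : IsPullback gY q' q.hom g) (sX : IsPullback gX f' f.hom gY) :
    IsPullback gX (f' ≫ q') p.hom g := hom_eq hc ▸ sX.paste_vert sY

theorem locP_lft_left (hc : f ≫ q = p) (hp : LocP @LocallyOfFiniteType p.hom) :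
    LocP @LocallyOfFiniteType f.hom :=
  AlgSpPts.locP_of_comp (fun a b (_ : LocallyOfFiniteType (a ≫ b)) => locallyOfFiniteType_of_comp a b)
    Z.property (g := q.hom) (by rw [hom_eq hc]; exact hp)

/-- The points where `f` is unramified. -/
def unramSet (f : X ⟶ Y) : Set (Points X.obj) := {x | At (fun {_ _} h u => Loc h u) f.hom x}

theorem isOpen_unramSet (hl : LocP @LocallyOfFiniteType f.hom) : IsOpen (unramSet f) :=
  isOpen_at ptProp_unram hl

theorem unram_bc_iff (hl : LocP @LocallyOfFiniteType f.hom) {Y' X' : Sp S} (hY' : IsAlgSpace Y')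
    {gY : Y' ⟶ Y.obj} {gX : X' ⟶ X.obj} {f' : X' ⟶ Y'} (sX : IsPullback gX f' f.hom gY) :
    LocP (@LocallyOfFiniteType ⊓ @FormallyUnramified) f' ↔ ∀ x', Points.map gX x' ∈ unramSet f := by
  have hX' : IsAlgSpace X' := isAlgSpace_of_isPullback sX X.property hY' Y.property
  rw [locP_iff ptProp_unram unram_iff_forall hX' hY' (locP_of_isPullback sX X.property Y.property hY' hl)]
  exact forall_congr' fun x' => at_baseChange_iff ptProp_unram sX X.property Y.property hY' hl x'

/-- The unramified condition on base changes is avoidance of the image of the ramified points. -/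
theorem unram_avoid_iff (hc : f ≫ q = p) (hp : LocP @LocallyOfFiniteType p.hom) {Z' : AlgSp.Space S}
    (g : Z' ⟶ Z) :
    (∀ (Y' : AlgSp.Space S) (gY : Y' ⟶ Y) (q' : Y' ⟶ Z'), IsPullback gY.hom q'.hom q.hom g.hom →
      ∀ (X' : AlgSp.Space S) (gX : X' ⟶ X) (f' : X' ⟶ Y'), IsPullback gX.hom f'.hom f.hom gY.hom →
        LocP (@LocallyOfFiniteType ⊓ @FormallyUnramified) f'.hom) ↔
      ∀ z, Points.map g.hom z ∉ Points.map p.hom '' (unramSet f)ᶜ := by
  have hl := locP_lft_left hc hp
  constructor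
  · rintro H z ⟨x, hx, hxz⟩
    obtain ⟨Y', gY, q', X', gX, f', sY, sX⟩ := exists_bc f q g
    obtain ⟨x', h1, -⟩ := exists_point_of_isPullback (paste hc sY sX) hxz
    exact hx (h1 ▸ (unram_bc_iff hl Y'.property sX).1 (H Y' gY q' sY X' gX f' sX) x')
  · intro H Y' gY q' sY X' gX f' sX
    refine (unram_bc_iff hl Y'.property sX).2 fun x' => ?_
    by_contra hx
    refine H (Points.map (f'.hom ≫ q'.hom) x') ⟨_, hx, ?_⟩
    rw [← Points.map_comp, (paste hc sY sX).w, Points.map_comp]

variable {XX : AlgSp.Space S} {pr0 pr1 : XX ⟶ X}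

/-- The diagonal points over unramified points. -/
def diagSet (hXX : IsPullback pr0.hom pr1.hom f.hom f.hom) : Set (Points XX.obj) :=
  Points.map (hXX.lift (𝟙 _) (𝟙 _) rfl) '' unramSet f

theorem isOpen_diagSet (hl : LocP @LocallyOfFiniteType f.hom) (hXX : IsPullback pr0.hom pr1.hom f.hom f.hom) :
    IsOpen (diagSet hXX) := by
  obtain ⟨X₁, i, hX₁, hi, hr⟩ := exists_open_subspace X.property (isOpen_unramSet hl)
  let f₁ : (⟨X₁, hX₁⟩ : AlgSp.Space S) ⟶ Y := ObjectProperty.homMk (i ≫ f.hom)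
  have hie : RepWith @Etale i :=
    repWith_mono (fun _ _ e (_ : IsOpenImmersion e) => (inferInstance : Etale e)) _ hi
  have hl₁ : LocP @LocallyOfFiniteType (i ≫ f.hom) := fun U' V' a' b' h' ha' hb' w' =>
    hl (a' ≫ i) b' h' (repWith_comp ha' hie) hb' (by rw [Category.assoc]; exact w')
  have hu : LocP (@LocallyOfFiniteType ⊓ @FormallyUnramified) (i ≫ f.hom) := by
    intro U' V' a' b' h' ha' hb' w'
    have : LocallyOfFiniteType h'.left := hl₁ a' b' h' ha' hb' w'
    refine (unram_iff_forall h'.left).2 fun u' => ?_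
    have hm : Points.map i (Points.ofPt a' u') ∈ Set.range (Points.map i) := ⟨_, rfl⟩
    rw [hr, Points.map_ofPt] at hm
    exact (at_iff_chart ptProp_unram hl (repWith_comp ha' hie) hb' (by rw [Category.assoc]; exact w') u').1 hm
  have hd : RepWith @IsOpenImmersion (pullback.diagonal (i ≫ f.hom)) := (S10262.result f₁).1 hu
  let m₁ := pullback.map (i ≫ f.hom) (i ≫ f.hom) f.hom f.hom i i (𝟙 _) (Category.comp_id _) (Category.comp_id _)
  have hm₁ : RepWith @Etale m₁ := MorphismProperty.pullbackMap (P := RepWith (S := S) @Etale) hie hie rfl rfl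
  have hall : RepWith @Etale (pullback.diagonal (i ≫ f.hom) ≫ m₁ ≫ hXX.isoPullback.inv) :=
    repWith_comp (repWith_mono (fun _ _ e (_ : IsOpenImmersion e) => (inferInstance : Etale e)) _ hd)
      (repWith_comp hm₁ (repWith_of_isIso _ _))
  have he : pullback.diagonal (i ≫ f.hom) ≫ m₁ ≫ hXX.isoPullback.inv = i ≫ hXX.lift (𝟙 _) (𝟙 _) rfl := by
    apply hXX.hom_ext <;> simp [m₁]
  have : diagSet hXX = Set.range (Points.map (i ≫ hXX.lift (𝟙 _) (𝟙 _) rfl)) := by
    unfold diagSet
    rw [← hr, ← Set.range_comp]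
    exact congrArg Set.range (funext fun x => (Points.map_comp _ _ x).symm)
  rw [this, ← he]
  exact (isOpenMap_map (repWith_mono (fun _ _ e (_ : Etale e) => (inferInstance : UniversallyOpen e)) _ hall)).isOpen_range

/-- The unramified and universally injective condition on base changes. -/
theorem unramInj_avoid_iff (hc : f ≫ q = p) (hp : LocP @LocallyOfFiniteType p.hom)
    (hXX : IsPullback pr0.hom pr1.hom f.hom f.hom) {Z' : AlgSp.Space S} (g : Z' ⟶ Z) :
    (∀ (Y' : AlgSp.Space S) (gY : Y' ⟶ Y) (q' : Y' ⟶ Z'), IsPullback gY.hom q'.hom q.hom g.hom →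
      ∀ (X' : AlgSp.Space S) (gX : X' ⟶ X) (f' : X' ⟶ Y'), IsPullback gX.hom f'.hom f.hom gY.hom →
        (LocP (@LocallyOfFiniteType ⊓ @FormallyUnramified) f'.hom ∧ IsUnivInjectiveMor f'.hom)) ↔
      ∀ z, Points.map g.hom z ∉
        Points.map p.hom '' (unramSet f)ᶜ ∪ Points.map (pr1.hom ≫ p.hom) '' (diagSet hXX)ᶜ := by
  set δ := hXX.lift (𝟙 _) (𝟙 _) rfl with hδ
  constructor
  · rintro H z (hz | ⟨w, hw, hwz⟩)
    · exact (unram_avoid_iff hc hp g).1 (fun Y' gY q' sY X' gX f' sX => (H Y' gY q' sY X' gX f' sX).1) z hz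
    · obtain ⟨Y', gY, q', X', gX, f', sY, sX⟩ := exists_bc f q g
      obtain ⟨hu, hi⟩ := H Y' gY q' sY X' gX f' sX
      obtain ⟨x', h1, -⟩ := exists_point_of_isPullback (paste hc sY sX) (x := Points.map pr1.hom w) (y := z)
        (by rw [← Points.map_comp, hwz])
      have hmw : (pullback.fst f'.hom f'.hom ≫ gX.hom) ≫ f.hom = (pullback.snd f'.hom f'.hom ≫ gX.hom) ≫ f.hom := by
        rw [Category.assoc, Category.assoc, sX.w, pullback.condition_assoc]
      let m := hXX.lift _ _ hmw
      have sM : IsPullback m (pullback.snd f'.hom f'.hom) pr1.hom gX.hom := by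
        refine IsPullback.of_right ?_ (hXX.lift_snd _ _ _) hXX
        rw [hXX.lift_fst, sX.w]
        exact (IsPullback.of_hasPullback f'.hom f'.hom).paste_horiz sX
      obtain ⟨w', hw', -⟩ := exists_point_of_isPullback sM h1.symm
      obtain ⟨x'', rfl⟩ := (S9938.result f').2.1 hi w'
      have hw₀ : w = Points.map δ (Points.map gX.hom x'') := by
        rw [← hw', ← Points.map_comp, ← Points.map_comp]
        congr 1
        apply hXX.hom_ext <;> simp [m, δ]
      refine hw ⟨_, ?_, hw₀.symm⟩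
      exact (unram_bc_iff (locP_lft_left hc hp) Y'.property sX).1 hu x''
  · intro H Y' gY q' sY X' gX f' sX
    refine ⟨(unram_avoid_iff hc hp g).2 (fun z hz => H z (Or.inl hz)) Y' gY q' sY X' gX f' sX,
      (S9938.result f').2.2 fun w' => ?_⟩
    have hmw : (pullback.fst f'.hom f'.hom ≫ gX.hom) ≫ f.hom = (pullback.snd f'.hom f'.hom ≫ gX.hom) ≫ f.hom := by
      rw [Category.assoc, Category.assoc, sX.w, pullback.condition_assoc]
    let m := hXX.lift _ _ hmw
    have sM : IsPullback m (pullback.snd f'.hom f'.hom) pr1.hom gX.hom := by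
      refine IsPullback.of_right ?_ (hXX.lift_snd _ _ _) hXX
      rw [hXX.lift_fst, sX.w]
      exact (IsPullback.of_hasPullback f'.hom f'.hom).paste_horiz sX
    have hdm : IsPullback gX.hom (pullback.diagonal f'.hom) δ m := by
      refine IsPullback.of_bot ?_ (by apply hXX.hom_ext <;> simp [m, δ]) sM
      rw [pullback.diagonal_snd, hXX.lift_snd]
      exact IsPullback.of_vert_isIso ⟨by simp⟩
    have hw : Points.map m w' ∈ diagSet hXX := by
      by_contra hw
      refine H (Points.map (pullback.snd f'.hom f'.hom ≫ f'.hom ≫ q'.hom) w') (Or.inr ⟨_, hw, ?_⟩)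
      rw [← Points.map_comp, ← Points.map_comp]
      congr 1
      rw [Category.assoc, (paste hc sY sX).w.symm, ← Category.assoc, sM.w, Category.assoc]
    obtain ⟨x, -, hx⟩ := hw
    obtain ⟨x', -, hx'⟩ := exists_point_of_isPullback hdm hx
    exact ⟨x', hx'⟩

theorem isClosedImmersion_iff {A B : AlgSp.Space S} (f' : A ⟶ B) (hu : IsUnivClosedMor f'.hom) :
    RepWith @IsClosedImmersion f'.hom ↔
      (LocP (@LocallyOfFiniteType ⊓ @FormallyUnramified) f'.hom ∧ IsUnivInjectiveMor f'.hom) := by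
  constructor
  · intro h
    have hm : Mono f'.hom := mono_of_repWith (repWith_mono
      (fun _ _ e (_ : IsClosedImmersion e) => (inferInstance : Mono e)) _ h)
    refine ⟨locP_of_repWith (repWith_mono (fun _ _ e (_ : IsClosedImmersion e) =>
      (⟨inferInstance, inferInstance⟩ :
        (@LocallyOfFiniteType ⊓ @FormallyUnramified : MorphismProperty Scheme.{u}) e)) _ h), ?_⟩
    have := isIso_diagonal_of_mono f'.hom
    exact (S9938.result f').2.2 (isSurjectiveMor_of_isIso _)
  · rintro ⟨hn, hi⟩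
    have hd := (S10262.result f').1 hn
    have : Mono f'.hom := mono_of_diagonal A.property B.property f'.hom
      (isEtaleMor_of_repWith (repWith_mono (fun _ _ e (_ : IsOpenImmersion e) => (inferInstance : Etale e)) _ hd))
      ((S9938.result f').2.1 hi)
    have := isIso_diagonal_of_mono f'.hom
    have hsep : IsSeparatedMor f'.hom := repWith_of_isIso _ _
    have hq : LocP (@LocallyQuasiFinite ⊓ @LocallyOfFiniteType) f'.hom := fun U V a b h ha hb w => by
      obtain ⟨h1, h2⟩ := hn a b h ha hb w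
      exact ⟨AlgSpLib.locallyQuasiFinite_of_formallyUnramified h.left, h1⟩
    have hr := representable_of_lqf_separated A.property B.property f'.hom hq hsep
    have hu' := repWith_universallyClosed_of_univClosed hr hu
    have hF := isFiniteMor_iff_repWith.1 (FiniteNbhd.isFiniteMor_of_proper_lqf A.property B.property
      ⟨hsep, ⟨fun U V a b h ha hb w => (hn a b h ha hb w).1, isQuasiCompactMor_of_repWith (repWith_mono
        (fun _ _ e (_ : UniversallyClosed e) => (inferInstance : QuasiCompact e)) _ hu')⟩, hu⟩ hq)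
    refine ⟨hr, fun T T' t fst snd sq => ?_⟩
    have : IsFinite snd.left := hF.2 t fst snd sq
    have hms : Mono ((yon S).map snd) := ⟨fun x y hxy => sq.hom_ext (by
      rw [← cancel_mono f'.hom, Category.assoc, Category.assoc, sq.w, ← Category.assoc, hxy, Category.assoc]) hxy⟩
    have : Mono snd := (yon S).mono_of_mono_map hms
    have : Mono snd.left := inferInstance
    exact (IsClosedImmersion.iff_isFinite_and_mono _).2 ⟨‹IsFinite snd.left›, ‹Mono snd.left›⟩

/-- The base change of a morphism to a separated space is universally closed. -/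
theorem univClosed_left (hc : f ≫ q = p) (hp : IsUnivClosedMor p.hom) (hq : IsSeparatedMor q.hom) :
    IsUnivClosedMor f.hom := by
  let γ : X.obj ⟶ pullback (f.hom ≫ q.hom) q.hom := pullback.lift (𝟙 _) f.hom (by simp)
  have hγ : RepWith @IsClosedImmersion γ := graph_property (f := f.hom) hq
  have h1 : IsUnivClosedMor (pullback.snd (f.hom ≫ q.hom) q.hom) :=
    isUnivClosedMor_of_isPullback (IsPullback.of_hasPullback _ _) (by rw [hom_eq hc]; exact hp)
  have h2 := isUnivClosedMor_comp (isAlgSpace_pullback X.property Y.property Z.property _ _) Y.property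
    (isUnivClosedMor_of_repWith_universallyClosed (repWith_mono
      (fun _ _ e (_ : IsClosedImmersion e) => (inferInstance : UniversallyClosed e)) _ hγ)) h1
  rwa [pullback.lift_snd] at h2

theorem closedImm_avoid_iff (hc : f ≫ q = p) (hp1 : LocP @LocallyOfFiniteType p.hom)
    (hp2 : IsUnivClosedMor p.hom) (hq : IsSeparatedMor q.hom)
    (hXX : IsPullback pr0.hom pr1.hom f.hom f.hom) {Z' : AlgSp.Space S} (g : Z' ⟶ Z) :
    (∀ (Y' : AlgSp.Space S) (gY : Y' ⟶ Y) (q' : Y' ⟶ Z'), IsPullback gY.hom q'.hom q.hom g.hom →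
      ∀ (X' : AlgSp.Space S) (gX : X' ⟶ X) (f' : X' ⟶ Y'), IsPullback gX.hom f'.hom f.hom gY.hom →
        RepWith @IsClosedImmersion f'.hom) ↔
      ∀ z, Points.map g.hom z ∉
        Points.map p.hom '' (unramSet f)ᶜ ∪ Points.map (pr1.hom ≫ p.hom) '' (diagSet hXX)ᶜ := by
  rw [← unramInj_avoid_iff hc hp1 hXX g]
  refine forall₂_congr fun Y' gY => forall₃_congr fun q' sY X' => forall₃_congr fun gX f' sX =>
    isClosedImmersion_iff f' ?_
  exact isUnivClosedMor_of_isPullback sX (univClosed_left hc hp2 hq)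

theorem isClosed_bad (hc : f ≫ q = p) (hp : LocP @LocallyOfFiniteType p.hom) (hp2 : IsClosedMor p.hom)
    (hXX : IsPullback pr0.hom pr1.hom f.hom f.hom) (hp3 : IsClosedMor (pr1.hom ≫ p.hom)) :
    IsClosed (Points.map p.hom '' (unramSet f)ᶜ ∪ Points.map (pr1.hom ≫ p.hom) '' (diagSet hXX)ᶜ) :=
  (hp2 _ (isOpen_unramSet (locP_lft_left hc hp)).isClosed_compl).union
    (hp3 _ (isOpen_diagSet (locP_lft_left hc hp) hXX).isClosed_compl)

theorem locP_lfp_left (hc : f ≫ q = p) (hp : LocP @LocallyOfFinitePresentation p.hom)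
    (hq : LocP @LocallyOfFiniteType q.hom) : LocP @LocallyOfFinitePresentation f.hom :=
  locP_lofp_of_comp X.property Y.property Z.property f.hom q.hom (by rw [hom_eq hc]; exact hp) hq

theorem locP_flat_iff {F G : Sp S} (hF : IsAlgSpace F) (hG : IsAlgSpace G) {h : F ⟶ G}
    (hl : LocP @LocallyOfFinitePresentation h) : LocP @Flat h ↔ ∀ x, IsFlatAtMor h x := by
  constructor
  · intro hf x
    obtain ⟨U, V, a, b, k, ha, ha', hb, -, w⟩ := exists_chart hF hG h
    obtain ⟨u, rfl⟩ := surjective_ofPt ha' x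
    have : Flat k.left := hf a b k ha hb w
    exact (isFlatAtMor_iff hl ha hb w u).2 (Flat.stalkMap k.left u)
  · intro H U V a b k ha hb w
    exact Flat.of_stalkMap k.left fun u => (isFlatAtMor_iff hl ha hb w u).1 (H _)

/-- The points where `f` is flat. -/
def flatSet (f : X ⟶ Y) : Set (Points X.obj) := {x | IsFlatAtMor f.hom x}

theorem isOpen_flatSet (hc : f ≫ q = p) (hp1 : LocP @LocallyOfFinitePresentation p.hom)
    (hp2 : LocP @Flat p.hom) (hq : LocP @LocallyOfFiniteType q.hom) : IsOpen (flatSet f) :=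
  (isOpen_flatLocus_and_baseChange X.property Y.property Z.property f.hom q.hom
    (by rw [hom_eq hc]; exact hp1) (by rw [hom_eq hc]; exact hp2) hq).1

theorem flat_bc_iff (hc : f ≫ q = p) (hp1 : LocP @LocallyOfFinitePresentation p.hom)
    (hp2 : LocP @Flat p.hom) (hq : LocP @LocallyOfFiniteType q.hom) {Z' Y' X' : AlgSp.Space S} {g : Z' ⟶ Z}
    {gY : Y' ⟶ Y} {q' : Y' ⟶ Z'} (sY : IsPullback gY.hom q'.hom q.hom g.hom)
    {gX : X' ⟶ X} {f' : X' ⟶ Y'} (sX : IsPullback gX.hom f'.hom f.hom gY.hom) :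
    LocP @Flat f'.hom ↔ ∀ x', Points.map gX.hom x' ∈ flatSet f := by
  rw [locP_flat_iff X'.property Y'.property
    (locP_of_isPullback sX X.property Y.property Y'.property (locP_lfp_left hc hp1 hq))]
  have he := (isOpen_flatLocus_and_baseChange X.property Y.property Z.property f.hom q.hom
    (by rw [hom_eq hc]; exact hp1) (by rw [hom_eq hc]; exact hp2) hq).2 X'.property Y'.property Z'.property
    g.hom f'.hom q'.hom gX.hom gY.hom sY sX
  exact forall_congr' fun x' => Set.ext_iff.1 he x'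

theorem flat_avoid_iff (hc : f ≫ q = p) (hp1 : LocP @LocallyOfFinitePresentation p.hom)
    (hp2 : LocP @Flat p.hom) (hq : LocP @LocallyOfFiniteType q.hom) {Z' : AlgSp.Space S} (g : Z' ⟶ Z) :
    (∀ (Y' : AlgSp.Space S) (gY : Y' ⟶ Y) (q' : Y' ⟶ Z'), IsPullback gY.hom q'.hom q.hom g.hom →
      ∀ (X' : AlgSp.Space S) (gX : X' ⟶ X) (f' : X' ⟶ Y'), IsPullback gX.hom f'.hom f.hom gY.hom →
        LocP @Flat f'.hom) ↔
      ∀ z, Points.map g.hom z ∉ Points.map p.hom '' (flatSet f)ᶜ := by
  constructor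
  · rintro H z ⟨x, hx, hxz⟩
    obtain ⟨Y', gY, q', X', gX, f', sY, sX⟩ := exists_bc f q g
    obtain ⟨x', h1, -⟩ := exists_point_of_isPullback (paste hc sY sX) hxz
    exact hx (h1 ▸ (flat_bc_iff hc hp1 hp2 hq sY sX).1 (H Y' gY q' sY X' gX f' sX) x')
  · intro H Y' gY q' sY X' gX f' sX
    refine (flat_bc_iff hc hp1 hp2 hq sY sX).2 fun x' => ?_
    by_contra hx
    refine H (Points.map (f'.hom ≫ q'.hom) x') ⟨_, hx, ?_⟩
    rw [← Points.map_comp, (paste hc sY sX).w, Points.map_comp]

theorem isOpen_image_flatSet (hc : f ≫ q = p) (hp1 : LocP @LocallyOfFinitePresentation p.hom)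
    (hp2 : LocP @Flat p.hom) (hq : LocP @LocallyOfFiniteType q.hom) :
    IsOpen (Points.map f.hom '' flatSet f) := by
  obtain ⟨X₁, i, hX₁, hi, hr⟩ := exists_open_subspace X.property (isOpen_flatSet hc hp1 hp2 hq)
  have hie : RepWith @Etale i :=
    repWith_mono (fun _ _ e (_ : IsOpenImmersion e) => (inferInstance : Etale e)) _ hi
  have hl := locP_lfp_left hc hp1 hq
  have hl₁ : LocP @LocallyOfFinitePresentation (i ≫ f.hom) := fun U' V' a' b' h' ha' hb' w' =>
    hl (a' ≫ i) b' h' (repWith_comp ha' hie) hb' (by rw [Category.assoc]; exact w')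
  have hf₁ : LocP @Flat (i ≫ f.hom) := fun U' V' a' b' h' ha' hb' w' => by
    refine Flat.of_stalkMap h'.left fun u' => ?_
    have hm : Points.map i (Points.ofPt a' u') ∈ Set.range (Points.map i) := ⟨_, rfl⟩
    rw [hr, Points.map_ofPt] at hm
    exact (isFlatAtMor_iff hl (repWith_comp ha' hie) hb' (by rw [Category.assoc]; exact w') u').1 hm
  have h := (isOpenMap_map_of_fppf hX₁ Y.property (i ≫ f.hom) hf₁ hl₁).isOpen_range
  have e : Set.range (Points.map (i ≫ f.hom)) = Points.map f.hom '' flatSet f := by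
    rw [show Points.map (i ≫ f.hom) = Points.map f.hom ∘ Points.map i from funext (Points.map_comp i f.hom),
      Set.range_comp, hr]
  rwa [e] at h

theorem flatSurj_avoid_iff (hc : f ≫ q = p) (hp1 : LocP @LocallyOfFinitePresentation p.hom)
    (hp2 : LocP @Flat p.hom) (hq : LocP @LocallyOfFiniteType q.hom) {Z' : AlgSp.Space S} (g : Z' ⟶ Z) :
    (∀ (Y' : AlgSp.Space S) (gY : Y' ⟶ Y) (q' : Y' ⟶ Z'), IsPullback gY.hom q'.hom q.hom g.hom →
      ∀ (X' : AlgSp.Space S) (gX : X' ⟶ X) (f' : X' ⟶ Y'), IsPullback gX.hom f'.hom f.hom gY.hom →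
        (IsSurjectiveMor f'.hom ∧ LocP @Flat f'.hom)) ↔
      ∀ z, Points.map g.hom z ∉
        Points.map p.hom '' (flatSet f)ᶜ ∪ Points.map q.hom '' (Points.map f.hom '' flatSet f)ᶜ := by
  constructor
  · rintro H z (hz | ⟨y, hy, hyz⟩)
    · exact (flat_avoid_iff hc hp1 hp2 hq g).1 (fun Y' gY q' sY X' gX f' sX => (H Y' gY q' sY X' gX f' sX).2) z hz
    · obtain ⟨Y', gY, q', X', gX, f', sY, sX⟩ := exists_bc f q g
      obtain ⟨hs, hf⟩ := H Y' gY q' sY X' gX f' sX
      obtain ⟨y', h1, -⟩ := exists_point_of_isPullback sY hyz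
      obtain ⟨x', hx'⟩ := hs y'
      refine hy ⟨Points.map gX.hom x', (flat_bc_iff hc hp1 hp2 hq sY sX).1 hf x', ?_⟩
      rw [← Points.map_comp, sX.w, Points.map_comp, hx', h1]
  · intro H Y' gY q' sY X' gX f' sX
    refine ⟨fun y' => ?_, (flat_avoid_iff hc hp1 hp2 hq g).2 (fun z hz => H z (Or.inl hz)) Y' gY q' sY X' gX f' sX⟩
    obtain ⟨x, -, hx⟩ : Points.map gY.hom y' ∈ Points.map f.hom '' flatSet f := by
      by_contra hy
      refine H (Points.map q'.hom y') (Or.inr ⟨_, hy, ?_⟩)
      rw [← Points.map_comp, sY.w, Points.map_comp]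
    obtain ⟨x', -, hx'⟩ := exists_point_of_isPullback sX hx
    exact ⟨x', hx'⟩

/-- Isomorphisms are flat surjective closed immersions locally of finite presentation. -/
theorem isIso_iff {A B : AlgSp.Space S} (f' : A ⟶ B) (hl : LocP @LocallyOfFinitePresentation f'.hom) :
    IsIso f'.hom ↔
      ((IsSurjectiveMor f'.hom ∧ LocP @Flat f'.hom) ∧ RepWith @IsClosedImmersion f'.hom) := by
  constructor
  · intro h
    exact ⟨⟨isSurjectiveMor_of_isIso _, locP_of_repWith (repWith_of_isIso _ _)⟩, repWith_of_isIso _ _⟩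
  · rintro ⟨⟨hs, hf⟩, hci⟩
    have : Mono f'.hom := mono_of_repWith (repWith_mono
      (fun _ _ e (_ : IsClosedImmersion e) => (inferInstance : Mono e)) _ hci)
    refine isIso_of_mono_of_etale_surjective A.property B.property _ ?_ hs
    intro U V a b k ha hb w
    have h1 := locP_of_repWith (P := (@LocallyOfFiniteType ⊓ @FormallyUnramified : MorphismProperty Scheme.{u}))
      (repWith_mono (fun _ _ e (_ : IsClosedImmersion e) => (⟨inferInstance, inferInstance⟩ :
        (@LocallyOfFiniteType ⊓ @FormallyUnramified : MorphismProperty Scheme.{u}) e)) _ hci) a b k ha hb w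
    have : LocallyOfFinitePresentation k.left := hl a b k ha hb w
    have : Flat k.left := hf a b k ha hb w
    have : FormallyUnramified k.left := h1.2
    exact Etale.of_formallyUnramified_of_flat k.left

end Groth.Agent.AlgSpDec.TripleLoci
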