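import Groth.Agent.AlgSpDec.GpdIdent
import Groth.Agent.AlgSpPts.Sep
import Groth.Agent.AlgSpPts.Misc
import Groth.Agent.S9912
import Mathlib.CategoryTheory.Monoidal.Cartesian.Grp

/-!
The unit of a group or groupoid and separation.
-/

set_option backward.isDefEq.respectTransparency false
set_option backward.isDefEq.respectTransparency.types false

universe u

open CategoryTheory CategoryTheory.Limits AlgebraicGeometry AlgSp Groth.Agent.AlgSpLib Groth.Agent.AlgSpPts

namespace Groth.Agent.AlgSpDec.UnitSection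

open scoped MonoidalCategory MonObj

variable {S : Scheme.{u}} (P : MorphismProperty (Sp S)) [P.IsStableUnderBaseChange]

theorem of_section {X B : Sp S} (p : X ⟶ B) (e : B ⟶ X) (h : e ≫ p = 𝟙 B) (hp : P.diagonal p) : P e := by
  let ψ : X ⟶ pullback p p := pullback.lift (𝟙 X) (p ≫ e) (by rw [Category.id_comp, Category.assoc, h, Category.comp_id])
  have w : e ≫ pullback.diagonal p = e ≫ ψ := by
    apply pullback.hom_ext
    · rw [Category.assoc, Category.assoc, pullback.diagonal_fst, pullback.lift_fst]
    · rw [Category.assoc, Category.assoc, pullback.diagonal_snd, pullback.lift_snd, ← Category.assoc e p e, h,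
        Category.id_comp, Category.comp_id]
  suffices sq : IsPullback e e (pullback.diagonal p) ψ from MorphismProperty.of_isPullback sq hp
  refine ⟨⟨w⟩, ⟨PullbackCone.IsLimit.mk _ (fun c => c.snd ≫ p) ?_ ?_ ?_⟩⟩
  all_goals
    intro c
    have h1 : c.fst = c.snd := by
      have := congrArg (· ≫ pullback.fst p p) c.condition
      simp only [Category.assoc] at this
      rwa [pullback.diagonal_fst, pullback.lift_fst, Category.comp_id, Category.comp_id] at this
    have h2 : c.snd ≫ p ≫ e = c.fst := by
      have := congrArg (· ≫ pullback.snd p p) c.condition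
      simp only [Category.assoc] at this
      rw [pullback.diagonal_snd, pullback.lift_snd, Category.comp_id] at this
      exact this.symm
  · rw [Category.assoc, h2]
  · rw [Category.assoc, h2, h1]
  · intro m _ hm
    rw [← hm, Category.assoc, h, Category.comp_id]

open CartesianMonoidalCategory in
theorem grp_diagonal {B : Sp S} (G : Over B) [GrpObj G] (he : P (η[G]).left) : P.diagonal G.hom := by
  have hfs : (CartesianMonoidalCategory.fst G G).left = pullback.fst G.hom G.hom := rfl
  have hsn : (CartesianMonoidalCategory.snd G G).left = pullback.snd G.hom G.hom := rfl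
  let δ : G ⊗ G ⟶ G := (CartesianMonoidalCategory.fst G G)⁻¹ * CartesianMonoidalCategory.snd G G
  let D : G ⟶ G ⊗ G := CartesianMonoidalCategory.lift (𝟙 G) (𝟙 G)
  have hD : D ≫ δ = toUnit G ≫ η[G] := by
    simp only [δ, D, MonObj.comp_mul, GrpObj.comp_inv, CartesianMonoidalCategory.lift_fst,
      CartesianMonoidalCategory.lift_snd, inv_mul_cancel, MonObj.one_eq_one, MonObj.comp_one]
  have sq : IsPullback (toUnit G).left D.left (η[G]).left δ.left := by
    refine ⟨⟨?_⟩, ⟨PullbackCone.IsLimit.mk _ (fun c => c.snd ≫ (CartesianMonoidalCategory.fst G G).left)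
      ?_ ?_ ?_⟩⟩
    · rw [← Over.comp_left, ← Over.comp_left, hD]
    all_goals
      intro c
      let Z : Over B := Over.mk (c.snd ≫ (G ⊗ G).hom)
      let z : Z ⟶ G ⊗ G := Over.homMk c.snd rfl
      have hq : c.fst ≫ (𝟙_ (Over B)).hom = c.snd ≫ (G ⊗ G).hom := by
        rw [← Over.w η[G], ← Category.assoc, c.condition, Category.assoc, Over.w δ]
      let q : Z ⟶ 𝟙_ (Over B) := Over.homMk c.fst hq
      have hz : z ≫ δ = 1 := by
        have : z ≫ δ = q ≫ η[G] := Over.OverMorphism.ext c.condition.symm
        rw [this, MonObj.one_eq_one, MonObj.comp_one]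
      simp only [δ, MonObj.comp_mul, GrpObj.comp_inv] at hz
      have h2 : z ≫ CartesianMonoidalCategory.fst G G ≫ D = z := by
        apply CartesianMonoidalCategory.hom_ext
        · simp [D]
        · simpa [D] using inv_mul_eq_one.1 hz
    · have e : (z ≫ CartesianMonoidalCategory.fst G G) ≫ toUnit G = q := toUnit_unique _ _
      exact congrArg CommaMorphism.left e
    · exact (Category.assoc _ _ _).trans (congrArg CommaMorphism.left h2)
    · intro m _ hm
      rw [← hm, Category.assoc]
      have : D.left ≫ (CartesianMonoidalCategory.fst G G).left = 𝟙 _ :=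
        congrArg CommaMorphism.left (CartesianMonoidalCategory.lift_fst (𝟙 G) (𝟙 G))
      rw [this, Category.comp_id]
  have hd : D.left = pullback.diagonal G.hom := by
    apply pullback.hom_ext
    · rw [pullback.diagonal_fst, ← hfs]
      exact congrArg CommaMorphism.left (CartesianMonoidalCategory.lift_fst (𝟙 G) (𝟙 G))
    · rw [pullback.diagonal_snd, ← hsn]
      exact congrArg CommaMorphism.left (CartesianMonoidalCategory.lift_snd (𝟙 G) (𝟙 G))
  show P (pullback.diagonal G.hom)
  exact hd ▸ MorphismProperty.of_isPullback sq he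

theorem grp_iff {B : Sp S} (G : Over B) [GrpObj G] : P.diagonal G.hom ↔ P (η[G]).left :=
  ⟨of_section P G.hom (η[G]).left (Over.w η[G]), grp_diagonal P G⟩

section Gpd

open GpdIdent

variable {B : Sp S} {G : GroupoidSp B}

theorem stab_of_j (h : P.diagonal G.j) : P.diagonal G.stabilizerToU :=
  MorphismProperty.pullback_snd (P := P.diagonal) G.j G.diag h

theorem unit_section (eG : G.U ⟶ G.stabilizer) (heG : eG ≫ G.stabilizerι = G.e) :
    eG ≫ G.stabilizerToU = 𝟙 G.U := by
  have := congrArg (· ≫ pullback.fst G.pU G.pU) (pullback.condition (f := G.j) (g := G.diag))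
  have hdf : G.diag ≫ pullback.fst G.pU G.pU = 𝟙 G.U := pullback.lift_fst _ _ _
  simp only [Category.assoc, G.j_fst, hdf] at this
  rw [Category.comp_id] at this
  unfold GroupoidSp.stabilizerToU
  rw [← this, ← G.e_t, ← heG, Category.assoc]
  rfl

theorem j_of_unit (eG : G.U ⟶ G.stabilizer) (heG : eG ≫ G.stabilizerι = G.e) (h : P eG) :
    P.diagonal G.j := by
  have hjt : pullback.fst G.j G.j ≫ G.t = pullback.snd G.j G.j ≫ G.t := by
    have := congrArg (· ≫ pullback.fst G.pU G.pU) (pullback.condition (f := G.j) (g := G.j))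
    simpa using this
  have hjs : pullback.fst G.j G.j ≫ G.s = pullback.snd G.j G.j ≫ G.s := by
    have := congrArg (· ≫ pullback.snd G.pU G.pU) (pullback.condition (f := G.j) (g := G.j))
    simpa using this
  have h₀ : (pullback.fst G.j G.j ≫ G.i) ≫ G.s = pullback.snd G.j G.j ≫ G.t := by
    rw [Category.assoc, G.i_s, hjt]
  have hd : (pullback.diagonal G.j ≫ pullback.fst G.j G.j ≫ G.i) ≫ G.s =
      (pullback.diagonal G.j ≫ pullback.snd G.j G.j) ≫ G.t := by
    rw [Category.assoc, h₀, Category.assoc]
  let δ₀ : pullback G.j G.j ⟶ G.R := GpdIdent.comp G (pullback.fst G.j G.j ≫ G.i) (pullback.snd G.j G.j) h₀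
  let δ : pullback G.j G.j ⟶ G.stabilizer := pullback.lift δ₀ (pullback.snd G.j G.j ≫ G.s) (by
    apply pullback.hom_ext
    · have e₁ : δ₀ ≫ G.t = pullback.snd G.j G.j ≫ G.s := by
        show GpdIdent.comp G _ _ h₀ ≫ G.t = _
        rw [comp_t', Category.assoc, G.i_t, hjs]
      have hdf : G.diag ≫ pullback.fst G.pU G.pU = 𝟙 G.U := pullback.lift_fst _ _ _
      refine (Category.assoc _ _ _).trans ((congrArg (δ₀ ≫ ·) G.j_fst).trans (e₁.trans ?_))
      simp only [Category.assoc, hdf, Category.comp_id]
    · have e₁ : δ₀ ≫ G.s = pullback.snd G.j G.j ≫ G.s := comp_s' G _ _ h₀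
      have hdf : G.diag ≫ pullback.snd G.pU G.pU = 𝟙 G.U := pullback.lift_snd _ _ _
      refine (Category.assoc _ _ _).trans ((congrArg (δ₀ ≫ ·) G.j_snd).trans (e₁.trans ?_))
      simp only [Category.assoc, hdf, Category.comp_id])
  have hδι : δ ≫ G.stabilizerι = δ₀ := pullback.lift_fst _ _ _
  have hδU : δ ≫ G.stabilizerToU = pullback.snd G.j G.j ≫ G.s := pullback.lift_snd _ _ _
  show P (pullback.diagonal G.j)
  suffices sq : IsPullback G.s (pullback.diagonal G.j) eG δ from MorphismProperty.of_isPullback sq h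
  have hdiag : pullback.diagonal G.j ≫ δ₀ = G.s ≫ G.e := by
    refine (pre_comp G _ _ _ h₀).trans ?_
    refine (comp_congr G _ (by rw [Category.assoc, G.i_s]) ?_ (pullback.diagonal_snd G.j)).trans
      ((inv_comp_self G (𝟙 G.R)).trans (Category.id_comp _))
    rw [← Category.assoc, pullback.diagonal_fst]
  refine ⟨⟨?_⟩, ⟨PullbackCone.IsLimit.mk _ (fun c => c.snd ≫ pullback.fst G.j G.j) ?_ ?_ ?_⟩⟩
  · apply pullback.hom_ext
    · show (G.s ≫ eG) ≫ G.stabilizerι = (pullback.diagonal G.j ≫ δ) ≫ G.stabilizerι
      rw [Category.assoc, heG, Category.assoc, hδι, hdiag]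
    · show (G.s ≫ eG) ≫ G.stabilizerToU = (pullback.diagonal G.j ≫ δ) ≫ G.stabilizerToU
      rw [Category.assoc, unit_section eG heG, Category.assoc, hδU, ← Category.assoc, pullback.diagonal_snd,
        Category.id_comp, Category.comp_id]
  all_goals
    intro c
    have hfU : c.fst = c.snd ≫ pullback.snd G.j G.j ≫ G.s := by
      have := congrArg (· ≫ G.stabilizerToU) c.condition
      simp only [Category.assoc] at this
      rwa [unit_section eG heG, Category.comp_id, hδU] at this
    have hfι : c.fst ≫ G.e = c.snd ≫ δ₀ := by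
      have := congrArg (· ≫ G.stabilizerι) c.condition
      simp only [Category.assoc] at this
      rwa [heG, hδι] at this
    have hst : (c.snd ≫ pullback.fst G.j G.j) ≫ G.t = (c.snd ≫ pullback.snd G.j G.j) ≫ G.t := by
      rw [Category.assoc, Category.assoc, hjt]
    have hss : (c.snd ≫ pullback.fst G.j G.j) ≫ G.s = (c.snd ≫ pullback.snd G.j G.j) ≫ G.s := by
      rw [Category.assoc, Category.assoc, hjs]
    have hh : ((c.snd ≫ pullback.fst G.j G.j) ≫ G.i) ≫ G.s = (c.snd ≫ pullback.snd G.j G.j) ≫ G.t := by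
      rw [Category.assoc _ G.i, G.i_s, hst]
    have hc : GpdIdent.comp G ((c.snd ≫ pullback.fst G.j G.j) ≫ G.i) (c.snd ≫ pullback.snd G.j G.j) hh =
        c.fst ≫ G.e := by
      rw [hfι]
      refine ((pre_comp G c.snd _ _ h₀).trans ?_).symm
      exact comp_congr G _ _ (Category.assoc _ _ _).symm rfl
    have heq : c.snd ≫ pullback.snd G.j G.j = c.snd ≫ pullback.fst G.j G.j := by
      rw [← comp_inv_comp' G (c.snd ≫ pullback.fst G.j G.j) (c.snd ≫ pullback.snd G.j G.j) hst hh
        (by rw [comp_t', Category.assoc _ G.i, G.i_t])]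
      apply comp_id
      rw [hc, hfU, ← Category.assoc c.snd (pullback.snd G.j G.j) G.s, ← hss]
      simp only [Category.assoc]
  · rw [hfU, ← Category.assoc c.snd (pullback.snd G.j G.j) G.s, ← hss]
  · apply pullback.hom_ext
    · rw [Category.assoc, pullback.diagonal_fst, Category.comp_id]
    · rw [Category.assoc, pullback.diagonal_snd, Category.comp_id, heq]
  · intro m _ hm
    rw [← hm, Category.assoc, pullback.diagonal_fst, Category.comp_id]

theorem gpd_iffs (eG : G.U ⟶ G.stabilizer) (heG : eG ≫ G.stabilizerι = G.e) :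
    (P.diagonal G.j ↔ P.diagonal G.stabilizerToU) ∧ (P.diagonal G.j ↔ P eG) :=
  ⟨⟨stab_of_j P, fun h => j_of_unit P eG heG (of_section P _ eG (unit_section eG heG) h)⟩,
    ⟨fun h => of_section P _ eG (unit_section eG heG) (stab_of_j P h), j_of_unit P eG heG⟩⟩

end Gpd

/-- A section of a morphism of algebraic spaces is representable. -/
theorem representable_section {X B : Sp S} (hX : IsAlgSpace X) (hB : IsAlgSpace B) (p : X ⟶ B) (e : B ⟶ X)
    (h : e ≫ p = 𝟙 B) : Representable e :=
  of_section (Representable (S := S)) p e h (diagonal_package hX hB p).1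

theorem qc_section_iff {X B : Sp S} (hX : IsAlgSpace X) (hB : IsAlgSpace B) (p : X ⟶ B) (e : B ⟶ X)
    (h : e ≫ p = 𝟙 B) : RepWith @QuasiCompact e ↔ IsQuasiCompactMor e :=
  Groth.Agent.S9912.result (ObjectProperty.homMk e : (⟨B, hB⟩ : Space S) ⟶ ⟨X, hX⟩)
    (representable_section hX hB p e h)

end Groth.Agent.AlgSpDec.UnitSection
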