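import Groth.Agent.AlgSpLib.LocP
import Groth.Agent.AlgSpPts.OpenSub
import Groth.Agent.AlgSpDec.Glue
import Groth.Prelude.Def_AlgSpCov

/-!
# Quasi-compact etale covers of open subspaces
-/

set_option autoImplicit false
set_option linter.style.haveILetI false
set_option linter.unusedSectionVars false
set_option backward.isDefEq.respectTransparency false
set_option backward.isDefEq.respectTransparency.types false

universe u

open CategoryTheory CategoryTheory.Limits AlgebraicGeometry AlgSp Groth.Agent.AlgSpLib Groth.Agent.AlgSpPts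

namespace Groth.Agent.AlgSpDec

/-- Quasi-compactness descends along an open surjection. -/
theorem quasiCompact_of_isOpenMap {A X Y Z : Scheme.{u}} {fst : A ⟶ X} {snd : A ⟶ Y} {p : X ⟶ Z} {g : Y ⟶ Z}
    (h : IsPullback fst snd p g) (hp : IsOpenMap p) [Surjective p] [hq : QuasiCompact fst] : QuasiCompact g := by
  refine ⟨fun K hK hK' => ?_⟩
  obtain ⟨V, hV, hV'⟩ := hp.exists_opens_image_eq_of_prespectralSpace p.continuous
    (by rw [Set.range_eq_univ.2 p.surjective]; exact Set.subset_univ K) hK hK'
  have e : g ⁻¹' K = snd '' (fst ⁻¹' (V : Set X)) := by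
    rw [← hV']
    exact (AlgebraicGeometry.Scheme.image_preimage_eq_of_isPullback h _).symm
  rw [e]
  exact ((hq.isCompact_preimage _ V.isOpen hV).image snd.continuous)

variable {S : Scheme.{u}} {F : Sp S}

theorem quasiCompact_kernelPair {U : Over S} {F₀ : Sp S} {a : (yon S).obj U ⟶ F₀} {j : F₀ ⟶ F}
    (ha : RepWith @QuasiCompact a) (hj : RepWith @IsOpenImmersion j) {R : Over S} {s t : R ⟶ U}
    (sq : IsPullback ((yon S).map t) ((yon S).map s) (a ≫ j) (a ≫ j)) :
    QuasiCompact s.left ∧ QuasiCompact t.left := by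
  haveI : Mono j := mono_of_openImmersion hj
  have w : (yon S).map t ≫ a = (yon S).map s ≫ a := (cancel_mono j).1 (by simpa only [Category.assoc] using sq.w)
  have sq' : IsPullback ((yon S).map t) ((yon S).map s) a a :=
    ⟨⟨w⟩, ⟨PullbackCone.IsLimit.mk w
      (fun c => sq.lift c.fst c.snd (by rw [← Category.assoc, c.condition, Category.assoc]))
      (fun c => sq.lift_fst _ _ _) (fun c => sq.lift_snd _ _ _)
      (fun c m h₁ h₂ => sq.hom_ext (h₁.trans (sq.lift_fst _ _ _).symm) (h₂.trans (sq.lift_snd _ _ _).symm))⟩⟩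
  exact ⟨ha.property _ _ _ sq', ha.property _ _ _ sq'.flip⟩

theorem exists_qc_cover {U : Over S} (hF : IsAlgSpace F) {φ : (yon S).obj U ⟶ F} (hφ : RepWith @Etale φ)
    (h : ∀ (R : Over S) (s t : R ⟶ U), IsPullback ((yon S).map t) ((yon S).map s) φ φ →
      QuasiCompact s.left ∧ QuasiCompact t.left) :
    ∃ (X' : Space S) (j : X'.obj ⟶ F) (a : (yon S).obj U ⟶ X'.obj), a ≫ j = φ ∧ RepWith @IsOpenImmersion j ∧
      RepWith @Etale a ∧ RepWith @Surjective a ∧ RepWith @QuasiCompact a ∧
      Set.range (Points.map j) = Set.range (Points.ofPt φ) := by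
  obtain ⟨X', j, hX', hj, hr⟩ := exists_open_subspace hF (W := Set.range (Points.ofPt φ))
    (isOpenMap_ofPt hφ).isOpen_range
  let l : hj.rep.pullback φ ⟶ U := hj.rep.snd φ
  have sq := hj.rep.isPullback φ
  haveI : IsOpenImmersion l.left := hj.property_snd φ
  haveI : Surjective l.left := ⟨fun u => by
    obtain ⟨z, hz⟩ : Points.ofPt φ u ∈ Set.range (Points.map j) := by rw [hr]; exact ⟨u, rfl⟩
    obtain ⟨w, hw, hw'⟩ := exists_point_of_isPullback sq (x := z) (y := Points.ofScheme U u)
      (hz.trans (Points.ofPt_eq_map_ofScheme φ u))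
    refine ⟨Points.toScheme _ w, ?_⟩
    rw [← Points.toScheme_ofPt l, Points.ofPt_eq_map_ofScheme, Points.ofScheme_toScheme, hw', Points.toScheme_ofScheme]⟩
  haveI : IsIso l.left := isIso_of_isOpenImmersion_of_opensRange_eq_top l.left
    (TopologicalSpace.Opens.ext (Set.range_eq_univ.2 l.left.surjective))
  haveI : IsIso ((Over.forget S).map l) := ‹IsIso l.left›
  haveI : IsIso l := isIso_of_reflects_iso l (Over.forget S)
  let a : (yon S).obj U ⟶ X' := inv ((yon S).map l) ≫ hj.rep.fst φ
  have haj : a ≫ j = φ := by rw [Category.assoc, sq.w, IsIso.inv_hom_id_assoc]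
  have ha : RepWith @Etale a := repWith_etale_of_comp a j (by rw [haj]; exact hφ)
    ⟨hj.rep, fun _ _ g fst snd sq => by haveI : IsOpenImmersion snd.left := hj.property g fst snd sq; exact (inferInstance : Etale snd.left)⟩
  haveI : Mono j := mono_of_openImmersion hj
  have has : RepWith @Surjective a := repWith_surjective_of_surjective ha.rep fun z => by
    obtain ⟨u, hu⟩ : Points.map j z ∈ Set.range (Points.ofPt φ) := by rw [← hr]; exact ⟨z, rfl⟩
    refine ⟨Points.ofScheme U u, injective_map ⟨hj.rep, fun _ _ g fst snd sq => by haveI : IsOpenImmersion snd.left := hj.property g fst snd sq; exact snd.left.isOpenEmbedding.injective⟩ ?_⟩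
    rw [← hu, ← Points.ofPt_eq_map_ofScheme, Points.map_ofPt, haj]
  refine ⟨⟨X', hX'⟩, j, a, haj, hj, ha, has, ⟨ha.rep, fun T W g fst snd sqg => ?_⟩, hr⟩
  let p : ha.rep.pullback g ⟶ T := ha.rep.snd g
  let q : ha.rep.pullback g ⟶ U := ha.rep.fst' g
  haveI : Etale p.left := ha.property_snd g
  haveI : Surjective p.left := has.property _ _ _ (ha.rep.isPullback g)
  have sqR := ha.rep.isPullback' a
  have big : IsPullback ((yon S).map (ha.rep.fst' a)) ((yon S).map (ha.rep.snd a)) φ φ := by
    rw [← haj]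
    exact ⟨⟨by rw [← Category.assoc, sqR.w, Category.assoc]⟩, ⟨PullbackCone.IsLimit.mk _
      (fun c => sqR.lift c.fst c.snd ((cancel_mono j).1 (by simpa only [Category.assoc] using c.condition)))
      (fun c => sqR.lift_fst _ _ _) (fun c => sqR.lift_snd _ _ _)
      (fun c m h₁ h₂ => sqR.hom_ext (h₁.trans (sqR.lift_fst _ _ _).symm) (h₂.trans (sqR.lift_snd _ _ _).symm))⟩⟩
  have hR : QuasiCompact (ha.rep.snd a).left := (h _ _ _ big).1
  have sW : IsPullback (pullback.fst p snd) (pullback.snd p snd) p snd := IsPullback.of_hasPullback _ _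
  have h₁ := ((sW.map (yon S)).flip.paste_horiz sqg)
  rw [ha.rep.isPullback' g |>.w.symm] at h₁
  obtain ⟨m, hm⟩ := (yon S).map_surjective (sqR.lift ((yon S).map (pullback.snd p snd) ≫ fst)
    ((yon S).map (pullback.fst p snd ≫ q)) (by rw [Functor.map_comp, Category.assoc, Category.assoc]; exact h₁.w))
  have hm₁ : (yon S).map (m ≫ ha.rep.fst' a) = (yon S).map (pullback.snd p snd) ≫ fst := by
    rw [(yon S).map_comp, hm]; exact sqR.lift_fst _ _ _
  have hm₂ : (yon S).map (m ≫ ha.rep.snd a) = (yon S).map (pullback.fst p snd ≫ q) := by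
    rw [(yon S).map_comp, hm]; exact sqR.lift_snd _ _ _
  have sm : IsPullback m (pullback.fst p snd) (ha.rep.snd a) q := by
    refine IsPullback.of_map (yon S) ((yon S).map_injective hm₂) ?_
    refine IsPullback.of_right ?_ (by rw [← Functor.map_comp, hm₂, Functor.map_comp]) sqR
    rw [← Functor.map_comp, hm₁]
    exact h₁
  haveI : QuasiCompact (pullback.fst p snd).left :=
    MorphismProperty.of_isPullback (P := @QuasiCompact) (sm.map (Over.forget S)) hR
  haveI : Surjective ((Over.forget S).map p) := ‹Surjective p.left›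
  haveI : QuasiCompact ((Over.forget S).map (pullback.fst p snd)) := ‹QuasiCompact (pullback.fst p snd).left›
  exact quasiCompact_of_isOpenMap (sW.map (Over.forget S)) p.left.isOpenMap


end Groth.Agent.AlgSpDec
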